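import Mathlib

set_option autoImplicit false

/-! Matrices of prescribed order from multiplication maps of algebras, and a bound on exponents. -/

namespace CfsgLib.KnownC.MatOrder

open Polynomial

variable {F : Type*} [Field F]

/-- Pad an endomorphism with the identity and read it as an `n × n` matrix. -/
theorem exists_padHom' {V : Type*} [AddCommGroup V] [Module F V] [FiniteDimensional F V] {n : ℕ}
    (h : Module.finrank F V ≤ n) :
    ∃ ψ : Module.End F V →* Matrix (Fin n) (Fin n) F, Function.Injective ψ ∧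
      (∀ T, (ψ T).det = LinearMap.det T) ∧
      ∀ (T : Module.End F V) (t : F), Module.finrank F V < n → ψ T = t • 1 → T = 1 := by
  classical
  obtain ⟨r, rfl⟩ := Nat.exists_eq_add_of_le h
  let e : (V × (Fin r → F)) ≃ₗ[F] (Fin (Module.finrank F V + r) → F) :=
    LinearEquiv.ofFinrankEq _ _ (by simp)
  have hinj : ∀ S T : Module.End F V, LinearMap.toMatrix' (e.conj (S.prodMap LinearMap.id)) =
      LinearMap.toMatrix' (e.conj (T.prodMap LinearMap.id)) → S = T := by
    intro S T hST
    have h2 := e.conj.injective (LinearMap.toMatrix'.injective hST)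
    ext v
    exact congrArg Prod.fst (LinearMap.congr_fun h2 (v, 0))
  have hone : LinearMap.toMatrix' (e.conj ((1 : Module.End F V).prodMap (LinearMap.id (M := Fin r → F)))) = 1 := by
    have : ((1 : Module.End F V).prodMap LinearMap.id : Module.End F (V × (Fin r → F))) = LinearMap.id :=
      LinearMap.prodMap_id
    rw [this, LinearEquiv.conj_id, LinearMap.toMatrix'_id]
  refine ⟨{ toFun := fun T => LinearMap.toMatrix' (e.conj (T.prodMap LinearMap.id))
            map_one' := hone
            map_mul' := ?_ }, fun S T => hinj S T, ?_, ?_⟩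
  · intro S T
    rw [← LinearMap.toMatrix'_comp, ← LinearEquiv.conj_comp]
    congr 2
  · intro T
    show (LinearMap.toMatrix' (e.conj (T.prodMap LinearMap.id))).det = _
    rw [LinearMap.det_toMatrix', LinearEquiv.conj_apply, LinearMap.comp_assoc, LinearMap.det_conj,
      LinearMap.det_prodMap, LinearMap.det_id, mul_one]
  · intro T t hlt hT
    change LinearMap.toMatrix' (e.conj (T.prodMap LinearMap.id)) = t • 1 at hT
    rw [← LinearMap.toMatrix'_id, ← LinearEquiv.conj_id e, ← map_smul, ← map_smul] at hT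
    have h2 := e.conj.injective (LinearMap.toMatrix'.injective hT)
    have h3 := congrFun (congrArg Prod.snd (LinearMap.congr_fun h2 ((0 : V), fun _ => (1 : F)))) ⟨0, by omega⟩
    have ht : t = 1 := by simpa using h3.symm
    rw [ht, one_smul] at h2
    ext v
    exact congrArg Prod.fst (LinearMap.congr_fun h2 (v, 0))

theorem exists_padHom {V : Type*} [AddCommGroup V] [Module F V] [FiniteDimensional F V] {n : ℕ}
    (h : Module.finrank F V ≤ n) :
    ∃ ψ : Module.End F V →* Matrix (Fin n) (Fin n) F, Function.Injective ψ ∧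
      ∀ T, (ψ T).det = LinearMap.det T := by
  obtain ⟨ψ, h1, h2, -⟩ := exists_padHom' (F := F) h
  exact ⟨ψ, h1, h2⟩

theorem exists_matrix_of_algebra_elem {R : Type*} [CommRing R] [Algebra F R] [FiniteDimensional F R]
    {n : ℕ} (h : Module.finrank F R ≤ n) (u : R) :
    ∃ A : Matrix (Fin n) (Fin n) F, orderOf A = orderOf u ∧ A.det = Algebra.norm F u := by
  obtain ⟨ψ, hψ, hdet⟩ := exists_padHom h
  refine ⟨ψ (Algebra.lmul F R u), ?_, ?_⟩
  · rw [orderOf_injective ψ hψ]
    exact orderOf_injective (Algebra.lmul F R).toRingHom.toMonoidHom Algebra.lmul_injective u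
  · rw [hdet, Algebra.norm_apply]

theorem exists_matrix_singer [Finite F] (p : ℕ) [Fact p.Prime] [CharP F p] {d n : ℕ} (hd : 1 ≤ d)
    (h : d ≤ n) :
    ∃ A : Matrix (Fin n) (Fin n) F, orderOf A = Nat.card F ^ d - 1 := by
  classical
  haveI : NeZero d := ⟨by omega⟩
  let K := FiniteField.Extension F p d
  obtain ⟨x, hx⟩ := IsCyclic.exists_ofOrder_eq_natCard (α := Kˣ)
  obtain ⟨A, hA, -⟩ := exists_matrix_of_algebra_elem (F := F) (R := K) (n := n)
    (by rw [FiniteField.finrank_extension F p d]; exact h) (x : K)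
  refine ⟨A, ?_⟩
  rw [hA, orderOf_units, hx, Nat.card_units, FiniteField.natCard_extension F p d]

theorem exists_matrix_unipotent (p : ℕ) [Fact p.Prime] [CharP F p] {n : ℕ} (hn : 1 ≤ n) :
    ∃ A : Matrix (Fin n) (Fin n) F, orderOf A = p ^ Nat.clog p n ∧ A.det = 1 := by
  classical
  let g : F[X] := X ^ n
  have hg : g.Monic := monic_X_pow n
  haveI : Module.Finite F (AdjoinRoot g) := hg.finite_adjoinRoot
  haveI : Nontrivial (AdjoinRoot g) := AdjoinRoot.nontrivial g (by simp [g]; omega)
  haveI : CharP (AdjoinRoot g) p := charP_of_injective_algebraMap (algebraMap F (AdjoinRoot g)).injective p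
  let x := AdjoinRoot.root g
  have hx : ∀ k, x ^ k = 0 ↔ n ≤ k := by
    intro k
    show AdjoinRoot.root g ^ k = 0 ↔ _
    rw [← AdjoinRoot.mk_X, ← map_pow, AdjoinRoot.mk_eq_zero]
    exact pow_dvd_pow_iff X_ne_zero not_isUnit_X
  have hpow : ∀ k, (1 + x) ^ (p ^ k) = 1 ↔ n ≤ p ^ k := by
    intro k
    rw [add_pow_char_pow, one_pow, add_eq_left, hx]
  have hp := (Fact.out : p.Prime).one_lt
  have hord : orderOf (1 + x) = p ^ Nat.clog p n := by
    rcases Nat.lt_or_ge 1 n with h1 | h1
    · have hpos := Nat.clog_pos hp (by omega : 2 ≤ n)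
      obtain ⟨e, he⟩ : ∃ e, Nat.clog p n = e + 1 := ⟨Nat.clog p n - 1, by omega⟩
      rw [he]
      apply orderOf_eq_prime_pow
      · rw [hpow]
        have := Nat.pow_pred_clog_lt_self hp h1
        rw [he] at this
        simpa using this
      · rw [hpow, ← he]; exact Nat.le_pow_clog hp n
    · have hn1 : n = 1 := by omega
      have : x = 0 := by simpa using (hx 1).2 (by omega)
      simp [this, hn1]
  obtain ⟨A, hA, -⟩ := exists_matrix_of_algebra_elem (F := F) (R := AdjoinRoot g) (n := n)
    (by rw [PowerBasis.finrank (AdjoinRoot.powerBasis hg.ne_zero), AdjoinRoot.powerBasis_dim]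
        simp [g]) (1 + x)
  refine ⟨A, hA.trans hord, ?_⟩
  have h1 : A ^ (p ^ Nat.clog p n) = 1 := by rw [← hord, ← hA, pow_orderOf_eq_one]
  have h2 : A.det ^ (p ^ Nat.clog p n) = 1 := by rw [← Matrix.det_pow, h1, Matrix.det_one]
  have h3 : (A.det - 1) ^ (p ^ Nat.clog p n) = 0 := by rw [sub_pow_char_pow, h2, one_pow, sub_self]
  exact sub_eq_zero.1 (pow_eq_zero_iff'.1 h3).1

theorem dvd_of_forall_irreducible_factor {f g : F[X]} (hf : f ≠ 0)
    (h : ∀ π : F[X], Irreducible π → π ∣ f → π ∣ g) {n : ℕ} (hn : f.natDegree ≤ n) :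
    f ∣ g ^ n := by
  classical
  obtain ⟨s, hs, hass⟩ : ∃ s : Multiset F[X], (∀ π ∈ s, Irreducible π) ∧ Associated s.prod f :=
    ⟨_, fun π hπ => UniqueFactorizationMonoid.irreducible_of_factor π hπ,
      UniqueFactorizationMonoid.factors_prod hf⟩
  have h0 : (0 : F[X]) ∉ s := fun h0 => (hs 0 h0).ne_zero rfl
  have hcard : Multiset.card s ≤ n := by
    refine le_trans ?_ hn
    rw [← natDegree_eq_of_degree_eq (degree_eq_degree_of_associated hass), natDegree_multiset_prod _ h0]
    calc Multiset.card s = (s.map fun _ => 1).sum := by simp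
      _ ≤ (s.map natDegree).sum := Multiset.sum_map_le_sum_map _ _ fun π hπ => (hs π hπ).natDegree_pos
  refine hass.symm.dvd.trans (dvd_trans ?_ (pow_dvd_pow g hcard))
  have hdvd : ∀ π ∈ s, π ∣ g := fun π hπ =>
    h π (hs π hπ) (dvd_trans (Multiset.dvd_prod hπ) hass.dvd)
  clear hass hcard h0 hs
  induction s using Multiset.induction with
  | empty => simp
  | cons a t ih =>
    rw [Multiset.prod_cons, Multiset.card_cons, pow_succ']
    exact mul_dvd_mul (hdvd a (Multiset.mem_cons_self a t))
      (ih fun π hπ => hdvd π (Multiset.mem_cons_of_mem hπ))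

/-- If `L` is a common multiple of all `q^d - 1`, `1 ≤ d ≤ n`, then invertible `n × n` matrices satisfy
`A ^ (L * P) = 1` for every power `P = p^e ≥ n` of the characteristic. -/
theorem pow_eq_one [Finite F] (p : ℕ) [Fact p.Prime] [CharP F p] {n L e : ℕ} (hne : n ≤ p ^ e)
    (hL : ∀ d, 1 ≤ d → d ≤ n → Nat.card F ^ d - 1 ∣ L)
    (A : Matrix (Fin n) (Fin n) F) (hA : A.det ≠ 0) : A ^ (L * p ^ e) = 1 := by
  have hdiv : A.charpoly ∣ X ^ (L * p ^ e) - 1 := by
    have : A.charpoly ∣ (X ^ L - 1 : F[X]) ^ (p ^ e) := by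
      refine dvd_of_forall_irreducible_factor A.charpoly_monic.ne_zero ?_
        (by rw [Matrix.charpoly_natDegree_eq_dim, Fintype.card_fin]; exact hne)
      intro π hπ hdvd
      have hdeg : π.natDegree ≤ n :=
        le_trans (natDegree_le_of_dvd hdvd A.charpoly_monic.ne_zero)
          (by rw [Matrix.charpoly_natDegree_eq_dim, Fintype.card_fin])
      have hXπ : ¬ π ∣ X := by
        intro hπX
        apply hA
        have hX : X ∣ A.charpoly := (hπ.associated_of_dvd irreducible_X hπX).symm.dvd.trans hdvd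
        rw [X_dvd_iff] at hX
        rw [Matrix.det_eq_sign_charpoly_coeff, hX, mul_zero]
      have hq : 1 ≤ Nat.card F ^ π.natDegree := Nat.one_le_pow _ _ Nat.card_pos
      have h1 : π ∣ X ^ Nat.card F ^ π.natDegree - X :=
        (hπ.natDegree_dvd_iff_dvd_X_pow_card_pow_sub_X (n := π.natDegree)).1 dvd_rfl
      have h2 : π ∣ X ^ (Nat.card F ^ π.natDegree - 1) - 1 := by
        refine (hπ.prime.dvd_or_dvd ?_).resolve_left hXπ
        rwa [mul_sub, mul_one, ← pow_succ', Nat.sub_add_cancel hq]
      exact h2.trans (dvd_pow_sub_one_of_dvd (hL _ hπ.natDegree_pos hdeg))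
    rwa [sub_pow_char_pow, one_pow, ← pow_mul] at this
  obtain ⟨c, hc⟩ := hdiv
  have := congrArg (Polynomial.aeval A) hc
  rw [map_mul, Matrix.aeval_self_charpoly, zero_mul] at this
  simpa [sub_eq_zero] using this

end CfsgLib.KnownC.MatOrder
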