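import Cfsg.Agent.S0839

set_option autoImplicit false
set_option linter.unusedSectionVars false

/-! The class of transvections in `GL_n`. -/

namespace CfsgLib.KnownC.TransvClass

open Matrix

variable {F : Type*} [Field F] {n : ℕ}

/-- A standard transvection. -/
def std (n : ℕ) : Matrix (Fin (n + 2)) (Fin (n + 2)) F :=
  1 + vecMulVec (Pi.single 1 1) (Pi.single 0 1)

theorem conj_std {t : Matrix (Fin (n + 2)) (Fin (n + 2)) F} (ht : Cfsg.IsTransvection t) (hdet : t.det = 1) :
    ∃ g : GL (Fin (n + 2)) F, t = (g : Matrix (Fin (n + 2)) (Fin (n + 2)) F) * std n *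
      ((g⁻¹ : GL (Fin (n + 2)) F) : Matrix (Fin (n + 2)) (Fin (n + 2)) F) := by
  classical
  let T : SpecialLinearGroup (Fin (n + 2)) F := ⟨t, hdet⟩
  obtain ⟨h, v, hv0, he⟩ := Cfsg.Agent.S0839.result n T ht
  have hv : v ≠ 0 := by
    intro h0
    have h1 : (h⁻¹ * T * h) = 1 := Subtype.ext (by
      rw [he, h0, zero_vecMulVec, add_zero]; rfl)
    rw [mul_assoc, inv_mul_eq_one, eq_comm, mul_eq_right] at h1
    have h2 := ht.1
    rw [show t = 1 from congrArg Subtype.val h1, sub_self, rank_zero] at h2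
    exact zero_ne_one h2
  obtain ⟨k, hk⟩ := Function.ne_iff.1 hv
  simp only [Pi.zero_apply] at hk
  have hk0 : k ≠ 0 := fun e => hk (e ▸ hv0)
  let e : Fin (n + 2) ≃ Fin (n + 2) := Equiv.swap 1 k
  let M : Matrix (Fin (n + 2)) (Fin (n + 2)) F := (updateCol 1 k v).submatrix id e
  have hM : M.det ≠ 0 := by
    have h1 : (updateCol (1 : Matrix (Fin (n + 2)) (Fin (n + 2)) F) k v).det = v k := by
      rw [← cramer_apply, cramer_one]
      rfl
    show ((updateCol (1 : Matrix (Fin (n + 2)) (Fin (n + 2)) F) k v).submatrix id e).det ≠ 0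
    rw [det_permute', h1]
    rcases Int.units_eq_one_or (Equiv.Perm.sign e) with h | h <;> simp [h, hk]
  have hMv : M *ᵥ Pi.single 1 1 = v := by
    rw [mulVec_single_one]
    funext i
    simp [M, e, Matrix.col]
  have hM0 : Pi.single 0 1 ᵥ* M = Pi.single 0 1 := by
    rw [single_one_vecMul]
    funext j
    have h01 : (0 : Fin (n + 2)) ≠ 1 := by simp
    rcases eq_or_ne (e j) k with h | h
    · have hj : j = 1 := by rw [← e.symm_apply_apply j, h]; simp [e]
      subst hj
      simp [M, Matrix.row, h, hv0]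
    · rcases eq_or_ne j 0 with rfl | hj0
      · simp [M, Matrix.row, e, Equiv.swap_apply_of_ne_of_ne h01 hk0.symm, hk0.symm]
      · have : e j ≠ 0 := fun e0 => hj0 (by
          rw [← e.symm_apply_apply j, e0]
          simp [e, Equiv.swap_apply_of_ne_of_ne h01 hk0.symm])
        simp [M, Matrix.row, h, one_apply, this.symm, hj0]
  let g0 : GL (Fin (n + 2)) F := GeneralLinearGroup.mkOfDetNeZero M hM
  let g : GL (Fin (n + 2)) F := SpecialLinearGroup.toGL h * g0
  refine ⟨g, ?_⟩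
  have h1 : 1 + vecMulVec v (Pi.single 0 1) =
      (g0 : Matrix (Fin (n + 2)) (Fin (n + 2)) F) * std n * ((g0⁻¹ : GL (Fin (n + 2)) F) : Matrix (Fin (n + 2)) (Fin (n + 2)) F) := by
    have h2 : Pi.single 0 1 ᵥ* ((g0⁻¹ : GL (Fin (n + 2)) F) : Matrix (Fin (n + 2)) (Fin (n + 2)) F) = Pi.single 0 1 := by
      conv_lhs => rw [← hM0]
      rw [vecMul_vecMul, show M = (g0 : Matrix (Fin (n + 2)) (Fin (n + 2)) F) from rfl, ← Units.val_mul, mul_inv_cancel,
        Units.val_one, vecMul_one]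
    rw [std, Matrix.mul_add, Matrix.add_mul, Matrix.mul_one, ← Units.val_mul, mul_inv_cancel, Units.val_one, mul_vecMulVec,
      vecMulVec_mul, h2, show (g0 : Matrix (Fin (n + 2)) (Fin (n + 2)) F) *ᵥ Pi.single 1 1 = v from hMv]
  have e1 : (SpecialLinearGroup.toGL (h⁻¹ * T * h) : Matrix _ _ F) =
      (g0 : Matrix (Fin (n + 2)) (Fin (n + 2)) F) * std n * ((g0⁻¹ : GL (Fin (n + 2)) F) : Matrix _ _ F) :=
    he.trans h1
  rw [map_mul, map_mul, map_inv, Units.val_mul, Units.val_mul] at e1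
  set H := SpecialLinearGroup.toGL h
  calc t = (H : Matrix (Fin (n + 2)) (Fin (n + 2)) F) * (((H⁻¹ : GL (Fin (n + 2)) F) : Matrix _ _ F) * t * (H : Matrix (Fin (n + 2)) (Fin (n + 2)) F)) *
        ((H⁻¹ : GL (Fin (n + 2)) F) : Matrix _ _ F) := by
        simp only [Matrix.mul_assoc]
        rw [← Units.val_mul, mul_inv_cancel, Units.val_one, Matrix.mul_one, ← Matrix.mul_assoc (H : Matrix (Fin (n + 2)) (Fin (n + 2)) F),
          ← Units.val_mul, mul_inv_cancel, Units.val_one, Matrix.one_mul]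
    _ = _ := by
        rw [show ((H⁻¹ : GL (Fin (n + 2)) F) : Matrix _ _ F) * t * (H : Matrix (Fin (n + 2)) (Fin (n + 2)) F) = _ from e1]
        simp only [g, _root_.mul_inv_rev, Units.val_mul, Matrix.mul_assoc]
        rfl

theorem det_eq_one {t : Matrix (Fin (n + 2)) (Fin (n + 2)) F} (ht : Cfsg.IsTransvection t) : t.det = 1 := by
  have hnil : IsNilpotent (Matrix.toLin' (1 - t)) := ⟨2, by
    rw [pow_two]
    show Matrix.toLin' (1 - t) ∘ₗ Matrix.toLin' (1 - t) = 0
    rw [← Matrix.toLin'_mul, show (1 - t) * (1 - t) = (t - 1) * (t - 1) by noncomm_ring, ht.2, map_zero]⟩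
  have h2 := IsNilpotent.charpoly_eq_X_pow_finrank hnil
  rw [Matrix.charpoly_toLin', Module.finrank_fin_fun] at h2
  have h4 := Matrix.eval_charpoly (1 - t) 1
  rw [h2, Polynomial.eval_pow, Polynomial.eval_X, one_pow, map_one, sub_sub_cancel] at h4
  exact h4.symm

end CfsgLib.KnownC.TransvClass
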