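import Mathlib
import Cfsg.Prelude.Def_Classical

set_option autoImplicit false

/-! Discriminants of the standard quadratic forms over finite fields of odd order. -/

namespace CfsgLib.KnownC.Discr

open Matrix

variable {F : Type*} [Field F]

theorem isSquare_gram {κ ι : Type*} [Fintype κ] [DecidableEq κ] [Fintype ι] [DecidableEq ι]
    (f : (κ → F) → (κ → F) → F) (M : Matrix κ κ F) (hf : ∀ u v, f u v = u ⬝ᵥ M *ᵥ v)
    (b : Module.Basis ι F (κ → F)) :
    IsSquare (Matrix.of fun i j => f (b i) (b j)).det ↔ IsSquare M.det := by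
  let e := b.indexEquiv (Pi.basisFun F κ)
  set P := (Pi.basisFun F κ).toMatrix (b.reindex e) with hP
  have hP0 : P.det ≠ 0 := fun h0 => by
    have h := congrArg Matrix.det
      ((Pi.basisFun F κ).toMatrix_mul_toMatrix_flip (b.reindex e))
    rw [Matrix.det_mul, ← hP, h0, zero_mul, Matrix.det_one] at h
    exact zero_ne_one h
  have hG : (Matrix.of fun i j => f (b i) (b j)).submatrix e.symm e.symm = P.transpose * M * P := by
    ext i j
    rw [Matrix.submatrix_apply, Matrix.of_apply, hf, mul_assoc, dotProduct, Matrix.mul_apply]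
    refine Finset.sum_congr rfl fun k _ => ?_
    simp [hP, Module.Basis.toMatrix_apply, Matrix.mul_apply, Matrix.mulVec, dotProduct]
  rw [← Matrix.det_submatrix_equiv_self e.symm, hG, Matrix.det_mul, Matrix.det_mul,
    Matrix.det_transpose]
  constructor
  · rintro ⟨r, hr⟩
    exact ⟨r / P.det, by field_simp; linear_combination hr⟩
  · rintro ⟨r, hr⟩
    exact ⟨r * P.det, by rw [hr]; ring⟩

theorem polar_plus {m : ℕ} (u v : Fin m ⊕ Fin m → F) :
    QuadraticMap.polar (Cfsg.quadFormPlus m F) u v =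
      u ⬝ᵥ (fromBlocks 0 1 1 0 : Matrix (Fin m ⊕ Fin m) (Fin m ⊕ Fin m) F) *ᵥ v := by
  simp only [QuadraticMap.polar, Cfsg.quadFormPlus, Pi.add_apply, fromBlocks_mulVec, zero_mulVec,
    one_mulVec, zero_add, add_zero, dotProduct, Fintype.sum_sum_type, Sum.elim_inl, Sum.elim_inr,
    Function.comp_apply, ← Finset.sum_sub_distrib, ← Finset.sum_add_distrib]
  exact Finset.sum_congr rfl fun i _ => by ring

theorem det_hyp (m : ℕ) :
    (fromBlocks 0 1 1 0 : Matrix (Fin m ⊕ Fin m) (Fin m ⊕ Fin m) F).det = (-1) ^ m := by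
  have h : (fromBlocks 0 1 1 0 : Matrix (Fin m ⊕ Fin m) (Fin m ⊕ Fin m) F) * fromBlocks 1 0 1 1 =
      fromBlocks 1 1 1 0 := by simp [fromBlocks_multiply]
  have h' := congrArg Matrix.det h
  rw [det_mul, det_fromBlocks_zero₁₂, det_one, one_mul, mul_one] at h'
  rw [h', det_fromBlocks_one₁₁]
  simp [Matrix.det_neg]

theorem polar_minus {k : ℕ} (a c : F) (u v : (Fin k ⊕ Fin k) ⊕ Fin 2 → F) :
    QuadraticMap.polar (Cfsg.quadFormMinus k F a c) u v =
      u ⬝ᵥ (fromBlocks (fromBlocks 0 1 1 0) 0 0 !![2, a; a, 2 * c] :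
        Matrix ((Fin k ⊕ Fin k) ⊕ Fin 2) ((Fin k ⊕ Fin k) ⊕ Fin 2) F) *ᵥ v := by
  have h := polar_plus (u ∘ Sum.inl) (v ∘ Sum.inl)
  simp only [QuadraticMap.polar, Cfsg.quadFormPlus, Pi.add_apply, Function.comp_apply] at h
  rw [fromBlocks_mulVec, zero_mulVec, zero_mulVec, add_zero, zero_add]
  simp only [QuadraticMap.polar, Cfsg.quadFormMinus, Pi.add_apply, dotProduct, Fintype.sum_sum_type (α₁ := Fin k ⊕ Fin k),
    Sum.elim_inl, Sum.elim_inr]
  simp only [dotProduct, Function.comp_apply] at h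
  simp only [mulVec, dotProduct, Fin.sum_univ_two, Function.comp_apply, of_apply, cons_val', cons_val_zero,
    cons_val_one, cons_val_fin_one] at h ⊢
  linear_combination h

theorem isSquare_neg_one_pow [Fintype F] (hq : Odd (Fintype.card F)) (m : ℕ) :
    IsSquare ((-1 : F) ^ m) ↔ Even (m * (Fintype.card F - 1) / 2) := by
  obtain ⟨t, ht⟩ := hq
  have h2 : m * (Fintype.card F - 1) / 2 = m * t := by
    rw [ht, Nat.add_sub_cancel, ← mul_assoc, mul_comm m 2, mul_assoc, Nat.mul_div_cancel_left _ (by omega : 0 < 2)]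
  rw [h2, Nat.even_mul]
  rcases Nat.even_or_odd m with hm | hm
  · simp [hm, hm.neg_one_pow]
  · rw [hm.neg_one_pow, FiniteField.isSquare_neg_one_iff, ht]
    simp only [Nat.not_even_iff_odd.2 hm, false_or, Nat.even_iff]
    omega

theorem isSquare_mul_nonsquare [Fintype F] {x y : F} (h2 : ringChar F ≠ 2) (hx : x ≠ 0)
    (hy : ¬ IsSquare y) : IsSquare (x * y) ↔ ¬ IsSquare x := by
  classical
  have hy0 : y ≠ 0 := fun h => hy (h ▸ IsSquare.zero)
  rw [← quadraticChar_one_iff_isSquare (mul_ne_zero hx hy0), ← quadraticChar_neg_one_iff_not_isSquare (a := x),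
    map_mul, quadraticChar_neg_one_iff_not_isSquare.2 hy]
  omega

end CfsgLib.KnownC.Discr
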