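import Cfsg.Agent.Lib.Orth.Spinor
import Cfsg.Agent.Lib.Orth.Standard
import Cfsg.Agent.Lib.KnownC.Discr

set_option autoImplicit false
set_option linter.unusedSectionVars false

/-! Glue for statements about `Omega` of the standard forms. -/

namespace CfsgLib.KnownC.OrthTools

open QuadraticMap Matrix CfsgLib.Orth

variable {F : Type*} [Field F] {ι : Type} [Fintype ι] [DecidableEq ι] {Qf : (ι → F) → F}
variable (Q : QuadraticForm F (ι → F)) (hQf : ∀ v, Qf v = Q v)

theorem matOf_toOrth (g : ↥(Cfsg.isometryGroup F Qf)) :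
    matOf Q (toOrth Q hQf g) = ((g : GL ι F) : Matrix ι ι F) := by
  rw [← toOrth_symm_coe Q hQf, MulEquiv.symm_apply_apply]

theorem matOf_injective : Function.Injective (matOf Q) := fun g h e =>
  Subtype.ext (LinearEquiv.ext fun v => by rw [← matOf_mulVec, e, matOf_mulVec])

include hQf in
theorem exists_omega_iff (g₀ : orthGroup Q) (M : Matrix ι ι F) (hM : matOf Q g₀ = M) :
    (∃ g : ↥(Cfsg.isometryGroup F Qf), g ∈ Cfsg.Omega F Qf ∧ ((g : GL ι F) : Matrix ι ι F) = M) ↔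
      g₀ ∈ commutator (orthGroup Q) := by
  constructor
  · rintro ⟨g, hg, hgM⟩
    have : toOrth Q hQf g = g₀ := matOf_injective Q (by rw [matOf_toOrth, hgM, hM])
    rw [← this]
    exact (mem_Omega_iff Q hQf g).1 hg
  · intro h
    refine ⟨(toOrth Q hQf).symm g₀, ?_, by rw [toOrth_symm_coe, hM]⟩
    rw [mem_Omega_iff Q hQf, MulEquiv.apply_symm_apply]
    exact h

theorem matOf_prod_refl : ∀ L : List (ι → F),
    matOf Q (L.map (refl Q)).prod = (L.map (fun v => Cfsg.reflectionMatrix ⇑Q v)).prod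
  | [] => by rw [List.map_nil, List.map_nil, List.prod_nil, List.prod_nil, matOf_one]
  | a :: L => by
    rw [List.map_cons, List.map_cons, List.prod_cons, List.prod_cons, matOf_mul, matOf_prod_refl L, matOf_refl]

theorem matOf_eq_diagonal (g : orthGroup Q) (D : ι → F)
    (h : ∀ k, g.1 (Pi.single k 1) = D k • Pi.single k 1) : matOf Q g = Matrix.diagonal D := by
  refine Matrix.toLin'.injective (LinearMap.pi_ext' fun k => LinearMap.ext_ring ?_)
  show matOf Q g *ᵥ Pi.single k 1 = Matrix.diagonal D *ᵥ Pi.single k 1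
  rw [matOf_mulVec, h, Matrix.diagonal_mulVec_single]
  ext l
  by_cases hl : l = k
  · subst hl; simp
  · simp [hl]

include hQf in
/-- Criterion for the negation of `i` mutually orthogonal hyperbolic pairs of basis vectors. -/
theorem diag_neg_iff [Fintype F] (hQ : (QuadraticMap.polarBilin Q).Nondegenerate) (h2 : (2 : F) ≠ 0)
    {i : ℕ} (ei fi : Fin i → ι) (D : ι → F)
    (he : ∀ j, Q (Pi.single (ei j) 1) = 0) (hf : ∀ j, Q (Pi.single (fi j) 1) = 0)
    (hef : ∀ j k, polar Q (Pi.single (ei j) 1) (Pi.single (fi k) 1) = if j = k then 1 else 0)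
    (hee : ∀ j k, j ≠ k → polar Q (Pi.single (ei j) 1) (Pi.single (ei k) 1) = 0)
    (hff : ∀ j k, j ≠ k → polar Q (Pi.single (fi j) 1) (Pi.single (fi k) 1) = 0)
    (hD : ∀ k, (D k = -1 ∧ ∃ j, k = ei j ∨ k = fi j) ∨ (D k = 1 ∧ ∀ j,
      polar Q (Pi.single (ei j) 1) (Pi.single k 1) = 0 ∧ polar Q (Pi.single (fi j) 1) (Pi.single k 1) = 0)) :
    (∃ g : ↥(Cfsg.isometryGroup F Qf), g ∈ Cfsg.Omega F Qf ∧ ((g : GL ι F) : Matrix ι ι F) = Matrix.diagonal D) ↔
      IsSquare ((-1 : F) ^ i) := by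
  obtain ⟨L, hL, hlen, hprod, hneg, hfix⟩ := exists_negPairs (fun j => (Pi.single (ei j) 1 : ι → F))
    (fun j => (Pi.single (fi j) 1 : ι → F)) he hf hef hee hff
  rw [exists_omega_iff Q hQf (L.map (refl Q)).prod _ (matOf_eq_diagonal Q _ D fun k => ?_),
    prod_refl_mem_commutator_iff hQ h2 L hL, hprod]
  · exact ⟨fun h => h.2, fun h => ⟨by rw [hlen]; exact even_two_mul i, h⟩⟩
  · rcases hD k with ⟨hDk, j, rfl | rfl⟩ | ⟨hDk, hperp⟩
    · rw [hDk, (hneg j).1, neg_one_smul]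
    · rw [hDk, (hneg j).2, neg_one_smul]
    · rw [hDk, one_smul]; exact hfix _ hperp

theorem isSquare_neg_one_pow_iff [Fintype F] {q : ℕ} (hF : Fintype.card F = q) (hq : Odd q) (i : ℕ) :
    IsSquare ((-1 : F) ^ i) ↔ q ^ i % 4 = 1 := by
  subst hF
  rw [CfsgLib.KnownC.Discr.isSquare_neg_one_pow hq]
  obtain ⟨t, ht⟩ := hq
  have h : i * (Fintype.card F - 1) / 2 = i * t := by
    rw [ht, Nat.add_sub_cancel, ← mul_assoc, mul_comm i 2, mul_assoc, Nat.mul_div_cancel_left _ (by omega : 0 < 2)]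
  rw [h, Nat.even_mul, Nat.even_iff, Nat.even_iff, ht]
  clear h
  induction i with
  | zero => simp
  | succ n ih =>
    rw [pow_succ, Nat.mul_mod]
    have h4 : (2 * t + 1) ^ n % 4 = 1 ∨ (2 * t + 1) ^ n % 4 = 3 := by
      have h1 : ((2 * t + 1) ^ n) % 2 = 1 := by rw [Nat.pow_mod]; simp [Nat.add_mod]
      omega
    rcases Nat.mod_two_eq_zero_or_one t with h | h
    · have : (2 * t + 1) % 4 = 1 := by omega
      rw [this, mul_one, Nat.mod_mod]
      have h5 := ih.1 (Or.inr h)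
      simp [h, h5]
    · have : (2 * t + 1) % 4 = 3 := by omega
      rw [this]
      rcases h4 with h4 | h4
      · rw [h4]; have := ih.2 h4; omega
      · rw [h4]
        have hn : ¬ (n % 2 = 0 ∨ t % 2 = 0) := fun hh => by rw [ih.1 hh] at h4; omega
        omega

theorem two_ne_zero_of_odd [Fintype F] {q : ℕ} (hF : Fintype.card F = q) (hq : Odd q) : (2 : F) ≠ 0 := by
  intro h
  haveI : CharP F 2 := CharTwo.of_one_ne_zero_of_two_eq_zero one_ne_zero h
  obtain ⟨k, -, hk⟩ := FiniteField.card F 2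
  rw [← hF, hk, Nat.odd_pow_iff k.ne_zero] at hq
  exact absurd hq (by decide)

end CfsgLib.KnownC.OrthTools

namespace CfsgLib.KnownC.OrthTools

open QuadraticMap Matrix CfsgLib.Orth

variable {F : Type*} [Field F] {ι : Type} [Fintype ι] [DecidableEq ι] {Qf : (ι → F) → F}
variable (Q : QuadraticForm F (ι → F)) (hQf : ∀ v, Qf v = Q v)

include hQf in
theorem exists_omega_of {P : Matrix ι ι F → Prop}
    (h : ∃ g ∈ commutator (orthGroup Q), P (matOf Q g)) :
    ∃ g : ↥(Cfsg.isometryGroup F Qf), g ∈ Cfsg.Omega F Qf ∧ P ((g : GL ι F) : Matrix ι ι F) := by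
  obtain ⟨g, hg, hP⟩ := h
  refine ⟨(toOrth Q hQf).symm g, ?_, by rw [toOrth_symm_coe]; exact hP⟩
  rw [mem_Omega_iff Q hQf, MulEquiv.apply_symm_apply]
  exact hg

theorem mulVecLin_matOf (g : orthGroup Q) :
    Matrix.mulVecLin (matOf Q g) = (g.1 : (ι → F) →ₗ[F] (ι → F)) :=
  LinearMap.ext fun v => matOf_mulVec Q g v

end CfsgLib.KnownC.OrthTools
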