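import Cfsg.Agent.Lib.KnownC.PSL2Classes

set_option autoImplicit false
set_option linter.unusedSectionVars false

/-! The set of class sizes of `PSL₂(q)`. -/

namespace CfsgLib.KnownC.PSL2Classes

open Matrix OnePoint MulAction CfsgLib.Classical CfsgLib.Classical.Dickson
open scoped MatrixGroups

variable {F : Type*} [Field F] [Fintype F] [DecidableEq F] (p : ℕ) [hp : Fact p.Prime] [CharP F p]

local notation "PG" => ProjGenLinGroup (Fin 2) F
local notation "PS" => ProjectiveSpecialLinearGroup (Fin 2) F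

theorem q_factor : Fintype.card F * (Fintype.card F ^ 2 - 1) =
    Fintype.card F * ((Fintype.card F + 1) * (Fintype.card F - 1)) := by
  rw [← Nat.sq_sub_sq, one_pow]

/-- The possible sizes. -/
theorem size_cases (hq : 4 ≤ Fintype.card F) (g : PS) (i : ℕ)
    (hi : i = (Subgroup.centralizer ({g} : Set PS)).index) :
    i = 1 ∨ i * dd F = Fintype.card F ^ 2 - 1 ∨
    (∃ T, 2 ∣ T ∧ p ≠ 2 ∧ T * dd F = Fintype.card F - 1 ∧ 2 * i = Fintype.card F * (Fintype.card F + 1)) ∨
    (∃ T, 2 ∣ T ∧ p ≠ 2 ∧ T * dd F = Fintype.card F + 1 ∧ 2 * i = Fintype.card F * (Fintype.card F - 1)) ∨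
    i = Fintype.card F * (Fintype.card F + 1) ∨ i = Fintype.card F * (Fintype.card F - 1) := by
  set c := ProjectiveSpecialLinearGroup.toPGL g
  have hcS : c ∈ sln F := range_toPGL_eq (F := F) ▸ ⟨g, rfl⟩
  have key := index_mul_cen g
  rw [← hi] at key
  by_cases hc1 : c = 1
  · left
    have hg : g = 1 := ProjectiveSpecialLinearGroup.toPGL_injective (hc1.trans (map_one _).symm)
    rw [hi, hg, Subgroup.index_eq_one, Subgroup.eq_top_iff']
    exact fun x => Subgroup.mem_centralizer_singleton_iff.2 (by rw [mul_one, one_mul])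
  right
  rcases pow_eq_one_or p c hcS with hcp | hc
  · left
    rw [card_cen_unip p hc1 hcp, mul_comm i, mul_assoc] at key
    exact Nat.eq_of_mul_eq_mul_left (by omega) key
  right
  obtain ⟨T, hcT, hcard, hT⟩ := card_cen_semisimple p hq hc hc1 hcS
  rw [hcard, q_factor] at key
  have hq1 : 0 < Fintype.card F - 1 := by omega
  by_cases h2 : orderOf c = 2
  · rw [if_pos h2] at key
    have hp2 : p ≠ 2 := fun e => hc (by rw [h2, e])
    rw [h2] at hcT
    rcases hT with ⟨-, hT⟩ | ⟨-, hT⟩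
    · refine Or.inl ⟨T, hcT, hp2, hT, Nat.eq_of_mul_eq_mul_right hq1 ?_⟩
      rw [show i * (2 * T) * dd F = 2 * i * (T * dd F) by ring, hT] at key
      rw [key]; ring
    · refine Or.inr (Or.inl ⟨T, hcT, hp2, hT, Nat.eq_of_mul_eq_mul_right (show 0 < Fintype.card F + 1 by omega) ?_⟩)
      rw [show i * (2 * T) * dd F = 2 * i * (T * dd F) by ring, hT] at key
      rw [key]; ring
  · rw [if_neg h2, one_mul, mul_assoc] at key
    rcases hT with ⟨-, hT⟩ | ⟨-, hT⟩
    · rw [hT] at key
      exact Or.inr (Or.inr (Or.inl (Nat.eq_of_mul_eq_mul_right hq1 (by rw [key]; ring))))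
    · rw [hT] at key
      exact Or.inr (Or.inr (Or.inr (Nat.eq_of_mul_eq_mul_right (show 0 < Fintype.card F + 1 by omega) (by rw [key]; ring))))

theorem exists_preimage {c : PG} (hc : c ∈ sln F) :
    ∃ g : PS, ProjectiveSpecialLinearGroup.toPGL g = c := by
  rwa [← range_toPGL_eq] at hc

include p in
theorem size_unip (hq : 4 ≤ Fintype.card F) :
    ∃ g : PS, (Subgroup.centralizer ({g} : Set PS)).index * dd F = Fintype.card F ^ 2 - 1 := by
  obtain ⟨g, hg⟩ := exists_preimage (aff_one_mem (F := F) 1)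
  refine ⟨g, ?_⟩
  have key := index_mul_cen g
  rw [hg, card_cen_unip p (fun e => one_ne_zero (aff_eq_one_iff.1 e).2) ((aff_pow_char_eq_one_iff p _ _).2 rfl),
    mul_comm _ (Fintype.card F), mul_assoc] at key
  exact Nat.eq_of_mul_eq_mul_left (by omega) key

include p in
theorem size_split (hq : 4 ≤ Fintype.card F) (h5 : Fintype.card F ≠ 5) :
    ∃ g : PS, (Subgroup.centralizer ({g} : Set PS)).index = Fintype.card F * (Fintype.card F + 1) := by
  obtain ⟨c, hcS, hc, ho, x, hx⟩ := exists_psl_split p hq h5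
  obtain ⟨g, hg⟩ := exists_preimage hcS
  refine ⟨g, ?_⟩
  have key := index_mul_cen g
  have hc1 : c ≠ 1 := fun e => by rw [e, orderOf_one] at ho; omega
  obtain ⟨T, -, hcard, hT⟩ := card_cen_semisimple p hq hc hc1 hcS
  rw [hg, hcard, if_neg (show orderOf c ≠ 2 by omega), one_mul, q_factor, mul_assoc] at key
  rcases hT with ⟨-, hT⟩ | ⟨hno, -⟩
  · rw [hT] at key
    exact Nat.eq_of_mul_eq_mul_right (show 0 < Fintype.card F - 1 by omega) (by rw [key]; ring)
  · exact absurd hx (hno x)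

include p in
theorem size_nonsplit (hq : 4 ≤ Fintype.card F) :
    ∃ g : PS, (Subgroup.centralizer ({g} : Set PS)).index = Fintype.card F * (Fintype.card F - 1) := by
  obtain ⟨c, hcS, hc, ho, hno⟩ := exists_psl_nonsplit p hq
  obtain ⟨g, hg⟩ := exists_preimage hcS
  refine ⟨g, ?_⟩
  have key := index_mul_cen g
  have hc1 : c ≠ 1 := fun e => by rw [e, orderOf_one] at ho; omega
  obtain ⟨T, -, hcard, hT⟩ := card_cen_semisimple p hq hc hc1 hcS
  rw [hg, hcard, if_neg (show orderOf c ≠ 2 by omega), one_mul, q_factor, mul_assoc] at key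
  rcases hT with ⟨⟨x, hx⟩, -⟩ | ⟨-, hT⟩
  · exact absurd hx (hno x)
  · rw [hT] at key
    exact Nat.eq_of_mul_eq_mul_right (show 0 < Fintype.card F + 1 by omega) (by rw [key]; ring)

include p in
theorem size_involution (hq : 4 ≤ Fintype.card F) (hp2 : p ≠ 2) (hodd : Fintype.card F % 2 = 1) :
    ∃ g : PS, ∃ T, 2 ∣ T ∧
      ((T * dd F = Fintype.card F - 1 ∧ 2 * (Subgroup.centralizer ({g} : Set PS)).index = Fintype.card F * (Fintype.card F + 1)) ∨
       (T * dd F = Fintype.card F + 1 ∧ 2 * (Subgroup.centralizer ({g} : Set PS)).index = Fintype.card F * (Fintype.card F - 1))) := by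
  obtain ⟨c, hcS, ho⟩ := exists_psl_involution (F := F) hodd
  have hc : ¬ p ∣ orderOf c := fun h => by
    rw [ho] at h
    exact hp2 ((Nat.prime_dvd_prime_iff_eq hp.out Nat.prime_two).1 h)
  have hc1 : c ≠ 1 := fun e => by rw [e, orderOf_one] at ho; omega
  obtain ⟨g, hg⟩ := exists_preimage hcS
  obtain ⟨T, hcT, hcard, hT⟩ := card_cen_semisimple p hq hc hc1 hcS
  have key := index_mul_cen g
  rw [hg, hcard, if_pos ho, q_factor] at key
  rw [show (Subgroup.centralizer ({g} : Set PS)).index * (2 * T) * dd F =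
    2 * (Subgroup.centralizer ({g} : Set PS)).index * (T * dd F) by ring] at key
  rw [ho] at hcT
  refine ⟨g, T, hcT, ?_⟩
  rcases hT with ⟨-, hT⟩ | ⟨-, hT⟩ <;> rw [hT] at key
  · exact Or.inl ⟨hT, Nat.eq_of_mul_eq_mul_right (show 0 < Fintype.card F - 1 by omega) (by rw [key]; ring)⟩
  · exact Or.inr ⟨hT, Nat.eq_of_mul_eq_mul_right (show 0 < Fintype.card F + 1 by omega) (by rw [key]; ring)⟩

end CfsgLib.KnownC.PSL2Classes
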