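import Mathlib
import Cfsg.Prelude.Def_Classical
import Cfsg.Prelude.Def_LieClassical
import Cfsg.Agent.Lib.Orth.WittIndex
import Cfsg.Agent.Lib.Orth.Isometry
import Cfsg.Agent.Lib.Orth.Bridge

set_option autoImplicit false
set_option linter.unusedSectionVars false

/-! Quadratic extensions of finite fields and the forms obtained by descent. -/

namespace CfsgLib.KnownC.FieldExt

open Module QuadraticMap CfsgLib.Orth
open scoped Matrix

theorem exists_embedding (F K : Type*) [Field F] [Fintype F] [Field K] [Fintype K] {q : ℕ}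
    (hF : Fintype.card F = q) (hK : Fintype.card K = q ^ 2) : Nonempty (F →+* K) := by
  obtain ⟨p, hp⟩ := CharP.exists F
  obtain ⟨p', hp'⟩ := CharP.exists K
  obtain ⟨n, hpp, hn⟩ := FiniteField.card F p
  obtain ⟨n', hpp', hn'⟩ := FiniteField.card K p'
  obtain rfl : p' = p := by
    apply (Nat.prime_dvd_prime_iff_eq hpp' hpp).1
    apply hpp'.dvd_of_dvd_pow (n := (n : ℕ) * 2)
    rw [pow_mul, ← hn, hF, ← hK, hn']
    exact dvd_pow_self _ n'.pos.ne'
  haveI : Fact p'.Prime := ⟨hpp⟩
  letI := ZMod.algebra F p'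
  letI := ZMod.algebra K p'
  have h : finrank (ZMod p') F ∣ finrank (ZMod p') K := by
    refine ⟨2, Nat.pow_right_injective hpp.two_le ?_⟩
    simp only [FiniteField.pow_finrank_eq_card, pow_mul, hF, hK]
  obtain ⟨φ⟩ := FiniteField.nonempty_algHom_of_finrank_dvd (F := ZMod p') (K := F) (L := K) h
  exact ⟨φ.toRingHom⟩

variable {F K : Type*} [Field F] [Fintype F] [Field K] [Fintype K] [Algebra F K] {q : ℕ}

theorem finrank_eq_two (hF : Fintype.card F = q) (hK : Fintype.card K = q ^ 2) : finrank F K = 2 := by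
  have h := Module.card_eq_pow_finrank (K := F) (V := K)
  rw [hF, hK] at h
  exact (Nat.pow_right_injective (hF ▸ Fintype.one_lt_card) h).symm

theorem algebraMap_pow (hF : Fintype.card F = q) (a : F) : algebraMap F K a ^ q = algebraMap F K a := by
  rw [← map_pow, ← hF, FiniteField.pow_card]

theorem smul_pow_q (hF : Fintype.card F = q) (a : F) (x : K) : (a • x) ^ q = a • x ^ q := by
  rw [Algebra.smul_def, mul_pow, algebraMap_pow hF, ← Algebra.smul_def]

theorem add_pow_q (hF : Fintype.card F = q) (x y : K) : (x + y) ^ q = x ^ q + y ^ q := by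
  obtain ⟨p, hp⟩ := CharP.exists F
  haveI : CharP K p := (Algebra.charP_iff F K p).1 hp
  obtain ⟨n, hpp, hn⟩ := FiniteField.card F p
  haveI : Fact p.Prime := ⟨hpp⟩
  rw [← hF, hn]
  exact add_pow_char_pow x y _ _

theorem pow_q_pow_q (hK : Fintype.card K = q ^ 2) (x : K) : (x ^ q) ^ q = x := by
  rw [← pow_mul, ← pow_two, ← hK, FiniteField.pow_card]

theorem mem_range_of_fixed (hF : Fintype.card F = q) {x : K} (hx : x ^ q = x) :
    x ∈ Set.range (algebraMap F K) := by
  classical
  by_contra hne
  have h1 : 1 < q := hF ▸ Fintype.one_lt_card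
  let s : Finset K := insert x (Finset.univ.image (algebraMap F K))
  have hs : s.card = q + 1 := by
    rw [Finset.card_insert_of_notMem (fun h => hne (by
      obtain ⟨a, -, ha⟩ := Finset.mem_image.1 h
      exact ⟨a, ha⟩)), Finset.card_image_of_injective _ (algebraMap F K).injective, Finset.card_univ, hF]
  have hsub : s ⊆ ((Polynomial.X ^ q - Polynomial.X : Polynomial K)).roots.toFinset := by
    intro y hy
    rw [Multiset.mem_toFinset, Polynomial.mem_roots (FiniteField.X_pow_card_sub_X_ne_zero K h1)]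
    have : y ^ q = y := by
      rcases Finset.mem_insert.1 hy with rfl | hy
      · exact hx
      · obtain ⟨a, -, rfl⟩ := Finset.mem_image.1 hy
        exact algebraMap_pow hF a
    simp [this]
  have := (Finset.card_le_card hsub).trans ((Multiset.toFinset_card_le _).trans (Polynomial.card_roots' _))
  rw [hs, FiniteField.X_pow_card_sub_X_natDegree_eq K h1] at this
  omega

/-- A functional killing `F` and one fixing it. -/
theorem exists_tau (hF : Fintype.card F = q) (hK : Fintype.card K = q ^ 2) :
    (∃ τ : K →ₗ[F] F, τ ≠ 0 ∧ ∀ a, τ (algebraMap F K a) = 0) ∧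
    (∃ τ : K →ₗ[F] F, ∀ a, τ (algebraMap F K a) = a) := by
  constructor
  · have hne : LinearMap.range (Algebra.linearMap F K) ≠ ⊤ := by
      intro h
      have h1 := LinearMap.finrank_range_le (Algebra.linearMap F K)
      rw [h, finrank_top, finrank_eq_two hF hK, finrank_self] at h1
      omega
    obtain ⟨τ, hτ, hτ'⟩ := Submodule.exists_dual_map_eq_bot_of_lt_top (lt_top_iff_ne_top.2 hne) inferInstance
    refine ⟨τ, hτ, fun a => ?_⟩
    have : τ (algebraMap F K a) ∈ Submodule.map τ (LinearMap.range (Algebra.linearMap F K)) :=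
      Submodule.mem_map_of_mem ⟨a, rfl⟩
    rw [hτ'] at this
    simpa using this
  · obtain ⟨τ, hτ⟩ := LinearMap.exists_leftInverse_of_injective (Algebra.linearMap F K)
      (LinearMap.ker_eq_bot.2 (algebraMap F K).injective)
    exact ⟨τ, fun a => LinearMap.congr_fun hτ a⟩

/-- The semi-bilinear form `τ ∘ h` on `K^m` seen over `F`. -/
noncomputable def descForm (hF : Fintype.card F = q) (m : ℕ) (τ : K →ₗ[F] F) :
    LinearMap.BilinForm F (Fin m → K) :=
  LinearMap.mk₂ F (fun u v => τ (Cfsg.hermForm m K q u v))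
    (fun u u' v => by simp [Cfsg.hermForm, add_mul, Finset.sum_add_distrib])
    (fun a u v => by simp [Cfsg.hermForm, ← Finset.smul_sum, map_smul])
    (fun u v v' => by simp [Cfsg.hermForm, add_pow_q hF, mul_add, Finset.sum_add_distrib])
    (fun a u v => by simp [Cfsg.hermForm, smul_pow_q hF, ← Finset.smul_sum, map_smul])

theorem descForm_apply (hF : Fintype.card F = q) (m : ℕ) (τ : K →ₗ[F] F) (u v : Fin m → K) :
    descForm hF m τ u v = τ (Cfsg.hermForm m K q u v) := rfl

theorem herm_pow (hF : Fintype.card F = q) (hK : Fintype.card K = q ^ 2) {m : ℕ} (u v : Fin m → K) :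
    Cfsg.hermForm m K q u v ^ q = Cfsg.hermForm m K q v u := by
  classical
  let φ : K →+ K := AddMonoidHom.mk' (fun x => x ^ q) (add_pow_q hF)
  show φ (∑ i, u i * v i ^ q) = _
  rw [map_sum]
  exact Finset.sum_congr rfl fun i _ => by
    show (u i * v i ^ q) ^ q = v i * u i ^ q
    rw [mul_pow, pow_q_pow_q hK, mul_comm]

theorem herm_self_mem (hF : Fintype.card F = q) (hK : Fintype.card K = q ^ 2) {m : ℕ} (u : Fin m → K) :
    Cfsg.hermForm m K q u u ∈ Set.range (algebraMap F K) :=
  mem_range_of_fixed hF (herm_pow hF hK u u)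

theorem herm_single {m : ℕ} [DecidableEq (Fin m)] (hq : q ≠ 0) (u : Fin m → K) (i : Fin m) (c : K) :
    Cfsg.hermForm m K q u (Pi.single i c) = u i * c ^ q := by
  rw [Cfsg.hermForm, Finset.sum_eq_single i (fun j _ hj => by rw [Pi.single_eq_of_ne hj, zero_pow hq, mul_zero])
    (by simp), Pi.single_eq_same]

theorem descForm_separating (hF : Fintype.card F = q) (hK : Fintype.card K = q ^ 2) (m : ℕ) {τ : K →ₗ[F] F}
    (hτ : τ ≠ 0) (u : Fin m → K) (hu : ∀ v, descForm hF m τ u v = 0) : u = 0 := by
  funext i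
  by_contra hi
  apply hτ
  refine LinearMap.ext fun x => ?_
  have h := hu (Pi.single i (((u i)⁻¹ * x) ^ q))
  rw [descForm_apply, herm_single (hF ▸ Fintype.card_ne_zero), pow_q_pow_q hK, ← mul_assoc,
    mul_inv_cancel₀ hi, one_mul] at h
  exact h

/-- The trace form of the Hermitian form. -/
noncomputable def descQuad (hF : Fintype.card F = q) (m : ℕ) (τ : K →ₗ[F] F) : QuadraticForm F (Fin m → K) :=
  (descForm hF m τ).toQuadraticMap

theorem descQuad_nondeg (hF : Fintype.card F = q) (hK : Fintype.card K = q ^ 2) (m : ℕ) {τ : K →ₗ[F] F}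
    (hτ : ∀ a, τ (algebraMap F K a) = a) : (QuadraticMap.polarBilin (descQuad hF m τ)).Nondegenerate := by
  classical
  refine nondegenerate_of_left fun u hu => funext fun i => ?_
  by_contra hi
  have hzero : ∀ c, u i * c ^ q + c * u i ^ q = 0 := by
    intro c
    obtain ⟨a, ha⟩ : u i * c ^ q + c * u i ^ q ∈ Set.range (algebraMap F K) := mem_range_of_fixed hF (by
      rw [add_pow_q hF, mul_pow, mul_pow, pow_q_pow_q hK, pow_q_pow_q hK]; ring)
    have h := hu (Pi.single i c)
    rw [descQuad, LinearMap.BilinMap.polar_toQuadraticMap, descForm_apply, descForm_apply,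
      herm_single (hF ▸ Fintype.card_ne_zero)] at h
    have hs : Cfsg.hermForm m K q (Pi.single i c) u = c * u i ^ q := by
      rw [Cfsg.hermForm, Finset.sum_eq_single i (fun j _ hj => by rw [Pi.single_eq_of_ne hj, zero_mul]) (by simp),
        Pi.single_eq_same]
    rw [hs, ← map_add, ← ha, hτ] at h
    rw [← ha, h, map_zero]
  have hd : ∀ d : K, d ^ q + d = 0 := fun d => by
    have h := hzero (u i * d)
    have : u i * u i ^ q * (d ^ q + d) = 0 := by rw [← h]; ring
    exact (mul_eq_zero.1 this).resolve_left (mul_ne_zero hi (pow_ne_zero _ hi))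
  have h2 : (2 : K) = 0 := by
    have h := hd 1
    rw [one_pow] at h
    linear_combination h
  have hall : ∀ d : K, d ∈ Set.range (algebraMap F K) := fun d => mem_range_of_fixed hF (by
    linear_combination hd d - d * h2)
  have := Fintype.card_le_of_surjective (algebraMap F K) hall
  rw [hF, hK, pow_two] at this
  have h1 : 1 < q := hF ▸ Fintype.one_lt_card
  have := Nat.mul_le_mul h1 (le_refl q)
  omega

/-- `GU` as linear maps over the subfield. -/
noncomputable def guLin (m : ℕ) : Matrix.GeneralLinearGroup (Fin m) K →* ((Fin m → K) ≃ₗ[F] (Fin m → K)) where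
  toFun g := (LinearMap.GeneralLinearGroup.generalLinearEquiv K (Fin m → K)
    (Matrix.GeneralLinearGroup.toLin g)).restrictScalars F
  map_one' := by
    refine LinearEquiv.ext fun v => ?_
    simp
  map_mul' g h := by
    refine LinearEquiv.ext fun v => ?_
    simp [LinearMap.GeneralLinearGroup.generalLinearEquiv]

theorem guLin_apply (m : ℕ) (g : Matrix.GeneralLinearGroup (Fin m) K) (v : Fin m → K) :
    guLin (F := F) m g v = (g : Matrix (Fin m) (Fin m) K) *ᵥ v := by
  simp [guLin, LinearMap.GeneralLinearGroup.generalLinearEquiv]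

theorem guLin_injective (m : ℕ) : Function.Injective (guLin (F := F) (K := K) m) := fun g h e =>
  Units.ext (Matrix.ext_of_mulVec_single fun i => by rw [← guLin_apply (F := F), ← guLin_apply (F := F), e])

theorem guLin_herm (m : ℕ) (g : ↥(Cfsg.GU m K q)) (u v : Fin m → K) :
    Cfsg.hermForm m K q (guLin (F := F) m g.1 u) (guLin (F := F) m g.1 v) = Cfsg.hermForm m K q u v := by
  rw [guLin_apply, guLin_apply]; exact g.2 u v

/-- Transport a faithful isometric action to a matrix isometry group. -/
theorem embed_isometryGroup {F : Type*} [Field F] {V : Type*} [AddCommGroup V] [Module F V] {G : Type*} [Group G]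
    {ι : Type} [Fintype ι] [DecidableEq ι] (Q : QuadraticForm F V) (R : QuadraticForm F (ι → F))
    (Qf : (ι → F) → F) (hQf : ∀ v, Qf v = R v) (e : (ι → F) ≃ₗ[F] V) (he : ∀ v, Q (e v) = R v)
    (ρ : G →* (V ≃ₗ[F] V)) (hρ : Function.Injective ρ) (hQ : ∀ g v, Q (ρ g v) = Q v) :
    ∃ φ : G →* ↥(Cfsg.isometryGroup F Qf), Function.Injective φ := by
  let ψ : G →* ↥(orthGroup R) :=
    { toFun := fun g => ⟨e.trans ((ρ g).trans e.symm), fun v => by
        show R (e.symm (ρ g (e v))) = R v
        rw [← he, LinearEquiv.apply_symm_apply, hQ, he]⟩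
      map_one' := Subtype.ext (LinearEquiv.ext fun v => by
        show e.symm (ρ 1 (e v)) = v
        rw [map_one]; exact e.symm_apply_apply v)
      map_mul' := fun g h => Subtype.ext (LinearEquiv.ext fun v => by
        show e.symm (ρ (g * h) (e v)) = e.symm (ρ g (e (e.symm (ρ h (e v)))))
        rw [LinearEquiv.apply_symm_apply, map_mul]; rfl) }
  refine ⟨(toOrth R hQf).symm.toMonoidHom.comp ψ, (toOrth R hQf).symm.injective.comp fun g h e' => hρ ?_⟩
  refine LinearEquiv.ext fun v => ?_
  have := LinearEquiv.congr_fun (congrArg Subtype.val e') (e.symm v)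
  change e.symm (ρ g (e (e.symm v))) = e.symm (ρ h (e (e.symm v))) at this
  rw [LinearEquiv.apply_symm_apply] at this
  exact e.symm.injective this

section Types

variable {F : Type*} [Field F] [Fintype F] {V : Type*} [AddCommGroup V] [Module F V] [FiniteDimensional F V]
  {Q : QuadraticForm F V}

theorem iso_plus_of_singular (hQ : (QuadraticMap.polarBilin Q).Nondegenerate) {m : ℕ} (hV : finrank F V = 2 * m)
    (U : Submodule F V) (hU : ∀ u ∈ U, Q u = 0) (hUm : m ≤ finrank F U) :
    ∃ e : (Fin m ⊕ Fin m → F) ≃ₗ[F] V, ∀ v, Q (e v) = plusForm F m v := by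
  rcases classify_even hQ hV with h | ⟨hm, e, ζ, hζ, he⟩
  · exact h
  exfalso
  have := minus_singular_finrank_le (anisotropic_of_no_root hζ) (U.map (e.symm : V →ₗ[F] _)) (by
    rintro _ ⟨u, hu, rfl⟩
    show minusForm F (m - 1) 1 ζ (e.symm u) = 0
    rw [← he, LinearEquiv.apply_symm_apply]; exact hU u hu)
  rw [LinearEquiv.finrank_map_eq] at this
  omega

theorem exists_plus_singular (m : ℕ) : ∃ U : Submodule F (Fin m ⊕ Fin m → F),
    (∀ u ∈ U, plusForm F m u = 0) ∧ finrank F U = m := by
  let s : (Fin m → F) →ₗ[F] (Fin m ⊕ Fin m → F) :=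
    LinearMap.pi (Sum.elim (fun i => LinearMap.proj i) (fun _ => 0))
  have hs : Function.Injective s := fun x y h => funext fun i => congrFun h (Sum.inl i)
  refine ⟨LinearMap.range s, ?_, by rw [LinearMap.finrank_range_of_inj hs, finrank_fin_fun]⟩
  rintro _ ⟨x, rfl⟩
  rw [← plusForm_apply]
  simp [Cfsg.quadFormPlus, s]

/-- The minus type is one type. -/
theorem minusForm_iso (k : ℕ) (a b : F)
    (hab : ∀ z₁ z₂ : F, z₁ ^ 2 + a * z₁ * z₂ + b * z₂ ^ 2 = 0 → z₁ = 0 ∧ z₂ = 0) {ζ : F}
    (hζ : ∀ t : F, t ^ 2 + t + ζ ≠ 0) :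
    ∃ e : ((Fin k ⊕ Fin k) ⊕ Fin 2 → F) ≃ₗ[F] ((Fin k ⊕ Fin k) ⊕ Fin 2 → F),
      ∀ v, minusForm F k 1 ζ (e v) = minusForm F k a b v := by
  have hfin : finrank F ((Fin k ⊕ Fin k) ⊕ Fin 2 → F) = 2 * (k + 1) := by
    rw [finrank_fintype_fun_eq_card, Fintype.card_sum, Fintype.card_sum, Fintype.card_fin, Fintype.card_fin]
    omega
  rcases classify_even (minusForm_nondeg k a b hab) hfin with ⟨e, he⟩ | ⟨-, e, ζ', hζ', he⟩
  · exfalso
    obtain ⟨U, hU, hUm⟩ := exists_plus_singular (F := F) (k + 1)
    have := minus_singular_finrank_le hab (U.map (e : _ →ₗ[F] ((Fin k ⊕ Fin k) ⊕ Fin 2 → F))) (by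
      rintro _ ⟨u, hu, rfl⟩
      show minusForm F k a b (e u) = 0
      rw [he]; exact hU u hu)
    rw [LinearEquiv.finrank_map_eq, hUm] at this
    omega
  · obtain ⟨σ, hσ⟩ := exists_minus_iso (m := k) hζ hζ'
    exact ⟨e.symm.trans σ, fun v => by
      show minusForm F k 1 ζ (σ (e.symm v)) = _
      rw [hσ]
      exact (he (e.symm v)).symm.trans (congrArg _ (e.apply_symm_apply v))⟩

end Types

/-- Two quadratic forms agreeing on the standard basis and its pairs are equal. -/
theorem quad_ext {K : Type*} [Field K] {ι : Type*} [Fintype ι] [DecidableEq ι] (P R : QuadraticForm K (ι → K))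
    (h1 : ∀ i, P (Pi.single i 1) = R (Pi.single i 1))
    (h2 : ∀ i j, polar P (Pi.single i 1) (Pi.single j 1) = polar R (Pi.single i 1) (Pi.single j 1))
    (v : ι → K) : P v = R v := by
  have hb : QuadraticMap.polarBilin P = QuadraticMap.polarBilin R :=
    LinearMap.ext_basis (Pi.basisFun K ι) (Pi.basisFun K ι) fun i j => by
      rw [Pi.basisFun_apply, Pi.basisFun_apply]; exact h2 i j
  rw [← Finset.univ_sum_single v]
  generalize (Finset.univ : Finset ι) = s
  induction s using Finset.induction_on with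
  | empty => simp
  | insert a s ha ih =>
    have hp := LinearMap.congr_fun (LinearMap.congr_fun hb (Pi.single a (v a))) (∑ i ∈ s, Pi.single i (v i))
    simp only [QuadraticMap.polarBilin_apply_apply, polar] at hp
    have hsm : (Pi.single a (v a) : ι → K) = v a • Pi.single a 1 := by
      rw [← Pi.single_smul', smul_eq_mul, mul_one]
    have ha' : P (Pi.single a (v a)) = R (Pi.single a (v a)) := by
      rw [hsm, QuadraticMap.map_smul, QuadraticMap.map_smul, h1]
    rw [Finset.sum_insert ha]
    linear_combination hp + ha' + ih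

end CfsgLib.KnownC.FieldExt
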