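import Cfsg.Agent.Lib.KnownC.POmegaStd
import Cfsg.Agent.Lib.Orth.InvolSim

set_option autoImplicit false
set_option linter.unusedSectionVars false

/-! Classes of involutory graph automorphisms. -/

namespace CfsgLib.KnownC.POmegaAut

open CfsgLib.Orth
open scoped Matrix

universe u

/-- The number of `K`-classes in an `H`-class. -/
theorem splitClassCount_eq {X : Type*} [Group X] (H K : Subgroup X) [K.Normal] (hKH : K ≤ H) (x : X) :
    Cfsg.splitClassCount H K x = (K ⊔ (H ⊓ Subgroup.centralizer {x})).relIndex H := by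
  set C := H ⊓ Subgroup.centralizer ({x} : Set X)
  set J := K ⊔ C
  set R := fun y z : {y : X // Cfsg.IsConjUnder H x y} => Cfsg.IsConjUnder K y.1 z.1
  have heq : Equivalence R := by
    refine ⟨fun y => ⟨1, K.one_mem, by simp⟩, fun {y z} ⟨k, hk, e⟩ => ⟨k⁻¹, inv_mem hk, ?_⟩,
      fun {y z w} ⟨k, hk, e⟩ ⟨l, hl, e'⟩ => ⟨l * k, mul_mem hl hk, ?_⟩⟩
    · rw [e]; group
    · rw [e', e]; group
  let f : H → {y : X // Cfsg.IsConjUnder H x y} := fun h => ⟨h.1 * x * h.1⁻¹, h.1, h.2, rfl⟩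
  have hiff : ∀ a b : H, R (f a) (f b) ↔ a.1⁻¹ * b.1 ∈ J := by
    intro a b
    constructor
    · rintro ⟨k, hk, e⟩
      have e' : b.1 * x * b.1⁻¹ = k * (a.1 * x * a.1⁻¹) * k⁻¹ := e
      have hH : a.1⁻¹ * k⁻¹ * b.1 ∈ H := mul_mem (mul_mem (inv_mem a.2) (inv_mem (hKH hk))) b.2
      have hc : a.1⁻¹ * k⁻¹ * b.1 ∈ C := by
        refine ⟨hH, Subgroup.mem_centralizer_singleton_iff.2 ?_⟩
        calc a.1⁻¹ * k⁻¹ * b.1 * x = a.1⁻¹ * k⁻¹ * (b.1 * x * b.1⁻¹) * b.1 := by group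
          _ = a.1⁻¹ * k⁻¹ * (k * (a.1 * x * a.1⁻¹) * k⁻¹) * b.1 := by rw [e']
          _ = x * (a.1⁻¹ * k⁻¹ * b.1) := by group
      have : a.1⁻¹ * b.1 = (a.1⁻¹ * k * a.1) * (a.1⁻¹ * k⁻¹ * b.1) := by group
      rw [this]
      exact mul_mem (Subgroup.mem_sup_left (Subgroup.Normal.conj_mem' inferInstance k hk a.1)) (Subgroup.mem_sup_right hc)
    · intro h
      obtain ⟨k, hk, c, hc, e⟩ := Subgroup.mem_sup_of_normal_left.1 h
      refine ⟨a.1 * k * a.1⁻¹, Subgroup.Normal.conj_mem inferInstance k hk a.1, ?_⟩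
      show b.1 * x * b.1⁻¹ = _
      have hb : b.1 = a.1 * k * c := by rw [mul_assoc, e, mul_inv_cancel_left]
      rw [hb, show (f a).1 = a.1 * x * a.1⁻¹ from rfl]
      have hcx : c * x = x * c := Subgroup.mem_centralizer_singleton_iff.1 hc.2
      calc a.1 * k * c * x * (a.1 * k * c)⁻¹ = a.1 * k * (c * x) * (a.1 * k * c)⁻¹ := by group
        _ = a.1 * k * (x * c) * (a.1 * k * c)⁻¹ := by rw [hcx]
        _ = _ := by group
  let F₀ : (H ⧸ J.subgroupOf H) → Quot R := Quotient.lift (fun h => Quot.mk R (f h)) fun a b hab => by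
    refine Quot.sound ((hiff a b).2 ?_)
    exact Subgroup.mem_subgroupOf.1 (QuotientGroup.leftRel_apply.1 hab)
  have hF : Function.Bijective F₀ := by
    constructor
    · intro a b
      induction a using QuotientGroup.induction_on with
      | _ a =>
        induction b using QuotientGroup.induction_on with
        | _ b =>
          intro e
          exact QuotientGroup.eq.2 (Subgroup.mem_subgroupOf.2 ((hiff a b).1 ((Quot.eq.1 e).rec
            (fun _ _ h => h) (fun _ => heq.refl _) (fun _ _ _ h => heq.symm h) (fun _ _ _ _ _ h h' => heq.trans h h'))))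
    · intro y
      induction y using Quot.ind with
      | _ y =>
        obtain ⟨y, h, hh, rfl⟩ := y
        exact ⟨QuotientGroup.mk ⟨h, hh⟩, rfl⟩
  rw [Cfsg.splitClassCount, ← Nat.card_congr (Equiv.ofBijective F₀ hF)]
  rfl

variable {F : Type u} [Field F] [Fintype F] {ι : Type} [Fintype ι] [DecidableEq ι] {Qf : (ι → F) → F}
  {Q : QuadraticForm F (ι → F)} {n : ℕ} (D : Setup Qf Q n)

namespace Setup

include D

theorem omega_le_even : omegaSub Qf ≤ D.evenSub := fun g hg => D.mem_evenSub.2 (by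
  have h := D.N_le_chi (Subgroup.mem_sup_left hg)
  rw [MonoidHom.mem_ker] at h
  rw [h]; rfl)

theorem relIndex_of_exists {A : Type*} [Group A] {I : Subgroup (MulAut (Cfsg.POmega F Qf))}
    (h : ∃ φ : ↥I →* A, Function.Surjective φ ∧ φ.ker = (Cfsg.Inn (Cfsg.POmega F Qf)).subgroupOf I) :
    (Cfsg.Inn (Cfsg.POmega F Qf)).relIndex I = Nat.card A := by
  obtain ⟨φ, hs, hk⟩ := h
  rw [Subgroup.relIndex, ← hk, Subgroup.index_ker, MonoidHom.range_eq_top.2 hs, Subgroup.card_top]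

theorem class_count (hn : 3 ≤ n) (hε : D.eps D.s = 1 ∨ D.eps D.s = -1) (g : GS Qf) (hg : g ∉ D.evenSub)
    (hg2 : g * g ∈ scalars Qf) :
    (Cfsg.splitClassCount (D.evenSub.map (Φ Qf)) (Cfsg.Inn (Cfsg.POmega F Qf)) (Φ Qf g) = 1 ∨
      Cfsg.splitClassCount (D.evenSub.map (Φ Qf)) (Cfsg.Inn (Cfsg.POmega F Qf)) (Φ Qf g) = 2) ∧
    (D.negOne ∈ commutator (orthGroup Q) →
      Cfsg.splitClassCount (D.evenSub.map (Φ Qf)) (Cfsg.Inn (Cfsg.POmega F Qf)) (Φ Qf g) = 2) := by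
  classical
  haveI := inn_normal (Cfsg.POmega F Qf)
  set I := D.evenSub.map (Φ Qf) with hI
  set J := Cfsg.Inn (Cfsg.POmega F Qf) ⊔ (I ⊓ Subgroup.centralizer {Φ Qf g}) with hJ
  have hKI : Cfsg.Inn (Cfsg.POmega F Qf) ≤ I := by rw [inn_eq]; exact Subgroup.map_mono D.omega_le_even
  rw [splitClassCount_eq I _ hKI]
  have hmul := Subgroup.relIndex_mul_relIndex (Cfsg.Inn (Cfsg.POmega F Qf)) J I le_sup_left
    (sup_le hKI inf_le_left)
  by_cases hN : D.negOne ∈ commutator (orthGroup Q)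
  swap
  · rw [relIndex_of_exists D (D.inndiag_two hN), Nat.card_eq_fintype_card, Fintype.card_multiplicative,
      ZMod.card] at hmul
    refine ⟨?_, fun h => absurd h hN⟩
    have := (Nat.dvd_prime Nat.prime_two).1 (Dvd.intro_left _ hmul)
    exact this
  have h4 : (Cfsg.Inn (Cfsg.POmega F Qf)).relIndex I = 4 := by
    rcases hε with h | h
    · rw [relIndex_of_exists D (D.inndiag_klein hN h), Nat.card_eq_fintype_card, Fintype.card_multiplicative,
        Fintype.card_prod, ZMod.card]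
    · rw [relIndex_of_exists D (D.inndiag_four hN h), Nat.card_eq_fintype_card, Fintype.card_multiplicative,
        ZMod.card]
  rw [h4] at hmul
  -- an element of the central class centralising `g`
  obtain ⟨c, hc⟩ := hg2
  obtain ⟨a, b, ha, hb, hab, hconj⟩ := exists_commuting_nonsquare D.hQ D.h2
    (by rw [Module.finrank_fintype_fun_eq_card, D.hcard]; omega) (D.mult_ne g) (D.isSimil g) (c := c)
    (fun v => by
      have : lin Qf g (lin Qf g v) = lin Qf (g * g) v := by rw [map_mul]; rfl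
      rw [this, lin_apply, hc, Matrix.smul_mulVec, Matrix.one_mulVec])
  set h := refl Q a * refl Q b with hh
  have hdet : LinearMap.det (h.1 : (ι → F) →ₗ[F] (ι → F)) = 1 := by
    show LinearMap.det (((refl Q a).1 : (ι → F) →ₗ[F] (ι → F)) * ((refl Q b).1 : (ι → F) →ₗ[F] (ι → F))) = 1
    rw [map_mul, det_refl Q ha, det_refl Q hb]
    ring
  have hnot : h ∉ commutator (orthGroup Q) := fun h' => hab (by
    have := (prod_refl_mem_commutator_iff D.hQ D.h2 [a, b] (by simp [ha, hb])).1 (by simpa [hh] using h')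
    simpa using this.2)
  have hnotN : D.iso h ∉ D.N := fun h' => by
    rcases D.iso_mem_N.1 h' with h1 | h1
    · exact hnot h1
    · exact hnot (by simpa using mul_mem (inv_mem hN) h1)
  have hcomm : g * D.iso h = D.iso h * g := by
    rw [← mul_inv_eq_iff_eq_mul]
    apply lin_injective Qf
    rw [map_mul, map_mul, map_inv, D.lin_iso]
    exact congrArg Subtype.val hconj
  have hhI : Φ Qf (D.iso h) ∈ I := ⟨_, (MonoidHom.mem_ker.2 (by rw [D.eps_iso]; exact hdet) : D.iso h ∈ D.evenSub), rfl⟩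
  have hhJ : Φ Qf (D.iso h) ∈ J := Subgroup.mem_sup_right ⟨hhI, Subgroup.mem_centralizer_singleton_iff.2 (by
    rw [← map_mul, ← map_mul, hcomm])⟩
  have hne1 : (Cfsg.Inn (Cfsg.POmega F Qf)).relIndex J ≠ 1 := fun h1 => hnotN (by
    rw [D.N_eq]; exact Subgroup.mem_comap.2 (Subgroup.relIndex_eq_one.1 h1 hhJ))
  have hJI : J.relIndex I ≠ 1 := by
    intro h1
    have hIJ := Subgroup.relIndex_eq_one.1 h1
    obtain ⟨ψ, hψ, hk, he⟩ := D.exists_dihedral hN
    set Z₀ := (Subgroup.centralizer {ψ g}).comap ψ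
    have hle : J ≤ Z₀.map (Φ Qf) := by
      refine sup_le ?_ ?_
      · rw [inn_eq]
        refine Subgroup.map_mono fun t ht => ?_
        show ψ t ∈ Subgroup.centralizer _
        have : t ∈ ψ.ker := hk ▸ Subgroup.mem_sup_left ht
        rw [MonoidHom.mem_ker.1 this]
        exact one_mem _
      · rintro _ ⟨⟨t, -, rfl⟩, ht⟩
        refine ⟨t, Subgroup.mem_centralizer_singleton_iff.2 ?_, rfl⟩
        have h' := Subgroup.mem_centralizer_singleton_iff.1 ht
        rw [← map_mul, ← map_mul] at h'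
        have : (t * g) * (g * t)⁻¹ ∈ ψ.ker := by
          rw [hk]
          refine Subgroup.mem_sup_right ?_
          rw [← D.ker_Φ, MonoidHom.mem_ker, map_mul, map_inv, h', mul_inv_cancel]
        rw [MonoidHom.mem_ker, map_mul, map_inv, mul_inv_eq_one, map_mul, map_mul] at this
        exact this
    have key : ∀ (b : ZMod 2) (y : DihedralGroup 4), (e4 b y).2 ≠ 0 →
        ∃ x, (e4 b x).2 = 0 ∧ x * y ≠ y * x := by
      intro b y
      rcases y with i | i <;> revert i b <;> decide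
    obtain ⟨x, hx, hxy⟩ := key _ (ψ g) (fun h0 => hg (D.mem_evenSub.2 (by rw [he]; exact h0)))
    obtain ⟨t, rfl⟩ := hψ x
    have ht : t ∈ D.evenSub := D.mem_evenSub.2 (by rw [he]; exact hx)
    have : t ∈ (Z₀.map (Φ Qf)).comap (Φ Qf) := hle (hIJ ⟨t, ht, rfl⟩)
    rw [Subgroup.comap_map_eq, sup_eq_left.2] at this
    · exact hxy (Subgroup.mem_centralizer_singleton_iff.1 this)
    · intro z hz
      show ψ z ∈ Subgroup.centralizer _
      have : z ∈ ψ.ker := hk ▸ Subgroup.mem_sup_right (D.ker_Φ ▸ hz)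
      rw [MonoidHom.mem_ker.1 this]
      exact one_mem _
  have hb2 : J.relIndex I = 2 := by
    have hd1 : (Cfsg.Inn (Cfsg.POmega F Qf)).relIndex J ∣ 4 := Dvd.intro _ hmul
    have hd2 : J.relIndex I ∣ 4 := Dvd.intro_left _ hmul
    have l1 := Nat.le_of_dvd (by norm_num) hd1
    have l2 := Nat.le_of_dvd (by norm_num) hd2
    have : (Cfsg.Inn (Cfsg.POmega F Qf)).relIndex J ≠ 0 := fun h0 => by rw [h0, zero_mul] at hmul; omega
    have : J.relIndex I ≠ 0 := fun h0 => by rw [h0, mul_zero] at hmul; omega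
    interval_cases h1 : (Cfsg.Inn (Cfsg.POmega F Qf)).relIndex J <;> omega
  exact ⟨Or.inr hb2, fun _ => hb2⟩

end Setup

section Semilinear

variable (Qf)

/-- `β` is induced by a semisimilarity. -/
def IsSemiInduced (g : GL ι F) (σ : F ≃+* F) (β : MulAut (Cfsg.POmega F Qf)) : Prop :=
  Cfsg.IsSemisimilarityPair Qf g σ ∧ Cfsg.IsInducedBySemilinearPOmega Qf g σ β

theorem map_mulVec' (σ : F ≃+* F) (M : Matrix ι ι F) (v : ι → F) :
    M.map σ *ᵥ (fun i => σ (v i)) = fun i => σ ((M *ᵥ v) i) := by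
  funext i
  simp [Matrix.mulVec, dotProduct, map_sum]

theorem exists_semi_conj {g : GL ι F} {σ : F ≃+* F} (hg : Cfsg.IsSemisimilarityPair Qf g σ)
    (s : ↥(Cfsg.Omega F Qf)) : ∃ s' : ↥(Cfsg.Omega F Qf), ((s'.1 : GL ι F) : Matrix ι ι F) =
      (g : Matrix ι ι F) * ((s.1 : GL ι F) : Matrix ι ι F).map σ * ((g⁻¹ : GL ι F) : Matrix ι ι F) := by
  obtain ⟨c, hc⟩ := hg
  have hmem : ∀ h : ↥(Cfsg.isometryGroup F Qf),
      g * Matrix.GeneralLinearGroup.map σ.toRingHom h.1 * g⁻¹ ∈ Cfsg.isometryGroup F Qf := by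
    intro h u _
    show Qf (((g * Matrix.GeneralLinearGroup.map σ.toRingHom h.1 * g⁻¹ : GL ι F) : Matrix ι ι F) *ᵥ u) = Qf u
    obtain ⟨w, hw⟩ : ∃ w : ι → F, (fun i => σ (w i)) = ((g⁻¹ : GL ι F) : Matrix ι ι F) *ᵥ u :=
      ⟨fun i => σ.symm ((((g⁻¹ : GL ι F) : Matrix ι ι F) *ᵥ u) i), funext fun i => σ.apply_symm_apply _⟩
    rw [Units.val_mul, Units.val_mul, ← Matrix.mulVec_mulVec, ← Matrix.mulVec_mulVec, ← hw]
    have e : ((Matrix.GeneralLinearGroup.map σ.toRingHom h.1 : GL ι F) : Matrix ι ι F) *ᵥ (fun i => σ (w i)) =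
        fun i => σ (((h.1 : Matrix ι ι F) *ᵥ w) i) := map_mulVec' σ _ w
    have hh := h.2 w w
    change Qf ((h.1 : Matrix ι ι F) *ᵥ w) = Qf w at hh
    rw [e, hc, hh, ← hc, hw, mulVec_cancel]
  let φ : ↥(Cfsg.isometryGroup F Qf) →* ↥(Cfsg.isometryGroup F Qf) :=
    { toFun := fun h => ⟨_, hmem h⟩
      map_one' := Subtype.ext (by simp)
      map_mul' := fun a b => Subtype.ext (by simp [map_mul, mul_assoc]) }
  refine ⟨⟨φ s.1, ?_⟩, ?_⟩
  · have h := Subgroup.map_commutator (⊤ : Subgroup ↥(Cfsg.isometryGroup F Qf)) ⊤ φ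
    have h' : φ s.1 ∈ ⁅(⊤ : Subgroup ↥(Cfsg.isometryGroup F Qf)).map φ, (⊤ : Subgroup _).map φ⁆ :=
      h ▸ Subgroup.mem_map_of_mem φ s.2
    exact Subgroup.commutator_mono le_top le_top h'
  · show ((g * Matrix.GeneralLinearGroup.map σ.toRingHom s.1.1 * g⁻¹ : GL ι F) : Matrix ι ι F) = _
    rw [Units.val_mul, Units.val_mul]
    rfl

theorem semi_mul {g h : GL ι F} {σ τ : F ≃+* F} {β₁ β₂ : MulAut (Cfsg.POmega F Qf)}
    (h₁ : IsSemiInduced Qf g σ β₁) (h₂ : IsSemiInduced Qf h τ β₂) :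
    IsSemiInduced Qf (g * Matrix.GeneralLinearGroup.map σ.toRingHom h) (τ.trans σ) (β₁ * β₂) := by
  obtain ⟨c, hc⟩ := h₁.1
  obtain ⟨d, hd⟩ := h₂.1
  refine ⟨⟨c * Units.mk0 (σ d) ((map_ne_zero σ).2 d.ne_zero), fun v => ?_⟩, fun s s' hs' => ?_⟩
  · show Qf (((g * Matrix.GeneralLinearGroup.map σ.toRingHom h : GL ι F) : Matrix ι ι F) *ᵥ
      (fun i => σ (τ (v i)))) = _
    rw [Units.val_mul, ← Matrix.mulVec_mulVec,
      show ((Matrix.GeneralLinearGroup.map σ.toRingHom h : GL ι F) : Matrix ι ι F) *ᵥ (fun i => σ (τ (v i))) =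
        fun i => σ (((h : Matrix ι ι F) *ᵥ fun j => τ (v j)) i) from map_mulVec' σ _ _, hc, hd, map_mul]
    simp [mul_assoc]
  · obtain ⟨t, ht⟩ := exists_semi_conj Qf h₂.1 s
    obtain ⟨w, hw⟩ := exists_semi_conj Qf h₁.1 t
    show β₁ (β₂ (QuotientGroup.mk s)) = _
    rw [h₂.2 s t ht, h₁.2 t w hw]
    congr 1
    refine Subtype.ext (Subtype.ext (Units.ext ?_))
    rw [hw, ht, hs', Matrix.map_mul, Matrix.map_mul, Units.val_mul, mul_inv_rev, Units.val_mul, ← map_inv,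
      Matrix.map_map]
    simp only [mul_assoc]
    rfl

theorem gamma_mem {β : MulAut (Cfsg.POmega F Qf)} (hβ : β ∈ Cfsg.gammaPOmega F Qf) :
    ∃ g σ, IsSemiInduced Qf g σ β := by
  have h1 : ∃ g σ, IsSemiInduced Qf g σ 1 := by
    refine ⟨1, RingEquiv.refl F, ⟨1, fun v => by simp⟩, fun s s' hs' => ?_⟩
    show QuotientGroup.mk s = QuotientGroup.mk s'
    congr 1
    refine Subtype.ext (Subtype.ext (Units.ext ?_))
    rw [hs', inv_one, Units.val_one, one_mul, mul_one]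
    rfl
  have hpow : ∀ {β : MulAut (Cfsg.POmega F Qf)}, (∃ g σ, IsSemiInduced Qf g σ β) →
      ∀ k : ℕ, ∃ g σ, IsSemiInduced Qf g σ (β ^ k) := by
    intro β hb k
    induction k with
    | zero => rw [pow_zero]; exact h1
    | succ k ih =>
      obtain ⟨g, σ, hg⟩ := ih
      obtain ⟨h, τ, hh⟩ := hb
      rw [pow_succ]
      exact ⟨_, _, semi_mul Qf hg hh⟩
  induction hβ using Subgroup.closure_induction with
  | mem x hx => obtain ⟨g, σ, a, b⟩ := hx; exact ⟨g, σ, a, b⟩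
  | one => exact h1
  | mul x y _ _ hx hy =>
    obtain ⟨g, σ, hg⟩ := hx
    obtain ⟨h, τ, hh⟩ := hy
    exact ⟨_, _, semi_mul Qf hg hh⟩
  | inv x _ hx =>
    haveI : Finite (MulAut (Cfsg.POmega F Qf)) := Finite.of_injective _ DFunLike.coe_injective
    rw [inv_eq_of_mul_eq_one_right (b := x ^ (orderOf x - 1)) (by
      rw [← pow_succ', Nat.sub_add_cancel (orderOf_pos x), pow_orderOf_eq_one])]
    exact hpow hx _

end Semilinear

theorem fixed_isSquare {σ : F ≃+* F} (hσ : ∀ x, σ (σ x) = x) (hne : σ ≠ RingEquiv.refl F) (h2 : (2 : F) ≠ 0) :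
    (∀ x : F, σ x = x → IsSquare x) ∧ Fintype.card F % 4 = 1 := by
  classical
  haveI : Finite (F ≃+* F) := Finite.of_injective _ DFunLike.coe_injective
  have hord : orderOf σ = 2 := orderOf_eq_prime (p := 2) (by rw [pow_two]; exact RingEquiv.ext hσ) hne
  set Γ := Subgroup.zpowers σ with hΓ
  haveI : Fintype Γ := Fintype.ofFinite _
  set F₀ := FixedPoints.subfield Γ F
  haveI : Fintype F₀ := Fintype.ofFinite _
  have hrank : Module.finrank F₀ F = 2 := by
    rw [FixedPoints.finrank_eq_card Γ F, ← Nat.card_eq_fintype_card, Nat.card_zpowers, hord]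
  have hcard : Fintype.card F = Fintype.card F₀ ^ 2 := by
    rw [Module.card_eq_pow_finrank (K := F₀) (V := F), hrank]
  have hchar : ringChar F ≠ 2 := fun h => by
    haveI : CharP F 2 := ringChar.eq_iff.1 h
    exact h2 CharTwo.two_eq_zero
  have hodd := FiniteField.odd_card_of_char_ne_two hchar
  set q₀ := Fintype.card F₀
  have hodd2 : Odd (q₀ * q₀) := by rw [← pow_two, ← hcard]; exact Nat.odd_iff.2 hodd
  obtain ⟨j, hj⟩ : Odd q₀ := Nat.Odd.of_mul_left hodd2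
  have hsq : Fintype.card F = 4 * (j * (j + 1)) + 1 := by rw [hcard, hj]; ring
  refine ⟨fun x hx => ?_, by omega⟩
  by_cases hx0 : x = 0
  · rw [hx0]; exact IsSquare.zero
  have hmem : x ∈ F₀ := by
    rintro ⟨τ, hτ⟩
    show τ x = x
    exact (Subgroup.zpowers_le.2 (show σ ∈ MulAction.stabilizer (F ≃+* F) x from hx)) hτ
  have h1 : x ^ (q₀ - 1) = 1 := by
    have := FiniteField.pow_card_sub_one_eq_one (⟨x, hmem⟩ : F₀) (fun h => hx0 (congrArg Subtype.val h))
    exact congrArg Subtype.val this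
  rw [FiniteField.isSquare_iff hchar hx0]
  have hq : q₀ - 1 = 2 * j := by omega
  rw [show Fintype.card F / 2 = (q₀ - 1) * (j + 1) by
    rw [hsq, hq, show 4 * (j * (j + 1)) + 1 = 1 + 2 * (2 * (j * (j + 1))) by ring,
      Nat.add_mul_div_left _ _ (by norm_num : 0 < 2)]
    ring, pow_mul, h1, one_pow]

section Minus

variable (k : ℕ)

theorem det_gram_minus (a b : F) :
    (LinearMap.toMatrix₂' F (QuadraticMap.polarBilin (minusForm F k a b))).det =
      (-1) ^ (k + 1) * (a ^ 2 - 4 * b) := by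
  have h : LinearMap.toMatrix₂' F (QuadraticMap.polarBilin (minusForm F k a b)) =
      Matrix.fromBlocks (Matrix.fromBlocks 0 1 1 0) 0 0 !![2, a; a, 2 * b] := by
    ext i j
    rw [LinearMap.toMatrix₂'_apply, QuadraticMap.polarBilin_apply_apply]
    have hp := Discr.polar_minus (k := k) a b (Pi.single i 1) (Pi.single j 1)
    simp only [QuadraticMap.polar, minusForm_apply] at hp
    show QuadraticMap.polar _ _ _ = _
    rw [QuadraticMap.polar, hp, Matrix.mulVec_single, single_one_dotProduct]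
    simp
  rw [h, Matrix.det_fromBlocks_zero₁₂, Discr.det_hyp, Matrix.det_fin_two_of]
  ring

theorem minus_gamma (hodd : Odd (Fintype.card F)) (hk : 2 ≤ k) (a b : F)
    (hab : ∀ z₁ z₂ : F, z₁ ^ 2 + a * z₁ * z₂ + b * z₂ ^ 2 = 0 → z₁ = 0 ∧ z₂ = 0)
    (D : Setup (Cfsg.quadFormMinus k F a b) (minusForm F k a b) (k + 1))
    (γ : MulAut (Cfsg.POmega F (Cfsg.quadFormMinus k F a b))) (hγ : γ ∈ Cfsg.gammaPOmega F (Cfsg.quadFormMinus k F a b))
    (h2γ : γ * γ = 1) :
    ∃ g : GS (Cfsg.quadFormMinus k F a b), γ = Φ _ g ∧ g * g ∈ scalars _ := by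
  classical
  obtain ⟨g, σ, hg⟩ := gamma_mem _ hγ
  have h2 := two_ne_of_odd hodd
  suffices hσ : σ = RingEquiv.refl F by
    subst hσ
    obtain ⟨c, hc⟩ := hg.1
    let g' : GS (Cfsg.quadFormMinus k F a b) := ⟨g, c, fun v => hc v⟩
    have e : γ = Φ (Cfsg.quadFormMinus k F a b) g' := (induced_iff (Cfsg.quadFormMinus k F a b) g' γ).1 hg.2
    exact ⟨g', e, by rw [← D.ker_Φ, MonoidHom.mem_ker, map_mul, ← e, h2γ]⟩
  have hsq := semi_mul (Cfsg.quadFormMinus k F a b) hg hg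
  rw [h2γ] at hsq
  set G := g * Matrix.GeneralLinearGroup.map σ.toRingHom g with hG
  set ρ := σ.trans σ
  -- Siegel elements commute with `G` up to `ρ`
  have hcen : ∀ z : ↥(Cfsg.Omega F (Cfsg.quadFormMinus k F a b)), z ∈ Subgroup.center _ → ∃ c : F, c * c = 1 ∧
      ((z.1 : GL ((Fin k ⊕ Fin k) ⊕ Fin 2) F) : Matrix ((Fin k ⊕ Fin k) ⊕ Fin 2) ((Fin k ⊕ Fin k) ⊕ Fin 2) F) = c • 1 := by
    intro z hz
    have hmem : Subgroup.inclusion (isometry_le_GS (Cfsg.quadFormMinus k F a b)) z.1 ∈ (Φ (Cfsg.quadFormMinus k F a b)).ker := by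
      rw [MonoidHom.mem_ker]
      refine MulEquiv.ext fun x => ?_
      induction x using QuotientGroup.induction_on with
      | _ t =>
        rw [Φ_mk]
        refine congrArg (QuotientGroup.mk (s := Subgroup.center (Cfsg.Omega F (Cfsg.quadFormMinus k F a b)))) ?_
        refine Subtype.ext ?_
        show (z * t * z⁻¹ : ↥(Cfsg.Omega F (Cfsg.quadFormMinus k F a b))).1 = t.1
        rw [← Subgroup.mem_center_iff.1 hz t, mul_inv_cancel_right]
    rw [D.ker_Φ] at hmem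
    obtain ⟨c, hc⟩ := hmem
    refine ⟨c, ?_, hc⟩
    have h1 := (D.scalar_eq _ hc).1
    rw [← h1]
    exact D.mult_of _ fun v => by
      rw [lin_apply, one_mul, ← minusForm_apply, ← minusForm_apply]; exact z.1.2 v v
  let i₀ : Fin k := ⟨0, by omega⟩
  let i₁ : Fin k := ⟨1, by omega⟩
  have hi : i₀ ≠ i₁ := by simp [i₀, i₁]
  let E₀ : (Fin k ⊕ Fin k) ⊕ Fin 2 := Sum.inl (Sum.inl i₀)
  let E₁ : (Fin k ⊕ Fin k) ⊕ Fin 2 := Sum.inl (Sum.inl i₁)
  let G₀ : (Fin k ⊕ Fin k) ⊕ Fin 2 := Sum.inl (Sum.inr i₀)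
  let G₁ : (Fin k ⊕ Fin k) ⊕ Fin 2 := Sum.inl (Sum.inr i₁)
  let N : Matrix ((Fin k ⊕ Fin k) ⊕ Fin 2) ((Fin k ⊕ Fin k) ⊕ Fin 2) F :=
    Matrix.single E₁ G₀ 1 - Matrix.single E₀ G₁ 1
  have hN : ∀ v, N *ᵥ v = Pi.single E₁ (v G₀) - Pi.single E₀ (v G₁) := fun v => by
    simp [N, Matrix.sub_mulVec, Matrix.single_mulVec]
    rfl
  have hρN : N.map ρ = N := by
    ext i j
    simp [N, Matrix.single_apply, apply_ite ρ, map_sub]
  have hT : ∀ lam : F, ∃ S : orthGroup (minusForm F k a b), ∀ v, ((S * S) * (S * S)).1 v = v + lam • (N *ᵥ v) := by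
    intro lam
    obtain ⟨S, hS⟩ := exists_siegel D.hQ (d := (Pi.single E₀ 1 : _ → F)) (u := ((4 : F)⁻¹ * lam) • Pi.single E₁ 1)
      (by simp [← minusForm_apply, Cfsg.quadFormMinus, Pi.single_apply, E₀])
      (by simp [minusForm_polar, Pi.single_apply, E₀, E₁])
    refine ⟨S, fun v => ?_⟩
    have h4 : (4 : F) ≠ 0 := by
      rw [show (4 : F) = 2 * 2 by norm_num]; exact mul_ne_zero h2 h2
    have hd : ∀ w, QuadraticMap.polar (minusForm F k a b) (Pi.single E₀ 1) w = w G₀ := fun w => by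
      simp [minusForm_polar, Pi.single_apply, E₀, G₀]
    have hu : ∀ w, QuadraticMap.polar (minusForm F k a b) (Pi.single E₁ 1) w = w G₁ := fun w => by
      simp [minusForm_polar, Pi.single_apply, E₁, G₁]
    have hQu : minusForm F k a b (Pi.single E₁ 1) = 0 := by
      simp [← minusForm_apply, Cfsg.quadFormMinus, Pi.single_apply, E₁]
    have step : ∀ w, S.1 w = w + ((4 : F)⁻¹ * lam) • (N *ᵥ w) := fun w => by
      rw [hS, hd, polar_smul_l', hu, quad_smul', hQu, hN]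
      funext l
      simp [Pi.single_apply]
      split_ifs <;> ring
    have hNN : ∀ w, N *ᵥ (N *ᵥ w) = 0 := fun w => by
      rw [hN, hN]
      simp [Pi.single_apply, E₀, E₁, G₀, G₁]
    show S.1 (S.1 (S.1 (S.1 v))) = _
    simp only [step, Matrix.mulVec_add, Matrix.mulVec_smul, hNN, smul_zero, add_zero]
    match_scalars <;> field_simp <;> ring
  have hGN : ∀ lam : F, (G : Matrix ((Fin k ⊕ Fin k) ⊕ Fin 2) ((Fin k ⊕ Fin k) ⊕ Fin 2) F) * (1 + ρ lam • N) = (1 + lam • N) * (G : Matrix ((Fin k ⊕ Fin k) ⊕ Fin 2) ((Fin k ⊕ Fin k) ⊕ Fin 2) F) := by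
    intro lam
    obtain ⟨S, hS⟩ := hT lam
    have hSΩ : (toOrth (minusForm F k a b) (minusForm_apply k a b)).symm (S * S) ∈ Cfsg.Omega F (Cfsg.quadFormMinus k F a b) := by
      rw [mem_Omega_iff (minusForm F k a b) (minusForm_apply k a b), MulEquiv.apply_symm_apply]
      exact sq_mem_commutator D.hQ D.good S
    set s : ↥(Cfsg.Omega F (Cfsg.quadFormMinus k F a b)) := ⟨_, hSΩ⟩
    obtain ⟨t, ht⟩ := exists_semi_conj (Cfsg.quadFormMinus k F a b) hsq.1 s
    have he : (QuotientGroup.mk s : Cfsg.POmega F (Cfsg.quadFormMinus k F a b)) = QuotientGroup.mk t := by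
      have := hsq.2 s t ht
      exact this
    obtain ⟨c, hc2, hc⟩ := hcen _ (QuotientGroup.eq.1 he)
    set S₂ : Matrix ((Fin k ⊕ Fin k) ⊕ Fin 2) ((Fin k ⊕ Fin k) ⊕ Fin 2) F := ((s.1 : GL ((Fin k ⊕ Fin k) ⊕ Fin 2) F) : Matrix ((Fin k ⊕ Fin k) ⊕ Fin 2) ((Fin k ⊕ Fin k) ⊕ Fin 2) F) with hS₂
    have ht' : ((t.1 : GL ((Fin k ⊕ Fin k) ⊕ Fin 2) F) : Matrix ((Fin k ⊕ Fin k) ⊕ Fin 2) ((Fin k ⊕ Fin k) ⊕ Fin 2) F) = c • S₂ := by
      have e : t = s * (s⁻¹ * t) := by group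
      rw [e]
      show S₂ * (((s⁻¹ * t).1 : GL ((Fin k ⊕ Fin k) ⊕ Fin 2) F) : Matrix ((Fin k ⊕ Fin k) ⊕ Fin 2) ((Fin k ⊕ Fin k) ⊕ Fin 2) F) = _
      rw [hc, Matrix.mul_smul, mul_one]
    rw [ht'] at ht
    have hGS : (G : Matrix ((Fin k ⊕ Fin k) ⊕ Fin 2) ((Fin k ⊕ Fin k) ⊕ Fin 2) F) * S₂.map ρ = c • (S₂ * (G : Matrix ((Fin k ⊕ Fin k) ⊕ Fin 2) ((Fin k ⊕ Fin k) ⊕ Fin 2) F)) := by
      rw [← Matrix.smul_mul, ht, mul_assoc, ← Units.val_mul, inv_mul_cancel, Units.val_one, mul_one]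
    have hsqS : S₂ * S₂ = 1 + lam • N := by
      refine Matrix.ext_of_mulVec_single fun i => ?_
      rw [← Matrix.mulVec_mulVec, Matrix.add_mulVec, Matrix.one_mulVec, Matrix.smul_mulVec, ← hS]
      show matOf _ (S * S) *ᵥ (matOf _ (S * S) *ᵥ Pi.single i 1) = _
      rw [matOf_mulVec, matOf_mulVec]
      rfl
    have e : (1 + ρ lam • N : Matrix ((Fin k ⊕ Fin k) ⊕ Fin 2) ((Fin k ⊕ Fin k) ⊕ Fin 2) F) = (S₂ * S₂).map ρ := by
      rw [hsqS, Matrix.map_add ρ (map_add ρ), Matrix.map_one ρ (map_zero ρ) (map_one ρ)]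
      congr 1
      ext i j
      simp [map_mul]
      left
      exact (congrFun (congrFun hρN i) j).symm
    rw [e, Matrix.map_mul, ← mul_assoc, hGS, Matrix.smul_mul, mul_assoc, hGS, Matrix.mul_smul, smul_smul, hc2,
      one_smul, ← mul_assoc, hsqS]
  have hρ1 : ∀ x, ρ x = x := by
    intro x
    have h1 := hGN 1
    have hx := hGN x
    simp only [map_one, one_smul, mul_add, add_mul, mul_one, one_mul, add_right_inj] at h1
    simp only [mul_add, add_mul, mul_one, one_mul, add_right_inj, Matrix.mul_smul, Matrix.smul_mul, ← h1] at hx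
    have hGN0 : (G : Matrix ((Fin k ⊕ Fin k) ⊕ Fin 2) ((Fin k ⊕ Fin k) ⊕ Fin 2) F) * N ≠ 0 := fun h0 => by
      have : N = 0 := by
        rw [← one_mul N, ← Units.val_one, ← inv_mul_cancel G, Units.val_mul, mul_assoc, h0, mul_zero]
      have := congrFun (congrFun this E₁) G₀
      simp [N, Matrix.single_apply, E₀, E₁, G₀, G₁, hi] at this
    rw [← sub_eq_zero, ← sub_smul, smul_eq_zero] at hx
    exact sub_eq_zero.1 (hx.resolve_right hGN0)
  by_contra hne
  obtain ⟨hfix, h4⟩ := fixed_isSquare (σ := σ) hρ1 hne h2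
  obtain ⟨c, hc⟩ := hg.1
  -- the Gram determinant
  set M := LinearMap.toMatrix₂' F (QuadraticMap.polarBilin (minusForm F k a b)) with hM
  have hgram : (g : Matrix ((Fin k ⊕ Fin k) ⊕ Fin 2) ((Fin k ⊕ Fin k) ⊕ Fin 2) F)ᵀ * M * (g : Matrix ((Fin k ⊕ Fin k) ⊕ Fin 2) ((Fin k ⊕ Fin k) ⊕ Fin 2) F) = (c : F) • M.map σ := by
    rw [hM, ← LinearMap.toMatrix'_toLin' (g : Matrix ((Fin k ⊕ Fin k) ⊕ Fin 2) ((Fin k ⊕ Fin k) ⊕ Fin 2) F),
      ← LinearMap.toMatrix₂'_compl₁₂]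
    ext i j
    rw [Matrix.smul_apply, Matrix.map_apply, LinearMap.toMatrix₂'_apply, LinearMap.toMatrix₂'_apply]
    show QuadraticMap.polar (minusForm F k a b) ((g : Matrix ((Fin k ⊕ Fin k) ⊕ Fin 2) ((Fin k ⊕ Fin k) ⊕ Fin 2) F) *ᵥ Pi.single i 1) ((g : Matrix ((Fin k ⊕ Fin k) ⊕ Fin 2) ((Fin k ⊕ Fin k) ⊕ Fin 2) F) *ᵥ Pi.single j 1) =
      (c : F) * σ (QuadraticMap.polar (minusForm F k a b) (Pi.single i 1) (Pi.single j 1))
    have hfixs : ∀ w : (Fin k ⊕ Fin k) ⊕ Fin 2 → F, (∀ l, σ (w l) = w l) →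
        minusForm F k a b ((g : Matrix ((Fin k ⊕ Fin k) ⊕ Fin 2) ((Fin k ⊕ Fin k) ⊕ Fin 2) F) *ᵥ w) = c * σ (minusForm F k a b w) := by
      intro w hw
      have := hc w
      rw [show (fun i => σ (w i)) = w from funext hw] at this
      rw [← minusForm_apply, ← minusForm_apply]; exact this
    have hs : ∀ i l, σ ((Pi.single i 1 : (Fin k ⊕ Fin k) ⊕ Fin 2 → F) l) = (Pi.single i 1 : _ → F) l := fun i l => by
      simp [Pi.single_apply, apply_ite σ]
    simp only [QuadraticMap.polar, ← Matrix.mulVec_add]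
    rw [hfixs _ (fun l => by simp only [Pi.add_apply, map_add, hs]), hfixs _ (hs i), hfixs _ (hs j), map_sub, map_sub]
    ring
  have hd0 : a ^ 2 - 4 * b ≠ 0 := fun h => disc_nonsquare h2 a b hab (h ▸ IsSquare.zero)
  have hns : ¬ IsSquare M.det := by
    rw [hM, det_gram_minus]
    intro h
    apply disc_nonsquare h2 a b hab
    have hs1 : IsSquare ((-1 : F) ^ (k + 1)) := (neg_one_pow_square hodd _).2 (by omega)
    obtain ⟨x, hx⟩ := h
    obtain ⟨y, hy⟩ := hs1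
    have hy0 : y ≠ 0 := fun h0 => by
      rw [h0, mul_zero] at hy; exact pow_ne_zero _ (neg_ne_zero.2 one_ne_zero) hy
    exact ⟨x / y, by rw [hy] at hx; field_simp; linear_combination hx⟩
  have hcard : Fintype.card ((Fin k ⊕ Fin k) ⊕ Fin 2) = 2 * (k + 1) := by
    rw [Fintype.card_sum, Fintype.card_sum, Fintype.card_fin, Fintype.card_fin]; omega
  set dg := (g : Matrix ((Fin k ⊕ Fin k) ⊕ Fin 2) ((Fin k ⊕ Fin k) ⊕ Fin 2) F).det with hdg
  set e := dg / (c : F) ^ (k + 1) with he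
  have he2 : e ^ 2 * M.det = σ M.det := by
    have h := congrArg Matrix.det hgram
    rw [Matrix.det_mul, Matrix.det_mul, Matrix.det_transpose, Matrix.det_smul, hcard] at h
    rw [show σ M.det = (M.map σ).det from σ.toRingHom.map_det M]
    rw [he, div_pow, div_mul_eq_mul_div, div_eq_iff (pow_ne_zero _ (pow_ne_zero _ c.ne_zero))]
    linear_combination h
  -- the square of the pair is scalar
  have hGs : e * σ e = 1 := by
    let G' : GS (Cfsg.quadFormMinus k F a b) := ⟨G, by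
      obtain ⟨d, hd⟩ := hsq.1
      exact ⟨d, fun v => by
        have := hd v
        rw [show (fun i => ρ (v i)) = v from funext fun i => hρ1 _, hρ1] at this
        exact this⟩⟩
    have hρ : ρ = RingEquiv.refl F := RingEquiv.ext hρ1
    have hker : G' ∈ (Φ (Cfsg.quadFormMinus k F a b)).ker := MonoidHom.mem_ker.2 ((induced_iff (Cfsg.quadFormMinus k F a b) G' 1).1 (hρ ▸ hsq.2)).symm
    rw [D.ker_Φ] at hker
    obtain ⟨z, hz⟩ := hker
    have hz' : G'.1 = G := rfl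
    rw [hz'] at hz
    have hm : (z * z : F) = c * σ c := by
      have h1 := hg.1
      have := hc
      obtain ⟨w, hw⟩ : ∃ w : (Fin k ⊕ Fin k) ⊕ Fin 2 → F, minusForm F k a b w = 1 := ⟨D.a, D.ha⟩
      have e1 : Cfsg.quadFormMinus k F a b ((G : Matrix ((Fin k ⊕ Fin k) ⊕ Fin 2) ((Fin k ⊕ Fin k) ⊕ Fin 2) F) *ᵥ w) =
          c * σ c * Cfsg.quadFormMinus k F a b w := by
        rw [hG, Units.val_mul, ← Matrix.mulVec_mulVec]
        have hfw : (fun i => σ (σ (w i))) = w := funext fun i => hρ1 _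
        conv_lhs => rw [← hfw]
        rw [show ((Matrix.GeneralLinearGroup.map σ.toRingHom g : GL ((Fin k ⊕ Fin k) ⊕ Fin 2) F) : Matrix ((Fin k ⊕ Fin k) ⊕ Fin 2) ((Fin k ⊕ Fin k) ⊕ Fin 2) F) *ᵥ (fun i => σ (σ (w i))) =
          fun i => σ (((g : Matrix ((Fin k ⊕ Fin k) ⊕ Fin 2) ((Fin k ⊕ Fin k) ⊕ Fin 2) F) *ᵥ fun j => σ (w j)) i) from map_mulVec' σ _ _]
        rw [hc, hc, map_mul, show σ (σ (Cfsg.quadFormMinus k F a b w)) = Cfsg.quadFormMinus k F a b w from hρ1 _]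
        ring
      rw [hz, Matrix.smul_mulVec, Matrix.one_mulVec, minusForm_apply, minusForm_apply, quad_smul', hw, mul_one,
        mul_one] at e1
      exact e1
    have hdet : dg * σ dg = (z * z) ^ (k + 1) := by
      have h := congrArg Matrix.det hz
      rw [hG, Units.val_mul, Matrix.det_mul, Matrix.det_smul, Matrix.det_one, mul_one, hcard, pow_mul, pow_two] at h
      rw [show σ dg = ((g : Matrix ((Fin k ⊕ Fin k) ⊕ Fin 2) ((Fin k ⊕ Fin k) ⊕ Fin 2) F).map σ).det from σ.toRingHom.map_det _]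
      exact h
    rw [hm, mul_pow] at hdet
    rw [he, map_div₀, map_pow, div_mul_div_comm, hdet]
    exact div_self (mul_ne_zero (pow_ne_zero _ c.ne_zero) (pow_ne_zero _ ((map_ne_zero σ).2 c.ne_zero)))
  apply hns
  by_cases he1 : e = -1
  · rw [he1, neg_one_sq, one_mul] at he2
    exact hfix _ he2.symm
  · have hw : (1 + e) ≠ 0 := fun h => he1 (by linear_combination h)
    have hσw : e * σ (1 + e) = 1 + e := by
      rw [map_add, map_one]; linear_combination hGs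
    have hσw0 : σ (1 + e) ≠ 0 := (map_ne_zero σ).2 hw
    have hfx : σ (M.det * ((1 + e) * (1 + e))) = M.det * ((1 + e) * (1 + e)) := by
      rw [map_mul, map_mul, ← he2]
      linear_combination (M.det * (e * σ (1 + e) + (1 + e))) * hσw
    obtain ⟨x, hx⟩ := hfix _ hfx
    exact ⟨x / (1 + e), by field_simp; linear_combination hx⟩

end Minus

end CfsgLib.KnownC.POmegaAut
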