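import Cfsg.Agent.Lib.KnownC.OrthTools
import Cfsg.Agent.Lib.Orth.Parity

set_option autoImplicit false
set_option linter.unusedSectionVars false

/-! The two maximal totally singular coordinate subspaces of the plus-type form. -/

namespace CfsgLib.KnownC.PlusTools

open QuadraticMap Matrix CfsgLib.Orth CfsgLib.KnownC.OrthTools

variable (F : Type*) [Field F] (m : ℕ)

/-- `{y = 0}`. -/
noncomputable def xSpace : Submodule F (Fin m ⊕ Fin m → F) :=
  LinearMap.ker (LinearMap.funLeft F F (Sum.inr : Fin m → Fin m ⊕ Fin m))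

variable {F m}

theorem mem_xSpace {v : Fin m ⊕ Fin m → F} : v ∈ xSpace F m ↔ ∀ i, v (Sum.inr i) = 0 := by
  simp [xSpace, funext_iff, LinearMap.funLeft_apply]

theorem finrank_xSpace : Module.finrank F (xSpace F m) = m := by
  have h := LinearMap.finrank_range_add_finrank_ker (LinearMap.funLeft F F (Sum.inr : Fin m → Fin m ⊕ Fin m))
  rw [LinearMap.range_eq_top.2 (LinearMap.funLeft_surjective_of_injective F F _ Sum.inr_injective),
    finrank_top, Module.finrank_fintype_fun_eq_card, Module.finrank_fintype_fun_eq_card, Fintype.card_sum,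
    Fintype.card_fin] at h
  exact Nat.add_left_cancel h

theorem xSpace_singular : ∀ u ∈ xSpace F m, plusForm F m u = 0 := by
  intro u hu
  rw [← plusForm_apply]
  simp [Cfsg.quadFormPlus, mem_xSpace.1 hu]

theorem isLagrangian_xSpace : IsLagrangian (plusForm F m) (xSpace F m) :=
  isLagrangian_of_finrank (plusForm_nondeg m) xSpace_singular (by
    rw [finrank_xSpace, Module.finrank_fintype_fun_eq_card, Fintype.card_sum, Fintype.card_fin]; omega)

theorem good_plus [Fintype F] (h : Fintype.card F ≠ 2 ∨ m ≠ 2) : Good F (Fin m ⊕ Fin m → F) :=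
  good_of (h.imp_right fun hm => by
    rw [Module.finrank_fintype_fun_eq_card, Fintype.card_sum, Fintype.card_fin]; omega)

/-- `v ↦ v ∘ swap`, interchanging the two coordinate subspaces. -/
theorem exists_swap : ∃ g : orthGroup (plusForm F m), ∀ v, g.1 v = v ∘ Sum.swap := by
  obtain ⟨g, hg⟩ := exists_of_preserving (plusForm_nondeg m) (LinearMap.funLeft F F (Sum.swap : Fin m ⊕ Fin m → Fin m ⊕ Fin m))
    (fun v => by
      rw [← plusForm_apply, ← plusForm_apply]
      simp [Cfsg.quadFormPlus, LinearMap.funLeft_apply, mul_comm])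
  exact ⟨g, fun v => hg v⟩

/-- The hyperbolic pair at index `i`. -/
theorem pair_facts (i : Fin m) :
    plusForm F m (Pi.single (Sum.inl i) 1) = 0 ∧ plusForm F m (Pi.single (Sum.inr i) 1) = 0 ∧
      polar (plusForm F m) (Pi.single (Sum.inl i) 1) (Pi.single (Sum.inr i) 1) = 1 := by
  classical
  refine ⟨?_, ?_, ?_⟩
  · rw [← plusForm_apply]; simp [Cfsg.quadFormPlus, Pi.single_apply]
  · rw [← plusForm_apply]; simp [Cfsg.quadFormPlus, Pi.single_apply]
  · simp [plusForm_polar, Pi.single_apply]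

/-- The torus at index `i` acts diagonally. -/
theorem torus_apply (i : Fin m) {c : F} (hc : c ≠ 0) (v : Fin m ⊕ Fin m → F) (k : Fin m ⊕ Fin m) :
    (torus (plusForm F m) (Pi.single (Sum.inl i) 1) (Pi.single (Sum.inr i) 1) c).1 v k =
      (if k = Sum.inl i then c else if k = Sum.inr i then c⁻¹ else 1) * v k := by
  classical
  obtain ⟨h1, h2, h3⟩ := pair_facts (F := F) i
  set g := torus (plusForm F m) (Pi.single (Sum.inl i) 1) (Pi.single (Sum.inr i) 1) c
  obtain ⟨hd, hz⟩ := torus_pair (plusForm F m) h1 h2 h3 hc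
  set w := v - v (Sum.inl i) • Pi.single (Sum.inl i) 1 - v (Sum.inr i) • Pi.single (Sum.inr i) 1 with hw
  have hfix : g.1 w = w := by
    refine torus_fix _ c ?_ ?_ <;> simp [hw, plusForm_polar, Pi.single_apply, h1, h2]
  have hv : v = v (Sum.inl i) • Pi.single (Sum.inl i) 1 + v (Sum.inr i) • Pi.single (Sum.inr i) 1 + w := by
    rw [hw]; abel
  conv_lhs => rw [hv]
  rw [map_add, map_add, map_smul, map_smul, hd, hz, hfix]
  simp only [hw, Pi.add_apply, Pi.sub_apply, Pi.smul_apply, smul_eq_mul, Pi.single_apply]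
  by_cases hk : k = Sum.inl i
  · subst hk; simp [mul_comm]
  · by_cases hk' : k = Sum.inr i
    · subst hk'; simp [mul_comm]
    · simp [hk, hk']

theorem map_mulVecLin (g : ↥(Cfsg.isometryGroup F (Cfsg.quadFormPlus m F))) :
    Matrix.mulVecLin ((g : GL (Fin m ⊕ Fin m) F) : Matrix (Fin m ⊕ Fin m) (Fin m ⊕ Fin m) F) =
      ((toOrth (plusForm F m) (plusForm_apply m) g).1 : (Fin m ⊕ Fin m → F) →ₗ[F] (Fin m ⊕ Fin m → F)) := by
  rw [← matOf_toOrth (plusForm F m) (plusForm_apply m), mulVecLin_matOf]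

/-- The distance from `U₀` to its image, as it appears in the statements. -/
theorem lagDist_eq (g : orthGroup (plusForm F m)) :
    lagDist (xSpace F m) ((xSpace F m).map (g.1 : (Fin m ⊕ Fin m → F) →ₗ[F] (Fin m ⊕ Fin m → F))) =
      m - Module.finrank F ↥(xSpace F m ⊓ (xSpace F m).map (g.1 : (Fin m ⊕ Fin m → F) →ₗ[F] (Fin m ⊕ Fin m → F))) := by
  rw [lagDist, finrank_xSpace]

end CfsgLib.KnownC.PlusTools
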