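import Cfsg.Agent.Lib.KnownC.POmegaDihedral
import Cfsg.Agent.Lib.KnownC.FieldExt
import Cfsg.Agent.Lib.KnownC.PlusTools
import Cfsg.Agent.Lib.KnownC.Discr

set_option autoImplicit false
set_option linter.unusedSectionVars false

/-! The standard forms as instances. -/

namespace CfsgLib.KnownC.POmegaAut

open CfsgLib.Orth CfsgLib.KnownC.PlusTools QuadraticMap Module
open scoped Matrix

universe u

variable {F : Type u} [Field F] [Fintype F]

theorem two_ne_of_odd (h : Odd (Fintype.card F)) : (2 : F) ≠ 0 := by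
  intro h2
  haveI : CharP F 2 := CharTwo.of_one_ne_zero_of_two_eq_zero one_ne_zero h2
  obtain ⟨n, hp, hn⟩ := FiniteField.card F 2
  rw [hn, Nat.odd_pow_iff n.pos.ne'] at h
  exact absurd h (by decide)

theorem neg_one_pow_square (h : Odd (Fintype.card F)) (m : ℕ) :
    IsSquare ((-1 : F) ^ m) ↔ ¬ (Odd m ∧ Fintype.card F % 4 = 3) := by
  have hodd : Fintype.card F % 2 = 1 := Nat.odd_iff.1 h
  rcases Nat.even_or_odd m with hm | hm
  · simp [hm.neg_one_pow, Nat.not_odd_iff_even.2 hm]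
  · rw [hm.neg_one_pow, FiniteField.isSquare_neg_one_iff]
    simp [hm]

theorem exists_nonsquare' (h : Odd (Fintype.card F)) : ∃ ν : F, ν ≠ 0 ∧ ¬ IsSquare ν := by
  obtain ⟨ν, hν⟩ := FiniteField.exists_nonsquare (F := F) fun hc => two_ne_of_odd h (by
    haveI : CharP F 2 := ringChar.eq_iff.1 hc
    exact CharTwo.two_eq_zero)
  exact ⟨ν, fun h0 => hν (h0 ▸ IsSquare.zero), hν⟩

/-- A similitude fixing the coordinate space `{y = 0}`. -/
theorem exists_adapted {K : Type*} [Field K] {V : Type*} [AddCommGroup V] [Module K V] [FiniteDimensional K V]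
    {Q : QuadraticForm K V} {n : ℕ} (e : (Fin n ⊕ Fin n → K) ≃ₗ[K] V) (he : ∀ v, Q (e v) = plusForm K n v)
    {μ : K} (hμ : μ ≠ 0) :
    ∃ (U₀ : Submodule K V) (d : V ≃ₗ[K] V), IsLagrangian Q U₀ ∧ IsSimil Q d μ ∧
      U₀.map (d : V →ₗ[K] V) = U₀ ∧ LinearMap.det (d : V →ₗ[K] V) = μ ^ n := by
  let D : Matrix (Fin n ⊕ Fin n) (Fin n ⊕ Fin n) K := Matrix.diagonal (Sum.elim (fun _ => μ) (fun _ => 1))
  let s : (Fin n ⊕ Fin n → K) →ₗ[K] (Fin n ⊕ Fin n → K) := Matrix.toLin' D
  have hs : ∀ v k, s v k = Sum.elim (fun _ => μ) (fun _ => (1 : K)) k * v k := fun v k => by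
    simp [s, D, Matrix.mulVec_diagonal]
  have hinj : Function.Injective s := fun v w h => funext fun k => by
    have := congrFun h k
    rw [hs, hs] at this
    refine mul_left_cancel₀ ?_ this
    rcases k with k | k <;> simp [hμ]
  let S := LinearEquiv.ofInjectiveEndo s hinj
  have hS : ∀ v, plusForm K n (S v) = μ * plusForm K n v := fun v => by
    show plusForm K n (s v) = _
    rw [← plusForm_apply, ← plusForm_apply]
    simp [Cfsg.quadFormPlus, hs, Finset.mul_sum, mul_assoc]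
  have hQ : (QuadraticMap.polarBilin Q).Nondegenerate := nondegenerate_of_left fun v hv => by
    obtain ⟨w, rfl⟩ := e.surjective v
    rw [(plusForm_nondeg n).1 w fun z => ?_, map_zero]
    have := hv (e z)
    exact (polar_of_preserving (e : (Fin n ⊕ Fin n → K) →ₗ[K] V) he w z).symm.trans this
  refine ⟨(xSpace K n).map (e : (Fin n ⊕ Fin n → K) →ₗ[K] V), e.symm.trans (S.trans e), ?_, fun v => ?_, ?_, ?_⟩
  · refine isLagrangian_of_finrank hQ ?_ ?_
    · rintro _ ⟨u, hu, rfl⟩
      show Q (e u) = 0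
      rw [he, xSpace_singular u hu]
    · rw [LinearEquiv.finrank_map_eq, finrank_xSpace, ← LinearEquiv.finrank_eq e, finrank_fintype_fun_eq_card,
        Fintype.card_sum, Fintype.card_fin]
      omega
  · show Q (e (S (e.symm v))) = μ * Q v
    rw [he, hS, ← he, LinearEquiv.apply_symm_apply]
  · have hmap : (xSpace K n).map (s) = xSpace K n := by
      refine Submodule.eq_of_le_of_finrank_eq ?_ (Submodule.equivMapOfInjective _ hinj _).finrank_eq.symm
      rintro _ ⟨u, hu, rfl⟩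
      rw [mem_xSpace]
      intro i
      rw [hs, mem_xSpace.1 hu i, mul_zero]
    conv_rhs => rw [← hmap, ← Submodule.map_comp]
    rw [← Submodule.map_comp]
    congr 1
    refine LinearMap.ext fun v => ?_
    show e (s (e.symm (e v))) = e (s v)
    rw [LinearEquiv.symm_apply_apply]
  · show LinearMap.det ((e : (Fin n ⊕ Fin n → K) →ₗ[K] V) ∘ₗ s ∘ₗ (e.symm : V →ₗ[K] (Fin n ⊕ Fin n → K))) = μ ^ n
    rw [LinearMap.det_conj s e]
    show LinearMap.det (Matrix.toLin' D) = μ ^ n
    rw [LinearMap.det_toLin', Matrix.det_diagonal, Fintype.prod_sum_type]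
    simp

/-- The parity classes and the determinant. -/
theorem preserves_iff {K : Type*} [Field K] {ι : Type} [Fintype ι] [DecidableEq ι] (h2 : (2 : K) ≠ 0)
    {Q : QuadraticForm K (ι → K)} {Qf : (ι → K) → K} (hQf : ∀ v, Qf v = Q v) {n : ℕ}
    (e : (Fin n ⊕ Fin n → K) ≃ₗ[K] (ι → K)) (he : ∀ v, Q (e v) = plusForm K n v) {μ : K} (hμ : μ ≠ 0)
    (M : Matrix ι ι K) (hM : ∀ v, Q (M *ᵥ v) = μ * Q v) (hdetM : M.det ≠ 0) :
    Cfsg.PreservesSingularClasses Qf M ↔ M.det = μ ^ n := by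
  obtain ⟨U₀, d, hU₀, hd, hdU, hdd⟩ := exists_adapted e he hμ
  have hQ : (QuadraticMap.polarBilin Q).Nondegenerate := nondegenerate_of_left fun v hv => by
    obtain ⟨w, rfl⟩ := e.surjective v
    rw [(plusForm_nondeg n).1 w fun z => ?_, map_zero]
    have := hv (e z)
    exact (polar_of_preserving (e : (Fin n ⊕ Fin n → K) →ₗ[K] (ι → K)) he w z).symm.trans this
  have hinj : Function.Injective (Matrix.toLin' M) := by
    intro x y h
    rw [Matrix.toLin'_apply, Matrix.toLin'_apply] at h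
    exact Matrix.mulVec_injective_iff_isUnit.2 ((Matrix.isUnit_iff_isUnit_det M).2 (Ne.isUnit hdetM)) h
  let g := LinearEquiv.ofInjectiveEndo (Matrix.toLin' M) hinj
  have hg : IsSimil Q g μ := hM
  have hmax : ∀ U, Cfsg.IsMaxTotallySingular Qf U ↔ IsLagrangian Q U := fun U => by
    rw [← max_singular_iff hQ (good_of_two_ne h2) hU₀ U, funext hQf |> fun h => h]
    rfl
  have hpar := fun {U : Submodule K (ι → K)} (hU : IsLagrangian Q U) =>
    similitude_parity hQ h2 hU₀ hμ hg hd hdU hdd hU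
  have hdet : LinearMap.det (g : (ι → K) →ₗ[K] (ι → K)) = M.det := LinearMap.det_toLin' M
  constructor
  · intro h
    have := (hpar hU₀).1 (h U₀ ((hmax U₀).2 hU₀))
    rwa [hdet] at this
  · intro h U hU
    exact (hpar ((hmax U).1 hU)).2 (by rw [hdet, h])

section Plus

variable (m : ℕ)

/-- `(x, y) ↦ (ν y, x)`. -/
def swapMat (ν : F) : Matrix (Fin m ⊕ Fin m) (Fin m ⊕ Fin m) F := Matrix.fromBlocks 0 (ν • 1) 1 0

theorem swapMat_inl (ν : F) (v : Fin m ⊕ Fin m → F) (i : Fin m) :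
    (swapMat m ν *ᵥ v) (Sum.inl i) = ν * v (Sum.inr i) := by
  simp [swapMat, Matrix.fromBlocks_mulVec, Matrix.smul_mulVec]

theorem swapMat_inr (ν : F) (v : Fin m ⊕ Fin m → F) (i : Fin m) :
    (swapMat m ν *ᵥ v) (Sum.inr i) = v (Sum.inl i) := by
  simp [swapMat, Matrix.fromBlocks_mulVec]

theorem det_swapMat (ν : F) : (swapMat m ν).det = ν ^ m * (-1) ^ m := by
  have h : swapMat m ν = Matrix.fromBlocks (ν • 1) 0 0 1 *
      (Matrix.fromBlocks 0 1 1 0 : Matrix (Fin m ⊕ Fin m) (Fin m ⊕ Fin m) F) := by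
    simp [swapMat, Matrix.fromBlocks_multiply]
  rw [h, Matrix.det_mul, Matrix.det_fromBlocks_zero₁₂, Matrix.det_one, mul_one, Matrix.det_smul, Matrix.det_one,
    mul_one, Fintype.card_fin, Discr.det_hyp]

theorem swapMat_sq (ν : F) : swapMat m ν * swapMat m ν = ν • 1 := by
  simp [swapMat, Matrix.fromBlocks_multiply, ← Matrix.fromBlocks_one, Matrix.fromBlocks_smul]

theorem plus_setup (hodd : Odd (Fintype.card F)) (hm : 2 ≤ m) :
    ∃ D : Setup (Cfsg.quadFormPlus m F) (plusForm F m) m,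
      (D.negOne ∈ commutator (orthGroup (plusForm F m)) ↔ ¬ (Odd m ∧ Fintype.card F % 4 = 3)) ∧
      D.eps D.s = (-1) ^ m ∧
      Cfsg.inndiagPOmegaPlus m F = D.evenSub.map (Φ (Cfsg.quadFormPlus m F)) := by
  classical
  obtain ⟨ν, hν0, hν⟩ := exists_nonsquare' hodd
  have h2 := two_ne_of_odd hodd
  have hcardι : Fintype.card (Fin m ⊕ Fin m) = 2 * m := by rw [Fintype.card_sum, Fintype.card_fin]; omega
  have hdet : (swapMat m ν).det ≠ 0 := by
    rw [det_swapMat]; exact mul_ne_zero (pow_ne_zero _ hν0) (pow_ne_zero _ (neg_ne_zero.2 one_ne_zero))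
  let sGL : GL (Fin m ⊕ Fin m) F := Matrix.GeneralLinearGroup.mkOfDetNeZero (swapMat m ν) hdet
  have hsim : ∀ v, Cfsg.quadFormPlus m F (swapMat m ν *ᵥ v) = ν * Cfsg.quadFormPlus m F v := fun v => by
    simp only [Cfsg.quadFormPlus, swapMat_inl, swapMat_inr, Finset.mul_sum]
    exact Finset.sum_congr rfl fun i _ => by ring
  let s : GS (Cfsg.quadFormPlus m F) := ⟨sGL, Units.mk0 ν hν0, hsim⟩
  let i₀ : Fin m := ⟨0, by omega⟩
  let i₁ : Fin m := ⟨1, by omega⟩
  have hne : i₀ ≠ i₁ := by simp [i₀, i₁]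
  let D : Setup (Cfsg.quadFormPlus m F) (plusForm F m) m :=
    { hQf := plusForm_apply m
      hQ := plusForm_nondeg m
      h2 := h2
      hcard := hcardι
      hp := ⟨Pi.single (Sum.inl i₀) 1, Pi.single (Sum.inr i₀) 1, Pi.single (Sum.inl i₁) 1, Pi.single (Sum.inr i₁) 1,
        (pair_facts i₀).1, (pair_facts i₀).2.1, (pair_facts i₁).1, (pair_facts i₁).2.1, (pair_facts i₀).2.2,
        (pair_facts i₁).2.2, by simp [plusForm_polar, Pi.single_apply],
        by simp [plusForm_polar, Pi.single_apply, hne, hne.symm], by simp [plusForm_polar, Pi.single_apply, hne, hne.symm],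
        by simp [plusForm_polar, Pi.single_apply]⟩
      a := Pi.single (Sum.inl i₀) 1 + Pi.single (Sum.inr i₀) 1
      ha := by rw [quad_add', (pair_facts i₀).1, (pair_facts i₀).2.1, (pair_facts i₀).2.2]; ring
      s := s
      hs := ⟨ν, swapMat_sq m ν⟩
      hν := by
        rw [lin_apply, ← plusForm_apply]
        show ¬ IsSquare (Cfsg.quadFormPlus m F (swapMat m ν *ᵥ _))
        rw [hsim, plusForm_apply, quad_add', (pair_facts i₀).1, (pair_facts i₀).2.1, (pair_facts i₀).2.2]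
        simpa using hν }
  have hmul : D.mult s = ν := D.mult_of s fun v => by
    rw [lin_apply, ← plusForm_apply, ← plusForm_apply]; exact hsim v
  refine ⟨D, ?_, ?_, ?_⟩
  · obtain ⟨L, hL, hlen, hprod, hneg, -⟩ := exists_negPairs (Q := plusForm F m)
      (fun i : Fin m => (Pi.single (Sum.inl i) 1 : Fin m ⊕ Fin m → F)) (fun i => Pi.single (Sum.inr i) 1)
      (fun i => (pair_facts i).1) (fun i => (pair_facts i).2.1)
      (fun j k => by simp [plusForm_polar, Pi.single_apply, eq_comm])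
      (fun j k _ => by simp [plusForm_polar, Pi.single_apply]) (fun j k _ => by simp [plusForm_polar, Pi.single_apply])
    have hn : D.negOne = (L.map (refl (plusForm F m))).prod := by
      refine Subtype.ext (LinearEquiv.toLinearMap_injective ((Pi.basisFun F _).ext fun k => ?_))
      rw [Pi.basisFun_apply]
      rcases k with i | i
      · exact (hneg i).1.symm
      · exact (hneg i).2.symm
    rw [hn, prod_refl_mem_commutator_iff (plusForm_nondeg m) h2 L hL, hprod, hlen, neg_one_pow_square hodd]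
    exact and_iff_right (even_two_mul m)
  · show (swapMat m ν).det / (D.mult s) ^ m = _
    rw [det_swapMat, hmul, mul_div_cancel_left₀ _ (pow_ne_zero _ hν0)]
  · refine closure_eq_map _ D.evenSub _ fun β => ?_
    have hP : ∀ g : GS (Cfsg.quadFormPlus m F),
        Cfsg.PreservesSingularClasses (Cfsg.quadFormPlus m F) (g.1 : Matrix (Fin m ⊕ Fin m) (Fin m ⊕ Fin m) F) ↔
          g ∈ D.evenSub := fun g => by
      rw [preserves_iff h2 (plusForm_apply m) (LinearEquiv.refl F _) (fun v => rfl) (D.mult_ne g)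
        (g.1 : Matrix (Fin m ⊕ Fin m) (Fin m ⊕ Fin m) F) (fun v => by rw [← lin_apply]; exact D.isSimil g v)
        ((Matrix.isUnit_iff_isUnit_det _).1 g.1.isUnit).ne_zero]
      show _ ↔ (g.1 : Matrix (Fin m ⊕ Fin m) (Fin m ⊕ Fin m) F).det / (D.mult g) ^ m = 1
      rw [div_eq_one_iff_eq (pow_ne_zero _ (D.mult_ne g))]
    exact ⟨fun ⟨g, hg, hP', hi⟩ => ⟨⟨g, hg⟩, (hP ⟨g, hg⟩).1 hP', (induced_iff _ ⟨g, hg⟩ β).1 hi⟩,
      fun ⟨g, hg, hi⟩ => ⟨g.1, g.2, (hP g).2 hg, (induced_iff _ g β).2 hi⟩⟩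

end Plus

section Minus

variable (k : ℕ)

/-- The plane map `z ↦ t z̄`. -/
def planeMat (a b t₁ t₂ : F) : Matrix (Fin 2) (Fin 2) F := !![t₁, a * t₁ + b * t₂; t₂, -t₁]

theorem minus_root {K : Type u} [Field K] [Fintype K] [Algebra F K] (hK : finrank F K = 2) (a c : F)
    (hac : ∀ z₁ z₂ : F, z₁ ^ 2 + a * z₁ * z₂ + c * z₂ ^ 2 = 0 → z₁ = 0 ∧ z₂ = 0) :
    ∃ r : K, r ^ 2 + algebraMap F K a * r + algebraMap F K c = 0 := by
  let f : Polynomial F := Polynomial.X ^ 2 + Polynomial.C a * Polynomial.X + Polynomial.C c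
  have hdeg : f.natDegree = 2 := by show (_ + _ + _ : Polynomial F).natDegree = 2; compute_degree!
  have hmon : f.Monic := by show (_ + _ + _ : Polynomial F).Monic; monicity!
  have hirr : Irreducible f := by
    rw [hmon.irreducible_iff_roots_eq_zero_of_degree_le_three (by omega) (by omega),
      Multiset.eq_zero_iff_forall_notMem]
    intro x hx
    rw [Polynomial.mem_roots hmon.ne_zero] at hx
    exact one_ne_zero (hac x 1 (by simpa [f] using hx)).2
  haveI := Fact.mk hirr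
  obtain ⟨ι⟩ := FiniteField.nonempty_algHom_of_finrank_dvd (F := F) (K := AdjoinRoot f) (L := K) (by
    rw [hK, (AdjoinRoot.powerBasis hmon.ne_zero).finrank, AdjoinRoot.powerBasis_dim, hdeg])
  refine ⟨ι (AdjoinRoot.root f), ?_⟩
  have h0 := congrArg ι (AdjoinRoot.eval₂_root f)
  simp only [f, Polynomial.eval₂_add, Polynomial.eval₂_pow, Polynomial.eval₂_X, Polynomial.eval₂_mul,
    Polynomial.eval₂_C, map_add, map_mul, map_pow, map_zero] at h0
  rw [← AdjoinRoot.algebraMap_eq, ι.commutes, ι.commutes] at h0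
  exact h0

theorem exists_quadratic_ext (a c : F) (hac : ∀ z₁ z₂ : F, z₁ ^ 2 + a * z₁ * z₂ + c * z₂ ^ 2 = 0 → z₁ = 0 ∧ z₂ = 0) :
    ∃ (K : Type u) (_ : Field K) (_ : Algebra F K), finrank F K = 2 := by
  let f : Polynomial F := Polynomial.X ^ 2 + Polynomial.C a * Polynomial.X + Polynomial.C c
  have hdeg : f.natDegree = 2 := by show (_ + _ + _ : Polynomial F).natDegree = 2; compute_degree!
  have hmon : f.Monic := by show (_ + _ + _ : Polynomial F).Monic; monicity!
  have hirr : Irreducible f := by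
    rw [hmon.irreducible_iff_roots_eq_zero_of_degree_le_three (by omega) (by omega),
      Multiset.eq_zero_iff_forall_notMem]
    intro x hx
    rw [Polynomial.mem_roots hmon.ne_zero] at hx
    exact one_ne_zero (hac x 1 (by simpa [f] using hx)).2
  haveI := Fact.mk hirr
  exact ⟨AdjoinRoot f, inferInstance, inferInstance,
    by rw [(AdjoinRoot.powerBasis hmon.ne_zero).finrank, AdjoinRoot.powerBasis_dim, hdeg]⟩

theorem disc_nonsquare (h2 : (2 : F) ≠ 0) (a c : F)
    (hac : ∀ z₁ z₂ : F, z₁ ^ 2 + a * z₁ * z₂ + c * z₂ ^ 2 = 0 → z₁ = 0 ∧ z₂ = 0) : ¬ IsSquare (a ^ 2 - 4 * c) := by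
  rintro ⟨d, hd⟩
  exact h2 (hac (d - a) 2 (by linear_combination -hd)).2

/-- Over a quadratic extension the minus form is hyperbolic and the parity is the determinant. -/
theorem minus_preserves_iff (h2 : (2 : F) ≠ 0) (a c : F)
    (hac : ∀ z₁ z₂ : F, z₁ ^ 2 + a * z₁ * z₂ + c * z₂ ^ 2 = 0 → z₁ = 0 ∧ z₂ = 0)
    {K : Type u} [Field K] [Algebra F K] (hK : finrank F K = 2)
    (M : Matrix ((Fin k ⊕ Fin k) ⊕ Fin 2) ((Fin k ⊕ Fin k) ⊕ Fin 2) F) {μ : F} (hμ : μ ≠ 0) (hdetM : M.det ≠ 0)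
    (hM : ∀ v, minusForm F k a c (M *ᵥ v) = μ * minusForm F k a c v) :
    Cfsg.PreservesSingularClasses (Cfsg.quadFormMinus k K (algebraMap F K a) (algebraMap F K c))
      (M.map (algebraMap F K)) ↔ M.det = μ ^ (k + 1) := by
  classical
  haveI : FiniteDimensional F K := Module.finite_of_finrank_pos (by omega)
  haveI : Finite K := Module.finite_of_finite F
  letI : Fintype K := Fintype.ofFinite K
  set φ := algebraMap F K
  obtain ⟨r, hr⟩ := minus_root hK a c hac
  have h2K : (2 : K) ≠ 0 := by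
    rw [← map_ofNat φ 2]; exact (map_ne_zero φ).2 h2
  have hD : φ (a ^ 2 - 4 * c) ≠ 0 := (map_ne_zero φ).2 fun h => disc_nonsquare h2 a c hac (h ▸ IsSquare.zero)
  have hnd : (QuadraticMap.polarBilin (minusForm K k (φ a) (φ c))).Nondegenerate := by
    refine nondegenerate_of_left fun v hv => ?_
    have h0 : 2 * v (.inr 0) + φ a * v (.inr 1) = 0 := by
      simpa [minusForm_polar, Pi.single_apply] using hv (Pi.single (Sum.inr 0) 1)
    have h1 : φ a * v (.inr 0) + 2 * φ c * v (.inr 1) = 0 := by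
      simpa [minusForm_polar, Pi.single_apply] using hv (Pi.single (Sum.inr 1) 1)
    have hz1 : φ (a ^ 2 - 4 * c) * v (.inr 1) = 0 := by
      rw [map_sub, map_pow, map_mul, map_ofNat]
      linear_combination φ a * h0 - 2 * h1
    have hz0 : φ (a ^ 2 - 4 * c) * v (.inr 0) = 0 := by
      rw [map_sub, map_pow, map_mul, map_ofNat]
      linear_combination φ a * h1 - 2 * φ c * h0
    funext i
    rcases i with (i | i) | i
    · simpa [minusForm_polar, Pi.single_apply] using hv (Pi.single (Sum.inl (Sum.inr i)) 1)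
    · simpa [minusForm_polar, Pi.single_apply] using hv (Pi.single (Sum.inl (Sum.inl i)) 1)
    · fin_cases i
      · exact (mul_eq_zero.1 hz0).resolve_left hD
      · exact (mul_eq_zero.1 hz1).resolve_left hD
  let s : (Fin k ⊕ Unit → K) →ₗ[K] ((Fin k ⊕ Fin k) ⊕ Fin 2 → K) :=
    LinearMap.pi (Sum.elim (Sum.elim (fun i => LinearMap.proj (Sum.inl i)) (fun _ => 0))
      ![r • LinearMap.proj (Sum.inr ()), LinearMap.proj (Sum.inr ())])
  have hs : Function.Injective s := fun x y h => by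
    funext i
    rcases i with i | i
    · exact congrFun h (Sum.inl (Sum.inl i))
    · exact congrFun h (Sum.inr 1)
  obtain ⟨e, he⟩ := FieldExt.iso_plus_of_singular hnd (m := k + 1) (by
      rw [finrank_fintype_fun_eq_card, Fintype.card_sum, Fintype.card_sum, Fintype.card_fin, Fintype.card_fin]
      omega) (LinearMap.range s) (by
      rintro _ ⟨x, rfl⟩
      rw [← minusForm_apply]
      simp [Cfsg.quadFormMinus, s]
      linear_combination (x (Sum.inr ()) ^ 2) * hr) (by
      rw [LinearMap.finrank_range_of_inj hs, finrank_fintype_fun_eq_card, Fintype.card_sum, Fintype.card_fin,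
        Fintype.card_unit])
  have hMK : ∀ v, minusForm K k (φ a) (φ c) (M.map φ *ᵥ v) = φ μ * minusForm K k (φ a) (φ c) v := by
    have hval : ∀ u : (Fin k ⊕ Fin k) ⊕ Fin 2 → F, minusForm K k (φ a) (φ c) (φ ∘ u) = φ (minusForm F k a c u) :=
      fun u => by simp [← minusForm_apply, Cfsg.quadFormMinus, map_sum]
    have hpol : ∀ u v : (Fin k ⊕ Fin k) ⊕ Fin 2 → F, polar (minusForm K k (φ a) (φ c)) (φ ∘ u) (φ ∘ v) =
        φ (polar (minusForm F k a c) u v) := fun u v => by
      simp [minusForm_polar, map_sum, map_ofNat φ 2]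
    have hcol : ∀ i, M.map φ *ᵥ Pi.single i 1 = φ ∘ (M *ᵥ Pi.single i 1) := fun i => by ext j; simp
    have hsing : ∀ i : (Fin k ⊕ Fin k) ⊕ Fin 2, (Pi.single i 1 : _ → K) = φ ∘ Pi.single i 1 := fun i => by
      ext j; simp [Pi.single_apply, apply_ite φ]
    intro v
    refine FieldExt.quad_ext ((minusForm K k (φ a) (φ c)).comp (Matrix.toLin' (M.map φ)))
      (φ μ • minusForm K k (φ a) (φ c)) (fun i => ?_) (fun i j => ?_) v
    · rw [QuadraticMap.comp_apply, Matrix.toLin'_apply, hcol, hval, hM, map_mul, QuadraticMap.smul_apply, hsing,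
        hval, smul_eq_mul]
    · have h1 : polar (minusForm F k a c) (M *ᵥ Pi.single i 1) (M *ᵥ Pi.single j 1) =
          μ * polar (minusForm F k a c) (Pi.single i 1) (Pi.single j 1) := by
        simp only [polar, ← Matrix.mulVec_add, hM]; ring
      have h := congrArg φ h1
      rw [map_mul, ← hpol, ← hpol, ← hsing, ← hsing, ← hcol, ← hcol] at h
      simp only [polar, QuadraticMap.comp_apply, QuadraticMap.smul_apply, map_add, Matrix.toLin'_apply, smul_eq_mul] at h ⊢
      linear_combination h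
  have hdet : (M.map φ).det = φ M.det := (RingHom.map_det φ M).symm
  rw [preserves_iff h2K (minusForm_apply k (φ a) (φ c)) e he ((map_ne_zero φ).2 hμ) (M.map φ) hMK
    (by rw [hdet]; exact (map_ne_zero φ).2 hdetM), hdet, ← map_pow, φ.injective.eq_iff]

theorem minus_setup (hodd : Odd (Fintype.card F)) (hk : 2 ≤ k) (a b : F)
    (hab : ∀ z₁ z₂ : F, z₁ ^ 2 + a * z₁ * z₂ + b * z₂ ^ 2 = 0 → z₁ = 0 ∧ z₂ = 0) :
    ∃ D : Setup (Cfsg.quadFormMinus k F a b) (minusForm F k a b) (k + 1),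
      (D.negOne ∈ commutator (orthGroup (minusForm F k a b)) ↔ (Even k ∧ Fintype.card F % 4 = 3)) ∧
      D.eps D.s = (-1) ^ (k + 1) ∧
      Cfsg.inndiagPOmegaMinus k F a b = D.evenSub.map (Φ (Cfsg.quadFormMinus k F a b)) := by
  classical
  obtain ⟨ν, hν0, hν⟩ := exists_nonsquare' hodd
  have h2 := two_ne_of_odd hodd
  set Q := minusForm F k a b
  have hQ := minusForm_nondeg k a b hab
  -- the plane takes the value `ν`
  obtain ⟨t, ht⟩ : ∃ t : (Fin 0 ⊕ Fin 0) ⊕ Fin 2 → F, minusForm F 0 a b t = ν := by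
    obtain ⟨t, -, ht⟩ := exists_value (Q := minusForm F 0 a b) ⊤ (by
      rw [top_inf_eq, LinearMap.BilinForm.finrank_orthogonal (minusForm_nondeg 0 a b hab), finrank_top,
        finrank_fintype_fun_eq_card, Fintype.card_sum, Fintype.card_sum, Fintype.card_fin, Fintype.card_fin]) ν
    exact ⟨t, ht⟩
  set t₁ := t (Sum.inr 0)
  set t₂ := t (Sum.inr 1)
  have hN : t₁ ^ 2 + a * t₁ * t₂ + b * t₂ ^ 2 = ν := by
    rw [← ht, ← minusForm_apply]; simp [Cfsg.quadFormMinus, t₁, t₂]
  let Mx : Matrix ((Fin k ⊕ Fin k) ⊕ Fin 2) ((Fin k ⊕ Fin k) ⊕ Fin 2) F :=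
    Matrix.fromBlocks (swapMat k ν) 0 0 (planeMat a b t₁ t₂)
  have hdetMx : Mx.det = ν ^ (k + 1) * (-1) ^ (k + 1) := by
    show (Matrix.fromBlocks _ _ _ _).det = _
    rw [Matrix.det_fromBlocks_zero₁₂, det_swapMat, planeMat, Matrix.det_fin_two_of]
    linear_combination (-(ν ^ k * (-1) ^ k)) * hN
  have hdet0 : Mx.det ≠ 0 := by
    rw [hdetMx]; exact mul_ne_zero (pow_ne_zero _ hν0) (pow_ne_zero _ (neg_ne_zero.2 one_ne_zero))
  have hsim : ∀ v, Cfsg.quadFormMinus k F a b (Mx *ᵥ v) = ν * Cfsg.quadFormMinus k F a b v := by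
    intro v
    have e1 : ∀ i, (Mx *ᵥ v) (Sum.inl (Sum.inl i)) = ν * v (Sum.inl (Sum.inr i)) := fun i => by
      simp [Mx, Matrix.fromBlocks_mulVec, swapMat_inl]
    have e2 : ∀ i, (Mx *ᵥ v) (Sum.inl (Sum.inr i)) = v (Sum.inl (Sum.inl i)) := fun i => by
      simp [Mx, Matrix.fromBlocks_mulVec, swapMat_inr]
    have e3 : (Mx *ᵥ v) (Sum.inr 0) = t₁ * v (Sum.inr 0) + (a * t₁ + b * t₂) * v (Sum.inr 1) := by
      simp [Mx, Matrix.fromBlocks_mulVec, planeMat, Matrix.mulVec, dotProduct, Fin.sum_univ_two]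
    have e4 : (Mx *ᵥ v) (Sum.inr 1) = t₂ * v (Sum.inr 0) + -t₁ * v (Sum.inr 1) := by
      simp [Mx, Matrix.fromBlocks_mulVec, planeMat, Matrix.mulVec, dotProduct, Fin.sum_univ_two]
    simp only [Cfsg.quadFormMinus, e1, e2, e3, e4, mul_add, Finset.mul_sum]
    rw [Finset.sum_congr rfl (fun i _ => by ring : ∀ i ∈ Finset.univ,
      ν * v (Sum.inl (Sum.inr i)) * v (Sum.inl (Sum.inl i)) = ν * (v (Sum.inl (Sum.inl i)) * v (Sum.inl (Sum.inr i))))]
    linear_combination (v (Sum.inr 0) ^ 2 + a * v (Sum.inr 0) * v (Sum.inr 1) + b * v (Sum.inr 1) ^ 2) * hN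
  have hsq : Mx * Mx = ν • 1 := by
    show Matrix.fromBlocks _ _ _ _ * Matrix.fromBlocks _ _ _ _ = _
    rw [Matrix.fromBlocks_multiply, ← Matrix.fromBlocks_one, Matrix.fromBlocks_smul]
    have hplane : planeMat a b t₁ t₂ * planeMat a b t₁ t₂ = ν • (1 : Matrix (Fin 2) (Fin 2) F) := by
      refine Matrix.ext fun i j => ?_
      fin_cases i <;> fin_cases j <;> simp [planeMat, Matrix.mul_apply, Fin.sum_univ_two] <;>
        first | linear_combination hN | ring
    simp only [Matrix.zero_mul, Matrix.mul_zero, add_zero, zero_add, smul_zero, swapMat_sq, hplane]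
  let s : GS (Cfsg.quadFormMinus k F a b) :=
    ⟨Matrix.GeneralLinearGroup.mkOfDetNeZero Mx hdet0, Units.mk0 ν hν0, hsim⟩
  let E : Fin k → ((Fin k ⊕ Fin k) ⊕ Fin 2 → F) := fun i => Pi.single (Sum.inl (Sum.inl i)) 1
  let G : Fin k → ((Fin k ⊕ Fin k) ⊕ Fin 2 → F) := fun i => Pi.single (Sum.inl (Sum.inr i)) 1
  have hE : ∀ i, Q (E i) = 0 := fun i => by
    simp [Q, E, ← minusForm_apply, Cfsg.quadFormMinus, Pi.single_apply]
  have hG : ∀ i, Q (G i) = 0 := fun i => by
    simp [Q, G, ← minusForm_apply, Cfsg.quadFormMinus, Pi.single_apply]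
  have hEG : ∀ j l, polar Q (E j) (G l) = if j = l then 1 else 0 := fun j l => by
    simp [Q, E, G, minusForm_polar, Pi.single_apply, eq_comm]
  have hEE : ∀ j l, polar Q (E j) (E l) = 0 := fun j l => by
    simp [Q, E, minusForm_polar, Pi.single_apply]
  have hGG : ∀ j l, polar Q (G j) (G l) = 0 := fun j l => by
    simp [Q, G, minusForm_polar, Pi.single_apply]
  let u : (Fin k ⊕ Fin k) ⊕ Fin 2 → F := Pi.single (Sum.inr 0) 1
  let w : (Fin k ⊕ Fin k) ⊕ Fin 2 → F := Pi.single (Sum.inr 0) (-a) + Pi.single (Sum.inr 1) 2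
  have hu : Q u = 1 := by simp [Q, u, ← minusForm_apply, Cfsg.quadFormMinus, Pi.single_apply]
  have hw : Q w = -(a ^ 2 - 4 * b) := by
    simp [Q, w, ← minusForm_apply, Cfsg.quadFormMinus, Pi.single_apply]; ring
  have huw : polar Q u w = 0 := by simp [Q, u, w, minusForm_polar, Pi.single_apply]; ring
  have hdisc := disc_nonsquare h2 a b hab
  have hw0 : Q w ≠ 0 := by
    rw [hw, neg_ne_zero]; exact fun h => hdisc (h ▸ IsSquare.zero)
  let i₀ : Fin k := ⟨0, by omega⟩
  let i₁ : Fin k := ⟨1, by omega⟩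
  have hne : i₀ ≠ i₁ := by simp [i₀, i₁]
  let D : Setup (Cfsg.quadFormMinus k F a b) Q (k + 1) :=
    { hQf := minusForm_apply k a b
      hQ := hQ
      h2 := h2
      hcard := by rw [Fintype.card_sum, Fintype.card_sum, Fintype.card_fin, Fintype.card_fin]; omega
      hp := ⟨E i₀, G i₀, E i₁, G i₁, hE _, hG _, hE _, hG _, (hEG _ _).trans (if_pos rfl),
        (hEG _ _).trans (if_pos rfl), hEE _ _, (hEG _ _).trans (if_neg hne),
        by rw [polar_comm, hEG, if_neg hne.symm], hGG _ _⟩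
      a := u
      ha := hu
      s := s
      hs := ⟨ν, hsq⟩
      hν := by
        rw [lin_apply, ← minusForm_apply]
        show ¬ IsSquare (Cfsg.quadFormMinus k F a b (Mx *ᵥ _))
        rw [hsim, minusForm_apply, show minusForm F k a b u = 1 from hu, mul_one]
        exact hν }
  have hmul : D.mult s = ν := D.mult_of s fun v => by
    show minusForm F k a b _ = ν * minusForm F k a b v
    rw [lin_apply, ← minusForm_apply, ← minusForm_apply]; exact hsim v
  refine ⟨D, ?_, ?_, ?_⟩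
  · obtain ⟨L, hL, hlen, hprod, hneg, hfix⟩ := exists_negPairs (Q := Q) E G hE hG hEG
      (fun j l _ => hEE j l) (fun j l _ => hGG j l)
    have hperp : ∀ i, polar Q u (E i) = 0 ∧ polar Q u (G i) = 0 ∧ polar Q w (E i) = 0 ∧ polar Q w (G i) = 0 :=
      fun i => by simp [Q, E, G, u, w, minusForm_polar, Pi.single_apply]
    have huL : ((L.map (refl Q)).prod).1 u = u := hfix u fun j =>
      ⟨by rw [polar_comm]; exact (hperp j).1, by rw [polar_comm]; exact (hperp j).2.1⟩
    have hwL : ((L.map (refl Q)).prod).1 w = w := hfix w fun j =>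
      ⟨by rw [polar_comm]; exact (hperp j).2.2.1, by rw [polar_comm]; exact (hperp j).2.2.2⟩
    have hn : D.negOne = ((L ++ [u, w]).map (refl Q)).prod := by
      rw [List.map_append, List.prod_append]
      simp only [List.map_cons, List.map_nil, List.prod_cons, List.prod_nil, mul_one]
      refine Subtype.ext (LinearEquiv.toLinearMap_injective ((Pi.basisFun F _).ext fun j => ?_))
      rw [Pi.basisFun_apply]
      show -Pi.single j 1 = ((L.map (refl Q)).prod).1 ((refl Q u).1 ((refl Q w).1 (Pi.single j 1)))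
      have hu' : (refl Q u).1 ((refl Q w).1 u) = -u := by
        rw [refl_fix Q (a := w) (v := u) (by rw [polar_comm]; exact huw), refl_self Q (by rw [hu]; exact one_ne_zero)]
      have hw' : (refl Q u).1 ((refl Q w).1 w) = -w := by
        rw [refl_self Q hw0, map_neg, refl_fix Q huw]
      rcases j with (i | i) | i
      · rw [refl_fix Q (a := w) (hperp i).2.2.1, refl_fix Q (hperp i).1]
        exact (hneg i).1.symm
      · rw [refl_fix Q (a := w) (hperp i).2.2.2, refl_fix Q (hperp i).2.1]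
        exact (hneg i).2.symm
      · revert i
        refine Fin.forall_fin_two.2 ⟨?_, ?_⟩
        · show -u = ((L.map (refl Q)).prod).1 ((refl Q u).1 ((refl Q w).1 u))
          rw [hu', map_neg, huL]
        · have e : (Pi.single (Sum.inr 1) 1 : (Fin k ⊕ Fin k) ⊕ Fin 2 → F) = (2 : F)⁻¹ • (w + a • u) := by
            simp only [w, u]
            rw [← Pi.single_smul' (Sum.inr 0) a, smul_eq_mul, mul_one, add_right_comm, ← Pi.single_add,
              neg_add_cancel, Pi.single_zero, zero_add, ← Pi.single_smul', smul_eq_mul, inv_mul_cancel₀ h2]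
          rw [e]
          simp only [map_smul, map_add, hu', hw', map_neg, huL, hwL]
          rw [← smul_neg, neg_add, ← smul_neg]
    have hL' : ∀ x ∈ L ++ [u, w], Q x ≠ 0 := by
      intro x hx
      rcases List.mem_append.1 hx with hx | hx
      · exact hL x hx
      · rcases List.mem_pair.1 hx with rfl | rfl
        · rw [hu]; exact one_ne_zero
        · exact hw0
    rw [hn, prod_refl_mem_commutator_iff hQ h2 _ hL']
    have hlen' : Even (L ++ [u, w]).length := by
      rw [List.length_append, hlen]; exact ⟨k + 1, by simp; omega⟩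
    rw [and_iff_right hlen', List.map_append, List.prod_append, hprod]
    simp only [List.map_cons, List.map_nil, List.prod_cons, List.prod_nil, mul_one]
    rw [show minusForm F k a b u = 1 from hu, show minusForm F k a b w = _ from hw, one_mul]
    have hd0 : a ^ 2 - 4 * b ≠ 0 := fun h => hdisc (h ▸ IsSquare.zero)
    rw [show (-1 : F) ^ k * -(a ^ 2 - 4 * b) = (-1) ^ (k + 1) * (a ^ 2 - 4 * b) by ring,
      ← quadraticChar_one_iff_isSquare (mul_ne_zero (pow_ne_zero _ (neg_ne_zero.2 one_ne_zero)) hd0), map_mul,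
      quadraticChar_neg_one_iff_not_isSquare.2 hdisc, mul_neg, mul_one, neg_eq_iff_eq_neg,
      quadraticChar_neg_one_iff_not_isSquare, neg_one_pow_square hodd, not_not, Nat.odd_add_one, Nat.not_odd_iff_even]
  · show Mx.det / (D.mult s) ^ (k + 1) = _
    rw [hdetMx, hmul, mul_div_cancel_left₀ _ (pow_ne_zero _ hν0)]
  · refine closure_eq_map _ D.evenSub _ fun β => ?_
    have hP : ∀ g : GS (Cfsg.quadFormMinus k F a b),
        Cfsg.PreservesSingularClassesMinus k a b (g.1 : Matrix ((Fin k ⊕ Fin k) ⊕ Fin 2) ((Fin k ⊕ Fin k) ⊕ Fin 2) F) ↔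
          g ∈ D.evenSub := fun g => by
      have hev : g ∈ D.evenSub ↔
          (g.1 : Matrix ((Fin k ⊕ Fin k) ⊕ Fin 2) ((Fin k ⊕ Fin k) ⊕ Fin 2) F).det = (D.mult g) ^ (k + 1) := by
        show (g.1 : Matrix ((Fin k ⊕ Fin k) ⊕ Fin 2) ((Fin k ⊕ Fin k) ⊕ Fin 2) F).det / (D.mult g) ^ (k + 1) = 1 ↔ _
        rw [div_eq_one_iff_eq (pow_ne_zero _ (D.mult_ne g))]
      have hMg : ∀ v, minusForm F k a b ((g.1 : Matrix ((Fin k ⊕ Fin k) ⊕ Fin 2) ((Fin k ⊕ Fin k) ⊕ Fin 2) F) *ᵥ v) =
          D.mult g * minusForm F k a b v := fun v => by rw [← lin_apply]; exact D.isSimil g v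
      have hd := ((Matrix.isUnit_iff_isUnit_det _).1 g.1.isUnit).ne_zero
      constructor
      · rintro ⟨K, iK, iA, hK, hp⟩
        exact hev.2 ((minus_preserves_iff k h2 a b hab hK _ (D.mult_ne g) hd hMg).1 hp)
      · intro h
        obtain ⟨K, iK, iA, hK⟩ := exists_quadratic_ext a b hab
        exact ⟨K, iK, iA, hK, (minus_preserves_iff k h2 a b hab hK _ (D.mult_ne g) hd hMg).2 (hev.1 h)⟩
    exact ⟨fun ⟨g, hg, hP', hi⟩ => ⟨⟨g, hg⟩, (hP ⟨g, hg⟩).1 hP', (induced_iff _ ⟨g, hg⟩ β).1 hi⟩,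
      fun ⟨g, hg, hi⟩ => ⟨g.1, g.2, (hP g).2 hg, (induced_iff _ g β).2 hi⟩⟩

end Minus

end CfsgLib.KnownC.POmegaAut
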