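import Mathlib
import Cfsg.Agent.Lib.KnownC.MatOrder

set_option autoImplicit false

/-! Element orders of `PSL_n(q)`: the orders prime to `r ∣ q - 1` that cannot be multiplied by `r`
all divide `p^e * T`, where `T` is the order of the image of the Singer cycle. -/

namespace CfsgLib.KnownC.PSLOrders

open Polynomial

variable {F : Type*} [Field F]

theorem mem_range_algebraMap_of_pow_card [Fintype F] {K : Type*} [Field K] [Algebra F K] {x : K}
    (hx : x ^ Fintype.card F = x) : ∃ c : F, algebraMap F K c = x := by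
  classical
  set g : K[X] := X ^ Fintype.card F - X
  have hg : g ≠ 0 := FiniteField.X_pow_card_sub_X_ne_zero K Fintype.one_lt_card
  have hdeg : g.natDegree = Fintype.card F :=
    FiniteField.X_pow_card_sub_X_natDegree_eq K Fintype.one_lt_card
  have hsub : Finset.univ.image (algebraMap F K) ⊆ g.roots.toFinset := by
    intro y hy
    obtain ⟨c, -, rfl⟩ := Finset.mem_image.1 hy
    rw [Multiset.mem_toFinset, mem_roots hg, IsRoot, eval_sub, eval_pow, eval_X, ← map_pow,
      FiniteField.pow_card, sub_self]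
  have hcard : g.roots.toFinset.card ≤ (Finset.univ.image (algebraMap F K)).card := by
    rw [Finset.card_image_of_injective _ (algebraMap F K).injective, Finset.card_univ, ← hdeg]
    exact (Multiset.toFinset_card_le _).trans (card_roots' g)
  have hx' : x ∈ g.roots.toFinset := by
    rw [Multiset.mem_toFinset, mem_roots hg, IsRoot, eval_sub, eval_pow, eval_X, hx, sub_self]
  rw [← Finset.eq_of_subset_of_card_le hsub hcard] at hx'
  obtain ⟨c, -, hc⟩ := Finset.mem_image.1 hx'
  exact ⟨c, hc⟩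

variable {n : ℕ}

theorem det_aeval_eq_zero {A : Matrix (Fin n) (Fin n) F} {π : F[X]} (hπ : Irreducible π)
    (h : π ∣ A.charpoly) : (aeval A π).det = 0 := by
  haveI := Fact.mk hπ
  let φ := algebraMap F (AdjoinRoot π)
  let A' := A.map φ
  obtain ⟨u, hu⟩ := h
  have hroot : A'.charpoly.IsRoot (AdjoinRoot.root π) := by
    rw [IsRoot, Matrix.charpoly_map, eval_map, hu, eval₂_mul,
      show φ = AdjoinRoot.of π from rfl, AdjoinRoot.eval₂_root, zero_mul]
  have hev : Module.End.HasEigenvalue (Matrix.toLin' A' : Module.End (AdjoinRoot π) (Fin n → AdjoinRoot π))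
      (AdjoinRoot.root π) := by
    rw [Module.End.hasEigenvalue_iff_mem_spectrum, Matrix.spectrum_toLin',
      Matrix.mem_spectrum_iff_isRoot_charpoly]
    exact hroot
  obtain ⟨w, hw⟩ := hev.exists_hasEigenvector
  have h0 := Module.End.aeval_apply_of_hasEigenvector (p := π.map φ) hw
  have hz : (π.map φ).eval (AdjoinRoot.root π) = 0 := by
    rw [eval_map, show φ = AdjoinRoot.of π from rfl, AdjoinRoot.eval₂_root]
  rw [hz, zero_smul, show Matrix.toLin' A' = Matrix.toLinAlgEquiv' A' from rfl, aeval_algHom_apply] at h0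
  have hmap : aeval A' (π.map φ) = (aeval A π).map φ := by
    rw [aeval_map_algebraMap]
    exact aeval_algHom_apply (Algebra.ofId F (AdjoinRoot π)).mapMatrix A π
  rw [hmap] at h0
  have hdet : ((aeval A π).map φ).det = 0 :=
    Matrix.exists_mulVec_eq_zero_iff.1 ⟨w, hw.2, h0⟩
  rw [show (aeval A π).map φ = φ.mapMatrix (aeval A π) from rfl, ← RingHom.map_det] at hdet
  exact (map_eq_zero φ).1 hdet

/-- The order of the image of the Singer cycle of `SL_n` in `PSL_n`. -/
def torusOrder (F : Type*) [Fintype F] (n : ℕ) : ℕ :=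
  (∑ i ∈ Finset.range n, Fintype.card F ^ i) / Nat.gcd n (Fintype.card F - 1)

theorem torusOrder_mul [Fintype F] (n : ℕ) :
    torusOrder F n * Nat.gcd n (Fintype.card F - 1) = ∑ i ∈ Finset.range n, Fintype.card F ^ i := by
  refine Nat.div_mul_cancel ?_
  have h1 : ∀ i, Fintype.card F ^ i ≡ 1 [MOD Fintype.card F - 1] := by
    intro i
    refine ((Nat.modEq_iff_dvd' (Nat.one_le_pow _ _ Fintype.card_pos)).2 ?_).symm
    exact Nat.sub_one_dvd_pow_sub_one _ _
  have h2 : ∑ i ∈ Finset.range n, Fintype.card F ^ i ≡ n [MOD Fintype.card F - 1] := by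
    induction n with
    | zero => simp [Nat.ModEq]
    | succ k ih => rw [Finset.sum_range_succ]; exact ih.add (h1 k)
  exact ((h2.of_dvd (Nat.gcd_dvd_right _ _)).dvd_iff dvd_rfl).2 (Nat.gcd_dvd_left _ _)



open Matrix in
theorem eq_smul_one_of_mem_center {A : Matrix.SpecialLinearGroup (Fin n) F}
    (hA : A ∈ Subgroup.center (Matrix.SpecialLinearGroup (Fin n) F)) :
    ∃ t : F, t ^ n = 1 ∧ (A : Matrix (Fin n) (Fin n) F) = t • 1 := by
  obtain ⟨t, ht, hA'⟩ := Matrix.SpecialLinearGroup.mem_center_iff.1 hA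
  exact ⟨t, by rwa [Fintype.card_fin] at ht, by rw [← hA', Matrix.scalar_apply, Matrix.smul_one_eq_diagonal]⟩

theorem mem_center_of_eq_smul_one {A : Matrix.SpecialLinearGroup (Fin n) F} {t : F}
    (hA : (A : Matrix (Fin n) (Fin n) F) = t • 1) :
    A ∈ Subgroup.center (Matrix.SpecialLinearGroup (Fin n) F) :=
  Subgroup.mem_center_iff.2 fun B => Subtype.ext <| by
    rw [Matrix.SpecialLinearGroup.coe_mul, Matrix.SpecialLinearGroup.coe_mul, hA,
      Matrix.smul_mul, Matrix.mul_smul, one_mul, mul_one]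

local notation "PSL" => Matrix.ProjectiveSpecialLinearGroup (Fin n) F

theorem mk_pow_eq_one_iff (A : Matrix.SpecialLinearGroup (Fin n) F) (k : ℕ) :
    (QuotientGroup.mk A : PSL) ^ k = 1 ↔ ∃ t : F, (A : Matrix (Fin n) (Fin n) F) ^ k = t • 1 := by
  rw [← QuotientGroup.mk_pow, QuotientGroup.eq_one_iff]
  constructor
  · intro h
    obtain ⟨t, -, ht⟩ := eq_smul_one_of_mem_center h
    exact ⟨t, by rw [← ht, Matrix.SpecialLinearGroup.coe_pow]⟩
  · rintro ⟨t, ht⟩
    exact mem_center_of_eq_smul_one (t := t) (by rw [← ht, Matrix.SpecialLinearGroup.coe_pow])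

theorem exists_scale_exponent {r : ℕ} (hr : r.Prime) (hrn : ¬ r ∣ n) :
    ∃ k : ℕ, r ∣ k * n + 1 := by
  haveI := Fact.mk hr
  refine ⟨(-(n : ZMod r)⁻¹).val, ?_⟩
  have hn : (n : ZMod r) ≠ 0 := fun h => hrn ((ZMod.natCast_eq_zero_iff _ _).1 h) 
  rw [← ZMod.natCast_eq_zero_iff]
  push_cast
  rw [ZMod.natCast_zmod_val, neg_mul, inv_mul_cancel₀ hn, neg_add_cancel]

/-- An element of a small algebra with norm an `r`-th root of unity gives an element of `PSL_n`. -/
theorem exists_psl_of_algebra {R : Type*} [CommRing R] [Algebra F R] [FiniteDimensional F R]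
    {r : ℕ} (hr : r.Prime) (hrn : ¬ r ∣ n)
    (h : Module.finrank F R < n) (u : R) (hu : Algebra.norm F u ^ r = 1) :
    ∃ y : PSL, orderOf u ∣ orderOf y := by
  classical
  obtain ⟨ψ, hψ, hdet, hsc⟩ := MatOrder.exists_padHom' (F := F) h.le
  obtain ⟨k, hk⟩ := exists_scale_exponent hr hrn
  set c : F := Algebra.norm F u ^ k with hc
  have hd0 : Algebra.norm F u ≠ 0 := fun h0 => by simp [h0, hr.ne_zero] at hu
  have hdet1 : (c • ψ (Algebra.lmul F R u)).det = 1 := by
    rw [Matrix.det_smul, Fintype.card_fin, hdet]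
    show c ^ n * LinearMap.det (Algebra.lmul F R u) = 1
    rw [← Algebra.norm_apply, hc, ← pow_mul, ← pow_succ]
    obtain ⟨m, hm⟩ := hk
    rw [hm, pow_mul, hu, one_pow]
  refine ⟨QuotientGroup.mk ⟨_, hdet1⟩, ?_⟩
  generalize hi : orderOf (QuotientGroup.mk (⟨_, hdet1⟩ : Matrix.SpecialLinearGroup (Fin n) F) : PSL) = i
  obtain ⟨t, ht⟩ := (mk_pow_eq_one_iff _ i).1 (by rw [← hi]; exact pow_orderOf_eq_one _)
  have hci : c ^ i ≠ 0 := pow_ne_zero _ (pow_ne_zero _ hd0)
  have h2 : ψ ((Algebra.lmul F R u) ^ i) = (t / c ^ i) • 1 := by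
    rw [map_pow]
    change (c • ψ (Algebra.lmul F R u)) ^ i = t • 1 at ht
    rw [_root_.smul_pow] at ht
    rw [div_eq_inv_mul, mul_smul, ← ht, smul_smul, inv_mul_cancel₀ hci, one_smul]
  have h3 := hsc _ _ h h2
  rw [← map_pow] at h3
  exact orderOf_dvd_of_pow_eq_one (Algebra.lmul_injective (h3.trans (map_one _).symm))

theorem exists_psl_torus [Fintype F] (p : ℕ) [Fact p.Prime] [CharP F p] (hn : 1 ≤ n) :
    ∃ y : PSL, torusOrder F n ∣ orderOf y := by
  classical
  haveI : NeZero n := ⟨by omega⟩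
  let K := FiniteField.Extension F p n
  have hq : 2 ≤ Fintype.card F := Fintype.one_lt_card
  obtain ⟨ζ, hζ⟩ := IsCyclic.exists_ofOrder_eq_natCard (α := Kˣ)
  rw [Nat.card_units, FiniteField.natCard_extension F p n, Nat.card_eq_fintype_card] at hζ
  set M := ∑ i ∈ Finset.range n, Fintype.card F ^ i with hM
  have hMq : M * (Fintype.card F - 1) = Fintype.card F ^ n - 1 := by
    rw [hM, geom_sum_mul_of_one_le (by omega)]
  set x : K := ((ζ ^ (Fintype.card F - 1) : Kˣ) : K) with hx
  have hox : orderOf x = M := by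
    rw [hx, orderOf_units, orderOf_pow_of_dvd (by omega) ⟨M, by rw [hζ, ← hMq, mul_comm]⟩, hζ,
      ← hMq, Nat.mul_div_cancel _ (by omega)]
  have hnorm : Algebra.norm F x = 1 := by
    rw [hx, Units.val_pow_eq_pow_val, map_pow]
    exact FiniteField.pow_card_sub_one_eq_one _ (Algebra.norm_ne_zero_iff.2 ζ.ne_zero)
  obtain ⟨ψ, hψ, hdet⟩ := MatOrder.exists_padHom (F := F) (n := n) (V := K)
    (by rw [FiniteField.finrank_extension F p n])
  let φ : K →* Matrix (Fin n) (Fin n) F := ψ.comp (Algebra.lmul F K).toRingHom.toMonoidHom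
  have hφ : Function.Injective φ := hψ.comp Algebra.lmul_injective
  have hdet1 : (φ x).det = 1 := by
    show (ψ (Algebra.lmul F K x)).det = 1
    rw [hdet, ← hnorm, Algebra.norm_apply]
  refine ⟨QuotientGroup.mk ⟨_, hdet1⟩, ?_⟩
  generalize hi : orderOf (QuotientGroup.mk (⟨_, hdet1⟩ : Matrix.SpecialLinearGroup (Fin n) F) : PSL) = i
  obtain ⟨t, ht⟩ := (mk_pow_eq_one_iff _ i).1 (by rw [← hi]; exact pow_orderOf_eq_one _)
  change φ x ^ i = t • 1 at ht
  have htn : t ^ n = 1 := by
    have := congrArg Matrix.det ht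
    rw [Matrix.det_pow, hdet1, one_pow, Matrix.det_smul, Matrix.det_one, mul_one,
      Fintype.card_fin] at this
    exact this.symm
  have ht0 : t ≠ 0 := fun h0 => by rw [h0, zero_pow (by omega)] at htn; exact zero_ne_one htn
  have key : ∀ m, t ^ m = 1 → M ∣ i * m := fun m hm => by
    rw [← hox]
    refine orderOf_dvd_of_pow_eq_one (hφ ?_)
    rw [map_pow, pow_mul, ht, _root_.smul_pow, hm, one_pow, one_smul, map_one]
  have h := Nat.dvd_gcd (key n htn) (key _ (FiniteField.pow_card_sub_one_eq_one t ht0))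
  rw [Nat.gcd_mul_left, hM, ← torusOrder_mul] at h
  exact Nat.dvd_of_mul_dvd_mul_right (Nat.gcd_pos_of_pos_left _ (by omega)) h

theorem exists_psl_unipotent (p : ℕ) [Fact p.Prime] [CharP F p] (hn : 1 ≤ n) :
    ∃ y : PSL, p ^ Nat.clog p n ∣ orderOf y := by
  classical
  obtain ⟨A, hA, hdet⟩ := MatOrder.exists_matrix_unipotent (F := F) p hn
  refine ⟨QuotientGroup.mk ⟨A, hdet⟩, ?_⟩
  generalize hi : orderOf (QuotientGroup.mk (⟨A, hdet⟩ : Matrix.SpecialLinearGroup (Fin n) F) : PSL) = i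
  obtain ⟨t, ht⟩ := (mk_pow_eq_one_iff _ i).1 (by rw [← hi]; exact pow_orderOf_eq_one _)
  change A ^ i = t • 1 at ht
  rw [← hA]
  apply orderOf_dvd_of_pow_eq_one
  have h1 : t ^ (p ^ Nat.clog p n) = 1 := by
    have h : (A ^ i) ^ (p ^ Nat.clog p n) = 1 := by
      rw [← pow_mul, mul_comm, pow_mul, ← hA, pow_orderOf_eq_one, one_pow]
    rw [ht, _root_.smul_pow, one_pow] at h
    simpa [Matrix.smul_apply] using congrFun (congrFun h ⟨0, by omega⟩) ⟨0, by omega⟩
  have h3 : (t - 1) ^ (p ^ Nat.clog p n) = 0 := by rw [sub_pow_char_pow, h1, one_pow, sub_self]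
  rw [ht, sub_eq_zero.1 (pow_eq_zero_iff'.1 h3).1, one_smul]

theorem exists_psl_unipotent_mul (p : ℕ) [Fact p.Prime] [CharP F p] {r : ℕ} (hr : r.Prime)
    (hrn : ¬ r ∣ n) (hn : 2 ≤ n) {ε : F} (hε : orderOf ε = r) (hrp : r ≠ p)
    (hj : ¬ ∃ j : ℕ, n - 1 = p ^ j) :
    ∃ y : PSL, p ^ Nat.clog p n * r ∣ orderOf y := by
  classical
  have hp := (Fact.out : p.Prime)
  let g : F[X] := X ^ (n - 1)
  have hg : g.Monic := monic_X_pow _
  haveI : Module.Finite F (AdjoinRoot g) := hg.finite_adjoinRoot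
  haveI : Nontrivial (AdjoinRoot g) := AdjoinRoot.nontrivial g (by simp [g]; omega)
  haveI : CharP (AdjoinRoot g) p :=
    charP_of_injective_algebraMap (algebraMap F (AdjoinRoot g)).injective p
  let x := AdjoinRoot.root g
  have hx : ∀ k, x ^ k = 0 ↔ n - 1 ≤ k := by
    intro k
    show AdjoinRoot.root g ^ k = 0 ↔ _
    rw [← AdjoinRoot.mk_X, ← map_pow, AdjoinRoot.mk_eq_zero]
    exact pow_dvd_pow_iff X_ne_zero not_isUnit_X
  have hpow : ∀ k, (1 + x) ^ (p ^ k) = 1 ↔ n - 1 ≤ p ^ k := by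
    intro k
    rw [add_pow_char_pow, one_pow, add_eq_left, hx]
  obtain ⟨e, he⟩ : ∃ e, Nat.clog p n = e + 1 :=
    ⟨Nat.clog p n - 1, by have := Nat.clog_pos hp.one_lt hn; omega⟩
  have h1 : orderOf (1 + x) = p ^ Nat.clog p n := by
    rw [he]
    apply orderOf_eq_prime_pow
    · rw [hpow]
      have h1 := Nat.pow_pred_clog_lt_self hp.one_lt hn
      rw [he] at h1
      simp only [Nat.pred_succ] at h1
      intro hle
      exact hj ⟨e, by omega⟩
    · rw [hpow, ← he]
      exact le_trans (Nat.sub_le _ _) (Nat.le_pow_clog hp.one_lt n)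
  have h2 : orderOf (algebraMap F (AdjoinRoot g) ε) = r := by
    rw [← hε]
    exact orderOf_injective (algebraMap F (AdjoinRoot g)).toMonoidHom
      (algebraMap F (AdjoinRoot g)).injective ε
  have hord : orderOf ((1 + x) * algebraMap F (AdjoinRoot g) ε) = p ^ Nat.clog p n * r := by
    rw [(Commute.all _ _).orderOf_mul_eq_mul_orderOf_of_coprime, h1, h2]
    rw [h1, h2]
    exact Nat.Coprime.pow_left _ ((Nat.coprime_primes hp hr).2 (Ne.symm hrp))
  rw [← hord]
  refine exists_psl_of_algebra hr hrn ?_ _ ?_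
  · rw [PowerBasis.finrank (AdjoinRoot.powerBasis hg.ne_zero), AdjoinRoot.powerBasis_dim]
    simp [g]; omega
  · have := congrArg (Algebra.norm F) (pow_orderOf_eq_one ((1 + x) * algebraMap F (AdjoinRoot g) ε))
    rw [hord, map_pow, map_one, mul_comm (p ^ _), pow_mul] at this
    have h3 : ((Algebra.norm F) ((1 + x) * algebraMap F (AdjoinRoot g) ε) ^ r - 1) ^ (p ^ Nat.clog p n) = 0 := by
      rw [sub_pow_char_pow, this, one_pow, sub_self]
    exact sub_eq_zero.1 (pow_eq_zero_iff'.1 h3).1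

theorem exists_psl_prime {r : ℕ} (hr : r.Prime) (hrn : ¬ r ∣ n) (hn : 2 ≤ n) {ε : F}
    (hε : orderOf ε = r) : ∃ y : PSL, r ∣ orderOf y := by
  rw [← hε]
  refine exists_psl_of_algebra hr hrn (by rw [Module.finrank_self]; omega) ε ?_
  rw [Algebra.norm_self, MonoidHom.id_apply, ← hε, pow_orderOf_eq_one]

/-- If the characteristic polynomial is a power of one irreducible, the order divides `P * T`. -/
theorem orderOf_dvd_of_charpoly_pow [Fintype F] (p : ℕ) [Fact p.Prime] [CharP F p] (hn : 1 ≤ n)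
    (s : Matrix.SpecialLinearGroup (Fin n) F) {g : F[X]} (hg : Irreducible g) (hgm : g.Monic) {j : ℕ}
    (h : (s : Matrix (Fin n) (Fin n) F).charpoly = g ^ j) :
    orderOf (QuotientGroup.mk s : PSL) ∣ p ^ Nat.clog p n * torusOrder F n := by
  classical
  haveI := Fact.mk hg
  set A := (s : Matrix (Fin n) (Fin n) F) with hA
  set q := Fintype.card F with hq
  set d := g.natDegree with hd
  have hdj : j * d = n := by
    have := congrArg natDegree h
    rw [Matrix.charpoly_natDegree_eq_dim, Fintype.card_fin, natDegree_pow] at this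
    exact this.symm
  have hdet : ((-1) ^ d * g.coeff 0) ^ j = 1 := by
    have h1 : A.det = 1 := s.2
    rw [Matrix.det_eq_sign_charpoly_coeff, h, Fintype.card_fin, ← hdj, mul_comm j, pow_mul,
      coeff_zero_eq_eval_zero, eval_pow, ← coeff_zero_eq_eval_zero, ← mul_pow] at h1
    exact h1
  let K := AdjoinRoot g
  let pb := AdjoinRoot.powerBasis hg.ne_zero
  haveI : FiniteDimensional F K := pb.finite
  haveI : Finite K := Module.finite_of_finite F
  letI : Fintype K := Fintype.ofFinite K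
  set α : K := AdjoinRoot.root g with hα
  have hKd : Module.finrank F K = d := by
    rw [PowerBasis.finrank pb, AdjoinRoot.powerBasis_dim]
  have hN : α ^ (∑ i ∈ Finset.range d, q ^ i) = algebraMap F K ((-1) ^ d * g.coeff 0) := by
    have h1 : Algebra.norm F α = (-1) ^ d * g.coeff 0 := by
      have h2 := Algebra.PowerBasis.norm_gen_eq_coeff_zero_minpoly pb
      rw [AdjoinRoot.powerBasis_gen, AdjoinRoot.powerBasis_dim, AdjoinRoot.minpoly_root hg.ne_zero,
        hgm.leadingCoeff] at h2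
      simpa using h2
    rw [← h1, FiniteField.algebraMap_norm_eq_pow_sum, hKd, Nat.card_eq_fintype_card, ← hq]
  have hαM : α ^ (∑ i ∈ Finset.range n, q ^ i) = 1 := by
    have hfix : ∀ k, α ^ (q ^ (d * k)) = α := by
      have hK : Fintype.card K = q ^ d := by rw [Module.card_eq_pow_finrank (K := F), hKd]
      intro k
      rw [pow_mul, ← hK, FiniteField.pow_card_pow]
    have key : ∀ j, α ^ (∑ i ∈ Finset.range (j * d), q ^ i) =
        (α ^ (∑ i ∈ Finset.range d, q ^ i)) ^ j := by
      intro j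
      induction j with
      | zero => simp
      | succ k ih =>
        rw [Nat.succ_mul, Finset.sum_range_add, pow_add, ih, pow_succ]
        congr 1
        simp_rw [pow_add, ← Finset.mul_sum]
        rw [pow_mul, mul_comm k d, hfix]
    rw [← hdj, key, hN, ← map_pow, hdet, map_one]
  obtain ⟨c, hc⟩ : ∃ c : F, algebraMap F K c = α ^ torusOrder F n := by
    refine mem_range_algebraMap_of_pow_card ?_
    obtain ⟨t, ht⟩ := Nat.gcd_dvd_right n (Fintype.card F - 1)
    have h1 : (α ^ torusOrder F n) ^ (Fintype.card F - 1) = 1 := by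
      rw [ht, ← pow_mul, ← mul_assoc, torusOrder_mul, pow_mul, hαM, one_pow]
    conv_lhs => rw [← Nat.sub_add_cancel (Fintype.card_pos (α := F)), pow_succ, h1, one_mul]
  have hdiv : g ∣ X ^ torusOrder F n - C c := by
    rw [← AdjoinRoot.mk_eq_zero, map_sub, map_pow, AdjoinRoot.mk_X, AdjoinRoot.mk_C, sub_eq_zero,
      ← hc, AdjoinRoot.algebraMap_eq]
  have hle : j ≤ p ^ Nat.clog p n := by
    refine le_trans ?_ (Nat.le_pow_clog (Fact.out : p.Prime).one_lt n)
    calc j ≤ j * d := Nat.le_mul_of_pos_right _ hg.natDegree_pos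
      _ = n := hdj
  obtain ⟨w, hw⟩ : A.charpoly ∣
      X ^ (torusOrder F n * p ^ Nat.clog p n) - C (c ^ (p ^ Nat.clog p n)) := by
    rw [h, pow_mul, C_pow, ← sub_pow_char_pow]
    exact (pow_dvd_pow g hle).trans (pow_dvd_pow_of_dvd hdiv _)
  have h2 := congrArg (aeval A) hw
  rw [map_mul, Matrix.aeval_self_charpoly, zero_mul, map_sub, map_pow, aeval_X, aeval_C,
    sub_eq_zero, Algebra.algebraMap_eq_smul_one] at h2
  apply orderOf_dvd_of_pow_eq_one
  rw [mul_comm, mk_pow_eq_one_iff]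
  exact ⟨_, h2⟩

/-- If the characteristic polynomial has two coprime factors, a commuting element of order `r` exists. -/
theorem exists_mul_dvd_orderOf {r : ℕ} (hr : r.Prime) (hrn : ¬ r ∣ n) {ε : F} (hε : orderOf ε = r)
    (s : Matrix.SpecialLinearGroup (Fin n) F) {u v π σ : F[X]}
    (huv : (s : Matrix (Fin n) (Fin n) F).charpoly = u * v) (hcop : IsCoprime u v)
    (hπ : Irreducible π) (hπu : π ∣ u) (hσ : Irreducible σ) (hσv : σ ∣ v)
    (hs : ¬ r ∣ orderOf (QuotientGroup.mk s : PSL)) :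
    ∃ y : PSL, r * orderOf (QuotientGroup.mk s : PSL) ∣ orderOf y := by
  classical
  set A := (s : Matrix (Fin n) (Fin n) F) with hA
  obtain ⟨a, b, hab⟩ := hcop
  set E := aeval A (a * u) with hE
  have h0 : aeval A (u * v) = 0 := by rw [← huv, Matrix.aeval_self_charpoly]
  have hEE : E * E = E := by
    rw [hE, ← map_mul]
    have : a * u * (a * u) = a * u - a * b * (u * v) := by
      have hau : a * u = 1 - b * v := eq_sub_of_add_eq hab
      calc a * u * (a * u) = a * u * (1 - b * v) := by rw [← hau]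
        _ = _ := by ring
    rw [this, map_sub, map_mul (aeval A) (a * b), h0, mul_zero, sub_zero]
  have hnot : ∀ (w c : F[X]) (τ : F[X]), Irreducible τ → τ ∣ w → τ ∣ A.charpoly →
      aeval A (c * w) ≠ 1 := by
    intro w c τ hτ hτw hτA hone
    obtain ⟨w', rfl⟩ := hτw
    have h1 := congrArg Matrix.det hone
    rw [map_mul, map_mul, Matrix.det_mul, Matrix.det_mul, det_aeval_eq_zero hτ hτA, Matrix.det_one,
      zero_mul, mul_zero] at h1
    exact zero_ne_one h1
  have hE1 : E ≠ 1 := hnot u a π hπ hπu (huv ▸ hπu.mul_right v)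
  have hE0 : E ≠ 0 := by
    intro hE0
    refine hnot v b σ hσ hσv (huv ▸ hσv.mul_left u) ?_
    have h1 := congrArg (aeval A) hab
    rwa [map_add, map_one, ← hE, hE0, zero_add] at h1
  let z : F →* Matrix (Fin n) (Fin n) F :=
    { toFun := fun x => 1 + (x - 1) • E
      map_one' := by simp
      map_mul' := fun x y => by
        rw [mul_add, add_mul, add_mul, one_mul, one_mul, mul_one, smul_mul_smul_comm, hEE,
          show x * y - 1 = (x - 1) + (y - 1) + (x - 1) * (y - 1) by ring, add_smul, add_smul]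
        abel }
  have hzsc : ∀ (x t : F), z x = t • 1 → x = 1 := by
    intro x t ht
    by_contra hx
    have hx' : x - 1 ≠ 0 := sub_ne_zero.2 hx
    have h1 : E = ((t - 1) / (x - 1)) • (1 : Matrix (Fin n) (Fin n) F) := by
      rw [div_eq_inv_mul, mul_smul, sub_smul, one_smul, ← ht]
      show E = (x - 1)⁻¹ • (1 + (x - 1) • E - 1)
      rw [add_sub_cancel_left, smul_smul, inv_mul_cancel₀ hx', one_smul]
    set l := (t - 1) / (x - 1) with hl
    have h2 : (l * l - l) • (1 : Matrix (Fin n) (Fin n) F) = 0 := by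
      rw [h1, smul_mul_smul_comm, mul_one] at hEE
      rw [sub_smul, hEE, sub_self]
    rcases smul_eq_zero.1 h2 with h3 | h3
    · rcases mul_eq_zero.1 (show l * (l - 1) = 0 by rw [mul_sub, mul_one, h3]) with h4 | h4
      · exact hE0 (by rw [h1, h4, zero_smul])
      · exact hE1 (by rw [h1, sub_eq_zero.1 h4, one_smul])
    · exact hE0 (by rw [h1, h3, smul_zero])
  obtain ⟨k, hk⟩ := exists_scale_exponent hr hrn
  have hεr : ε ^ r = 1 := by rw [← hε, pow_orderOf_eq_one]
  have hzr : z ε ^ r = 1 := by rw [← map_pow, hεr, map_one]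
  set c : F := (z ε).det ^ k with hc
  have hdr : (z ε).det ^ r = 1 := by rw [← Matrix.det_pow, hzr, Matrix.det_one]
  have hcr : c ^ r = 1 := by rw [hc, pow_right_comm, hdr, one_pow]
  have hc0 : c ≠ 0 := fun h => by rw [h, zero_pow hr.ne_zero] at hcr; exact zero_ne_one hcr
  have hdet1 : (c • z ε).det = 1 := by
    rw [Matrix.det_smul, Fintype.card_fin, hc, ← pow_mul, ← pow_succ]
    obtain ⟨m, hm⟩ := hk
    rw [hm, pow_mul, hdr, one_pow]
  let t' : Matrix.SpecialLinearGroup (Fin n) F := ⟨c • z ε, hdet1⟩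
  have hord : orderOf (QuotientGroup.mk t' : PSL) = r := by
    refine ((Nat.dvd_prime hr).1 (orderOf_dvd_of_pow_eq_one ?_)).resolve_left ?_
    · rw [mk_pow_eq_one_iff]
      refine ⟨1, ?_⟩
      show (c • z ε) ^ r = _
      rw [_root_.smul_pow, hzr, hcr]
    · intro h1
      obtain ⟨t, ht⟩ := (mk_pow_eq_one_iff t' 1).1 (by rw [pow_one, ← orderOf_eq_one_iff]; exact h1)
      rw [pow_one] at ht
      change c • z ε = t • 1 at ht
      have : z ε = (c⁻¹ * t) • 1 := by rw [mul_smul, ← ht, smul_smul, inv_mul_cancel₀ hc0, one_smul]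
      exact hr.one_lt.ne' (by rw [← hε, hzsc _ _ this, orderOf_one])
  have hAE : Commute A E := by
    have h1 := (Commute.all (X : F[X]) (a * u)).map (aeval A)
    rwa [aeval_X] at h1
  have hcomm : Commute s t' := by
    refine Subtype.ext ?_
    show A * (c • (1 + (ε - 1) • E)) = (c • (1 + (ε - 1) • E)) * A
    exact (((Commute.one_right A).add_right (hAE.smul_right (ε - 1))).smul_right c).eq
  refine ⟨QuotientGroup.mk t' * QuotientGroup.mk s, ?_⟩
  have hc' : Commute (QuotientGroup.mk t' : PSL) (QuotientGroup.mk s : PSL) :=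
    hcomm.symm.map (QuotientGroup.mk' _)
  rw [hc'.orderOf_mul_eq_mul_orderOf_of_coprime]
  · exact dvd_of_eq (by rw [← hord])
  · show Nat.Coprime (orderOf (QuotientGroup.mk t' : PSL)) (orderOf (QuotientGroup.mk s : PSL))
    rw [hord]
    exact hr.coprime_iff_not_dvd.2 hs

theorem dichotomy [Fintype F] (p : ℕ) [Fact p.Prime] [CharP F p] {r : ℕ} (hr : r.Prime)
    (hrn : ¬ r ∣ n) (hn : 1 ≤ n) {ε : F} (hε : orderOf ε = r) (x : PSL) (hx : ¬ r ∣ orderOf x) :
    (∃ y : PSL, r * orderOf x ∣ orderOf y) ∨ orderOf x ∣ p ^ Nat.clog p n * torusOrder F n := by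
  classical
  obtain ⟨s, rfl⟩ := QuotientGroup.mk_surjective x
  set A := (s : Matrix (Fin n) (Fin n) F)
  have hnu : ¬ IsUnit A.charpoly := fun h => by
    have := natDegree_eq_zero_of_isUnit h
    rw [Matrix.charpoly_natDegree_eq_dim, Fintype.card_fin] at this
    omega
  obtain ⟨g, hgm, hg, hgd⟩ := Polynomial.exists_monic_irreducible_factor A.charpoly hnu
  have hfin : FiniteMultiplicity g A.charpoly :=
    Polynomial.finiteMultiplicity_of_degree_pos_of_monic hg.degree_pos hgm A.charpoly_monic.ne_zero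
  obtain ⟨v, hv, hgv⟩ := hfin.exists_eq_pow_mul_and_not_dvd
  set k := multiplicity g A.charpoly
  by_cases hvu : IsUnit v
  · refine Or.inr (orderOf_dvd_of_charpoly_pow p hn s hg hgm (j := k) ?_)
    have hvm : v.Monic := (hgm.pow k).of_mul_monic_left (hv ▸ A.charpoly_monic)
    rw [hv, hvm.eq_one_of_isUnit hvu, mul_one]
  · obtain ⟨σ, hσ, hσv⟩ := WfDvdMonoid.exists_irreducible_factor hvu
      (fun h => A.charpoly_monic.ne_zero (by rw [hv, h, mul_zero]))
    have hk : k ≠ 0 := by
      intro hk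
      rw [hk, pow_zero, one_mul] at hv
      exact hgv (hv ▸ hgd)
    exact Or.inl (exists_mul_dvd_orderOf hr hrn hε s hv
      ((hg.coprime_iff_not_dvd.2 hgv).pow_left) hg (dvd_pow_self g hk) hσ hσv hx)

end CfsgLib.KnownC.PSLOrders
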