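import Cfsg.Agent.Lib.KnownC.NormSurj
import Mathlib

set_option autoImplicit false
set_option linter.unusedSectionVars false

/-! Isometries that are linearly conjugate: the part without fixed vectors. -/

namespace CfsgLib.KnownC.FormConj

open Module

/-- A self-adjoint unit is a norm in the algebra it generates with an isometry. -/
theorem exists_norm {F E : Type*} [Field F] [Ring E] [Algebra F E] [Finite E] (τ : E →ₗ[F] E)
    (hmul : ∀ x y, τ (x * y) = τ y * τ x) (hone : τ 1 = 1) (a s : Eˣ) (hcomm : Commute a s)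
    (ha : τ (a : E) = ((a⁻¹ : Eˣ) : E)) (hs : τ (s : E) = s)
    (hθ : IsUnit ((a : E) - ((a⁻¹ : Eˣ) : E))) :
    ∃ v : Eˣ, τ (v : E) * v = s ∧ Commute a v := by
  classical
  set R := Algebra.adjoin F ({(a : E), (s : E)} : Set E)
  have hgen : ∀ x ∈ ({(a : E), (s : E)} : Set E), ∀ y ∈ ({(a : E), (s : E)} : Set E), x * y = y * x := by
    rintro x (rfl | rfl) y (rfl | rfl)
    · rfl
    · exact congrArg Units.val hcomm.eq
    · exact congrArg Units.val hcomm.eq.symm
    · rfl
  have hc : ∀ x y : R, x * y = y * x := fun x y =>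
    Subtype.ext (Algebra.commute_of_mem_adjoin_of_forall_mem_commute y.2 fun b hb =>
      (Algebra.commute_of_mem_adjoin_of_forall_mem_commute x.2 fun c hc => hgen b hb c hc).symm)
  letI : CommRing R := { (inferInstance : Ring R) with mul_comm := hc }
  haveI : Finite R := inferInstance
  have haR : (a : E) ∈ R := Algebra.subset_adjoin (Or.inl rfl)
  have hsR : (s : E) ∈ R := Algebra.subset_adjoin (Or.inr rfl)
  have hunit : ∀ x : R, IsUnit (x : E) → IsUnit x := by
    intro x hx
    have hinj : Function.Injective (fun y : R => x * y) := fun y z h => Subtype.ext (hx.mul_left_cancel (congrArg Subtype.val h))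
    obtain ⟨y, hy⟩ := (Finite.injective_iff_surjective.1 hinj) 1
    exact IsUnit.of_mul_eq_one y hy
  have haiR : ((a⁻¹ : Eˣ) : E) ∈ R := by
    obtain ⟨y, hy⟩ := (hunit ⟨_, haR⟩ a.isUnit).exists_right_inv
    have h : (a : E) * (y : E) = 1 := congrArg Subtype.val hy
    rw [show ((a⁻¹ : Eˣ) : E) = y from Units.inv_eq_of_mul_eq_one_right h]
    exact y.2
  have halg : ∀ c : F, τ (algebraMap F E c) = algebraMap F E c := fun c => by
    rw [Algebra.algebraMap_eq_smul_one, map_smul, hone]
  have hmem : ∀ x ∈ R, τ x ∈ R ∧ τ (τ x) = x := by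
    intro x hx
    induction hx using Algebra.adjoin_induction with
    | mem y hy =>
      rcases hy with rfl | rfl
      · refine ⟨ha ▸ haiR, ?_⟩
        rw [ha]
        have e : τ ((a⁻¹ : Eˣ) : E) * τ (a : E) = 1 := by rw [← hmul, Units.mul_inv, hone]
        rw [ha] at e
        calc τ ((a⁻¹ : Eˣ) : E) = τ ((a⁻¹ : Eˣ) : E) * ((a⁻¹ : Eˣ) : E) * a := by
              rw [mul_assoc, Units.inv_mul, mul_one]
          _ = a := by rw [e, one_mul]
      · exact ⟨hs.symm ▸ hsR, by rw [hs, hs]⟩
    | algebraMap c => exact ⟨by rw [halg]; exact R.algebraMap_mem c, by rw [halg, halg]⟩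
    | add y z _ _ hy hz => exact ⟨by rw [map_add]; exact R.add_mem hy.1 hz.1, by rw [map_add, map_add, hy.2, hz.2]⟩
    | mul y z _ _ hy hz => exact ⟨by rw [hmul]; exact R.mul_mem hz.1 hy.1, by rw [hmul, hmul, hy.2, hz.2]⟩
  let σ : R →+* R :=
    { toFun := fun x => ⟨τ x, (hmem x x.2).1⟩
      map_one' := Subtype.ext hone
      map_mul' := fun x y => by
        rw [mul_comm x y]
        exact Subtype.ext (hmul _ _)
      map_zero' := Subtype.ext (map_zero τ)
      map_add' := fun x y => Subtype.ext (map_add τ _ _) }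
  obtain ⟨v, hv, hvs⟩ := NormSurj.norm_surjective σ (fun x => Subtype.ext (hmem x x.2).2)
    (θ := ⟨(a : E), haR⟩) (hunit _ (by
      show IsUnit ((a : E) - τ (a : E))
      rwa [ha])) (w := ⟨(s : E), hsR⟩) (hunit _ s.isUnit) (Subtype.ext hs)
  refine ⟨Units.map R.val.toRingHom.toMonoidHom hv.unit, congrArg Subtype.val hvs, Units.ext ?_⟩
  exact congrArg Subtype.val (hc ⟨(a : E), haR⟩ v)

variable {F V : Type*} [Field F] [Finite F] [AddCommGroup V] [Module F V] [FiniteDimensional F V]
  {B : V →ₗ[F] V →ₗ[F] F}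

/-- Linearly conjugate isometries agree, up to an isometry, on an invariant subspace without fixed vectors of
the square. -/
theorem exists_isom (hN : B.Nondegenerate) {ε : F} (hε : ∀ x y, B x y = ε * B y x)
    {W : Type*} [AddCommGroup W] [Module F W] {C : W →ₗ[F] W} {B' : W →ₗ[F] W →ₗ[F] F}
    (hε' : ∀ x y, B' x y = ε * B' y x) (hC : ∀ x y, B' (C x) (C y) = B' x y)
    (a : V ≃ₗ[F] V) (ha : ∀ x y, B (a x) (a y) = B x y) (hfix : ∀ x, a (a x) = x → x = 0)
    (g : V →ₗ[F] W) (hg : ∀ x, g (a x) = C (g x)) (hgN : ∀ x, (∀ y, B' (g x) (g y) = 0) → x = 0) :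
    ∃ u : V →ₗ[F] W, (∀ x y, B' (u x) (u y) = B x y) ∧ (∀ x, u (a x) = C (u x)) ∧
      LinearMap.range u = LinearMap.range g := by
  classical
  haveI : Finite V := Module.finite_of_finite F
  haveI : Finite (V →ₗ[F] V) := Finite.of_injective _ DFunLike.coe_injective
  have hinj : Function.Injective B := by
    rw [← LinearMap.ker_eq_bot, LinearMap.ker_eq_bot']
    exact fun x hx => hN.1 x fun y => LinearMap.congr_fun hx y
  let eB : V ≃ₗ[F] Module.Dual F V := LinearEquiv.ofBijective B
    ⟨hinj, (LinearMap.injective_iff_surjective_of_finrank_eq_finrank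
      (Subspace.dual_finrank_eq (K := F) (V := V)).symm).1 hinj⟩
  have hext : ∀ x x' : V, (∀ y, B x y = B x' y) → x = x' := fun x x' h => hinj (LinearMap.ext h)
  let τ : Module.End F V →ₗ[F] Module.End F V :=
    { toFun := fun T => eB.symm.toLinearMap.comp (T.dualMap.comp eB.toLinearMap)
      map_add' := fun S T => by ext x; simp [LinearMap.dualMap]
      map_smul' := fun c T => by ext x; simp [LinearMap.dualMap] }
  have hτ : ∀ (T : Module.End F V) x y, B (τ T x) y = B x (T y) := fun T x y => by
    have : eB (τ T x) = T.dualMap (eB x) := eB.apply_symm_apply _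
    exact LinearMap.congr_fun this y
  let sL : Module.End F V := eB.symm.toLinearMap.comp (B'.compl₁₂ g g)
  have hsL : ∀ x y, B (sL x) y = B' (g x) (g y) := fun x y =>
    LinearMap.congr_fun (eB.apply_symm_apply ((B'.compl₁₂ g g) x)) y
  have hsinj : Function.Injective sL := by
    rw [← LinearMap.ker_eq_bot, LinearMap.ker_eq_bot']
    exact fun x hx => hgN x fun y => by rw [← hsL, hx, map_zero, LinearMap.zero_apply]
  have hsu : IsUnit sL := (Module.End.isUnit_iff _).2 ⟨hsinj, LinearMap.injective_iff_surjective.1 hsinj⟩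
  let au : (Module.End F V)ˣ :=
    { val := a.toLinearMap, inv := a.symm.toLinearMap
      val_inv := LinearMap.ext fun x => a.apply_symm_apply x
      inv_val := LinearMap.ext fun x => a.symm_apply_apply x }
  have haτ : τ (au : Module.End F V) = ((au⁻¹ : (Module.End F V)ˣ) : Module.End F V) := LinearMap.ext fun x =>
    hext _ _ fun y => by
      rw [hτ]
      show B x (a y) = B (a.symm x) y
      rw [← ha (a.symm x) y, LinearEquiv.apply_symm_apply]
  have hsτ : τ sL = sL := LinearMap.ext fun x => hext _ _ fun y => by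
    rw [hτ, hε, hsL, hsL, ← hε']
  have hcomm : Commute au hsu.unit := Units.ext (LinearMap.ext fun x => hext _ _ fun y => by
    show B (a (sL x)) y = B (sL (a x)) y
    rw [hsL, hg, ← a.apply_symm_apply y, ha, hsL, hg, hC])
  have hθ : IsUnit ((au : Module.End F V) - ((au⁻¹ : (Module.End F V)ˣ) : Module.End F V)) := by
    have hi : Function.Injective ((au : Module.End F V) - ((au⁻¹ : (Module.End F V)ˣ) : Module.End F V)) := by
      rw [← LinearMap.ker_eq_bot, LinearMap.ker_eq_bot']
      intro x hx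
      refine hfix x ?_
      have h : a x = a.symm x := sub_eq_zero.1 hx
      rw [h, LinearEquiv.apply_symm_apply]
    exact (Module.End.isUnit_iff _).2 ⟨hi, LinearMap.injective_iff_surjective.1 hi⟩
  obtain ⟨v, hv, hav⟩ := exists_norm τ (fun S T => LinearMap.ext fun x => hext _ _ fun y => by
      rw [hτ, Module.End.mul_apply, Module.End.mul_apply, hτ, hτ])
    (LinearMap.ext fun x => hext _ _ fun y => by rw [hτ]; rfl) au hsu.unit hcomm haτ hsτ hθ
  refine ⟨g.comp ((v⁻¹ : (Module.End F V)ˣ) : Module.End F V), ?_, ?_, ?_⟩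
  · intro x y
    obtain ⟨x', rfl⟩ : ∃ x', (v : Module.End F V) x' = x :=
      ⟨((v⁻¹ : (Module.End F V)ˣ) : Module.End F V) x, by rw [← Module.End.mul_apply, Units.mul_inv, Module.End.one_apply]⟩
    obtain ⟨y', rfl⟩ : ∃ y', (v : Module.End F V) y' = y :=
      ⟨((v⁻¹ : (Module.End F V)ˣ) : Module.End F V) y, by rw [← Module.End.mul_apply, Units.mul_inv, Module.End.one_apply]⟩
    simp only [LinearMap.comp_apply, ← Module.End.mul_apply, Units.inv_mul, Module.End.one_apply]
    rw [← hsL, show sL = τ (v : Module.End F V) * v from hv.symm, Module.End.mul_apply, hτ]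
  · intro x
    have h := LinearMap.congr_fun (congrArg Units.val hav.inv_right.eq) x
    show g (((v⁻¹ : (Module.End F V)ˣ) : Module.End F V) (a x)) = C (g (((v⁻¹ : (Module.End F V)ˣ) : Module.End F V) x))
    rw [← hg]
    exact congrArg g h.symm
  · refine le_antisymm (LinearMap.range_comp_le_range _ _) ?_
    rintro _ ⟨x, rfl⟩
    refine ⟨(v : Module.End F V) x, ?_⟩
    rw [LinearMap.comp_apply, ← Module.End.mul_apply, Units.inv_mul, Module.End.one_apply]

section Split

variable {r : ℕ} {A : Module.End F V}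

/-- An endomorphism of order prime to the characteristic splits off its fixed vectors. -/
theorem isCompl_ker_range (hA : A ^ r = 1) (hr : (r : F) ≠ 0) :
    IsCompl (LinearMap.ker (A - 1)) (LinearMap.range (A - 1)) := by
  have hdim := LinearMap.finrank_range_add_finrank_ker (A - 1)
  have hdis : Disjoint (LinearMap.ker (A - 1)) (LinearMap.range (A - 1)) := by
    rw [Submodule.disjoint_def]
    rintro x hx ⟨y, rfl⟩
    have hfix : ∀ i : ℕ, (A ^ i) ((A - 1) y) = (A - 1) y := fun i => by
      induction i with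
      | zero => rfl
      | succ i ih =>
        rw [pow_succ', Module.End.mul_apply, ih]
        exact sub_eq_zero.1 (LinearMap.mem_ker.1 hx)
    have h0 : (∑ i ∈ Finset.range r, A ^ i) ((A - 1) y) = 0 := by
      rw [← Module.End.mul_apply, geom_sum_mul, hA, sub_self, LinearMap.zero_apply]
    rw [LinearMap.sum_apply, Finset.sum_congr rfl (fun i _ => hfix i), Finset.sum_const, Finset.card_range,
      ← Nat.cast_smul_eq_nsmul F] at h0
    exact (smul_eq_zero.1 h0).resolve_left hr
  refine ⟨hdis, codisjoint_iff.2 (Submodule.eq_top_of_finrank_eq ?_)⟩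
  have h := Submodule.finrank_sup_add_finrank_inf_eq (LinearMap.ker (A - 1)) (LinearMap.range (A - 1))
  rw [hdis.eq_bot, finrank_bot] at h
  omega

theorem perp_ker_range (hiso : ∀ x y, B (A x) (A y) = B x y) {w : V} (hw : w ∈ LinearMap.ker (A - 1)) (y : V) :
    B w ((A - 1) y) = 0 ∧ B ((A - 1) y) w = 0 := by
  have h : A w = w := sub_eq_zero.1 (LinearMap.mem_ker.1 hw)
  constructor
  · rw [LinearMap.sub_apply, map_sub, Module.End.one_apply]
    conv_lhs => arg 1; rw [← h]
    rw [hiso, sub_self]
  · rw [LinearMap.sub_apply, map_sub, LinearMap.sub_apply, Module.End.one_apply]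
    conv_lhs => arg 1; rw [← h]
    rw [hiso, sub_self]

theorem nondeg_range (hN : B.Nondegenerate) (hiso : ∀ x y, B (A x) (A y) = B x y) (hA : A ^ r = 1)
    (hr : (r : F) ≠ 0) {x : V} (hx : x ∈ LinearMap.range (A - 1))
    (h : ∀ z ∈ LinearMap.range (A - 1), B x z = 0) : x = 0 := by
  refine hN.1 x fun y => ?_
  have hy : y ∈ LinearMap.ker (A - 1) ⊔ LinearMap.range (A - 1) := by
    rw [(isCompl_ker_range hA hr).sup_eq_top]; trivial
  obtain ⟨w, hw, z, hz, rfl⟩ := Submodule.mem_sup.1 hy
  obtain ⟨x', rfl⟩ := hx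
  rw [map_add, h z hz, (perp_ker_range hiso hw x').2, add_zero]

theorem fixed_of_perp_range (hN : B.Nondegenerate) (hiso : ∀ x y, B (A x) (A y) = B x y) {w : V}
    (h : ∀ z ∈ LinearMap.range (A - 1), B w z = 0) (hsurj : Function.Surjective A) : A w = w := by
  refine sub_eq_zero.1 (hN.1 (A w - w) fun y => ?_)
  obtain ⟨z, rfl⟩ := hsurj y
  have h1 := h _ ⟨z, rfl⟩
  rw [LinearMap.sub_apply, Module.End.one_apply, map_sub] at h1
  rw [map_sub, LinearMap.sub_apply, hiso]
  linear_combination -h1

end Split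

end CfsgLib.KnownC.FormConj
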