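import Cfsg.Agent.Lib.Classical.OrthCount
import Cfsg.Agent.Lib.Orth.Isometry

set_option autoImplicit false
set_option linter.unusedSectionVars false

/-! The sign of an even-dimensional quadratic space through its number of zeros. -/

namespace CfsgLib.KnownC.OrthSign

open Module QuadraticMap CfsgLib.Orth CfsgLib.Classical

variable {F : Type*} [Field F] [Fintype F] {V W : Type*} [AddCommGroup V] [Module F V] [FiniteDimensional F V]
  [AddCommGroup W] [Module F W] [FiniteDimensional F W]

/-- The form of dimension `2 m` has sign `ε`. -/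
def HasSign (Q : QuadraticForm F V) (m : ℕ) (ε : ℤ) : Prop :=
  (Fintype.card F : ℤ) * zeroCount Q =
    (Fintype.card F : ℤ) ^ (2 * m) + ((Fintype.card F : ℤ) - 1) * ε * (Fintype.card F : ℤ) ^ m

theorem two_le_card : (2 : ℤ) ≤ (Fintype.card F : ℤ) := by exact_mod_cast Fintype.one_lt_card (α := F)

theorem sign_unique {Q : QuadraticForm F V} {m : ℕ} {ε ε' : ℤ} (h : HasSign Q m ε) (h' : HasSign Q m ε') :
    ε = ε' := by
  have h2 := two_le_card (F := F)
  unfold HasSign at h h'
  have hne : ((Fintype.card F : ℤ) - 1) * (Fintype.card F : ℤ) ^ m ≠ 0 :=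
    mul_ne_zero (by omega) (pow_ne_zero _ (by omega))
  exact mul_left_cancel₀ hne (by linear_combination h' - h)

theorem hasSign_congr {Q : QuadraticForm F V} {R : QuadraticForm F W} (e : V ≃ₗ[F] W) (he : ∀ v, R (e v) = Q v)
    {m : ℕ} {ε : ℤ} (h : HasSign Q m ε) : HasSign R m ε := by
  unfold HasSign at h ⊢
  rwa [← zeroCount_congr e he]

theorem plus_sign (m : ℕ) : HasSign (plusForm F m) m 1 := by
  unfold HasSign
  rw [zeroCount_plus rfl, mul_one]

theorem minus_sign {a b : F} (hab : ∀ z₁ z₂ : F, z₁ ^ 2 + a * z₁ * z₂ + b * z₂ ^ 2 = 0 → z₁ = 0 ∧ z₂ = 0) (k : ℕ) :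
    HasSign (minusForm F k a b) (k + 1) (-1) := by
  unfold HasSign
  rw [zeroCount_minus rfl a b hab]
  ring

theorem exists_sign {Q : QuadraticForm F V} (hQ : (QuadraticMap.polarBilin Q).Nondegenerate) {m : ℕ}
    (hV : finrank F V = 2 * m) : HasSign Q m 1 ∨ (HasSign Q m (-1) ∧ 1 ≤ m) := by
  rcases classify_even hQ hV with ⟨e, he⟩ | ⟨hm, e, ζ, hζ, he⟩
  · exact Or.inl (hasSign_congr e he (plus_sign m))
  · have h := hasSign_congr e he (minus_sign (anisotropic_of_no_root hζ) (m - 1))
    rw [Nat.sub_add_cancel hm] at h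
    exact Or.inr ⟨h, hm⟩

theorem iso_of_sign {Q : QuadraticForm F V} {R : QuadraticForm F W} (hQ : (QuadraticMap.polarBilin Q).Nondegenerate)
    (hR : (QuadraticMap.polarBilin R).Nondegenerate) {m : ℕ} (hV : finrank F V = 2 * m) (hW : finrank F W = 2 * m)
    {ε : ℤ} (h : HasSign Q m ε) (h' : HasSign R m ε) : ∃ e : V ≃ₗ[F] W, ∀ v, R (e v) = Q v := by
  rcases classify_even hQ hV with ⟨e, he⟩ | ⟨hm, e, ζ, hζ, he⟩ <;>
    rcases classify_even hR hW with ⟨e', he'⟩ | ⟨hm', e', ζ', hζ', he'⟩
  · refine ⟨e.symm.trans e', fun v => ?_⟩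
    rw [LinearEquiv.trans_apply, he', ← he, LinearEquiv.apply_symm_apply]
  · have h1 := hasSign_congr e he (plus_sign m)
    have h2 := hasSign_congr e' he' (minus_sign (anisotropic_of_no_root hζ') (m - 1))
    rw [Nat.sub_add_cancel hm'] at h2
    have := (sign_unique h1 h).trans (sign_unique h' h2)
    norm_num at this
  · have h1 := hasSign_congr e he (minus_sign (anisotropic_of_no_root hζ) (m - 1))
    rw [Nat.sub_add_cancel hm] at h1
    have h2 := hasSign_congr e' he' (plus_sign m)
    have := (sign_unique h1 h).trans (sign_unique h' h2)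
    norm_num at this
  · obtain ⟨σ, hσ⟩ := exists_minus_iso (m := m - 1) hζ' hζ
    refine ⟨e.symm.trans (σ.trans e'), fun v => ?_⟩
    rw [LinearEquiv.trans_apply, LinearEquiv.trans_apply, he', hσ, ← he, LinearEquiv.apply_symm_apply]

theorem card_space [Finite V] {m : ℕ} (hV : finrank F V = 2 * m) :
    Nat.card V = Fintype.card F ^ (2 * m) := by
  rw [Module.natCard_eq_pow_finrank (K := F), hV, Nat.card_eq_fintype_card]

/-- All non-zero values are taken equally often. -/
theorem card_level {Q : QuadraticForm F V} (hQ : (QuadraticMap.polarBilin Q).Nondegenerate) {m : ℕ}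
    (hV : finrank F V = 2 * m) {c : F} (hc : c ≠ 0) :
    Nat.card {v // Q v = c} = Nat.card {v // Q v = 1} := by
  have hcQ : (QuadraticMap.polarBilin (c • Q)).Nondegenerate := nondegenerate_of_left fun v hv => hQ.1 v fun w => by
    have h := hv w
    simp only [QuadraticMap.polar, QuadraticMap.smul_apply, smul_eq_mul] at h
    have : c * QuadraticMap.polar ⇑Q v w = 0 := by simp only [QuadraticMap.polar]; linear_combination h
    exact (mul_eq_zero.1 this).resolve_left hc
  have hz : zeroCount (c • Q) = zeroCount Q := Nat.card_congr (Equiv.subtypeEquivRight fun v => by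
    rw [QuadraticMap.smul_apply, smul_eq_mul, mul_eq_zero, or_iff_right hc])
  have hsame : ∀ {ε : ℤ}, HasSign Q m ε → HasSign (c • Q) m ε := fun h => by
    unfold HasSign at h ⊢; rwa [hz]
  obtain ⟨ε, hε⟩ : ∃ ε, HasSign Q m ε := by
    rcases exists_sign hQ hV with h | h
    · exact ⟨_, h⟩
    · exact ⟨_, h.1⟩
  obtain ⟨e, he⟩ := iso_of_sign hcQ hQ hV hV (hsame hε) hε
  refine (Nat.card_congr (e.toEquiv.subtypeEquiv fun v => ?_)).symm
  show Q v = 1 ↔ Q (e v) = c
  rw [he, QuadraticMap.smul_apply, smul_eq_mul, mul_eq_left₀ hc]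

theorem card_space_eq {Q : QuadraticForm F V} [Finite V] (hQ : (QuadraticMap.polarBilin Q).Nondegenerate) {m : ℕ}
    (hV : finrank F V = 2 * m) :
    Nat.card V = zeroCount Q + (Fintype.card F - 1) * Nat.card {v // Q v = 1} := by
  classical
  rw [← Nat.card_congr (Equiv.sigmaFiberEquiv (fun v => Q v)), Nat.card_sigma,
    ← Finset.add_sum_erase _ _ (Finset.mem_univ (0 : F)),
    Finset.sum_congr rfl (fun c hc => card_level hQ hV (Finset.mem_erase.1 hc).1), Finset.sum_const,
    Finset.card_erase_of_mem (Finset.mem_univ _), Finset.card_univ, smul_eq_mul]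
  rfl

/-- The sign of an orthogonal sum is the product of the signs. -/
theorem sum_sign [Finite V] [Finite W] {Q : QuadraticForm F V} {R : QuadraticForm F W}
    (hR : (QuadraticMap.polarBilin R).Nondegenerate) {a b : ℕ} (hV : finrank F V = 2 * a) (hW : finrank F W = 2 * b)
    {ε δ : ℤ} (h : HasSign Q a ε) (h' : HasSign R b δ) : HasSign (Q.prod R) (a + b) (ε * δ) := by
  classical
  haveI := Fintype.ofFinite V
  have hlevel : zeroCount (Q.prod R) =
      zeroCount Q * zeroCount R + (Nat.card V - zeroCount Q) * Nat.card {w // R w = 1} := by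
    have e : {p : V × W // (Q.prod R) p = 0} ≃ Σ v : V, {w : W // R w = - Q v} :=
      { toFun := fun p => ⟨p.1.1, p.1.2, by
          have := p.2; rw [QuadraticMap.prod_apply] at this; linear_combination this⟩
        invFun := fun s => ⟨(s.1, s.2.1), by rw [QuadraticMap.prod_apply]; linear_combination s.2.2⟩
        left_inv := fun p => rfl
        right_inv := fun s => rfl }
    rw [show zeroCount (Q.prod R) = _ from Nat.card_congr e, Nat.card_sigma,
      ← Finset.sum_filter_add_sum_filter_not Finset.univ (fun v => Q v = 0),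
      Finset.sum_congr rfl (fun v hv => by rw [(Finset.mem_filter.1 hv).2, neg_zero]),
      Finset.sum_congr (s₁ := Finset.univ.filter fun v => ¬ Q v = 0) rfl
        (fun v hv => card_level hR hW (neg_ne_zero.2 (Finset.mem_filter.1 hv).2)),
      Finset.sum_const, Finset.sum_const, smul_eq_mul, smul_eq_mul]
    have hz : (Finset.univ.filter fun v => Q v = 0).card = zeroCount Q := by
      rw [← Fintype.card_subtype, ← Nat.card_eq_fintype_card]; rfl
    have hn : (Finset.univ.filter fun v => ¬ Q v = 0).card = Nat.card V - zeroCount Q := by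
      rw [← hz, Finset.filter_not, Finset.card_sdiff_of_subset (Finset.filter_subset _ _), Finset.card_univ,
        Nat.card_eq_fintype_card]
    rw [hz, hn]
    rfl
  have hle : zeroCount Q ≤ Nat.card V := Nat.card_le_card_of_injective _ Subtype.val_injective
  have hR1 := card_space_eq hR hW
  have h2 := two_le_card (F := F)
  rw [card_space hW] at hR1
  unfold HasSign at h h' ⊢
  rw [hlevel]
  rw [Nat.cast_add, Nat.cast_mul, Nat.cast_mul, Nat.cast_sub hle, card_space hV, Nat.cast_pow]
  have hR1' : (Fintype.card F : ℤ) ^ (2 * b) =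
      (zeroCount R : ℤ) + ((Fintype.card F : ℤ) - 1) * (Nat.card {w // R w = 1} : ℤ) := by
    have := congrArg (fun x : ℕ => (x : ℤ)) hR1
    push_cast [Nat.cast_sub (Fintype.card_pos (α := F))] at this
    exact this
  set q := (Fintype.card F : ℤ)
  set X := (zeroCount Q : ℤ)
  set Y := (zeroCount R : ℤ)
  set N := (Nat.card {w // R w = 1} : ℤ)
  refine mul_left_cancel₀ (show q * (q - 1) ≠ 0 from mul_ne_zero (by omega) (by omega)) ?_
  rw [show 2 * (a + b) = 2 * a + 2 * b by ring, pow_add, pow_add]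
  linear_combination ((q * Y) * (q - 1)) * h + ((q - 1) * (q ^ (2 * a) + (q - 1) * ε * q ^ a)) * h' +
    (-(q * (q - 1)) * N) * h + (q * ((q - 1) * (q ^ (2 * a) - ε * q ^ a))) * hR1'.symm +
    (-(q - 1) * (q ^ (2 * a) - ε * q ^ a)) * h'

theorem exists_anisotropic_param : ∃ ζ : F, ∀ t : F, t ^ 2 + t + ζ ≠ 0 := by
  by_contra h
  push Not at h
  have hsurj : Function.Surjective (fun t : F => -(t ^ 2 + t)) := fun z => by
    obtain ⟨t, ht⟩ := h z
    exact ⟨t, by show -(t ^ 2 + t) = z; linear_combination -ht⟩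
  have hinj := Finite.injective_iff_surjective.2 hsurj
  have := @hinj 0 (-1) (by ring)
  exact one_ne_zero (neg_eq_zero.1 this.symm)

/-- Every sign occurs in every positive even dimension. -/
theorem exists_form {m : ℕ} (hV : finrank F V = 2 * m) {ε : ℤ} (hε : ε = 1 ∨ (ε = -1 ∧ 1 ≤ m)) :
    ∃ Q : QuadraticForm F V, (QuadraticMap.polarBilin Q).Nondegenerate ∧ HasSign Q m ε := by
  have key : ∀ {ι : Type} [Fintype ι] (R : QuadraticForm F (ι → F)), Fintype.card ι = 2 * m →
      (QuadraticMap.polarBilin R).Nondegenerate → HasSign R m ε →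
      ∃ Q : QuadraticForm F V, (QuadraticMap.polarBilin Q).Nondegenerate ∧ HasSign Q m ε := by
    intro ι _ R hι hR hs
    let e : V ≃ₗ[F] (ι → F) := LinearEquiv.ofFinrankEq _ _ (by simp [hV, hι])
    refine ⟨R.comp e.toLinearMap, nondegenerate_of_left fun v hv => e.map_eq_zero_iff.1 (hR.1 _ fun w => ?_),
      hasSign_congr e.symm (fun v => by simp) hs⟩
    obtain ⟨w, rfl⟩ := e.surjective w
    have := hv w
    simpa [QuadraticMap.polar] using this
  rcases hε with rfl | ⟨rfl, hm⟩
  · exact key (plusForm F m) (by simp; omega) (plusForm_nondeg m) (plus_sign m)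
  · obtain ⟨ζ, hζ⟩ := exists_anisotropic_param (F := F)
    have h := minus_sign (anisotropic_of_no_root hζ) (m - 1)
    rw [Nat.sub_add_cancel hm] at h
    exact key (minusForm F (m - 1) 1 ζ) (by simp; omega) (minusForm_nondeg _ 1 ζ (anisotropic_of_no_root hζ)) h

end CfsgLib.KnownC.OrthSign
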