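import Cfsg.Agent.Lib.KnownC.InvariantForms
import Cfsg.Agent.Lib.KnownC.OrthSign
import Cfsg.Agent.Lib.Orth.Witt

set_option autoImplicit false
set_option linter.unusedSectionVars false

/-! Automorphisms similar to isometries of a given quadratic space. -/

namespace CfsgLib.KnownC.OrthRealise

open Module QuadraticMap CfsgLib.Orth CfsgLib.KnownC.FormConj CfsgLib.KnownC.InvariantForms CfsgLib.KnownC.OrthSign

variable {F : Type*} [Field F] [Fintype F]

/-- Odd-dimensional spaces are similar to the standard one. -/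
theorem classify_odd {V : Type*} [AddCommGroup V] [Module F V] [FiniteDimensional F V] {Q : QuadraticForm F V}
    (hQ : (QuadraticMap.polarBilin Q).Nondegenerate) {m : ℕ} (hV : finrank F V = 2 * m + 1) :
    (2 : F) ≠ 0 ∧ ∃ (c : F) (e : (Unit ⊕ (Fin m ⊕ Fin m) → F) ≃ₗ[F] V), c ≠ 0 ∧
      ∀ v, Q (e v) = c * oddForm F m v := by
  classical
  obtain ⟨k, A, T, hT, hTA, hdim, hA2, hanis, hnd⟩ := exists_decomposition hQ
  have hA1 : finrank F A = 1 := by omega
  have hk : k = m := by omega
  subst hk
  obtain ⟨a, ha0, hspan⟩ := finrank_eq_one_iff'.1 hA1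
  have h2 : (2 : F) ≠ 0 := fun h => ha0 (hnd.1 a fun w => by
    obtain ⟨c, rfl⟩ := hspan w
    show polar (Q.comp A.subtype) a (c • a) = 0
    rw [polar_smul_r', polar_self', h, zero_mul, mul_zero])
  refine ⟨h2, Q a, ?_⟩
  have hc : Q (a : V) ≠ 0 := fun h => ha0 (Subtype.ext (hanis a a.2 h))
  let s : (Fin k ⊕ Fin k → F) →ₗ[F] (Fin k ⊕ Fin k → F) :=
    LinearMap.pi fun j => Sum.elim (fun i => Q (a : V) • LinearMap.proj (Sum.inl i))
      (fun i => LinearMap.proj (Sum.inr i)) j
  let S : (Unit ⊕ (Fin k ⊕ Fin k) → F) →ₗ[F] V :=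
    (LinearMap.proj (Sum.inl ())).smulRight (a : V) + (T.comp s).comp (LinearMap.funLeft F F Sum.inr)
  have hS : ∀ v, Q (S v) = Q (a : V) * oddForm F k v := fun v => by
    simp only [S, LinearMap.add_apply, LinearMap.comp_apply, LinearMap.smulRight_apply, LinearMap.proj_apply]
    rw [quad_add', quad_smul', polar_smul_l', polar_comm, hTA _ a a.2, hT, ← plusForm_apply, ← oddForm_apply]
    simp [Cfsg.quadFormPlus, Cfsg.quadFormOdd, s, LinearMap.funLeft_apply, mul_add, Finset.mul_sum]
    ring_nf
  have hinj : Function.Injective S := by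
    rw [← LinearMap.ker_eq_bot, LinearMap.ker_eq_bot']
    intro v hv
    refine (oddForm_nondeg k h2).1 v fun w => ?_
    have h := polar (⇑Q) (S v) (S w)
    have h' : polar Q (S v) (S w) = 0 := by rw [hv]; exact polar_zero_left (Q := Q) _
    have h'' : Q (a : V) * polar (oddForm F k) v w = 0 := by
      simp only [polar, ← map_add, hS] at h'
      simp only [polar]
      linear_combination h'
    exact (mul_eq_zero.1 h'').resolve_left hc
  exact ⟨LinearEquiv.ofBijective S ⟨hinj, (LinearMap.injective_iff_surjective_of_finrank_eq_finrank (by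
    rw [hV, Module.finrank_fintype_fun_eq_card]; simp; omega)).1 hinj⟩, hc, hS⟩

variable {V : Type*} [AddCommGroup V] [Module F V] [FiniteDimensional F V]

/-- An automorphism of odd order with an invariant form is similar to an isometry of `Q`, provided the forms it
preserves can have the sign of `Q`. -/
theorem exists_preserving {Q : QuadraticForm F V} (hQ : (QuadraticMap.polarBilin Q).Nondegenerate)
    {B : V →ₗ[F] V →ₗ[F] F} (hN : B.Nondegenerate) (α : V ≃ₗ[F] V) (hiso : ∀ x y, B (α x) (α y) = B x y)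
    {r : ℕ} (hodd : Odd r) (hr : (r : F) ≠ 0) (hα : (α.toLinearMap : Module.End F V) ^ r = 1)
    (heven : Even (finrank F (LinearMap.range ((α.toLinearMap : Module.End F V) - 1))))
    (hcompat : (∀ x, α x = x → x = 0) → ∀ (m : ℕ) (R : QuadraticForm F V),
      finrank F V = 2 * m → (QuadraticMap.polarBilin R).Nondegenerate → (∀ x, R (α x) = R x) →
      ∀ ε : ℤ, HasSign R m ε → HasSign Q m ε) :
    ∃ (h : orthGroup Q) (φ : V ≃ₗ[F] V), ∀ x, φ (α x) = h.1 (φ x) := by
  classical
  haveI : Finite V := Module.finite_of_finite F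
  set A : Module.End F V := α.toLinearMap with hAdef
  obtain ⟨a, S, -, ha, hSN, hSs, hSa, -, -, -⟩ := exists_on_range hN A hiso hodd hα hr
  have hc := isCompl_ker_range hα hr
  let QW : QuadraticForm F (LinearMap.range (A - 1)) := LinearMap.BilinMap.toQuadraticMap (S.comp a.toLinearMap)
  have hQW : ∀ x, QW x = S (a x) x := fun x => rfl
  have hQWp : ∀ x y, polar QW x y = S (a x) y + S (a y) x := fun x y => by
    simp only [polar, hQW, map_add, LinearMap.add_apply]; ring
  have hQWn : (QuadraticMap.polarBilin QW).Nondegenerate := nondegenerate_of_left fun x hx => by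
    have h1 : a x + a.symm x = 0 := hSN.1 _ fun y => by
      have h := hx y
      rw [hQWp, hSs (a y) x] at h
      rw [map_add, LinearMap.add_apply, ← hSa (a.symm x) y, LinearEquiv.apply_symm_apply]
      exact h
    have h2 : a (a x) = -x := by
      have := congrArg a h1
      rw [map_add, map_zero, LinearEquiv.apply_symm_apply] at this
      exact eq_neg_of_add_eq_zero_left this
    have h4 : (A ^ 4) (x : V) = x := by
      have e : ((a (a (a (a x))) : (LinearMap.range (A - 1))) : V) = x := by rw [h2, map_neg, map_neg, h2, neg_neg]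
      simp only [ha] at e
      simpa [pow_succ, Module.End.mul_apply] using e
    have hmul : ∀ j, (A ^ (4 * j)) (x : V) = x := fun j => by
      induction j with
      | zero => rfl
      | succ j ih => rw [mul_add, mul_one, pow_add, Module.End.mul_apply, h4, ih]
    have hr' := LinearMap.congr_fun hα (x : V)
    obtain ⟨j, hj⟩ := hodd
    have hfix : A (x : V) = x := by
      rcases Nat.even_or_odd' j with ⟨u, rfl | rfl⟩
      · rw [hj, show 2 * (2 * u) + 1 = 1 + 4 * u by ring, pow_add, Module.End.mul_apply, hmul, pow_one] at hr'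
        exact hr'
      · rw [hj, show 2 * (2 * u + 1) + 1 = 3 + 4 * u by ring, pow_add, Module.End.mul_apply, hmul,
          Module.End.one_apply] at hr'
        rw [show (4 : ℕ) = 1 + 3 from rfl, pow_add, Module.End.mul_apply, hr', pow_one] at h4
        exact h4
    exact Subtype.ext (Submodule.disjoint_def.1 hc.disjoint (x : V) (sub_eq_zero.2 hfix) x.2)
  obtain ⟨w, hw⟩ := heven
  have hW : finrank F (LinearMap.range (A - 1)) = 2 * w := by omega
  obtain ⟨δ, hδ, hδ1⟩ : ∃ δ : ℤ, HasSign QW w δ ∧ (δ = 1 ∨ δ = -1) := by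
    rcases exists_sign hQWn hW with h | h
    · exact ⟨1, h, Or.inl rfl⟩
    · exact ⟨-1, h.1, Or.inr rfl⟩
  let pr : V ≃ₗ[F] (LinearMap.ker (A - 1)) × (LinearMap.range (A - 1)) := (Submodule.prodEquivOfIsCompl (LinearMap.ker (A - 1)) (LinearMap.range (A - 1)) hc).symm
  have hdim : finrank F (LinearMap.ker (A - 1)) + finrank F (LinearMap.range (A - 1)) = finrank F V := by rw [← Module.finrank_prod, pr.finrank_eq]
  have key : ∀ QK : QuadraticForm F (LinearMap.ker (A - 1)), (QuadraticMap.polarBilin QK).Nondegenerate →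
      (∃ (c : F) (e : V ≃ₗ[F] V), c ≠ 0 ∧ ∀ v, Q (e v) = c * (QK.prod QW) (pr v)) →
      ∃ (h : orthGroup Q) (φ : V ≃ₗ[F] V), ∀ x, φ (α x) = h.1 (φ x) := by
    rintro QK - ⟨c, e, hc0, he⟩
    have hinv : ∀ x, Q (e (α x)) = Q (e x) := fun x => by
      rw [he, he]
      obtain ⟨⟨k, y⟩, hky⟩ : ∃ p : (LinearMap.ker (A - 1)) × (LinearMap.range (A - 1)), (Submodule.prodEquivOfIsCompl (LinearMap.ker (A - 1)) (LinearMap.range (A - 1)) hc) p = x :=
        (Submodule.prodEquivOfIsCompl (LinearMap.ker (A - 1)) (LinearMap.range (A - 1)) hc).surjective x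
      have h2 : pr x = (k, y) := by rw [← hky]; exact LinearEquiv.symm_apply_apply _ _
      have h3 : pr (α x) = (k, a y) := by
        refine (LinearEquiv.symm_apply_eq _).2 ?_
        rw [← hky, Submodule.coe_prodEquivOfIsCompl' , Submodule.coe_prodEquivOfIsCompl']
        show A ((k : V) + y) = (k : V) + (a y : V)
        rw [map_add, ha, show A (k : V) = k from sub_eq_zero.1 (LinearMap.mem_ker.1 k.2)]
      rw [h2, h3, QuadraticMap.prod_apply, QuadraticMap.prod_apply, hQW, hQW]
      show c * (QK k + S (a (a y)) (a y)) = c * (QK k + S (a y) y)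
      rw [hSa]
    refine ⟨⟨e.symm.trans (α.trans e), fun v => ?_⟩, e, fun x => by simp⟩
    obtain ⟨x, rfl⟩ := e.surjective v
    simpa using hinv x
  have hprodN : ∀ QK : QuadraticForm F (LinearMap.ker (A - 1)), (QuadraticMap.polarBilin QK).Nondegenerate →
      (QuadraticMap.polarBilin ((QK.prod QW).comp pr.toLinearMap)).Nondegenerate := fun QK hK =>
    nondegenerate_of_left fun v hv => pr.map_eq_zero_iff.1 (by
      have h : ∀ p : (LinearMap.ker (A - 1)) × (LinearMap.range (A - 1)), polar (QK.prod QW) (pr v) p = 0 := fun p => by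
        obtain ⟨u, rfl⟩ := pr.surjective p
        have := hv u
        simpa [polar] using this
      refine Prod.ext (hK.1 _ fun k => ?_) (hQWn.1 _ fun y => ?_)
      · have := h (k, 0)
        simpa [polar, QuadraticMap.prod_apply] using this
      · have := h (0, y)
        simpa [polar, QuadraticMap.prod_apply] using this)
  rcases Nat.even_or_odd (finrank F (LinearMap.ker (A - 1))) with ⟨k, hk⟩ | ⟨k, hk⟩
  · have hK2 : finrank F (LinearMap.ker (A - 1)) = 2 * k := by omega
    have hVm : finrank F V = 2 * (k + w) := by omega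
    obtain ⟨ε, hε, hε1⟩ : ∃ ε : ℤ, HasSign Q (k + w) ε ∧ (ε = 1 ∨ ε = -1) := by
      rcases exists_sign hQ hVm with h | h
      · exact ⟨1, h, Or.inl rfl⟩
      · exact ⟨-1, h.1, Or.inr rfl⟩
    have hsq : δ * δ = 1 := by rcases hδ1 with rfl | rfl <;> norm_num
    obtain ⟨QK, hQK, hKs⟩ : ∃ QK : QuadraticForm F (LinearMap.ker (A - 1)), (QuadraticMap.polarBilin QK).Nondegenerate ∧
        HasSign QK k (ε * δ) := by
      refine exists_form hK2 ?_
      rcases Nat.eq_zero_or_pos k with rfl | hkpos
      · left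
        obtain ⟨QK, hQK, hs⟩ := exists_form (V := (LinearMap.ker (A - 1))) hK2 (ε := 1) (Or.inl rfl)
        have h1 := sum_sign hQWn hK2 hW hs hδ
        rw [one_mul] at h1
        have hfix : ∀ x, α x = x → x = 0 := fun x hx => by
          have hx' : x ∈ (LinearMap.ker (A - 1)) := LinearMap.mem_ker.2 (sub_eq_zero.2 hx)
          rw [Submodule.finrank_eq_zero.1 (show finrank F (LinearMap.ker (A - 1)) = 0 by omega)] at hx'
          simpa using hx'
        have h2 := hcompat hfix (0 + w) ((QK.prod QW).comp pr.toLinearMap) hVm (hprodN QK hQK) (fun x => by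
          obtain ⟨⟨k, y⟩, hky⟩ : ∃ p : (LinearMap.ker (A - 1)) × (LinearMap.range (A - 1)), (Submodule.prodEquivOfIsCompl (LinearMap.ker (A - 1)) (LinearMap.range (A - 1)) hc) p = x :=
            (Submodule.prodEquivOfIsCompl (LinearMap.ker (A - 1)) (LinearMap.range (A - 1)) hc).surjective x
          have h2 : pr x = (k, y) := by rw [← hky]; exact LinearEquiv.symm_apply_apply _ _
          have h3 : pr (α x) = (k, a y) := by
            refine (LinearEquiv.symm_apply_eq _).2 ?_
            rw [← hky, Submodule.coe_prodEquivOfIsCompl', Submodule.coe_prodEquivOfIsCompl']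
            show A ((k : V) + y) = (k : V) + (a y : V)
            rw [map_add, ha, show A (k : V) = k from sub_eq_zero.1 (LinearMap.mem_ker.1 k.2)]
          simp only [QuadraticMap.comp_apply, LinearEquiv.coe_coe, h2, h3, QuadraticMap.prod_apply, hQW, hSa]) δ
          (hasSign_congr pr.symm (fun p => by simp) h1)
        rw [sign_unique hε h2, hsq]
      · rcases hε1 with rfl | rfl <;> rcases hδ1 with rfl | rfl
        · left; norm_num
        · exact Or.inr ⟨by norm_num, hkpos⟩
        · exact Or.inr ⟨by norm_num, hkpos⟩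
        · left; norm_num
    have h1 := sum_sign hQWn hK2 hW hKs hδ
    rw [mul_assoc, hsq, mul_one] at h1
    obtain ⟨e, he⟩ := iso_of_sign (hprodN QK hQK) hQ hVm hVm (hasSign_congr pr.symm (fun p => by simp) h1) hε
    exact key QK hQK ⟨1, e, one_ne_zero, fun v => by rw [he, one_mul]; rfl⟩
  · have hVm : finrank F V = 2 * (k + w) + 1 := by omega
    obtain ⟨h2, c₁, e₁, hc₁, he₁⟩ := classify_odd hQ hVm
    let ψ : (LinearMap.ker (A - 1)) ≃ₗ[F] (Unit ⊕ (Fin k ⊕ Fin k) → F) := LinearEquiv.ofFinrankEq _ _ (by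
      rw [hk, Module.finrank_fintype_fun_eq_card]; simp; omega)
    let QK : QuadraticForm F (LinearMap.ker (A - 1)) := (oddForm F k).comp ψ.toLinearMap
    have hQK : (QuadraticMap.polarBilin QK).Nondegenerate := nondegenerate_of_left fun v hv =>
      ψ.map_eq_zero_iff.1 ((oddForm_nondeg k h2).1 _ fun u => by
        obtain ⟨u, rfl⟩ := ψ.surjective u
        have := hv u
        simpa [polar, QK] using this)
    obtain ⟨-, c₂, e₂, hc₂, he₂⟩ := classify_odd (hprodN QK hQK) hVm
    refine key QK hQK ⟨c₁ / c₂, e₂.symm.trans e₁, div_ne_zero hc₁ hc₂, fun v => ?_⟩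
    obtain ⟨u, rfl⟩ := e₂.surjective v
    have h := he₂ u
    simp only [QuadraticMap.comp_apply, LinearEquiv.coe_coe] at h
    rw [h, LinearEquiv.trans_apply, LinearEquiv.symm_apply_apply, he₁, div_mul_eq_mul_div, mul_comm c₂, ← mul_assoc,
      mul_div_assoc, div_self hc₂, mul_one]

end CfsgLib.KnownC.OrthRealise
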