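import Mathlib

set_option autoImplicit false
set_option linter.unusedSectionVars false

/-! Nilpotent endomorphisms with a single Jordan block. -/

namespace CfsgLib.KnownC.RegNilp

open Module

variable {F V : Type*} [Field F] [AddCommGroup V] [Module F V] [FiniteDimensional F V]

/-- A nilpotent endomorphism whose kernel is at most a line. -/
structure Reg (T : V →ₗ[F] V) : Prop where
  nil : T ^ finrank F V = 0
  ker : finrank F (LinearMap.ker T) ≤ 1

variable {T : V →ₗ[F] V}

theorem pow_comm_apply {g : V →ₗ[F] V} (h : Commute g T) (k : ℕ) (x : V) : g ((T ^ k) x) = (T ^ k) (g x) := by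
  rw [← LinearMap.comp_apply, ← LinearMap.comp_apply (T ^ k)]
  exact congrArg (fun f : V →ₗ[F] V => f x) (h.pow_right k).eq

theorem finrank_ker_succ_le (hT : Reg T) (j : ℕ) :
    finrank F (LinearMap.ker (T ^ (j + 1))) ≤ finrank F (LinearMap.ker (T ^ j)) + 1 := by
  have hmap : ∀ x ∈ LinearMap.ker (T ^ (j + 1)), T x ∈ LinearMap.ker (T ^ j) := fun x hx => by
    rw [LinearMap.mem_ker] at hx ⊢
    rw [pow_succ] at hx
    exact hx
  let φ : LinearMap.ker (T ^ (j + 1)) →ₗ[F] LinearMap.ker (T ^ j) := T.restrict hmap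
  have h1 := LinearMap.finrank_range_add_finrank_ker φ
  have h2 : finrank F (LinearMap.range φ) ≤ finrank F (LinearMap.ker (T ^ j)) := Submodule.finrank_le _
  have h3 : finrank F (LinearMap.ker φ) ≤ finrank F (LinearMap.ker T) := by
    refine LinearMap.finrank_le_finrank_of_injective
      (f := LinearMap.codRestrict (LinearMap.ker T) ((LinearMap.ker (T ^ (j + 1))).subtype.comp (LinearMap.ker φ).subtype)
        (fun x => LinearMap.mem_ker.2 (congrArg Subtype.val (LinearMap.mem_ker.1 x.2)))) ?_
    intro x y h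
    refine Subtype.ext (Subtype.ext ?_)
    have := congrArg Subtype.val h
    exact this
  have := hT.ker
  omega

theorem finrank_ker_pow (hT : Reg T) {j : ℕ} (hj : j ≤ finrank F V) : finrank F (LinearMap.ker (T ^ j)) = j := by
  have up : ∀ k, finrank F (LinearMap.ker (T ^ k)) ≤ k := fun k => by
    induction k with
    | zero => rw [pow_zero, show LinearMap.ker (1 : V →ₗ[F] V) = ⊥ from LinearMap.ker_id, finrank_bot]
    | succ k ih => have := finrank_ker_succ_le hT k; omega
  have down : ∀ d, finrank F (LinearMap.ker (T ^ (j + d))) ≤ finrank F (LinearMap.ker (T ^ j)) + d := fun d => by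
    induction d with
    | zero => simp
    | succ d ih => have := finrank_ker_succ_le hT (j + d); rw [← add_assoc]; omega
  have h := down (finrank F V - j)
  rw [Nat.add_sub_cancel' hj, hT.nil, LinearMap.ker_zero, finrank_top] at h
  have := up j
  omega

theorem invariant_eq (hT : Reg T) (W : Submodule F V) (hW : ∀ x ∈ W, T x ∈ W) :
    W = LinearMap.ker (T ^ finrank F W) := by
  have hle : W ≤ LinearMap.ker (T ^ finrank F W) := by
    intro x hx
    have hn : IsNilpotent (T.restrict hW) := ⟨finrank F V, by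
      refine LinearMap.ext fun y => Subtype.ext ?_
      rw [Module.End.pow_restrict]
      simp [hT.nil]⟩
    have h0 : (T.restrict hW) ^ finrank F W = 0 := by
      have := LinearMap.aeval_self_charpoly (T.restrict hW)
      rwa [IsNilpotent.charpoly_eq_X_pow_finrank hn, map_pow, Polynomial.aeval_X] at this
    rw [Module.End.pow_restrict] at h0
    exact LinearMap.mem_ker.2 (congrArg Subtype.val (LinearMap.congr_fun h0 ⟨x, hx⟩))
  exact Submodule.eq_of_le_of_finrank_eq hle (finrank_ker_pow hT (Submodule.finrank_le W)).symm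

theorem exists_cyclic (hT : Reg T) (hn : 1 ≤ finrank F V) : ∃ v, (T ^ (finrank F V - 1)) v ≠ 0 := by
  by_contra h
  push Not at h
  have h1 := finrank_ker_pow hT (Nat.sub_le (finrank F V) 1)
  rw [show T ^ (finrank F V - 1) = 0 from LinearMap.ext h, LinearMap.ker_zero, finrank_top] at h1
  omega

theorem span_cyclic (hT : Reg T) {v : V} (hv : (T ^ (finrank F V - 1)) v ≠ 0) :
    Submodule.span F (Set.range fun i : Fin (finrank F V) => (T ^ (i : ℕ)) v) = ⊤ := by
  set W := Submodule.span F (Set.range fun i : Fin (finrank F V) => (T ^ (i : ℕ)) v)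
  have hpos : 0 < finrank F V := Nat.pos_of_ne_zero fun h => hv (by
    have := (finrank_zero_iff (R := F) (M := V)).1 h
    exact Subsingleton.elim _ _)
  have hmem : v ∈ W := Submodule.subset_span ⟨⟨0, hpos⟩, by simp⟩
  have hW : ∀ x ∈ W, T x ∈ W := fun x hx => by
    induction hx using Submodule.span_induction with
    | mem x hx =>
      obtain ⟨i, rfl⟩ := hx
      show T ((T ^ (i : ℕ)) v) ∈ W
      rw [show T ((T ^ (i : ℕ)) v) = (T ^ ((i : ℕ) + 1)) v by rw [pow_succ']; rfl]
      rcases Nat.lt_or_ge ((i : ℕ) + 1) (finrank F V) with h | h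
      · exact Submodule.subset_span ⟨⟨_, h⟩, rfl⟩
      · rw [show (i : ℕ) + 1 = finrank F V by omega, hT.nil, LinearMap.zero_apply]
        exact zero_mem _
    | zero => rw [map_zero]; exact zero_mem _
    | add x y _ _ hx hy => rw [map_add]; exact add_mem hx hy
    | smul a x _ hx => rw [map_smul]; exact W.smul_mem a hx
  have he := invariant_eq hT W hW
  have hd : finrank F V ≤ finrank F W := by
    by_contra h
    refine hv ?_
    have h1 : (T ^ finrank F W) v = 0 := LinearMap.mem_ker.1 (he ▸ hmem)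
    rw [show finrank F V - 1 = (finrank F V - 1 - finrank F W) + finrank F W by omega, pow_add]
    show (T ^ _) ((T ^ finrank F W) v) = 0
    rw [h1, map_zero]
  exact Submodule.eq_top_of_finrank_eq (le_antisymm (Submodule.finrank_le _) hd)

theorem commutant_ext (hT : Reg T) {v : V} (hv : (T ^ (finrank F V - 1)) v ≠ 0) {g g' : V →ₗ[F] V}
    (hg : Commute g T) (hg' : Commute g' T) (h : g v = g' v) : g = g' := by
  refine LinearMap.ext_on (span_cyclic hT hv) ?_
  rintro _ ⟨i, rfl⟩
  rw [pow_comm_apply hg, pow_comm_apply hg', h]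

theorem commutant_exists (hT : Reg T) {v : V} (hv : (T ^ (finrank F V - 1)) v ≠ 0) (w : V) :
    ∃ g : V →ₗ[F] V, Commute g T ∧ g v = w := by
  have h : w ∈ Submodule.span F (Set.range fun i : Fin (finrank F V) => (T ^ (i : ℕ)) v) := by
    rw [span_cyclic hT hv]; trivial
  induction h using Submodule.span_induction with
  | mem x hx =>
    obtain ⟨i, rfl⟩ := hx
    exact ⟨T ^ (i : ℕ), (Commute.refl T).pow_left _, rfl⟩
  | zero => exact ⟨0, Commute.zero_left _, rfl⟩
  | add x y _ _ hx hy =>
    obtain ⟨a, ha, rfl⟩ := hx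
    obtain ⟨b, hb, rfl⟩ := hy
    exact ⟨a + b, ha.add_left hb, rfl⟩
  | smul c x _ hx =>
    obtain ⟨a, ha, rfl⟩ := hx
    exact ⟨c • a, ha.smul_left c, rfl⟩

theorem commutant_injective_iff (hT : Reg T) {v : V} (hv : (T ^ (finrank F V - 1)) v ≠ 0) {g : V →ₗ[F] V}
    (hg : Commute g T) : Function.Injective g ↔ (T ^ (finrank F V - 1)) (g v) ≠ 0 := by
  constructor
  · intro h h0
    refine hv (h ?_)
    rw [pow_comm_apply hg, h0, map_zero]
  · intro h
    rw [← LinearMap.ker_eq_bot]
    by_contra hne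
    have hinv : ∀ x ∈ LinearMap.ker g, T x ∈ LinearMap.ker g := fun x hx => by
      rw [LinearMap.mem_ker] at hx ⊢
      rw [show g (T x) = T (g x) from LinearMap.congr_fun hg.eq x, hx, map_zero]
    have he := invariant_eq hT _ hinv
    have hd : 1 ≤ finrank F (LinearMap.ker g) :=
      Nat.one_le_iff_ne_zero.2 fun h0 => hne (Submodule.finrank_eq_zero.1 h0)
    have hpos : 1 ≤ finrank F V := hd.trans (Submodule.finrank_le _)
    have hmem : (T ^ (finrank F V - 1)) v ∈ LinearMap.ker g := by
      rw [he, LinearMap.mem_ker]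
      show (T ^ _ * T ^ _) v = 0
      rw [← pow_add, show finrank F (LinearMap.ker g) + (finrank F V - 1) =
        (finrank F (LinearMap.ker g) - 1) + finrank F V by omega, pow_add, hT.nil, mul_zero, LinearMap.zero_apply]
    exact h ((pow_comm_apply hg _ v).symm.trans (LinearMap.mem_ker.1 hmem))

theorem range_pow (hT : Reg T) {j : ℕ} (hj : j ≤ finrank F V) :
    LinearMap.range (T ^ j) = LinearMap.ker (T ^ (finrank F V - j)) := by
  refine Submodule.eq_of_le_of_finrank_eq ?_ ?_
  · rintro _ ⟨x, rfl⟩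
    rw [LinearMap.mem_ker]
    show (T ^ _ * T ^ _) x = 0
    rw [← pow_add, Nat.sub_add_cancel hj, hT.nil, LinearMap.zero_apply]
  · have := LinearMap.finrank_range_add_finrank_ker (T ^ j)
    rw [finrank_ker_pow hT hj] at this
    rw [finrank_ker_pow hT (Nat.sub_le _ _)]
    omega

/-- Commuting endomorphisms are scalar plus nilpotent. -/
theorem commutant_scalar_add_nilpotent (hT : Reg T) {g : V →ₗ[F] V} (hg : Commute g T) :
    ∃ a : F, IsNilpotent (g - a • (1 : V →ₗ[F] V)) := by
  rcases Nat.eq_zero_or_pos (finrank F V) with h0 | hpos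
  · refine ⟨0, 1, LinearMap.ext fun x => ?_⟩
    have := (finrank_zero_iff (R := F) (M := V)).1 h0
    exact Subsingleton.elim _ _
  obtain ⟨v, hv⟩ := exists_cyclic hT hpos
  have hK : finrank F (LinearMap.range (T ^ (finrank F V - 1))) = 1 := by
    rw [range_pow hT (Nat.sub_le _ _), finrank_ker_pow hT (Nat.sub_le _ _)]; omega
  obtain ⟨a, ha⟩ := (finrank_eq_one_iff_of_nonzero' (⟨_, v, rfl⟩ : LinearMap.range (T ^ (finrank F V - 1)))
    (fun h => hv (congrArg Subtype.val h))).1 hK ⟨_, g v, rfl⟩
  refine ⟨a, finrank F V, ?_⟩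
  set h := g - a • (1 : V →ₗ[F] V) with hdef
  have hc : Commute h T := hg.sub_left ((Commute.one_left T).smul_left a)
  have h1 : ∀ x, h x ∈ LinearMap.range T := by
    have hr : LinearMap.range T = LinearMap.ker (T ^ (finrank F V - 1)) := by
      have := range_pow hT hpos; rwa [pow_one] at this
    intro x
    have hx : x ∈ Submodule.span F (Set.range fun i : Fin (finrank F V) => (T ^ (i : ℕ)) v) := by
      rw [span_cyclic hT hv]; trivial
    induction hx using Submodule.span_induction with
    | mem y hy =>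
      obtain ⟨i, rfl⟩ := hy
      show h ((T ^ (i : ℕ)) v) ∈ _
      rw [pow_comm_apply hc, hr, LinearMap.mem_ker]
      show (T ^ _ * T ^ _) (h v) = 0
      rw [← pow_add, add_comm, pow_add]
      show (T ^ _) ((T ^ (finrank F V - 1)) (h v)) = 0
      rw [hdef, LinearMap.sub_apply, LinearMap.smul_apply, Module.End.one_apply, map_sub, map_smul,
        show a • (T ^ (finrank F V - 1)) v = (T ^ (finrank F V - 1)) (g v) from congrArg Subtype.val ha, sub_self, map_zero]
    | zero => rw [map_zero]; exact zero_mem _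
    | add y z _ _ hy hz => rw [map_add]; exact add_mem hy hz
    | smul c y _ hy => rw [map_smul]; exact Submodule.smul_mem _ c hy
  have h2 : ∀ k x, (h ^ k) x ∈ LinearMap.range (T ^ k) := fun k => by
    induction k with
    | zero => exact fun x => ⟨x, rfl⟩
    | succ k ih =>
      intro x
      obtain ⟨z, hz⟩ := ih x
      obtain ⟨y, hy⟩ := h1 z
      refine ⟨y, ?_⟩
      rw [pow_succ' h, pow_succ T]
      show (T ^ k) (T y) = h ((h ^ k) x)
      rw [hy, ← hz, pow_comm_apply hc]
  refine LinearMap.ext fun x => ?_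
  obtain ⟨y, hy⟩ := h2 (finrank F V) x
  rw [← hy, hT.nil, LinearMap.zero_apply, LinearMap.zero_apply]

/-- Two such endomorphisms of spaces of equal dimension are equivalent. -/
theorem exists_equiv {W : Type*} [AddCommGroup W] [Module F W] [FiniteDimensional F W] {S : W →ₗ[F] W} (hT : Reg T)
    (hS : Reg S) (h : finrank F V = finrank F W) : ∃ e : V ≃ₗ[F] W, ∀ x, e (T x) = S (e x) := by
  rcases Nat.eq_zero_or_pos (finrank F V) with h0 | hpos
  · have := (finrank_zero_iff (R := F) (M := W)).1 (h ▸ h0)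
    exact ⟨LinearEquiv.ofFinrankEq V W h, fun x => Subsingleton.elim _ _⟩
  obtain ⟨v, hv⟩ := exists_cyclic hT hpos
  obtain ⟨w, hw⟩ := exists_cyclic hS (h ▸ hpos)
  let b := basisOfTopLeSpanOfCardEqFinrank _ (span_cyclic hT hv).ge (Fintype.card_fin _)
  let c := basisOfTopLeSpanOfCardEqFinrank _ (span_cyclic hS hw).ge (Fintype.card_fin _)
  let e : V ≃ₗ[F] W := b.equiv c (finCongr h)
  refine ⟨e, fun x => LinearMap.congr_fun (b.ext (f₁ := e.toLinearMap.comp T) (f₂ := S.comp e.toLinearMap) fun i => ?_) x⟩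
  have hb : ∀ i, b i = (T ^ (i : ℕ)) v := fun i => by simp [b]
  have hc : ∀ i, c i = (S ^ (i : ℕ)) w := fun i => by simp [c]
  have he : ∀ i, e (b i) = (S ^ (i : ℕ)) w := fun i => by simp [e, hc]
  show e (T (b i)) = S (e (b i))
  rw [he, hb, show T ((T ^ (i : ℕ)) v) = (T ^ ((i : ℕ) + 1)) v by rw [pow_succ']; rfl,
    show S ((S ^ (i : ℕ)) w) = (S ^ ((i : ℕ) + 1)) w by rw [pow_succ']; rfl]
  rcases Nat.lt_or_ge ((i : ℕ) + 1) (finrank F V) with h' | h'
  · rw [← hb ⟨_, h'⟩, he]
  · rw [show (i : ℕ) + 1 = finrank F V by omega, hT.nil, LinearMap.zero_apply, map_zero, h, hS.nil,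
      LinearMap.zero_apply]

end CfsgLib.KnownC.RegNilp

namespace CfsgLib.KnownC.RegNilp

open Module

variable {F ι : Type*} [Field F] [Fintype ι] [DecidableEq ι]

theorem toLin_pow (N : Matrix ι ι F) (k : ℕ) : (Matrix.toLinAlgEquiv' N) ^ k = Matrix.mulVecLin (N ^ k) := by
  rw [← map_pow]; rfl

theorem reg_of_matrix (N : Matrix ι ι F) (hnil : N ^ Fintype.card ι = 0) (hreg : N.rank = Fintype.card ι - 1) :
    Reg (Matrix.toLinAlgEquiv' N) := by
  have hd : finrank F (ι → F) = Fintype.card ι := Module.finrank_fintype_fun_eq_card F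
  refine ⟨?_, ?_⟩
  · rw [hd, toLin_pow, hnil, Matrix.mulVecLin_zero]
  · have h := LinearMap.finrank_range_add_finrank_ker (Matrix.mulVecLin N)
    rw [hd] at h
    have h2 : finrank F (LinearMap.range (Matrix.mulVecLin N)) = N.rank := rfl
    show finrank F (LinearMap.ker (Matrix.mulVecLin N)) ≤ 1
    omega

theorem commute_iff (u g : Matrix ι ι F) :
    Commute (Matrix.toLinAlgEquiv' g) (Matrix.toLinAlgEquiv' (u - 1)) ↔ g * u = u * g := by
  constructor
  · intro h
    have h1 := Matrix.toLinAlgEquiv'.injective ((map_mul _ g (u - 1)).trans (h.eq.trans (map_mul _ (u - 1) g).symm))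
    rw [Matrix.mul_sub, Matrix.sub_mul, Matrix.mul_one, Matrix.one_mul, sub_left_inj] at h1
    exact h1
  · intro h
    show _ = _
    rw [← map_mul, ← map_mul, Matrix.mul_sub, Matrix.sub_mul, Matrix.mul_one, Matrix.one_mul, h]

end CfsgLib.KnownC.RegNilp
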