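import Cfsg.Agent.Lib.Classical.HermMatrix

set_option autoImplicit false
set_option linter.unusedSectionVars false

/-! The centraliser of a field automorphism of odd order in the unitary groups modulo scalars. -/

namespace CfsgLib.KnownC.GUFieldCentraliser

open Matrix CfsgLib.Classical

variable {F : Type*} [Field F] [Fintype F] {n q : ℕ}

theorem GU_mem_iff (hF : Fintype.card F = q ^ 2) {g : GL (Fin n) F} :
    g ∈ Cfsg.GU n F q ↔ ∀ a b, ∑ i, (g : Matrix (Fin n) (Fin n) F) i a * (g : Matrix (Fin n) (Fin n) F) i b ^ q =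
      if a = b then 1 else 0 := by
  classical
  obtain ⟨σ, hσ, -⟩ := exists_frob hF
  have hq0 : q ≠ 0 := fun h => Fintype.card_ne_zero (α := F) (by simp [hF, h])
  set M := (g : Matrix (Fin n) (Fin n) F)
  constructor
  · intro h a b
    have h' : Cfsg.hermForm n F q (M *ᵥ Pi.single a 1) (M *ᵥ Pi.single b 1) =
      Cfsg.hermForm n F q (Pi.single a 1) (Pi.single b 1) := h _ _
    simp only [Cfsg.hermForm, mulVec_single_one] at h'
    refine h'.trans ?_
    rw [Finset.sum_eq_single a (fun i _ hi => by rw [Pi.single_eq_of_ne hi, zero_mul])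
      (fun h => absurd (Finset.mem_univ a) h), Pi.single_eq_same, one_mul]
    by_cases hab : a = b
    · subst hab; simp
    · rw [Pi.single_eq_of_ne hab, zero_pow hq0, if_neg hab]
  · intro h u v
    show Cfsg.hermForm n F q (M *ᵥ u) (M *ᵥ v) = Cfsg.hermForm n F q u v
    simp only [Cfsg.hermForm, mulVec, dotProduct, ← hσ, map_sum, map_mul, Finset.sum_mul_sum]
    rw [Finset.sum_comm]
    refine Finset.sum_congr rfl fun a _ => ?_
    rw [Finset.sum_comm]
    have : ∀ b, ∑ i, M i a * u a * (σ (M i b) * σ (v b)) = (if a = b then 1 else 0) * (u a * σ (v b)) := fun b => by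
      rw [← h a b, Finset.sum_mul]
      exact Finset.sum_congr rfl fun i _ => by rw [hσ (M i b)]; ring
    simp only [this, ite_mul, one_mul, zero_mul, Finset.sum_ite_eq, Finset.mem_univ, if_true]

theorem count {K : Type*} [Field K] [Fintype K] {q₀ q r n : ℕ} (hr : r.Prime) (hr2 : r ≠ 2) (hn : 1 ≤ n)
    (hq : q = q₀ ^ r) (hK : Fintype.card K = q ^ 2) (σ : K ≃+* K) (hσ : orderOf σ = r) :
    Nat.card {g : ↥(Cfsg.GU n K q) // ∃ c : K, c ≠ 0 ∧ ((g : GL (Fin n) K) : Matrix (Fin n) (Fin n) K).map σ =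
        c • ((g : GL (Fin n) K) : Matrix (Fin n) (Fin n) K)} * (q₀ + 1) =
      (q + 1) * (q₀ ^ (n * (n - 1) / 2) * ∏ i ∈ Finset.range n, (if Even i then q₀ ^ (i + 1) + 1 else q₀ ^ (i + 1) - 1)) ∧
    q₀ + 1 ∣ q + 1 := by
  classical
  have hodd : Odd r := hr.odd_of_ne_two hr2
  have hqdvd : q₀ + 1 ∣ q + 1 := by
    rw [hq, ← Int.natCast_dvd_natCast]
    push_cast
    simpa [hodd.neg_one_pow] using sub_dvd_pow_sub_pow (q₀ : ℤ) (-1) r
  refine ⟨?_, hqdvd⟩
  haveI : Finite (Subgroup.zpowers σ) := Finite.of_injective (fun τ x => (τ : K ≃+* K) x)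
    fun a b h => Subtype.ext (RingEquiv.ext fun x => congrFun h x)
  haveI : Fintype (Subgroup.zpowers σ) := Fintype.ofFinite _
  let K₀ := FixedPoints.subfield (Subgroup.zpowers σ) K
  haveI : FaithfulSMul (Subgroup.zpowers σ) K := ⟨fun {a b} h => Subtype.ext (RingEquiv.ext h)⟩
  have hmem : ∀ x : K, x ∈ K₀ ↔ σ x = x := fun x => by
    constructor
    · exact fun h => h ⟨σ, Subgroup.mem_zpowers σ⟩
    · intro h τ
      exact (Subgroup.zpowers_le.2 (show σ ∈ MulAction.stabilizer (K ≃+* K) x from h)) τ.2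
  haveI : Fintype K₀ := Fintype.ofFinite _
  have hq2 : 2 ≤ q := by
    by_contra h
    have := Fintype.one_lt_card (α := K)
    rw [hK] at this
    interval_cases q <;> simp at this
  have hq₀ : 2 ≤ q₀ := by
    by_contra h
    interval_cases q₀ <;> simp [zero_pow hr.ne_zero] at hq <;> omega
  have hK₀ : Fintype.card K₀ = q₀ ^ 2 := by
    have h := Module.card_eq_pow_finrank (K := K₀) (V := K)
    have hz : Fintype.card (Subgroup.zpowers σ) = r := by rw [← Nat.card_eq_fintype_card, Nat.card_zpowers, hσ]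
    rw [FixedPoints.finrank_eq_card (Subgroup.zpowers σ) K, hz, hK, hq, ← pow_mul, mul_comm,
      pow_mul] at h
    exact (Nat.pow_left_injective hr.ne_zero h).symm
  have hpq : ∀ x : K₀, (x : K) ^ q = (x : K) ^ q₀ := by
    intro x
    obtain ⟨j, hj⟩ := hodd
    have h : ∀ i : ℕ, (x : K) ^ (q₀ ^ (2 * i)) = (x : K) := fun i => by
      induction i with
      | zero => simp
      | succ i ih =>
        rw [mul_add, pow_add, pow_mul (x : K), ih, mul_one, ← hK₀]
        exact_mod_cast congrArg Subtype.val (FiniteField.pow_card x)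
    rw [hq, hj, pow_succ, pow_mul, h]
  have hq0' : q ≠ 0 := by omega
  let U := {l : Kˣ // l ^ (q + 1) = 1}
  let G₀ := Cfsg.GU n K₀ q₀
  have hG₀ : ∀ h : G₀, (GeneralLinearGroup.map (n := Fin n) K₀.subtype) h.1 ∈ Cfsg.GU n K q := fun h => by
    rw [GU_mem_iff hK]
    intro a b
    have := congrArg (fun z : K₀ => (z : K)) ((GU_mem_iff hK₀).1 h.2 a b)
    push_cast at this
    refine Eq.trans (Finset.sum_congr rfl fun i _ => ?_) (this.trans (by split_ifs <;> rfl))
    show ((h.1 : Matrix (Fin n) (Fin n) K₀) i a : K) * ((h.1 : Matrix (Fin n) (Fin n) K₀) i b : K) ^ q = _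
    rw [hpq]
  have hscal : ∀ (l : U) (g : GL (Fin n) K), g ∈ Cfsg.GU n K q →
      GeneralLinearGroup.scalar (Fin n) l.1 * g ∈ Cfsg.GU n K q := fun l g hg => by
    rw [GU_mem_iff hK] at hg ⊢
    intro a b
    refine Eq.trans (Finset.sum_congr rfl fun i _ => ?_) (hg a b)
    have he : ∀ a, ((GeneralLinearGroup.scalar (Fin n) l.1 * g : GL (Fin n) K) : Matrix (Fin n) (Fin n) K) i a =
        (l.1 : K) * (g : Matrix (Fin n) (Fin n) K) i a := fun a => by simp [GeneralLinearGroup.coe_scalar]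
    have hl : (l.1 : K) * (l.1 : K) ^ q = 1 := by
      rw [← pow_succ', ← Units.val_pow_eq_pow_val, l.2, Units.val_one]
    rw [he, he, mul_pow]
    linear_combination ((g : Matrix (Fin n) (Fin n) K) i a * (g : Matrix (Fin n) (Fin n) K) i b ^ q) * hl
  let T := {g : ↥(Cfsg.GU n K q) // ∃ c : K, c ≠ 0 ∧ ((g : GL (Fin n) K) : Matrix (Fin n) (Fin n) K).map σ =
        c • ((g : GL (Fin n) K) : Matrix (Fin n) (Fin n) K)}
  have hprod : ∀ (l : U) (h : G₀) (i j : Fin n),
      ((GeneralLinearGroup.scalar (Fin n) l.1 * GeneralLinearGroup.map K₀.subtype h.1 : GL (Fin n) K) :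
        Matrix (Fin n) (Fin n) K) i j = (l.1 : K) * ((h.1 : Matrix (Fin n) (Fin n) K₀) i j : K) := fun l h i j => by
    simp [GeneralLinearGroup.coe_scalar]
  let f : U × G₀ → T := fun x => ⟨⟨_, hscal x.1 _ (hG₀ x.2)⟩, σ (x.1.1 : K) / (x.1.1 : K),
    div_ne_zero ((map_ne_zero σ).2 x.1.1.ne_zero) x.1.1.ne_zero, by
      ext i j
      rw [Matrix.map_apply, Matrix.smul_apply, hprod, map_mul, (hmem _).1 (Subtype.coe_prop _), smul_eq_mul, ← mul_assoc,
        div_mul_cancel₀ _ x.1.1.ne_zero]⟩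
  -- every member is in the image
  have hsurj : Function.Surjective f := by
    rintro ⟨⟨g, hg⟩, c, hc, hgc⟩
    set M := (g : Matrix (Fin n) (Fin n) K)
    have hMe : ∀ i j, σ (M i j) = c * M i j := fun i j => by
      have := congrFun (congrFun hgc i) j
      simpa using this
    obtain ⟨i₀, j₀, hne⟩ : ∃ i j, M i j ≠ 0 := by
      by_contra h
      push Not at h
      haveI : Nonempty (Fin n) := ⟨⟨0, hn⟩⟩
      refine g.det_ne_zero ?_
      rw [show (g : Matrix (Fin n) (Fin n) K) = 0 from Matrix.ext h, det_zero]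
    -- Hilbert's theorem ninety
    let m := M i₀ j₀
    have ha : ∀ k : ℕ, ((σ ^ k : K ≃+* K)) m ≠ 0 := fun k => (map_ne_zero _).2 hne
    obtain ⟨y, hy⟩ : ∃ y : K, ∑ k ∈ Finset.range r, m / (σ ^ k : K ≃+* K) m * (σ ^ k : K ≃+* K) y ≠ 0 := by
      by_contra hall
      push Not at hall
      have hli := linearIndependent_monoidHom K K
      let hom : Fin r → (K →* K) := fun k => ((σ ^ (k : ℕ) : K ≃+* K) : K →+* K).toMonoidHom
      have hinj : Function.Injective hom := fun a b h => by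
        have e : (σ ^ (a : ℕ) : K ≃+* K) = σ ^ (b : ℕ) := RingEquiv.ext fun x => DFunLike.congr_fun h x
        exact Fin.ext (pow_injOn_Iio_orderOf (show (a : ℕ) ∈ Set.Iio (orderOf σ) by rw [hσ]; exact a.2)
          (show (b : ℕ) ∈ Set.Iio (orderOf σ) by rw [hσ]; exact b.2) e)
      have h0 := Fintype.linearIndependent_iff.1 (hli.comp hom hinj) (fun k => m / (σ ^ (k : ℕ) : K ≃+* K) m)
        (funext fun x => by
          simp only [Finset.sum_apply, Pi.smul_apply, Function.comp_apply, smul_eq_mul, Pi.zero_apply]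
          rw [← hall x, ← Fin.sum_univ_eq_sum_range]
          rfl) ⟨0, hr.pos⟩
      exact div_ne_zero hne (ha 0) h0
    set S := ∑ k ∈ Finset.range r, m / (σ ^ k : K ≃+* K) m * (σ ^ k : K ≃+* K) y
    have hS : σ S = c * S := by
      simp only [S, map_sum, map_mul, map_div₀, Finset.mul_sum]
      have hstep : ∀ k : ℕ, ∀ x : K, σ ((σ ^ k : K ≃+* K) x) = (σ ^ (k + 1) : K ≃+* K) x := fun k x => by
        rw [pow_succ']; rfl
      have hr1 : (σ ^ r : K ≃+* K) = 1 := hσ ▸ pow_orderOf_eq_one σ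
      simp only [hstep, hMe, show σ m = c * m from hMe i₀ j₀]
      let F' : ℕ → K := fun k => c * (m / (σ ^ k : K ≃+* K) m * (σ ^ k : K ≃+* K) y)
      calc ∑ k ∈ Finset.range r, c * m / (σ ^ (k + 1) : K ≃+* K) m * (σ ^ (k + 1) : K ≃+* K) y
          = ∑ k ∈ Finset.range r, F' (k + 1) := Finset.sum_congr rfl fun k _ => by simp only [F']; ring
        _ = ∑ k ∈ Finset.range r, F' k := by
          have h1 := Finset.sum_range_succ F' r
          have h2 := Finset.sum_range_succ' F' r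
          have h3 : F' r = F' 0 := by
            simp only [F']
            rw [hr1, pow_zero]
          rw [h3] at h1
          linear_combination h1 - h2
    -- adjust the norm
    have hcq : c ^ (q + 1) = 1 := by
      have h1 := (GU_mem_iff hK).1 hg j₀ j₀
      rw [if_pos rfl] at h1
      have h2 := congrArg σ h1
      rw [map_one, map_sum] at h2
      simp only [map_mul, map_pow] at h2
      rw [show (∑ i, σ (M i j₀) * σ (M i j₀) ^ q) = c ^ (q + 1) * ∑ i, M i j₀ * M i j₀ ^ q by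
        rw [Finset.mul_sum]; exact Finset.sum_congr rfl fun i _ => by rw [hMe]; ring, h1, mul_one] at h2
      exact h2
    have hw : σ (S ^ (q + 1)) = S ^ (q + 1) := by rw [map_pow, hS, mul_pow, hcq, one_mul]
    let w : K₀ˣ := Units.mk0 ⟨S ^ (q + 1), (hmem _).2 hw⟩ fun h => pow_ne_zero _ hy (congrArg Subtype.val h)
    have hw1 : w ^ (q₀ - 1) = 1 := by
      have e : (S ^ (q + 1)) ^ q = S ^ (q + 1) := by
        rw [← pow_mul, show (q + 1) * q = q ^ 2 + q by ring, pow_add, ← hK, FiniteField.pow_card, ← pow_succ']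
      have e' : ((w : K₀) : K) ^ q₀ = ((w : K₀) : K) := by rw [← hpq]; exact e
      have e'' : (w : K₀) ^ q₀ = (w : K₀) := Subtype.ext (by push_cast; exact e')
      apply Units.ext
      rw [Units.val_pow_eq_pow_val, Units.val_one]
      refine mul_left_cancel₀ w.ne_zero ?_
      rw [← pow_succ', show q₀ - 1 + 1 = q₀ by omega, mul_one, e'']
    obtain ⟨ν, hν⟩ : ∃ ν : K₀ˣ, ν ^ (q₀ + 1) = w⁻¹ := by
      obtain ⟨ζ, hζ⟩ := IsCyclic.exists_generator (α := K₀ˣ)
      have hz : orderOf ζ = (q₀ + 1) * (q₀ - 1) := by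
        rw [orderOf_eq_card_of_forall_mem_zpowers hζ, Nat.card_units, Nat.card_eq_fintype_card, hK₀,
          ← Nat.sq_sub_sq, one_pow]
      obtain ⟨k, hk⟩ : ∃ k : ℕ, ζ ^ k = w⁻¹ := (mem_powers_iff_mem_zpowers.2 (hζ w⁻¹))
      have hd : orderOf ζ ∣ k * (q₀ - 1) := orderOf_dvd_of_pow_eq_one (by rw [pow_mul, hk, inv_pow, hw1, inv_one])
      rw [hz] at hd
      obtain ⟨j, rfl⟩ := Nat.dvd_of_mul_dvd_mul_right (by omega) hd
      exact ⟨ζ ^ j, by rw [← hk, ← pow_mul, mul_comm]⟩
    set l : K := S * ((ν : K₀) : K)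
    have hl0 : l ≠ 0 := mul_ne_zero hy fun h => ν.ne_zero (Subtype.ext h)
    have hlσ : σ l = c * l := by
      rw [map_mul, hS, (hmem _).1 (Subtype.coe_prop _)]; ring
    have hlU : (Units.mk0 l hl0) ^ (q + 1) = 1 := by
      apply Units.ext
      have h := congrArg (fun z : K₀ˣ => ((z : K₀) : K) * ((w : K₀) : K)) hν
      simp only [Units.val_pow_eq_pow_val] at h
      push_cast at h
      rw [inv_mul_cancel₀ (by intro e; exact w.ne_zero (Subtype.ext e))] at h
      rw [Units.val_pow_eq_pow_val, Units.val_mk0, Units.val_one, mul_pow, pow_succ ((ν : K₀) : K), hpq, ← pow_succ,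
        mul_comm]
      exact h
    have hent : ∀ i j, l⁻¹ * M i j ∈ K₀ := fun i j => (hmem _).2 (by
      rw [map_mul, map_inv₀, hlσ, hMe]; field_simp)
    let N : Matrix (Fin n) (Fin n) K₀ := Matrix.of fun i j => ⟨l⁻¹ * M i j, hent i j⟩
    have hN : N.det ≠ 0 := by
      intro h
      have h' := congrArg K₀.subtype h
      rw [map_zero, RingHom.map_det] at h'
      rw [show K₀.subtype.mapMatrix N = l⁻¹ • M from Matrix.ext fun i j => rfl, det_smul] at h'
      exact mul_ne_zero (pow_ne_zero _ (inv_ne_zero hl0)) g.det_ne_zero h'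
    refine ⟨(⟨Units.mk0 l hl0, hlU⟩, ⟨GeneralLinearGroup.mkOfDetNeZero N hN, ?_⟩), ?_⟩
    · rw [GU_mem_iff hK₀]
      intro a b
      apply Subtype.ext
      push_cast
      refine Eq.trans (Finset.sum_congr rfl fun i _ => ?_) (((GU_mem_iff hK).1 hg a b).trans (by split_ifs <;> rfl))
      show (l⁻¹ * M i a) * (l⁻¹ * M i b) ^ q₀ = M i a * M i b ^ q
      have hb := hpq ⟨l⁻¹ * M i b, hent i b⟩
      simp only at hb
      rw [← hb, mul_pow, inv_pow]
      have hl1 : l * l ^ q = 1 := by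
        rw [← pow_succ', ← Units.val_mk0 hl0, ← Units.val_pow_eq_pow_val, hlU, Units.val_one]
      field_simp
      linear_combination (-(M i a * M i b ^ q)) * hl1
    · refine Subtype.ext (Subtype.ext (Units.ext (Matrix.ext fun i j => ?_)))
      refine (hprod _ _ i j).trans ?_
      show l * (l⁻¹ * M i j) = M i j
      rw [← mul_assoc, mul_inv_cancel₀ hl0, one_mul]
  -- the fibres
  haveI : Finite (U × G₀) := inferInstance
  haveI := Fintype.ofFinite (U × G₀)
  haveI := Fintype.ofFinite T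
  have hfib : ∀ t : T, Nat.card {x // f x = t} = Nat.card {ν : K₀ˣ // ν ^ (q₀ + 1) = 1} := by
    intro t
    obtain ⟨⟨l, h⟩, rfl⟩ := hsurj t
    have hsc : ∀ (u : K₀ˣ) (g : GL (Fin n) K₀) (i j : Fin n),
        ((GeneralLinearGroup.scalar (Fin n) u * g : GL (Fin n) K₀) : Matrix (Fin n) (Fin n) K₀) i j =
          (u : K₀) * (g : Matrix (Fin n) (Fin n) K₀) i j := fun u g i j => by simp [GeneralLinearGroup.coe_scalar]
    have hν : ∀ ν : {ν : K₀ˣ // ν ^ (q₀ + 1) = 1}, (Units.map K₀.subtype.toMonoidHom ν.1) ^ (q + 1) = 1 := fun ν => by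
      apply Units.ext
      show ((ν.1 : K₀) : K) ^ (q + 1) = 1
      rw [pow_succ, hpq, ← pow_succ]
      exact congrArg (fun z : K₀ˣ => ((z : K₀) : K)) ν.2
    have hmemh : ∀ ν : {ν : K₀ˣ // ν ^ (q₀ + 1) = 1}, GeneralLinearGroup.scalar (Fin n) ν.1⁻¹ * h.1 ∈ Cfsg.GU n K₀ q₀ := by
      intro ν
      rw [GU_mem_iff hK₀]
      intro a b
      refine Eq.trans (Finset.sum_congr rfl fun i _ => ?_) ((GU_mem_iff hK₀).1 h.2 a b)
      have e : ((ν.1⁻¹ : K₀ˣ) : K₀) * ((ν.1⁻¹ : K₀ˣ) : K₀) ^ q₀ = 1 := by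
        rw [← pow_succ', ← Units.val_pow_eq_pow_val, inv_pow, ν.2, inv_one, Units.val_one]
      rw [hsc, hsc, mul_pow]
      linear_combination ((h.1 : Matrix (Fin n) (Fin n) K₀) i a * (h.1 : Matrix (Fin n) (Fin n) K₀) i b ^ q₀) * e
    have hc : ∀ ν : {ν : K₀ˣ // ν ^ (q₀ + 1) = 1},
        f (⟨l.1 * Units.map K₀.subtype.toMonoidHom ν.1, by rw [mul_pow, l.2, hν, one_mul]⟩, ⟨_, hmemh ν⟩) = f (l, h) := by
      intro ν
      refine Subtype.ext (Subtype.ext (Units.ext (Matrix.ext fun i j => ?_)))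
      refine (hprod _ _ i j).trans (Eq.trans ?_ (hprod _ _ i j).symm)
      show ((l.1 : K) * ((ν.1 : K₀) : K)) * (((GeneralLinearGroup.scalar (Fin n) ν.1⁻¹ * h.1 : GL (Fin n) K₀) :
        Matrix (Fin n) (Fin n) K₀) i j : K) = _
      rw [hsc, mul_assoc]
      congr 1
      rw [← Subfield.coe_mul, ← mul_assoc, Units.mul_inv, one_mul]
    refine (Nat.card_congr (Equiv.ofBijective (fun ν => ⟨_, hc ν⟩) ⟨fun a b e => ?_, fun x => ?_⟩)).symm
    · have := congrArg (fun z : {x // f x = f (l, h)} => (z.1.1.1 : Kˣ)) e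
      refine Subtype.ext (Units.ext (Subtype.ext ?_))
      exact congrArg Units.val (mul_left_cancel this)
    · obtain ⟨⟨⟨l', hl'⟩, h'⟩, hx⟩ := x
      have he : ∀ i j, (l' : K) * ((h'.1 : Matrix (Fin n) (Fin n) K₀) i j : K) =
          (l.1 : K) * ((h.1 : Matrix (Fin n) (Fin n) K₀) i j : K) := fun i j => by
        have := congrArg (fun z : T => ((z.1 : GL (Fin n) K) : Matrix (Fin n) (Fin n) K) i j) hx
        exact ((hprod _ _ i j).symm.trans this).trans (hprod _ _ i j)
      obtain ⟨i₁, j₁, hne₁⟩ : ∃ i j, ((h'.1 : Matrix (Fin n) (Fin n) K₀) i j : K) ≠ 0 := by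
        by_contra hz
        push Not at hz
        haveI : Nonempty (Fin n) := ⟨⟨0, hn⟩⟩
        refine h'.1.det_ne_zero ?_
        rw [show (h'.1 : Matrix (Fin n) (Fin n) K₀) = 0 from Matrix.ext fun i j => Subtype.ext (hz i j), det_zero]
      have hk : (l' : K) / (l.1 : K) ∈ K₀ := by
        have e : (l' : K) / (l.1 : K) =
            ((h.1 : Matrix (Fin n) (Fin n) K₀) i₁ j₁ : K) / ((h'.1 : Matrix (Fin n) (Fin n) K₀) i₁ j₁ : K) := by
          rw [div_eq_div_iff l.1.ne_zero hne₁, he]; ring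
        rw [e]
        exact div_mem (Subtype.coe_prop _) (Subtype.coe_prop _)
      have hνu : (Units.mk0 (⟨_, hk⟩ : K₀) (fun e => div_ne_zero l'.ne_zero l.1.ne_zero (congrArg Subtype.val e))) ^ (q₀ + 1) = 1 := by
        apply Units.ext
        apply Subtype.ext
        push_cast
        show ((l' : K) / (l.1 : K)) ^ (q₀ + 1) = 1
        have hqq := hpq ⟨_, hk⟩
        simp only at hqq
        rw [pow_succ, ← hqq, ← pow_succ, div_pow]
        rw [← Units.val_pow_eq_pow_val, ← Units.val_pow_eq_pow_val, hl', l.2, div_self]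
        simp
      have hl'eq : l.1 * Units.map K₀.subtype.toMonoidHom (Units.mk0 (⟨_, hk⟩ : K₀)
          (fun e => div_ne_zero l'.ne_zero l.1.ne_zero (congrArg Subtype.val e))) = l' :=
        Units.ext (show (l.1 : K) * ((l' : K) / (l.1 : K)) = (l' : K) from mul_div_cancel₀ _ l.1.ne_zero)
      refine ⟨⟨_, hνu⟩, Subtype.ext (Prod.ext (Subtype.ext hl'eq) (Subtype.ext (Units.ext (Matrix.ext fun i j => ?_))))⟩
      rw [hsc]
      apply Subtype.ext
      push_cast
      refine mul_left_cancel₀ l'.ne_zero ?_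
      show (l' : K) * _ = _
      rw [← mul_assoc, mul_comm (l' : K), mul_assoc, he]
      show ((l' : K) / (l.1 : K))⁻¹ * _ = _
      rw [inv_div]
      field_simp
  have hcardeq : Nat.card U * Nat.card G₀ = Nat.card T * (q₀ + 1) := by
    rw [← Nat.card_prod, Nat.card_congr (Equiv.sigmaFiberEquiv f).symm, Nat.card_sigma]
    simp only [hfib]
    rw [Finset.sum_const, Finset.card_univ, smul_eq_mul, ← Nat.card_eq_fintype_card]
    congr 1
    rw [show {ν : K₀ˣ // ν ^ (q₀ + 1) = 1} = ↥({ν : K₀ˣ | ν ^ (q₀ + 1) = 1} : Set K₀ˣ) from rfl]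
    have := IsCyclic.card_powMonoidHom_ker (G := K₀ˣ) (q₀ + 1)
    rw [Nat.card_units, Nat.card_eq_fintype_card (α := K₀), hK₀, show q₀ ^ 2 - 1 = (q₀ + 1) * (q₀ - 1) by
      rw [← Nat.sq_sub_sq, one_pow], Nat.gcd_eq_right (dvd_mul_right _ _)] at this
    exact this
  have hU : Nat.card U = q + 1 := by
    have := IsCyclic.card_powMonoidHom_ker (G := Kˣ) (q + 1)
    rw [Nat.card_units, Nat.card_eq_fintype_card (α := K), hK, show q ^ 2 - 1 = (q + 1) * (q - 1) by
      rw [← Nat.sq_sub_sq, one_pow], Nat.gcd_eq_right (dvd_mul_right _ _)] at this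
    exact this
  rw [← hcardeq, hU, card_GU hK₀]

end CfsgLib.KnownC.GUFieldCentraliser
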