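import Mathlib

set_option autoImplicit false
set_option linter.unusedSectionVars false

/-! Hilbert's theorem ninety and surjectivity of the norm for involutions of finite commutative rings. -/

namespace CfsgLib.KnownC.NormSurj

variable {R : Type*} [CommRing R] [Finite R] (σ : R →+* R)

/-- Hilbert's theorem ninety. -/
theorem exists_unit_eq (hσ : ∀ x, σ (σ x) = x) {θ : R} (hθ : IsUnit (θ - σ θ)) {u : R} (hu : u * σ u = 1) :
    ∃ v : R, IsUnit v ∧ v = u * σ v := by
  classical
  have hcomap : ∀ m : MaximalSpectrum R, (Ideal.comap σ m.asIdeal).IsMaximal := fun m => by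
    haveI := m.isMaximal
    exact Ideal.comap_isMaximal_of_surjective σ (fun x => ⟨σ x, hσ x⟩)
  let τ : MaximalSpectrum R → MaximalSpectrum R := fun m => ⟨Ideal.comap σ m.asIdeal, hcomap m⟩
  haveI := Fintype.ofFinite (MaximalSpectrum R)
  -- the local choices
  have hloc : ∀ m : MaximalSpectrum R, τ m = m → ∃ c : R, c + u * σ c ∉ m.asIdeal := by
    intro m _
    by_contra hall
    push Not at hall
    have h1 := hall 1
    have h2 := hall θ
    rw [map_one, mul_one] at h1
    refine m.isMaximal.ne_top (Ideal.eq_top_of_isUnit_mem _ ?_ hθ)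
    have h3 := m.asIdeal.sub_mem h2 (m.asIdeal.mul_mem_right (σ θ) h1)
    convert h3 using 1
    ring
  choose c₀ hc₀ using hloc
  -- one point in each two-element orbit gets one, the other nought
  let idx : MaximalSpectrum R → Fin (Fintype.card (MaximalSpectrum R)) := Fintype.equivFin _
  let target : MaximalSpectrum R → R := fun m => if h : τ m = m then c₀ m h else if idx m < idx (τ m) then 1 else 0
  have hττ : ∀ m, τ (τ m) = m := fun m => MaximalSpectrum.ext (Ideal.ext fun x => by
    show σ (σ x) ∈ m.asIdeal ↔ _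
    rw [hσ])
  obtain ⟨c, hc⟩ := Ideal.exists_forall_sub_mem_ideal (I := fun m : MaximalSpectrum R => m.asIdeal)
    (fun a b hab => Ideal.isCoprime_iff_sup_eq.2
      (a.isMaximal.coprime_of_ne b.isMaximal fun e => hab (MaximalSpectrum.ext e))) target
  refine ⟨c + u * σ c, ?_, ?_⟩
  · by_contra hnu
    obtain ⟨I, hI, hmem⟩ := exists_max_ideal_of_mem_nonunits hnu
    obtain ⟨m, rfl⟩ : ∃ m : MaximalSpectrum R, m.asIdeal = I := ⟨⟨I, hI⟩, rfl⟩
    have huu : ∀ x, u * x ∈ m.asIdeal → x ∈ m.asIdeal := fun x hx => by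
      have := m.asIdeal.mul_mem_left (σ u) hx
      rwa [← mul_assoc, mul_comm (σ u), hu, one_mul] at this
    have h1 : c - target m ∈ m.asIdeal := hc m
    have h2 : σ (c - target (τ m)) ∈ m.asIdeal := hc (τ m)
    rw [map_sub] at h2
    by_cases hfix : τ m = m
    · rw [hfix] at h2
      refine hc₀ m hfix ?_
      have e : target m = c₀ m hfix := dif_pos hfix
      rw [e] at h1 h2
      convert m.asIdeal.sub_mem hmem (m.asIdeal.add_mem h1 (m.asIdeal.mul_mem_left u h2)) using 1
      ring
    · have hne : τ (τ m) ≠ τ m := by rw [hττ]; exact fun e => hfix e.symm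
      have e1 : target m = if idx m < idx (τ m) then 1 else 0 := dif_neg hfix
      have e2 : target (τ m) = if idx (τ m) < idx m then 1 else 0 := by
        rw [show target (τ m) = _ from dif_neg hne, hττ]
      have hlt : idx m ≠ idx (τ m) := fun e => hfix ((Fintype.equivFin _).injective e).symm
      have hone : (1 : R) ∈ m.asIdeal := by
        have h := m.asIdeal.sub_mem hmem (m.asIdeal.add_mem h1 (m.asIdeal.mul_mem_left u h2))
        rcases lt_or_gt_of_ne hlt with hl | hl
        · rw [e1, e2, if_pos hl, if_neg (not_lt_of_gt hl), map_zero] at h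
          convert h using 1; ring
        · rw [e1, e2, if_neg (not_lt_of_gt hl), if_pos hl, map_one] at h
          refine huu 1 ?_
          convert h using 1; ring
      exact m.isMaximal.ne_top ((Ideal.eq_top_iff_one _).2 hone)
  · rw [map_add, map_mul, hσ, mul_add, ← mul_assoc, hu, one_mul, add_comm]

/-- Every fixed unit is a norm. -/
theorem norm_surjective (hσ : ∀ x, σ (σ x) = x) {θ : R} (hθ : IsUnit (θ - σ θ)) {w : R} (hw : IsUnit w)
    (hwσ : σ w = w) : ∃ v : R, IsUnit v ∧ σ v * v = w := by
  classical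
  let s : Rˣ →* Rˣ := Units.map σ.toMonoidHom
  let N : Rˣ →* Rˣ :=
    { toFun := fun v => s v * v
      map_one' := by rw [map_one, one_mul]
      map_mul' := fun a b => by rw [map_mul]; exact mul_mul_mul_comm _ _ _ _ }
  let D : Rˣ →* Rˣ :=
    { toFun := fun v => v * (s v)⁻¹
      map_one' := by rw [map_one, inv_one, one_mul]
      map_mul' := fun a b => by rw [map_mul, mul_inv]; exact mul_mul_mul_comm _ _ _ _ }
  have hss : ∀ v, s (s v) = v := fun v => Units.ext (hσ v)
  have hND : N.ker = D.range := by
    ext u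
    constructor
    · intro hu
      have h1 : (u : R) * σ u = 1 := by
        have := congrArg Units.val (MonoidHom.mem_ker.1 hu)
        rw [mul_comm]; exact this
      obtain ⟨v, hv, e⟩ := exists_unit_eq σ hσ hθ h1
      refine ⟨hv.unit, ?_⟩
      show hv.unit * (s hv.unit)⁻¹ = u
      rw [mul_inv_eq_iff_eq_mul]
      exact Units.ext e
    · rintro ⟨v, rfl⟩
      rw [MonoidHom.mem_ker]
      show s (v * (s v)⁻¹) * (v * (s v)⁻¹) = 1
      rw [map_mul, map_inv, hss]
      group
  have hrange : N.range = D.ker := by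
    refine Subgroup.eq_of_le_of_card_ge ?_ ?_
    · rintro _ ⟨v, rfl⟩
      rw [MonoidHom.mem_ker]
      show s v * v * (s (s v * v))⁻¹ = 1
      rw [map_mul, hss, mul_comm v, mul_inv_cancel]
    · have h1 := N.ker.card_mul_index
      have h2 := D.ker.card_mul_index
      rw [Subgroup.index_ker] at h1 h2
      rw [hND] at h1
      have h3 : 0 < Nat.card D.range := Nat.card_pos
      nlinarith
  have hwD : hw.unit ∈ D.ker := by
    rw [MonoidHom.mem_ker]
    show hw.unit * (s hw.unit)⁻¹ = 1
    rw [mul_inv_eq_one]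
    exact Units.ext hwσ.symm
  obtain ⟨v, hv⟩ := hrange.symm ▸ hwD
  exact ⟨v, v.isUnit, congrArg Units.val hv⟩

end CfsgLib.KnownC.NormSurj
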