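import Cfsg.Agent.Lib.KnownC.GUFieldCentraliser
import Cfsg.Agent.Lib.KnownC.NormSurj

set_option autoImplicit false
set_option linter.unusedSectionVars false

/-! Conjugacy in the general unitary group through the general linear group. -/

namespace CfsgLib.KnownC.GUConj

open Matrix CfsgLib.Classical

variable {K : Type*} [Field K] {n q : ℕ} (σ : K →+* K)

/-- Conjugate transpose. -/
def adj (M : Matrix (Fin n) (Fin n) K) : Matrix (Fin n) (Fin n) K := (M.map σ)ᵀ

theorem adj_add (M N : Matrix (Fin n) (Fin n) K) : adj σ (M + N) = adj σ M + adj σ N := by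
  ext i j; simp [adj]

theorem adj_mul (M N : Matrix (Fin n) (Fin n) K) : adj σ (M * N) = adj σ N * adj σ M := by
  rw [adj, Matrix.map_mul, Matrix.transpose_mul]; rfl

theorem adj_algebraMap (c : K) :
    adj σ (algebraMap K (Matrix (Fin n) (Fin n) K) c) = algebraMap K _ (σ c) := by
  ext i j
  simp only [adj, transpose_apply, map_apply, algebraMap_matrix_apply, eq_comm (a := i)]
  split_ifs <;> simp

theorem adj_one : adj σ (1 : Matrix (Fin n) (Fin n) K) = 1 := by
  simpa using adj_algebraMap (n := n) σ 1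

variable {σ}

theorem adj_adj (hc : IsConjugation σ) (M : Matrix (Fin n) (Fin n) K) : adj σ (adj σ M) = M := by
  ext i j; simp [adj, hc.invol]

variable (σ)

/-- Conjugate transpose on invertible matrices. -/
def adjGL (g : GL (Fin n) K) : GL (Fin n) K where
  val := adj σ g.val
  inv := adj σ (g⁻¹ : GL (Fin n) K).val
  val_inv := by rw [← adj_mul, ← Units.val_mul, inv_mul_cancel, Units.val_one, adj_one]
  inv_val := by rw [← adj_mul, ← Units.val_mul, mul_inv_cancel, Units.val_one, adj_one]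

theorem adjGL_mul (g h : GL (Fin n) K) : adjGL σ (g * h) = adjGL σ h * adjGL σ g :=
  Units.ext (adj_mul σ _ _)

theorem adjGL_inv (g : GL (Fin n) K) : adjGL σ g⁻¹ = (adjGL σ g)⁻¹ := Units.ext rfl

variable {σ}

theorem adjGL_adjGL (hc : IsConjugation σ) (g : GL (Fin n) K) : adjGL σ (adjGL σ g) = g :=
  Units.ext (adj_adj hc _)

theorem mem_GU_iff_adj [Fintype K] (hK : Fintype.card K = q ^ 2) (hσ : ∀ x, σ x = x ^ q) (hc : IsConjugation σ)
    {g : GL (Fin n) K} : g ∈ Cfsg.GU n K q ↔ adjGL σ g * g = 1 := by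
  rw [GUFieldCentraliser.GU_mem_iff hK]
  constructor
  · intro h
    refine Units.ext ?_
    show adj σ g.val * g.val = 1
    ext a b
    rw [mul_apply, one_apply]
    rw [show (if a = b then (1 : K) else 0) = if b = a then 1 else 0 from if_congr eq_comm rfl rfl, ← h b a]
    refine Finset.sum_congr rfl fun i _ => ?_
    simp only [adj, transpose_apply, map_apply, hσ]
    ring
  · intro h a b
    have h'' : adj σ g.val * g.val = 1 := congrArg Units.val h
    have h' := congrFun (congrFun h'' b) a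
    rw [mul_apply, one_apply] at h'
    rw [show (if a = b then (1 : K) else 0) = if b = a then 1 else 0 from if_congr eq_comm rfl rfl, ← h']
    refine Finset.sum_congr rfl fun i _ => ?_
    show _ = adj σ g.val b i * _
    simp only [adj, transpose_apply, map_apply, hσ]
    ring

theorem exists_conj_fix (hc : IsConjugation σ) : ∃ θ : K, θ - σ θ ≠ 0 := by
  by_contra h
  push Not at h
  exact hc.ne_id (RingHom.ext fun x => (sub_eq_zero.1 (h x)).symm)

/-- An involution `Y ↦ Q⁻¹ Yᴴ Q` on the algebra generated by one invertible matrix. -/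
theorem exists_involution [Fintype K] (hc : IsConjugation σ) (X Q : GL (Fin n) K)
    (hX : Q⁻¹ * adjGL σ X * Q ∈ Subgroup.zpowers X) (hQ : Commute X (Q⁻¹ * adjGL σ Q)) :
    let R := Algebra.adjoin K {(X : Matrix (Fin n) (Fin n) K)}
    ∃ (_ : ∀ a b : R, a * b = b * a) (s : R →+* R), (∀ x, s (s x) = x) ∧
      (∀ x : R, (s x : Matrix (Fin n) (Fin n) K) = (Q⁻¹ : GL (Fin n) K).val * adj σ x.val * Q.val) ∧
      (∃ θ : R, IsUnit (θ - s θ)) := by
  classical
  intro R
  have hcomm : ∀ a b : R, a * b = b * a := fun a b => Subtype.ext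
    ((Algebra.commute_of_mem_adjoin_singleton_of_commute b.2
      (Algebra.commute_of_mem_adjoin_singleton_of_commute a.2 (Commute.refl (X : Matrix (Fin n) (Fin n) K))).symm))
  let J : Matrix (Fin n) (Fin n) K → Matrix (Fin n) (Fin n) K := fun Y =>
    (Q⁻¹ : GL (Fin n) K) * adj σ Y * Q
  have hQQ : ∀ Y Z : Matrix (Fin n) (Fin n) K,
      (Q⁻¹ : GL (Fin n) K) * (Y * Z) * Q = ((Q⁻¹ : GL (Fin n) K) * Y * Q) * ((Q⁻¹ : GL (Fin n) K) * Z * Q) :=
    fun Y Z => by simp only [mul_assoc, Units.mul_inv_cancel_left]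
  have hJalg : ∀ c, J (algebraMap K _ c) = algebraMap K _ (σ c) := fun c => by
    simp only [J, adj_algebraMap]
    rw [← Algebra.commutes, mul_assoc, Units.inv_mul, mul_one]
  have hJadd : ∀ Y Z, J (Y + Z) = J Y + J Z := fun Y Z => by simp only [J, adj_add, mul_add, add_mul]
  have hJmul : ∀ Y Z, J (Y * Z) = J Z * J Y := fun Y Z => by simp only [J, adj_mul]; exact hQQ _ _
  have hmem : ∀ Y ∈ R, J Y ∈ R := by
    intro Y hY
    induction hY using Algebra.adjoin_induction with
    | mem x hx =>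
      rw [Set.mem_singleton_iff.1 hx]
      obtain ⟨k, hk⟩ := (IsOfFinOrder.mem_zpowers_iff_mem_range_orderOf (isOfFinOrder_of_finite X)).1 hX |>
        Finset.mem_image.1 |>.imp fun k h => h.2
      show ((Q⁻¹ * adjGL σ X * Q : GL (Fin n) K) : Matrix (Fin n) (Fin n) K) ∈ R
      rw [← hk, Units.val_pow_eq_pow_val]
      exact R.pow_mem (Algebra.subset_adjoin rfl) k
    | algebraMap c => rw [hJalg]; exact R.algebraMap_mem _
    | add x y _ _ hx hy => rw [hJadd]; exact R.add_mem hx hy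
    | mul x y _ _ hx hy => rw [hJmul]; exact R.mul_mem hy hx
  let s : R →+* R :=
    { toFun := fun x => ⟨J x, hmem x x.2⟩
      map_one' := Subtype.ext (by show J 1 = 1; rw [← map_one (algebraMap K (Matrix (Fin n) (Fin n) K)), hJalg, map_one])
      map_mul' := fun x y => by
        rw [hcomm x y]
        exact Subtype.ext (hJmul y x)
      map_zero' := Subtype.ext (by show J 0 = 0; rw [← map_zero (algebraMap K (Matrix (Fin n) (Fin n) K)), hJalg, map_zero])
      map_add' := fun x y => Subtype.ext (hJadd x y) }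
  refine ⟨hcomm, s, fun x => Subtype.ext ?_, fun x => rfl, ?_⟩
  · show J (J x) = x
    have hx : Commute ((Q⁻¹ * adjGL σ Q : GL (Fin n) K) : Matrix (Fin n) (Fin n) K) x :=
      Algebra.commute_of_mem_adjoin_singleton_of_commute x.2 (hQ.map (Units.coeHom _)).symm
    calc J (J x) = ((Q⁻¹ * adjGL σ Q : GL (Fin n) K) : Matrix (Fin n) (Fin n) K) * x *
        (((Q⁻¹ * adjGL σ Q)⁻¹ : GL (Fin n) K) : Matrix (Fin n) (Fin n) K) := by
          simp only [J, adj_mul, adj_adj hc, _root_.mul_inv_rev, inv_inv, Units.val_mul, mul_assoc]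
          rfl
      _ = x := by rw [hx.eq, Units.mul_inv_cancel_right]
  · obtain ⟨θ, hθ⟩ := exists_conj_fix hc
    refine ⟨algebraMap K R θ, ?_⟩
    have e : algebraMap K R θ - s (algebraMap K R θ) = algebraMap K R (θ - σ θ) := by
      rw [map_sub]
      exact congrArg _ (Subtype.ext (hJalg θ))
    rw [e]
    exact (IsUnit.mk0 _ hθ).map _

theorem isUnit_gen [Fintype K] (X : GL (Fin n) K) :
    IsUnit (⟨(X : Matrix (Fin n) (Fin n) K), Algebra.subset_adjoin rfl⟩ :
      Algebra.adjoin K {(X : Matrix (Fin n) (Fin n) K)}) := by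
  refine IsUnit.of_pow_eq_one (n := orderOf X) (Subtype.ext ?_) (orderOf_pos X).ne'
  rw [SubmonoidClass.coe_pow, ← Units.val_pow_eq_pow_val, pow_orderOf_eq_one]
  rfl

/-- An invertible Hermitian matrix has a square root in the algebra it generates. -/
theorem exists_sqrt [Fintype K] (hc : IsConjugation σ) (H : GL (Fin n) K) (hH : adjGL σ H = H) :
    ∃ v : GL (Fin n) K, adjGL σ v * v = H ∧ ∀ A : GL (Fin n) K, Commute A H → Commute A v := by
  classical
  obtain ⟨hcomm, s, hs, hsv, θ, hθ⟩ := exists_involution hc H 1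
    (by rw [hH]; simp) (by simp [hH, adjGL_one_eq])
  letI : CommRing (Algebra.adjoin K {(H : Matrix (Fin n) (Fin n) K)}) :=
    { (inferInstance : Ring (Algebra.adjoin K {(H : Matrix (Fin n) (Fin n) K)})) with mul_comm := hcomm }
  obtain ⟨v, hv, e⟩ := NormSurj.norm_surjective s hs hθ (isUnit_gen H) (Subtype.ext (by
    rw [hsv]
    show ((1⁻¹ : GL (Fin n) K) : Matrix (Fin n) (Fin n) K) * adj σ H.val * ((1 : GL (Fin n) K) : Matrix (Fin n) (Fin n) K) = H.val
    rw [inv_one, Units.val_one, one_mul, mul_one]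
    exact congrArg Units.val hH))
  refine ⟨Units.map (Algebra.adjoin K {(H : Matrix (Fin n) (Fin n) K)}).val.toRingHom.toMonoidHom hv.unit,
    Units.ext ?_, fun A hA => Units.ext (Algebra.commute_of_mem_adjoin_singleton_of_commute v.2
      (hA.map (Units.coeHom _))).eq⟩
  have e' := congrArg Subtype.val e
  simp only [MulMemClass.coe_mul, hsv, inv_one, Units.val_one, one_mul, mul_one] at e'
  exact e'
where
  adjGL_one_eq : adjGL σ (1 : GL (Fin n) K) = 1 := Units.ext (adj_one σ)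

/-- The Hermitian multiple of a form preserved by a matrix. -/
theorem exists_herm [Fintype K] (hc : IsConjugation σ) (A P : GL (Fin n) K) (hP : adjGL σ A * P * A = P) :
    ∃ H : GL (Fin n) K, adjGL σ H = H ∧ adjGL σ A * H * A = H := by
  classical
  set X := P⁻¹ * adjGL σ P with hXdef
  have hP' : adjGL σ A * adjGL σ P * A = adjGL σ P := by
    have h := congrArg (adjGL σ) hP
    rwa [adjGL_mul, adjGL_mul, adjGL_adjGL hc, ← mul_assoc] at h
  have hAX : Commute A X := by
    have h : P⁻¹ * (adjGL σ A)⁻¹ = A * P⁻¹ := by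
      rw [← _root_.mul_inv_rev, inv_eq_iff_mul_eq_one]
      calc adjGL σ A * P * (A * P⁻¹) = adjGL σ A * P * A * P⁻¹ := by group
        _ = 1 := by rw [hP, mul_inv_cancel]
    show A * (P⁻¹ * adjGL σ P) = P⁻¹ * adjGL σ P * A
    rw [← mul_assoc, ← h]
    calc P⁻¹ * (adjGL σ A)⁻¹ * adjGL σ P = P⁻¹ * (adjGL σ A)⁻¹ * (adjGL σ A * adjGL σ P * A) := by rw [hP']
      _ = P⁻¹ * adjGL σ P * A := by group
  obtain ⟨hcomm, s, hs, hsv, θ, hθ⟩ := exists_involution hc X P (by
    refine ⟨-1, ?_⟩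
    show X ^ (-1 : ℤ) = P⁻¹ * adjGL σ X * P
    rw [_root_.zpow_neg_one, hXdef, adjGL_mul, adjGL_adjGL hc, adjGL_inv]
    group) (Commute.refl X)
  letI : CommRing (Algebra.adjoin K {(X : Matrix (Fin n) (Fin n) K)}) :=
    { (inferInstance : Ring (Algebra.adjoin K {(X : Matrix (Fin n) (Fin n) K)})) with mul_comm := hcomm }
  obtain ⟨v, hv, e⟩ := NormSurj.exists_unit_eq s hs hθ
    (u := ⟨(X : Matrix (Fin n) (Fin n) K), Algebra.subset_adjoin rfl⟩) (Subtype.ext (by
      show (X : Matrix (Fin n) (Fin n) K) * (s _ : Matrix (Fin n) (Fin n) K) = 1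
      rw [hsv]
      show ((X * (P⁻¹ * adjGL σ X * P) : GL (Fin n) K) : Matrix (Fin n) (Fin n) K) = 1
      rw [hXdef, adjGL_mul, adjGL_adjGL hc, adjGL_inv, ← Units.val_one]
      exact congrArg Units.val (by group)))
  let Y : GL (Fin n) K :=
    Units.map (Algebra.adjoin K {(X : Matrix (Fin n) (Fin n) K)}).val.toRingHom.toMonoidHom hv.unit
  have hY : Y = X * (P⁻¹ * adjGL σ Y * P) := by
    refine Units.ext ?_
    have e' := congrArg Subtype.val e
    simp only [MulMemClass.coe_mul, hsv] at e'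
    exact e'
  have hAY : Commute A Y := Units.ext (Algebra.commute_of_mem_adjoin_singleton_of_commute v.2
    (hAX.map (Units.coeHom _))).eq
  refine ⟨P * Y, ?_, ?_⟩
  · rw [adjGL_mul]
    have hXY : Commute X Y := Units.ext (Algebra.commute_of_mem_adjoin_singleton_of_commute v.2 (Commute.refl _)).eq
    calc adjGL σ Y * adjGL σ P = P * (P⁻¹ * adjGL σ Y * P) * X := by rw [hXdef]; group
      _ = P * (X⁻¹ * Y * X) := by
        conv_rhs => rw [hY]
        group
      _ = P * Y := by rw [mul_assoc X⁻¹, ← hXY.eq, inv_mul_cancel_left]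
  · calc adjGL σ A * (P * Y) * A = adjGL σ A * P * (Y * A) := by group
      _ = adjGL σ A * P * A * Y := by rw [← hAY.eq, mul_assoc (adjGL σ A * P)]
      _ = P * Y := by rw [hP]

theorem isConj_iff_linear [Fintype K] (hK : Fintype.card K = q ^ 2) (A B : ↥(Cfsg.GU n K q)) :
    IsConj A B ↔ IsConj (A : GL (Fin n) K) (B : GL (Fin n) K) := by
  obtain ⟨σ, hσ, hc⟩ := exists_frob hK
  refine ⟨fun h => MonoidHom.map_isConj (Cfsg.GU n K q).subtype h, fun h => ?_⟩
  obtain ⟨g, hg⟩ := isConj_iff.1 h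
  have hA := (mem_GU_iff_adj hK hσ hc).1 A.2
  have hB := (mem_GU_iff_adj hK hσ hc).1 B.2
  have hA' : adjGL σ (A : GL (Fin n) K) = (A : GL (Fin n) K)⁻¹ := eq_inv_of_mul_eq_one_left hA
  have hH : Commute (A : GL (Fin n) K) (adjGL σ g * g) := by
    rw [← hg, adjGL_mul, adjGL_mul, adjGL_inv, hA'] at hB
    have h : (A : GL (Fin n) K)⁻¹ * (adjGL σ g * g) * A = adjGL σ g * g := by
      calc (A : GL (Fin n) K)⁻¹ * (adjGL σ g * g) * A =
          adjGL σ g * ((adjGL σ g)⁻¹ * ((A : GL (Fin n) K)⁻¹ * adjGL σ g) * (g * A * g⁻¹)) * g := by group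
        _ = adjGL σ g * g := by rw [hB, mul_one]
    show (A : GL (Fin n) K) * _ = _ * A
    conv_lhs => rw [← h]
    group
  obtain ⟨v, hv, hcomm⟩ := exists_sqrt hc (adjGL σ g * g) (by rw [adjGL_mul, adjGL_adjGL hc])
  have hmem : g * v⁻¹ ∈ Cfsg.GU n K q := (mem_GU_iff_adj hK hσ hc).2 (by
    rw [adjGL_mul, adjGL_inv]
    calc (adjGL σ v)⁻¹ * adjGL σ g * (g * v⁻¹) = (adjGL σ v)⁻¹ * (adjGL σ g * g) * v⁻¹ := by group
      _ = 1 := by rw [← hv]; group)
  refine isConj_iff.2 ⟨⟨_, hmem⟩, Subtype.ext ?_⟩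
  show g * v⁻¹ * A * (g * v⁻¹)⁻¹ = B
  rw [← hg, mul_assoc g, ← (hcomm _ hH).inv_right.eq]
  group

theorem similar_iff [Fintype K] (hK : Fintype.card K = q ^ 2) (A : GL (Fin n) K) :
    (∃ B : ↥(Cfsg.GU n K q), IsConj A (B : GL (Fin n) K)) ↔
      IsConj (A : Matrix (Fin n) (Fin n) K)
        (((A : Matrix (Fin n) (Fin n) K).map (fun x : K => x ^ q)).transpose)⁻¹ := by
  obtain ⟨σ, hσ, hc⟩ := exists_frob hK
  have hmap : (((A : Matrix (Fin n) (Fin n) K).map (fun x : K => x ^ q)).transpose)⁻¹ =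
      (((adjGL σ A)⁻¹ : GL (Fin n) K) : Matrix (Fin n) (Fin n) K) := by
    rw [Matrix.coe_units_inv, ← funext hσ]
    rfl
  rw [hmap]
  constructor
  · rintro ⟨B, hB⟩
    obtain ⟨g, hg⟩ := isConj_iff.1 hB
    have h := eq_inv_of_mul_eq_one_left ((mem_GU_iff_adj hK hσ hc).1 B.2)
    rw [← hg, adjGL_mul, adjGL_mul, adjGL_inv] at h
    refine ⟨adjGL σ g * g, ?_⟩
    show ((adjGL σ g * g : GL (Fin n) K) : Matrix (Fin n) (Fin n) K) * A = _
    rw [← Units.val_mul, ← Units.val_mul]
    refine congrArg Units.val ?_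
    have hA : adjGL σ A = adjGL σ g * (g * A⁻¹ * g⁻¹) * (adjGL σ g)⁻¹ := by
      calc adjGL σ A = adjGL σ g * ((adjGL σ g)⁻¹ * (adjGL σ A * adjGL σ g)) * (adjGL σ g)⁻¹ := by group
        _ = _ := by rw [h]; group
    rw [hA]
    group
  · rintro ⟨c, hcA⟩
    have hP : adjGL σ A * c * A = c := by
      have h : c * A = (adjGL σ A)⁻¹ * c := Units.ext hcA
      rw [mul_assoc, h, mul_inv_cancel_left]
    obtain ⟨H, hH, hAH⟩ := exists_herm hc A c hP
    obtain ⟨v, hv, -⟩ := exists_sqrt hc H hH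
    refine ⟨⟨v * A * v⁻¹, (mem_GU_iff_adj hK hσ hc).2 ?_⟩, isConj_iff.2 ⟨v, rfl⟩⟩
    rw [adjGL_mul, adjGL_mul, adjGL_inv]
    calc (adjGL σ v)⁻¹ * (adjGL σ A * adjGL σ v) * (v * A * v⁻¹) =
        (adjGL σ v)⁻¹ * (adjGL σ A * (adjGL σ v * v) * A) * v⁻¹ := by group
      _ = 1 := by rw [hv, hAH, ← hv]; group

end CfsgLib.KnownC.GUConj
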