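import Cfsg.Prelude.Def_JordanBlocks
import Mathlib

set_option autoImplicit false
set_option linter.unusedSectionVars false

/-! The normal form of nilpotent endomorphisms and the classes of unipotent matrices. -/

namespace CfsgLib.KnownC.JordanNormal

open Module

section Lin

variable {F V : Type*} [Field F] [AddCommGroup V] [Module F V] [FiniteDimensional F V] {N : Module.End F V}

/-- The linear combinations of chains. -/
noncomputable def comb (N : Module.End F V) {t : ℕ} (d : Fin t → ℕ) (v : Fin t → V) :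
    ((Σ k : Fin t, Fin (d k)) → F) →ₗ[F] V :=
  Fintype.linearCombination F fun x : (Σ k : Fin t, Fin (d k)) => (N ^ (x.2 : ℕ)) (v x.1)

/-- A complete system of chains. -/
structure IsChains (N : Module.End F V) {t : ℕ} (d : Fin t → ℕ) (v : Fin t → V) : Prop where
  pos : ∀ k, 1 ≤ d k
  last : ∀ k, (N ^ d k) (v k) = 0
  bij : Function.Bijective (comb N d v)

theorem comb_apply {t : ℕ} (d : Fin t → ℕ) (v : Fin t → V) (c : (Σ k : Fin t, Fin (d k)) → F) :
    comb N d v c = ∑ k, ∑ i : Fin (d k), c ⟨k, i⟩ • (N ^ (i : ℕ)) (v k) := by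
  rw [comb, Fintype.linearCombination_apply, Fintype.sum_sigma]

theorem pow_apply_eq_zero {x : V} {a b : ℕ} (h : (N ^ a) x = 0) (hab : a ≤ b) : (N ^ b) x = 0 := by
  rw [← Nat.sub_add_cancel hab, pow_add, Module.End.mul_apply, h, map_zero]

theorem injective_aux {m t : ℕ} {v : V}
    {Φ : V →ₗ[F] (Fin m → F)} {hWN : ∀ x ∈ LinearMap.ker Φ, N x ∈ LinearMap.ker Φ}
    {d : Fin t → ℕ} {w : Fin t → LinearMap.ker Φ}
    (hres : ∀ (k : ℕ) (x : LinearMap.ker Φ), ((LinearMap.restrict N hWN ^ k) x : V) = (N ^ k) x)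
    (hw : IsChains (LinearMap.restrict N hWN) d w)
    (hinj : Function.Injective (Φ.comp (Fintype.linearCombination F fun i : Fin m => (N ^ (i : ℕ)) v))) :
    Function.Injective (comb N (Fin.cons m d : Fin (t + 1) → ℕ) (Fin.cons v (fun k => (w k : V)))) := by
  rw [← LinearMap.ker_eq_bot, LinearMap.ker_eq_bot']
  intro c hc
  rw [comb_apply, Fin.sum_univ_succ] at hc
  let c0 : Fin m → F := fun i => c ⟨0, i⟩
  let c1 : (Σ k : Fin t, Fin (d k)) → F := fun x => c ⟨x.1.succ, x.2⟩
  have hc1 : (comb (LinearMap.restrict N hWN) d w c1 : V) =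
      ∑ k : Fin t, ∑ i : Fin (d k), c ⟨k.succ, i⟩ • (N ^ (i : ℕ)) (w k : V) := by
    rw [comb_apply]
    simp [c1, hres]
  have hc' : (Fintype.linearCombination F fun i : Fin m => (N ^ (i : ℕ)) v) c0 +
      (comb (LinearMap.restrict N hWN) d w c1 : V) = 0 := by
    rw [hc1, Fintype.linearCombination_apply]
    exact hc
  have h0 : c0 = 0 := hinj (by
    have h := congrArg Φ hc'
    rw [map_add, LinearMap.mem_ker.1 (comb (LinearMap.restrict N hWN) d w c1).2, add_zero, map_zero] at h
    rw [map_zero]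
    exact h)
  rw [h0, map_zero, zero_add] at hc'
  have h1 : c1 = 0 := hw.bij.1 (by rw [map_zero]; exact Subtype.ext hc')
  funext ⟨k, i⟩
  revert i
  refine Fin.cases (fun i => congrFun h0 i) (fun k i => congrFun h1 ⟨k, i⟩) k

theorem exists_chains'.{u, v'} {K : Type u} [Field K] (n : ℕ) : ∀ (V : Type v') [AddCommGroup V] [Module K V]
    [FiniteDimensional K V] (N : Module.End K V), IsNilpotent N → finrank K V = n →
    ∃ (t : ℕ) (d : Fin t → ℕ) (v : Fin t → V), IsChains N d v := by
  induction n using Nat.strong_induction_on with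
  | _ n ih =>
  intro V _ _ _ N hN hn
  classical
  rcases Nat.eq_zero_or_pos n with rfl | hnpos
  · haveI : Subsingleton V := Module.finrank_zero_iff.1 hn
    exact ⟨0, Fin.elim0, Fin.elim0, fun k => k.elim0, fun k => k.elim0,
      fun a b _ => funext fun x => x.1.elim0, fun y => ⟨0, Subsingleton.elim _ _⟩⟩
  have hex : ∃ m, N ^ m = 0 := hN
  set m := Nat.find hex with hm
  have hNm : N ^ m = 0 := Nat.find_spec hex
  have hm1 : 1 ≤ m := by
    by_contra h
    have h0 : m = 0 := by omega
    rw [h0, pow_zero] at hNm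
    haveI : Subsingleton V := ⟨fun a b => by
      have ha : a = 0 := by simpa using LinearMap.congr_fun hNm a
      have hb : b = 0 := by simpa using LinearMap.congr_fun hNm b
      rw [ha, hb]⟩
    have := Module.finrank_zero_of_subsingleton (R := K) (M := V)
    omega
  obtain ⟨v, hv⟩ : ∃ v, (N ^ (m - 1)) v ≠ 0 := by
    by_contra h
    push Not at h
    exact Nat.find_min hex (show m - 1 < m by omega) (LinearMap.ext h)
  obtain ⟨f, hf⟩ : ∃ f : Module.Dual K V, f ((N ^ (m - 1)) v) ≠ 0 := by
    by_contra h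
    push Not at h
    exact hv ((Module.forall_dual_apply_eq_zero_iff K _).1 h)
  let Φ : V →ₗ[K] (Fin m → K) := LinearMap.pi fun i => f.comp (N ^ (i : ℕ))
  let ψ : (Fin m → K) →ₗ[K] V := Fintype.linearCombination K fun i : Fin m => (N ^ (i : ℕ)) v
  have hinj : Function.Injective (Φ.comp ψ) := by
    rw [← LinearMap.ker_eq_bot, LinearMap.ker_eq_bot']
    intro c hc
    by_contra hne
    obtain ⟨i₀, hi₀⟩ := Function.ne_iff.1 hne
    obtain ⟨i, hi, hmin⟩ := Finset.exists_min_image (Finset.univ.filter fun i => c i ≠ 0) (fun i => (i : ℕ))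
      ⟨i₀, Finset.mem_filter.2 ⟨Finset.mem_univ _, hi₀⟩⟩
    rw [Finset.mem_filter] at hi
    have h := congrFun hc ⟨m - 1 - i, by omega⟩
    simp only [Φ, ψ, LinearMap.comp_apply, LinearMap.pi_apply, Fintype.linearCombination_apply, map_sum, map_smul,
      Pi.zero_apply, smul_eq_mul, ← Module.End.mul_apply, ← pow_add] at h
    rw [Finset.sum_eq_single i] at h
    · rw [show m - 1 - (i : ℕ) + i = m - 1 by omega] at h
      exact mul_ne_zero hi.2 hf h
    · intro j _ hji
      by_cases hcj : c j = 0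
      · rw [hcj, zero_mul]
      · have hlt : (i : ℕ) < j := by
          rcases (hmin j (Finset.mem_filter.2 ⟨Finset.mem_univ _, hcj⟩)).lt_or_eq with h | h
          · exact h
          · exact absurd (Fin.ext h.symm) hji
        rw [pow_eq_zero_of_le (show m ≤ m - 1 - (i : ℕ) + j by omega) hNm, LinearMap.zero_apply, map_zero, mul_zero]
    · intro h; exact absurd (Finset.mem_univ _) h
  have hsurj : Function.Surjective Φ := Function.Surjective.of_comp (LinearMap.injective_iff_surjective.1 hinj)
  let W := LinearMap.ker Φ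
  have hWN : ∀ x ∈ W, N x ∈ W := by
    intro x hx
    rw [LinearMap.mem_ker] at hx ⊢
    funext i
    show f ((N ^ (i : ℕ)) (N x)) = 0
    rw [← Module.End.mul_apply, ← pow_succ]
    by_cases hi : (i : ℕ) + 1 < m
    · exact congrFun hx ⟨_, hi⟩
    · rw [pow_eq_zero_of_le (show m ≤ (i : ℕ) + 1 by omega) hNm, LinearMap.zero_apply, map_zero]
  have hdim : finrank K W + m = finrank K V := by
    have h := LinearMap.finrank_range_add_finrank_ker Φ
    rw [LinearMap.range_eq_top.2 hsurj, finrank_top, Module.finrank_fin_fun] at h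
    show finrank K (LinearMap.ker Φ) + m = finrank K V
    omega
  have hres : ∀ (k : ℕ) (x : W), ((LinearMap.restrict N hWN ^ k) x : V) = (N ^ k) x := by
    intro k
    induction k with
    | zero => intro x; simp
    | succ k ihk =>
      intro x
      rw [pow_succ, Module.End.mul_apply, ihk, pow_succ, Module.End.mul_apply]
      rfl
  obtain ⟨t, d, w, hw⟩ := ih (finrank K W) (by
    have : finrank K W + m = n := by rw [hdim, hn]
    revert this
    generalize finrank K W = a
    omega) W (LinearMap.restrict N hWN)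
    (⟨m, LinearMap.ext fun x => Subtype.ext (by rw [hres, hNm]; simp)⟩) rfl
  refine ⟨t + 1, Fin.cons m d, Fin.cons v (fun k => (w k : V)), Fin.cases hm1 hw.pos, ?_, ?_⟩
  · refine Fin.cases ?_ ?_
    · rw [Fin.cons_zero, Fin.cons_zero, hNm, LinearMap.zero_apply]
    · intro k
      rw [Fin.cons_succ, Fin.cons_succ, ← hres, hw.last k, ZeroMemClass.coe_zero]
  · have hcard : finrank K ((Σ k : Fin (t + 1), Fin ((Fin.cons m d : Fin (t + 1) → ℕ) k)) → K) = finrank K V := by
      have h := (LinearEquiv.ofBijective _ hw.bij).finrank_eq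
      rw [Module.finrank_pi, Fintype.card_sigma] at h
      rw [Module.finrank_pi, Fintype.card_sigma, Fin.sum_univ_succ, ← hdim, ← h]
      simp [add_comm]
    refine ⟨?_, ?_⟩
    swap
    · refine (LinearMap.injective_iff_surjective_of_finrank_eq_finrank hcard).1 ?_
      exact injective_aux hres hw hinj
    · exact injective_aux hres hw hinj
theorem exists_chains (hN : IsNilpotent N) :
    ∃ (t : ℕ) (d : Fin t → ℕ) (v : Fin t → V), IsChains N d v :=
  exists_chains' (finrank F V) V N hN rfl

variable {t : ℕ} {d : Fin t → ℕ} {v : Fin t → V}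

/-- The basis of a system of chains. -/
noncomputable def IsChains.basis (h : IsChains N d v) : Basis (Σ k : Fin t, Fin (d k)) F V :=
  (Pi.basisFun F _).map (LinearEquiv.ofBijective _ h.bij)

theorem IsChains.basis_apply (h : IsChains N d v) (x : Σ k : Fin t, Fin (d k)) :
    h.basis x = (N ^ (x.2 : ℕ)) (v x.1) := by
  simp [IsChains.basis, comb, Fintype.linearCombination_apply_single]

theorem IsChains.sum_eq (h : IsChains N d v) : ∑ k, d k = finrank F V := by
  simp [Module.finrank_eq_card_basis h.basis]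

theorem IsChains.finrank_range_pow (h : IsChains N d v) (j : ℕ) :
    finrank F (LinearMap.range (N ^ j)) = ∑ k, (d k - j) := by
  classical
  have hshift : ∀ x : Σ k : Fin t, Fin (d k), (N ^ j) (h.basis x) =
      if hx : (x.2 : ℕ) + j < d x.1 then h.basis ⟨x.1, ⟨x.2 + j, hx⟩⟩ else 0 := by
    intro x
    rw [h.basis_apply, ← Module.End.mul_apply, ← pow_add]
    split_ifs with hx
    · rw [h.basis_apply, add_comm]
    · exact pow_apply_eq_zero (h.last _) (by omega)
  let e : (Σ k : Fin t, Fin (d k - j)) → (Σ k : Fin t, Fin (d k)) := fun y => ⟨y.1, ⟨y.2 + j, by omega⟩⟩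
  have he : Function.Injective e := by
    rintro ⟨k, i⟩ ⟨l, i'⟩ hkl
    obtain ⟨rfl, h2⟩ := Sigma.mk.inj_iff.1 hkl
    have := congrArg Fin.val (eq_of_heq h2)
    exact Sigma.ext rfl (heq_of_eq (Fin.ext (by simpa using this)))
  have hrange : LinearMap.range (N ^ j) = Submodule.span F (Set.range (h.basis ∘ e)) := by
    apply le_antisymm
    · rw [LinearMap.range_eq_map, ← h.basis.span_eq, Submodule.map_span, Submodule.span_le]
      rintro _ ⟨_, ⟨x, rfl⟩, rfl⟩
      rw [SetLike.mem_coe, hshift]
      split_ifs with hx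
      · exact Submodule.subset_span ⟨⟨x.1, ⟨x.2, by omega⟩⟩, rfl⟩
      · exact zero_mem _
    · rw [Submodule.span_le]
      rintro _ ⟨⟨k, i⟩, rfl⟩
      refine ⟨h.basis ⟨k, ⟨i, by omega⟩⟩, ?_⟩
      rw [hshift, dif_pos (show (i : ℕ) + j < d k by omega)]
      rfl
  rw [hrange, finrank_span_eq_card (h.basis.linearIndependent.comp e he), Fintype.card_sigma]
  simp

theorem map_eq_map {t' : ℕ} {d' : Fin t' → ℕ} (hd : ∀ k, 1 ≤ d k) (hd' : ∀ k, 1 ≤ d' k)
    (he : ∀ j, ∑ k, (d k - j) = ∑ k, (d' k - j)) :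
    Finset.univ.val.map d = Finset.univ.val.map d' := by
  classical
  have hstep : ∀ {s : ℕ} (f : Fin s → ℕ) (j : ℕ),
      ∑ k, (f k - j) = ∑ k, (f k - (j + 1)) + (Finset.univ.filter fun k => j < f k).card := fun f j => by
    rw [Finset.card_filter, ← Finset.sum_add_distrib]
    refine Finset.sum_congr rfl fun k _ => ?_
    split_ifs <;> omega
  have hsplit : ∀ {s : ℕ} (f : Fin s → ℕ) (a : ℕ), (Finset.univ.filter fun k => a < f k).card +
      (Finset.univ.filter fun k => f k = a + 1).card + (Finset.univ.filter fun k => a + 1 < f k).card =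
      2 * (Finset.univ.filter fun k => a < f k).card := fun f a => by
    rw [add_assoc, two_mul, Nat.add_left_cancel_iff, ← Finset.card_union_of_disjoint, ← Finset.filter_or]
    · exact congrArg Finset.card (Finset.filter_congr fun k _ => by omega)
    · exact Finset.disjoint_filter.2 fun k _ h => by omega
  ext a
  rw [Multiset.count_map, Multiset.count_map]
  show (Finset.univ.filter fun k => a = d k).card = (Finset.univ.filter fun k => a = d' k).card
  rcases Nat.eq_zero_or_pos a with rfl | ha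
  · rw [Finset.filter_false_of_mem (fun k _ => by have := hd k; omega),
      Finset.filter_false_of_mem (fun k _ => by have := hd' k; omega), Finset.card_empty, Finset.card_empty]
  obtain ⟨a, rfl⟩ := Nat.exists_eq_add_of_le' ha
  simp only [eq_comm (a := a + 1)]
  have h1 := hstep d a
  have h2 := hstep d' a
  have h3 := hstep d (a + 1)
  have h4 := hstep d' (a + 1)
  have h5 := hsplit d a
  have h6 := hsplit d' a
  have := he a; have := he (a + 1); have := he (a + 1 + 1)
  omega

theorem exists_equiv_of_map_eq {t' : ℕ} {d' : Fin t' → ℕ}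
    (h : Finset.univ.val.map d = Finset.univ.val.map d') : ∃ π : Fin t ≃ Fin t', ∀ k, d' (π k) = d k := by
  classical
  have hfib : ∀ a, Nonempty ({k // d k = a} ≃ {k // d' k = a}) := fun a => ⟨Fintype.equivOfCardEq (by
    have := congrArg (Multiset.count a) h
    rw [Multiset.count_map, Multiset.count_map] at this
    rw [Fintype.card_subtype, Fintype.card_subtype]
    simp only [eq_comm (a := a)] at this
    exact this)⟩
  exact ⟨Equiv.ofFiberEquiv fun a => (hfib a).some, fun k => Equiv.ofFiberEquiv_map _ k⟩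

theorem exists_equiv_conj {W : Type*} [AddCommGroup W] [Module F W] [FiniteDimensional F W] {M : Module.End F W}
    {t' : ℕ} {d' : Fin t' → ℕ} {w : Fin t' → W} (h : IsChains N d v) (h' : IsChains M d' w)
    (hmap : Finset.univ.val.map d = Finset.univ.val.map d') :
    ∃ φ : V ≃ₗ[F] W, ∀ x, φ (N x) = M (φ x) := by
  classical
  obtain ⟨π, hπ⟩ := exists_equiv_of_map_eq hmap
  let ρ : (Σ k : Fin t, Fin (d k)) ≃ Σ k : Fin t', Fin (d' k) :=
    (Equiv.sigmaCongrRight fun k => finCongr (hπ k).symm).trans (Equiv.sigmaCongrLeft (β := fun k => Fin (d' k)) π)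
  refine ⟨h.basis.equiv h'.basis ρ, fun x => ?_⟩
  suffices hh : (h.basis.equiv h'.basis ρ).toLinearMap.comp N = M.comp (h.basis.equiv h'.basis ρ).toLinearMap from
    LinearMap.congr_fun hh x
  refine h.basis.ext fun ⟨k, i⟩ => ?_
  simp only [LinearMap.comp_apply, LinearEquiv.coe_coe, Basis.equiv_apply, h.basis_apply, h'.basis_apply]
  rw [← Module.End.mul_apply, ← pow_succ']
  by_cases hi : (i : ℕ) + 1 < d k
  · rw [show (N ^ ((i : ℕ) + 1)) (v k) = h.basis ⟨k, ⟨i + 1, hi⟩⟩ from (h.basis_apply ⟨k, ⟨i + 1, hi⟩⟩).symm,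
      Basis.equiv_apply, h'.basis_apply, show (N ^ (i : ℕ)) (v k) = h.basis ⟨k, i⟩ from (h.basis_apply ⟨k, i⟩).symm,
      Basis.equiv_apply, h'.basis_apply, ← Module.End.mul_apply, ← pow_succ']
    rfl
  · rw [pow_apply_eq_zero (h.last k) (by omega), map_zero,
      show (N ^ (i : ℕ)) (v k) = h.basis ⟨k, i⟩ from (h.basis_apply ⟨k, i⟩).symm, Basis.equiv_apply, h'.basis_apply,
      ← Module.End.mul_apply, ← pow_succ']
    exact (pow_apply_eq_zero (h'.last _) (by show d' (π k) ≤ (i : ℕ) + 1; rw [hπ]; omega)).symm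

end Lin

section Mat

open Matrix

variable {F : Type*} [Field F] {n t : ℕ}

theorem jordanType_sub_one_entry (d : Fin t → ℕ) (x y : Σ k : Fin t, Fin (d k)) :
    (Cfsg.jordanTypeMatrix d F - 1) x y = if x.1 = y.1 ∧ (x.2 : ℕ) = y.2 + 1 then 1 else 0 := by
  obtain ⟨k, i⟩ := x
  obtain ⟨l, j⟩ := y
  rw [Matrix.sub_apply, Cfsg.jordanTypeMatrix, Matrix.blockDiagonal'_apply, Matrix.one_apply]
  by_cases hkl : k = l
  · subst hkl
    simp only [dif_pos rfl, cast_eq, true_and, Cfsg.jordanBlock, Matrix.of_apply]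
    rcases eq_or_ne (i : ℕ) j with h | h
    · rw [if_pos h, if_pos (by rw [Fin.ext h]), if_neg (by omega), sub_self]
    · rw [if_neg h, if_neg (show ¬ ((⟨k, i⟩ : Σ k : Fin t, Fin (d k)) = ⟨k, j⟩) from fun e =>
        h (congrArg Fin.val (eq_of_heq (Sigma.mk.inj_iff.1 e).2))), sub_zero]
  · rw [dif_neg hkl, if_neg (fun e => hkl (congrArg Sigma.fst e)), if_neg (fun e => hkl e.1), sub_zero]

/-- The standard matrix of given block sizes on `Fin n`. -/
noncomputable def stdMat (d : Fin t → ℕ) (h : ∑ k, d k = n) : Matrix (Fin n) (Fin n) F :=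
  Matrix.reindex (Fintype.equivFinOfCardEq (α := Σ k : Fin t, Fin (d k)) (by simpa using h))
    (Fintype.equivFinOfCardEq (α := Σ k : Fin t, Fin (d k)) (by simpa using h)) (Cfsg.jordanTypeMatrix d F)

theorem chains_reindex (d : Fin t → ℕ) (hd : ∀ k, 1 ≤ d k) (e : (Σ k : Fin t, Fin (d k)) ≃ Fin n) :
    ∃ v : Fin t → Fin n → F,
      IsChains (Matrix.toLin' (Matrix.reindex e e (Cfsg.jordanTypeMatrix d F) - 1)) d v := by
  classical
  set A := Matrix.reindex e e (Cfsg.jordanTypeMatrix d F) - 1
  have hA : A = Matrix.reindex e e (Cfsg.jordanTypeMatrix d F - 1) := by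
    simp [A, Matrix.submatrix_sub, Matrix.submatrix_one_equiv]
  let v : Fin t → Fin n → F := fun k => Pi.single (e ⟨k, ⟨0, hd k⟩⟩) 1
  have hstep : ∀ x : Σ k : Fin t, Fin (d k), Matrix.toLin' A (Pi.single (e x) 1) =
      if hx : (x.2 : ℕ) + 1 < d x.1 then Pi.single (e ⟨x.1, ⟨x.2 + 1, hx⟩⟩) 1 else 0 := by
    intro x
    funext a
    obtain ⟨y, rfl⟩ := e.surjective a
    rw [Matrix.toLin'_apply, Matrix.mulVec_single_one, Matrix.col_apply, hA, Matrix.reindex_apply,
      Matrix.submatrix_apply, Equiv.symm_apply_apply, Equiv.symm_apply_apply, jordanType_sub_one_entry]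
    obtain ⟨l, j⟩ := y
    split_ifs with h1 h2 h2
    · obtain ⟨rfl, h1⟩ := h1
      rw [show (⟨x.2 + 1, h2⟩ : Fin (d x.1)) = j from Fin.ext h1.symm, Pi.single_eq_same]
    · obtain ⟨rfl, h1⟩ := h1
      exact absurd (h1 ▸ j.2) h2
    · rw [Pi.single_eq_of_ne]
      intro hh
      have := e.injective hh
      simp only [Sigma.mk.inj_iff] at this
      obtain ⟨rfl, h3⟩ := this
      exact h1 ⟨rfl, congrArg Fin.val (eq_of_heq h3)⟩
    · rfl
  have hpow : ∀ (i : ℕ) (k : Fin t), (Matrix.toLin' A ^ i) (v k) =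
      if hi : i < d k then Pi.single (e ⟨k, ⟨i, hi⟩⟩) 1 else 0 := by
    intro i k
    induction i with
    | zero => rw [dif_pos (show 0 < d k from hd k), pow_zero, Module.End.one_apply]
    | succ i ih =>
      rw [pow_succ', Module.End.mul_apply, ih]
      by_cases hi : i < d k
      · rw [dif_pos hi, hstep]
      · rw [dif_neg hi, map_zero, dif_neg (show ¬ i + 1 < d k by omega)]
  refine ⟨v, hd, fun k => by rw [hpow, dif_neg (lt_irrefl _)], ?_⟩
  have hc : comb (Matrix.toLin' A) d v = ((LinearEquiv.funCongrLeft F F e.symm).toLinearMap) := by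
    refine LinearMap.pi_ext' fun x => LinearMap.ext_ring ?_
    funext a
    obtain ⟨y, rfl⟩ := e.surjective a
    simp only [LinearMap.comp_apply, LinearMap.coe_single, comb, Fintype.linearCombination_apply_single, one_smul,
      LinearEquiv.coe_coe, LinearEquiv.funCongrLeft_apply, LinearMap.funLeft_apply, Equiv.symm_apply_apply]
    rw [hpow, dif_pos x.2.2]
    rcases eq_or_ne y x with rfl | hne
    · simp
    · rw [Pi.single_eq_of_ne hne, Pi.single_eq_of_ne (e.injective.ne hne)]
  rw [hc]
  exact (LinearEquiv.funCongrLeft F F e.symm).bijective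

/-- The multiset of block sizes of a unipotent matrix. -/
noncomputable def jordanSizes (g : GL (Fin n) F) : Multiset ℕ :=
  open Classical in
  if h : IsNilpotent (Matrix.toLin' (g.val - 1)) then
    Finset.univ.val.map (exists_chains h).choose_spec.choose else 0

theorem isNilpotent_toLin (g : GL (Fin n) F) :
    IsNilpotent (Matrix.toLin' (g.val - 1)) ↔ IsNilpotent (g.val - 1) :=
  IsNilpotent.map_iff (f := Matrix.toLinAlgEquiv') (Matrix.toLinAlgEquiv').injective

theorem jordanSizes_eq {g : GL (Fin n) F} {d : Fin t → ℕ} {v : Fin t → Fin n → F}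
    (h : IsChains (Matrix.toLin' (g.val - 1)) d v) (hg : IsNilpotent (g.val - 1)) :
    jordanSizes g = Finset.univ.val.map d := by
  rw [jordanSizes, dif_pos ((isNilpotent_toLin g).2 hg)]
  have hh := (exists_chains ((isNilpotent_toLin g).2 hg)).choose_spec.choose_spec.choose_spec
  exact map_eq_map hh.pos h.pos fun j => by rw [← hh.finrank_range_pow, ← h.finrank_range_pow]

/-- Unipotent matrices with the same block sizes are conjugate. -/
theorem isConj_of_sizes_eq {g h : GL (Fin n) F} (hg : IsNilpotent (g.val - 1)) (hh : IsNilpotent (h.val - 1))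
    (he : jordanSizes g = jordanSizes h) : IsConj g h := by
  classical
  rw [jordanSizes, dif_pos ((isNilpotent_toLin g).2 hg), jordanSizes, dif_pos ((isNilpotent_toLin h).2 hh)] at he
  obtain ⟨φ, hφ⟩ := exists_equiv_conj (exists_chains ((isNilpotent_toLin g).2 hg)).choose_spec.choose_spec.choose_spec
    (exists_chains ((isNilpotent_toLin h).2 hh)).choose_spec.choose_spec.choose_spec he
  let c : GL (Fin n) F :=
    { val := LinearMap.toMatrix' φ.toLinearMap
      inv := LinearMap.toMatrix' φ.symm.toLinearMap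
      val_inv := by rw [← LinearMap.toMatrix'_comp]; simp
      inv_val := by rw [← LinearMap.toMatrix'_comp]; simp }
  refine isConj_iff.2 ⟨c, ?_⟩
  rw [mul_inv_eq_iff_eq_mul]
  refine Units.ext (Matrix.toLin'.injective (LinearMap.ext fun x => ?_))
  have e := hφ x
  simp only [map_sub, Matrix.toLin'_one, LinearMap.sub_apply, LinearMap.id_apply] at e
  simp only [Units.val_mul, Matrix.toLin'_mul, LinearMap.comp_apply, c, Matrix.toLin'_toMatrix', LinearEquiv.coe_coe]
  linear_combination (norm := abel) e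

theorem jordanSizes_sum {g : GL (Fin n) F} (hg : IsNilpotent (g.val - 1)) : (jordanSizes g).sum = n := by
  rw [jordanSizes, dif_pos ((isNilpotent_toLin g).2 hg)]
  have h := (exists_chains ((isNilpotent_toLin g).2 hg)).choose_spec.choose_spec.choose_spec.sum_eq
  rw [Module.finrank_fin_fun] at h
  exact h

theorem jordanSizes_pos {g : GL (Fin n) F} {a : ℕ} (ha : a ∈ jordanSizes g) : 0 < a := by
  unfold jordanSizes at ha
  split_ifs at ha with h
  · obtain ⟨k, -, rfl⟩ := Multiset.mem_map.1 ha
    exact (exists_chains h).choose_spec.choose_spec.choose_spec.pos k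
  · simp at ha

/-- The partition of block sizes of a unipotent matrix. -/
noncomputable def jordanPartition (g : GL (Fin n) F) (hg : IsNilpotent (g.val - 1)) : Nat.Partition n where
  parts := jordanSizes g
  parts_pos ha := jordanSizes_pos ha
  parts_sum := jordanSizes_sum hg

theorem pow_sub_one_eq_zero_iff {g : GL (Fin n) F} (hg : IsNilpotent (g.val - 1)) (j : ℕ) :
    (g.val - 1) ^ j = 0 ↔ ∀ a ∈ jordanSizes g, a ≤ j := by
  have hn := (isNilpotent_toLin g).2 hg
  have hh := (exists_chains hn).choose_spec.choose_spec.choose_spec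
  rw [jordanSizes, dif_pos hn]
  have h1 : (g.val - 1) ^ j = 0 ↔ Module.finrank F (LinearMap.range (Matrix.toLin' (g.val - 1) ^ j)) = 0 := by
    rw [Submodule.finrank_eq_zero, LinearMap.range_eq_bot, ← Matrix.toLin'_pow, LinearEquiv.map_eq_zero_iff]
  rw [h1, hh.finrank_range_pow, Finset.sum_eq_zero_iff]
  constructor
  · intro h a ha
    obtain ⟨k, hk, rfl⟩ := Multiset.mem_map.1 ha
    exact Nat.sub_eq_zero_iff_le.1 (h k (Finset.mem_univ k))
  · exact fun h k hk => Nat.sub_eq_zero_iff_le.2 (h _ (Multiset.mem_map_of_mem _ hk))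

theorem exists_of_partition (μ : Nat.Partition n) :
    ∃ g : GL (Fin n) F, IsNilpotent (g.val - 1) ∧ jordanSizes g = μ.parts := by
  classical
  let d : Fin μ.parts.toList.length → ℕ := μ.parts.toList.get
  have hd : ∀ k, 1 ≤ d k := fun k => μ.parts_pos (Multiset.mem_toList.1 (List.get_mem _ k))
  have hmap : Finset.univ.val.map d = μ.parts := by
    rw [Fin.univ_val_map]
    show ((List.ofFn μ.parts.toList.get : List ℕ) : Multiset ℕ) = μ.parts
    rw [List.ofFn_get, Multiset.coe_toList]
  have hsum : ∑ k, d k = n := by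
    show (Finset.univ.val.map d).sum = n
    rw [hmap, μ.parts_sum]
  let e : (Σ k, Fin (d k)) ≃ Fin n := Fintype.equivFinOfCardEq (by simpa using hsum)
  obtain ⟨v, hv⟩ := chains_reindex (F := F) d hd e
  set M := Matrix.reindex e e (Cfsg.jordanTypeMatrix d F)
  have hnil : IsNilpotent (M - 1) := by
    refine ⟨n, Matrix.toLin'.injective ?_⟩
    rw [Matrix.toLin'_pow, map_zero]
    refine LinearMap.range_eq_bot.1 (Submodule.finrank_eq_zero.1 ?_)
    rw [hv.finrank_range_pow, Finset.sum_eq_zero_iff]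
    intro k _
    have := Finset.single_le_sum (f := d) (fun _ _ => Nat.zero_le _) (Finset.mem_univ k)
    omega
  have hu : IsUnit M := by
    have := hnil.isUnit_one_add
    rwa [add_sub_cancel] at this
  exact ⟨hu.unit, hnil, (jordanSizes_eq (g := hu.unit) hv hnil).trans hmap⟩

theorem jordanSizes_conj {g h : GL (Fin n) F} (hg : IsNilpotent (g.val - 1)) (hc : IsConj g h) :
    IsNilpotent (h.val - 1) ∧ jordanSizes h = jordanSizes g := by
  classical
  obtain ⟨c, rfl⟩ := isConj_iff.1 hc
  have key : ∀ j, ((c * g * c⁻¹).val - 1) ^ j = c.val * (g.val - 1) ^ j * (c⁻¹).val := fun j => by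
    rw [← Units.conj_pow c (g.val - 1) j]
    congr 1
    rw [Units.val_mul, Units.val_mul, mul_sub, sub_mul, mul_one, Units.mul_inv]
  obtain ⟨m, hm⟩ := hg
  have hh : IsNilpotent ((c * g * c⁻¹).val - 1) := ⟨m, by rw [key, hm, mul_zero, zero_mul]⟩
  refine ⟨hh, ?_⟩
  have hgn := (isNilpotent_toLin g).2 ⟨m, hm⟩
  have hhn := (isNilpotent_toLin (c * g * c⁻¹)).2 hh
  rw [jordanSizes, dif_pos hhn, jordanSizes, dif_pos hgn]
  have a := (exists_chains hgn).choose_spec.choose_spec.choose_spec
  have b := (exists_chains hhn).choose_spec.choose_spec.choose_spec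
  refine map_eq_map b.pos a.pos fun j => ?_
  rw [← b.finrank_range_pow, ← a.finrank_range_pow, ← Matrix.toLin'_pow, ← Matrix.toLin'_pow]
  show Matrix.rank (((c * g * c⁻¹).val - 1) ^ j) = Matrix.rank ((g.val - 1) ^ j)
  rw [key, Matrix.rank_mul_eq_left_of_isUnit_det _ _ (Matrix.isUnits_det_units _),
    Matrix.rank_mul_eq_right_of_isUnit_det _ _ (Matrix.isUnits_det_units _)]

theorem orderOf_eq_prime_iff' {p : ℕ} [Fact p.Prime] [CharP F p] (g : GL (Fin n) F) :
    orderOf g = p ↔ (g.val - 1) ^ p = 0 ∧ g ≠ 1 := by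
  rcases Nat.eq_zero_or_pos n with rfl | hn
  · have : g = 1 := Subsingleton.elim _ _
    simp [this, (Fact.out : p.Prime).ne_one.symm]
  haveI : Nonempty (Fin n) := ⟨⟨0, hn⟩⟩
  rw [sub_pow_char_of_commute (p := p) (h := Commute.one_right g.val), one_pow, sub_eq_zero, ← Units.val_pow_eq_pow_val,
    Units.val_eq_one]
  exact ⟨fun h => ⟨h ▸ pow_orderOf_eq_one g, fun h1 => (Fact.out : p.Prime).ne_one (by rw [← h, h1, orderOf_one])⟩,
      fun h => orderOf_eq_prime h.1 h.2⟩

end Mat

end CfsgLib.KnownC.JordanNormal
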