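import Cfsg.Agent.Lib.Classical.Dickson.Torus
import Cfsg.Agent.Lib.Classical.Dickson.NormalForm
import Cfsg.Agent.Lib.Classical.SL2Tori

set_option autoImplicit false
set_option linter.unusedSectionVars false
set_option linter.style.haveILetI false

/-! Centraliser orders and class sizes in `PSL₂(q)`. -/

namespace CfsgLib.KnownC.PSL2Classes

open Matrix OnePoint MulAction CfsgLib.Classical CfsgLib.Classical.Dickson
open scoped MatrixGroups

variable {F : Type*} [Field F] [Fintype F] [DecidableEq F] (p : ℕ) [hp : Fact p.Prime] [CharP F p]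

local notation "PG" => ProjGenLinGroup (Fin 2) F

/-- The centraliser of `c` inside `PSL₂`. -/
noncomputable def cen (c : PG) : Subgroup PG := sln F ⊓ Subgroup.centralizer {c}

theorem mem_cen {c g : PG} : g ∈ cen c ↔ g ∈ sln F ∧ g * c = c * g := by
  rw [cen, Subgroup.mem_inf, Subgroup.mem_centralizer_singleton_iff]

theorem aff_one_mem (b : F) : aff (1 : Fˣ) b ∈ sln F := aff_mem_sln_iff.mpr ⟨1, by simp⟩

theorem card_cen_unip {c : PG} (hc1 : c ≠ 1) (hcp : c ^ p = 1) : Nat.card (cen c) = Fintype.card F := by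
  classical
  -- a rational fixed point
  obtain ⟨x, hx⟩ : ∃ x : OnePoint F, c • x = x := by
    have hP : IsPGroup p (Subgroup.zpowers c) := IsPGroup.of_card (n := 1) (by
      rw [Nat.card_zpowers, pow_one]; exact orderOf_eq_prime hcp hc1)
    have h := hP.card_modEq_card_fixedPoints (OnePoint F)
    by_contra hall
    push Not at hall
    have hempty : IsEmpty (fixedPoints (Subgroup.zpowers c) (OnePoint F)) :=
      ⟨fun z => hall z.1 (z.2 ⟨c, Subgroup.mem_zpowers c⟩)⟩
    have h0 : Nat.card (fixedPoints (Subgroup.zpowers c) (OnePoint F)) = 0 := Nat.card_of_isEmpty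
    rw [h0, natCard_points, Nat.card_eq_fintype_card, Nat.modEq_zero_iff_dvd] at h
    have hq : p ∣ Fintype.card F := by
      obtain ⟨n, -, hn⟩ := FiniteField.card F p
      rw [hn]; exact dvd_pow_self p n.ne_zero
    exact hp.out.one_lt.ne' (Nat.dvd_one.mp ((Nat.dvd_add_right hq).mp h))
  obtain ⟨h, e⟩ := exists_to_infty x
  have hi : (h⁻¹ * c * h) • (∞ : OnePoint F) = ∞ := by rw [mul_smul, mul_smul, e, hx, ← e, inv_smul_smul]
  obtain ⟨a, b, hab⟩ := exists_aff hi
  have hconj : h⁻¹ * c * h = MulAut.conj h⁻¹ c := by simp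
  obtain rfl : a = 1 := (aff_pow_char_eq_one_iff p a b).mp (by rw [← hab, hconj, ← map_pow, hcp, map_one])
  have hb : b ≠ 0 := fun e' => by
    rw [e', aff_one] at hab
    exact hc1 (calc c = h * (h⁻¹ * c * h) * h⁻¹ := by group
      _ = 1 := by rw [hab]; group)
  have hceq : c = h * aff 1 b * h⁻¹ := by rw [← hab]; group
  let e' : F ≃ cen c :=
    Equiv.ofBijective (fun d => ⟨h * aff 1 d * h⁻¹, mem_cen.2 ⟨sln_normal.conj_mem _ (aff_one_mem d) h, by
      rw [hceq, show h * aff 1 d * h⁻¹ * (h * aff 1 b * h⁻¹) = h * (aff 1 d * aff 1 b) * h⁻¹ by group,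
        show h * aff 1 b * h⁻¹ * (h * aff 1 d * h⁻¹) = h * (aff 1 b * aff 1 d) * h⁻¹ by group, aff_mul, aff_mul]
      simp [add_comm]⟩⟩) ⟨fun d d' hd => ?_, fun g => ?_⟩
  · rw [← Nat.card_congr e', Nat.card_eq_fintype_card]
  · have := congrArg Subtype.val hd
    exact (aff_injective (mul_left_cancel (mul_right_cancel this))).2
  · obtain ⟨g, hg⟩ := g
    obtain ⟨-, hgc⟩ := mem_cen.1 hg
    have hfix : g • x = x := fix_of_unip p hc1 hcp hx (by rw [← mul_smul, ← hgc, mul_smul, hx])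
    have hgi : (h⁻¹ * g * h) • (∞ : OnePoint F) = ∞ := by rw [mul_smul, mul_smul, e, hfix, ← e, inv_smul_smul]
    obtain ⟨a', d, had⟩ := exists_aff hgi
    have hcomm : aff a' d * aff 1 b = aff 1 b * aff a' d := by
      rw [← had, ← hab, show h⁻¹ * g * h * (h⁻¹ * c * h) = h⁻¹ * (g * c) * h by group, hgc]; group
    rw [aff_mul, aff_mul] at hcomm
    have hd := (aff_injective hcomm).2
    have ha' : a' = 1 := Units.ext (mul_right_cancel₀ hb (by push_cast at hd ⊢; linear_combination hd))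
    subst ha'
    exact ⟨d, Subtype.ext (show h * aff 1 d * h⁻¹ = g by rw [← had]; group)⟩

theorem card_cen_semisimple (hq : 4 ≤ Fintype.card F) {c : PG} (hc : ¬ p ∣ orderOf c) (hc1 : c ≠ 1)
    (hcS : c ∈ sln F) :
    ∃ T : ℕ, orderOf c ∣ T ∧ Nat.card (cen c) = (if orderOf c = 2 then 2 else 1) * T ∧
      (((∃ x : OnePoint F, c • x = x) ∧ T * dd F = Fintype.card F - 1) ∨
       ((∀ x : OnePoint F, c • x ≠ x) ∧ T * dd F = Fintype.card F + 1)) := by
  classical
  have hΓ : IsBig (sln F) := Or.inr rfl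
  have hcp := pow_ne_one_of_semisimple hc hc1
  obtain ⟨z, z', -, -, -, hcases⟩ := torus_data p hΓ hq hc hc1 hcS
  obtain ⟨h, hh, hhT, -, hinv, hsq, hcard, -, -⟩ := pairStab_data p hΓ hq hc hc1 hcS
  set T := torus p (sln F) c
  set N := pairStab p (sln F) c
  have hTN : T ≤ N := torus_le_pairStab hcp
  refine ⟨Nat.card T, ?_, ?_, ?_⟩
  · have := orderOf_dvd_natCard (⟨c, hcS, fun z hz => hz⟩ : T)
    rwa [← Subgroup.orderOf_coe] at this
  swap
  · rw [index_sln] at hcases
    rcases hcases with ⟨⟨x, y, -, hx, -⟩, e⟩ | ⟨hno, e⟩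
    · exact Or.inl ⟨⟨x, hx⟩, e⟩
    · exact Or.inr ⟨hno, e⟩
  have hTC : T ≤ cen c := fun g hg => mem_cen.2 ⟨hg.1, commute_torus hcp hcS hg⟩
  have hCN : cen c ≤ N := fun g hg => by
    obtain ⟨hgS, hgc⟩ := mem_cen.1 hg
    refine normalizing_mem_pairStab hgS ?_ ?_
    · rw [hgc, mul_inv_cancel_right]; exact Subgroup.mem_zpowers c
    · rw [mul_assoc, ← hgc, inv_mul_cancel_left]; exact Subgroup.mem_zpowers c
  have hout : ∀ g ∈ N, g ∉ T → g * c * g⁻¹ = c⁻¹ := by
    intro g hg hgT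
    have hcT : c ∈ T := ⟨hcS, fun z hz => hz⟩
    have h1 := hsq g hg hgT
    have h2 := hsq (g * c) (mul_mem hg (hTN hcT)) (fun e => hgT (by
      simpa using mul_mem e (inv_mem hcT)))
    calc g * c * g⁻¹ = g * c * g := by rw [inv_eq_of_mul_eq_one_right h1]
      _ = (g * c) * (g * c) * c⁻¹ := by group
      _ = c⁻¹ := by rw [h2, one_mul]
  by_cases h2 : orderOf c = 2
  · rw [if_pos h2]
    have hcc : c⁻¹ = c := inv_eq_of_mul_eq_one_right (by rw [← pow_two]; exact (congrArg (c ^ ·) h2).symm.trans (pow_orderOf_eq_one c))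
    have : cen c = N := le_antisymm hCN fun g hg => by
      by_cases hgT : g ∈ T
      · exact hTC hgT
      · refine mem_cen.2 ⟨hg.1, ?_⟩
        have := hout g hg hgT
        rw [hcc, mul_inv_eq_iff_eq_mul] at this
        exact this
    rw [this, hcard]
  · rw [if_neg h2, one_mul]
    have : cen c = T := le_antisymm (fun g hg => by
      by_contra hgT
      have h1 := hout g (hCN hg) hgT
      rw [(mem_cen.1 hg).2, mul_inv_cancel_right] at h1
      have : orderOf c ∣ 2 := orderOf_dvd_of_pow_eq_one (by rw [pow_two]; exact mul_eq_one_iff_eq_inv.2 h1)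
      rcases (Nat.dvd_prime Nat.prime_two).1 this with e | e
      · exact hc1 (orderOf_eq_one_iff.1 e)
      · exact h2 e) hTC
    rw [this]

/-- unipotent or semisimple -/
theorem pow_eq_one_or (c : PG) (hcS : c ∈ sln F) : c ^ p = 1 ∨ ¬ p ∣ orderOf c := by
  by_cases hd : p ∣ orderOf c
  swap
  · exact Or.inr hd
  left
  classical
  set u := c ^ (orderOf c / p)
  have hu : orderOf u = p := orderOf_pow_orderOf_div (orderOf_pos c).ne' hd
  have hu1 : u ≠ 1 := fun e => hp.out.one_lt.ne' (by rw [← hu, e, orderOf_one])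
  have hup : u ^ p = 1 := hu ▸ pow_orderOf_eq_one u
  have hcu : c ∈ cen u := mem_cen.2 ⟨hcS, (Commute.self_pow c _).eq⟩
  have hcard := card_cen_unip p hu1 hup
  obtain ⟨n, -, hn⟩ := FiniteField.card F p
  have hdvd : orderOf c ∣ p ^ (n : ℕ) := by
    rw [← hn, ← hcard]
    have := orderOf_dvd_natCard (⟨c, hcu⟩ : cen u)
    rwa [← Subgroup.orderOf_coe] at this
  -- the centraliser of a unipotent element has exponent `p`
  obtain ⟨x, hx, hux⟩ : ∃ x : OnePoint F, c • x = x ∧ u • x = x := by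
    have hP : IsPGroup p (Subgroup.zpowers c) := IsPGroup.of_card
      (n := (Nat.dvd_prime_pow hp.out).1 hdvd |>.choose) (by
        rw [Nat.card_zpowers]; exact ((Nat.dvd_prime_pow hp.out).1 hdvd).choose_spec.2)
    have h := hP.card_modEq_card_fixedPoints (OnePoint F)
    by_contra hall
    push Not at hall
    have hempty : IsEmpty (fixedPoints (Subgroup.zpowers c) (OnePoint F)) :=
      ⟨fun z => hall z.1 (z.2 ⟨c, Subgroup.mem_zpowers c⟩) (z.2 ⟨u, Subgroup.npow_mem_zpowers c _⟩)⟩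
    have h0 : Nat.card (fixedPoints (Subgroup.zpowers c) (OnePoint F)) = 0 := Nat.card_of_isEmpty
    rw [h0, natCard_points, Nat.card_eq_fintype_card, Nat.modEq_zero_iff_dvd, hn] at h
    exact hp.out.one_lt.ne' (Nat.dvd_one.mp ((Nat.dvd_add_right (dvd_pow_self p n.ne_zero)).mp h))
  by_contra hcp
  obtain ⟨y, hyx, hy⟩ := two_fix_of_not_unip p hcp hx
  refine hyx (fix_of_unip p hu1 hup hux ?_)
  show c ^ (orderOf c / p) • y = y
  induction (orderOf c / p) with
  | zero => rw [pow_zero, one_smul]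
  | succ k ih => rw [pow_succ, mul_smul, hy, ih]

theorem card_sln_mul : Nat.card (sln F) * dd F = Fintype.card F * (Fintype.card F ^ 2 - 1) := by
  rw [mul_comm, card_sln, show Fintype.card F ^ 2 - 1 = (Fintype.card F + 1) * (Fintype.card F - 1) by
    rw [← Nat.sq_sub_sq, one_pow]]
  ring

theorem range_toPGL_eq : (ProjectiveSpecialLinearGroup.toPGL (n := Fin 2) (R := F)).range = sln F := by
  apply le_antisymm
  · rintro _ ⟨g, rfl⟩
    induction g using QuotientGroup.induction_on with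
    | H g => exact ⟨g, rfl⟩
  · rintro _ ⟨g, rfl⟩; exact ⟨(g : ProjectiveSpecialLinearGroup (Fin 2) F), rfl⟩

/-- Class sizes via the centraliser inside `PGL₂`. -/
theorem index_mul_cen (g : ProjectiveSpecialLinearGroup (Fin 2) F) :
    (Subgroup.centralizer ({g} : Set (ProjectiveSpecialLinearGroup (Fin 2) F))).index *
      Nat.card (cen (ProjectiveSpecialLinearGroup.toPGL g)) * dd F = Fintype.card F * (Fintype.card F ^ 2 - 1) := by
  set ι := ProjectiveSpecialLinearGroup.toPGL (n := Fin 2) (R := F)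
  have hι : Function.Injective ι := ProjectiveSpecialLinearGroup.toPGL_injective
  have hmap : (Subgroup.centralizer ({g} : Set (ProjectiveSpecialLinearGroup (Fin 2) F))).map ι = cen (ι g) := by
    ext z
    rw [mem_cen, Subgroup.mem_map]
    constructor
    · rintro ⟨y, hy, rfl⟩
      refine ⟨range_toPGL_eq (F := F) ▸ ⟨y, rfl⟩, ?_⟩
      rw [← map_mul, Subgroup.mem_centralizer_singleton_iff.1 hy, map_mul]
    · rintro ⟨hz, hzc⟩
      rw [← range_toPGL_eq] at hz
      obtain ⟨y, rfl⟩ := hz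
      exact ⟨y, Subgroup.mem_centralizer_singleton_iff.2 (hι (by rw [map_mul, map_mul]; exact hzc)), rfl⟩
  have hcard : Nat.card (ProjectiveSpecialLinearGroup (Fin 2) F) = Nat.card (sln F) := by
    rw [← range_toPGL_eq]
    exact Nat.card_congr (MonoidHom.ofInjective hι).toEquiv
  rw [← hmap, Subgroup.card_map_of_injective hι, Subgroup.index_mul_card, hcard, card_sln_mul]

theorem exists_psl_nonsplit (hq : 4 ≤ Fintype.card F) : ∃ c : PG, c ∈ sln F ∧ ¬ p ∣ orderOf c ∧ 2 < orderOf c ∧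
    ∀ x : OnePoint F, c • x ≠ x := by
  classical
  set q := Fintype.card F
  obtain ⟨g, hg⟩ := exists_sl2_plus (F := F) p
  set c := SpecialLinearGroup.toPGL g
  have hpq : p ∣ q := by
    obtain ⟨n, -, hn⟩ := FiniteField.card F p
    show p ∣ Fintype.card F
    rw [hn]; exact dvd_pow_self p n.ne_zero
  have hdiv : orderOf c ∣ q + 1 := hg ▸ orderOf_map_dvd _ g
  have hback : q + 1 ∣ 2 * orderOf c := by
    rw [← hg]
    refine orderOf_dvd_of_pow_eq_one ?_
    have h1 : SpecialLinearGroup.toPGL (g ^ orderOf c) = 1 := by rw [map_pow, pow_orderOf_eq_one]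
    rw [mul_comm, pow_mul]
    rcases sl_scalar_of_toPGL_one h1 with e | e <;> rw [e] <;> simp [pow_two]
  have hp' : ¬ p ∣ orderOf c := fun h =>
    hp.out.one_lt.ne' (Nat.dvd_one.mp ((Nat.dvd_add_right hpq).mp (h.trans hdiv)))
  have hlow : q + 1 ≤ 2 * orderOf c := Nat.le_of_dvd (Nat.mul_pos two_pos (orderOf_pos c)) hback
  have hc1 : c ≠ 1 := fun e => by rw [e, orderOf_one] at hlow; omega
  refine ⟨c, ⟨g, rfl⟩, hp', by omega, ?_⟩
  obtain ⟨T, hcT, -, hT⟩ := card_cen_semisimple p hq hp' hc1 ⟨g, rfl⟩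
  rcases hT with ⟨-, hT⟩ | ⟨hno, -⟩
  swap
  · exact hno
  exfalso
  have hT0 : 0 < T := Nat.pos_of_ne_zero fun e => by rw [e, zero_mul] at hT; omega
  have := Nat.le_of_dvd hT0 hcT
  rcases dd_cases (F := F) with ⟨hd, hev⟩ | ⟨hd, -⟩
  · rw [hd, mul_one] at hT
    have hodd : Nat.Coprime (q + 1) 2 := by rw [Nat.coprime_two_right, Nat.odd_iff]; omega
    have := Nat.le_of_dvd (orderOf_pos c) (hodd.dvd_of_dvd_mul_left hback)
    omega
  · rw [hd] at hT; omega

theorem exists_psl_split (hq : 4 ≤ Fintype.card F) (h5 : Fintype.card F ≠ 5) :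
    ∃ c : PG, c ∈ sln F ∧ ¬ p ∣ orderOf c ∧ 2 < orderOf c ∧ ∃ x : OnePoint F, c • x = x := by
  classical
  set q := Fintype.card F
  obtain ⟨ζ, hζ⟩ := IsCyclic.exists_ofOrder_eq_natCard (α := Fˣ)
  have hζ' : orderOf ζ = q - 1 := by rw [hζ, Nat.card_units, Nat.card_eq_fintype_card]
  let φ : Fˣ →* PG :=
    { toFun := fun a => aff a 0, map_one' := aff_one, map_mul' := fun a b => by rw [aff_mul]; simp }
  have hφ : Function.Injective φ := fun a b h => (aff_injective h).1
  have hpq : p ∣ q := by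
    obtain ⟨n, -, hn⟩ := FiniteField.card F p
    show p ∣ Fintype.card F
    rw [hn]; exact dvd_pow_self p n.ne_zero
  have ho : orderOf (φ (ζ ^ 2)) = (q - 1) / Nat.gcd (q - 1) 2 := by
    rw [orderOf_injective φ hφ, orderOf_pow' _ two_ne_zero, hζ']
  refine ⟨φ (ζ ^ 2), aff_mem_sln_iff.mpr ⟨(ζ : F), by simp [pow_two]⟩, ?_, ?_, ∞, aff_smul_infty _ _⟩
  · intro h
    have h2 : p ∣ q - 1 := by rw [ho] at h; exact h.trans (Nat.div_dvd_of_dvd (Nat.gcd_dvd_left _ _))
    have := Nat.dvd_sub hpq h2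
    rw [show q - (q - 1) = 1 by omega] at this
    exact hp.out.one_lt.ne' (Nat.dvd_one.mp this)
  · rw [ho]
    rcases dd_cases (F := F) with ⟨hd, hev⟩ | ⟨hd, hod⟩
    · rw [Nat.gcd_comm]; rw [dd] at hd; rw [hd, Nat.div_one]; omega
    · rw [Nat.gcd_comm]; rw [dd] at hd; rw [hd]; omega

theorem exists_psl_involution (hodd : Fintype.card F % 2 = 1) : ∃ c : PG, c ∈ sln F ∧ orderOf c = 2 := by
  classical
  have h2 : 2 ∣ Nat.card (sln F) := by
    have h := card_sln (F := F)
    rcases dd_cases (F := F) with ⟨-, he⟩ | ⟨hd, -⟩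
    · omega
    rw [hd] at h
    obtain ⟨k, hk⟩ : ∃ k, Fintype.card F = 2 * k + 1 := ⟨Fintype.card F / 2, by omega⟩
    rw [hk, show 2 * k + 1 - 1 = 2 * k by omega] at h
    exact ⟨(k + 1) * (2 * k + 1) * k, by linarith [h, show (2 * k + 1 + 1) * (2 * k + 1) * (2 * k) = 2 * (2 * ((k + 1) * (2 * k + 1) * k)) by ring]⟩
  obtain ⟨c, hc⟩ := exists_prime_orderOf_dvd_card' 2 h2
  exact ⟨c, c.2, (Subgroup.orderOf_coe c).trans hc⟩

end CfsgLib.KnownC.PSL2Classes
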