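import Cfsg.Agent.Lib.Classical.Dickson.PSL
import Mathlib

set_option autoImplicit false
set_option linter.unusedSectionVars false

/-! Icosahedral subgroups of a simple group of order 660 with no elements of order 10 or 15. -/

namespace CfsgLib.KnownC.A5InSixSixty

open Subgroup

abbrev A5 := alternatingGroup (Fin 5)

/-- A point stabiliser. -/
def stab (i : Fin 5) : Subgroup A5 where
  carrier := {g | (g : Equiv.Perm (Fin 5)) i = i}
  one_mem' := rfl
  mul_mem' := fun {a b} ha hb => by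
    show (a : Equiv.Perm (Fin 5)) ((b : Equiv.Perm (Fin 5)) i) = i
    rw [show (b : Equiv.Perm (Fin 5)) i = i from hb, show (a : Equiv.Perm (Fin 5)) i = i from ha]
  inv_mem' := fun {a} ha => by
    show (a : Equiv.Perm (Fin 5))⁻¹ i = i
    exact (Equiv.symm_apply_eq _).2 (show (a : Equiv.Perm (Fin 5)) i = i from ha).symm

theorem mem_stab {i : Fin 5} {g : A5} : g ∈ stab i ↔ (g : Equiv.Perm (Fin 5)) i = i := Iff.rfl

theorem a5_transitive : ∀ i j : Fin 5, ∃ a : A5, (a : Equiv.Perm (Fin 5)) i = j := by decide +kernel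

theorem card_stab (i : Fin 5) : Nat.card (stab i) = 12 := by
  have h : ∀ j : Fin 5, (Finset.univ.filter fun g : A5 => (g : Equiv.Perm (Fin 5)) j = j).card = 12 := by decide +kernel
  rw [← h i, ← Fintype.card_subtype, ← Nat.card_eq_fintype_card]
  rfl

theorem pair_bound : ∀ i j : Fin 5, i ≠ j → (Finset.univ.filter fun g : A5 =>
    ((g : Equiv.Perm (Fin 5)) i = i ∧ (g : Equiv.Perm (Fin 5)) j = j) ∨
      ((g : Equiv.Perm (Fin 5)) i = j ∧ (g : Equiv.Perm (Fin 5)) j = i)).card ≤ 6 := by decide +kernel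

theorem card_a5 : Nat.card A5 = 60 := by
  rw [Nat.card_eq_fintype_card]
  decide +kernel

/-- Every subgroup of order twelve is a point stabiliser. -/
theorem eq_stab (K : Subgroup A5) (hK : Nat.card K = 12) : ∃ i, K = stab i := by
  classical
  by_cases hfix : ∃ i, ∀ g ∈ K, (g : Equiv.Perm (Fin 5)) i = i
  · obtain ⟨i, hi⟩ := hfix
    exact ⟨i, Subgroup.eq_of_le_of_card_ge (fun g hg => hi g hg) (by rw [card_stab, hK])⟩
  exfalso
  let O : Fin 5 → Finset (Fin 5) := fun x =>
    Finset.univ.filter fun y => ∃ g ∈ K, (g : Equiv.Perm (Fin 5)) x = y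
  have hmemO : ∀ x y, y ∈ O x ↔ ∃ g ∈ K, (g : Equiv.Perm (Fin 5)) x = y := fun x y => by simp [O]
  have hinv : ∀ g ∈ K, ∀ x y, y ∈ O x ↔ (g : Equiv.Perm (Fin 5)) y ∈ O x := by
    intro g hg x y
    rw [hmemO, hmemO]
    constructor
    · rintro ⟨k, hk, rfl⟩; exact ⟨g * k, mul_mem hg hk, rfl⟩
    · rintro ⟨k, hk, e⟩
      refine ⟨g⁻¹ * k, mul_mem (inv_mem hg) hk, ?_⟩
      show (g : Equiv.Perm (Fin 5))⁻¹ ((k : Equiv.Perm (Fin 5)) x) = y
      rw [e]; exact Equiv.symm_apply_apply _ y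
  have hdvd : ∀ x, (O x).card ∣ 12 := by
    intro x
    have h := MulAction.card_orbit_mul_card_stabilizer_eq_card_group K x
    rw [← Nat.card_eq_fintype_card (α := K), hK] at h
    refine ⟨_, (?_ : (O x).card * Fintype.card (MulAction.stabilizer K x) = 12).symm⟩
    rw [← h]
    congr 1
    rw [← Set.toFinset_card]
    congr 1
    ext y
    simp only [Set.mem_toFinset, MulAction.mem_orbit_iff, hmemO]
    exact ⟨fun ⟨g, hg, e⟩ => ⟨⟨g, hg⟩, e⟩, fun ⟨g, e⟩ => ⟨g.1, g.2, e⟩⟩
  -- an invariant set of at most two points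
  obtain ⟨s, hs2, hs1, hsinv⟩ : ∃ s : Finset (Fin 5), s.card ≤ 2 ∧ 1 ≤ s.card ∧
      ∀ g ∈ K, ∀ y, y ∈ s → (g : Equiv.Perm (Fin 5)) y ∈ s := by
    have h5 : (O 0).card ≤ 5 := (Finset.card_le_univ _).trans (by simp)
    have h0 : 1 ≤ (O 0).card := Finset.card_pos.2 ⟨0, (hmemO 0 0).2 ⟨1, K.one_mem, rfl⟩⟩
    rcases le_or_gt (O 0).card 2 with h | h
    · exact ⟨O 0, h, h0, fun g hg y hy => (hinv g hg 0 y).1 hy⟩
    · refine ⟨(O 0)ᶜ, ?_, ?_, fun g hg y hy => ?_⟩
      · rw [Finset.card_compl, Fintype.card_fin]; omega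
      · rw [Finset.card_compl, Fintype.card_fin]
        have := hdvd 0
        interval_cases (O 0).card <;> omega
      · rw [Finset.mem_compl] at hy ⊢
        exact fun h' => hy ((hinv g hg 0 y).2 h')
  obtain hc | hc : s.card = 1 ∨ s.card = 2 := by omega
  · obtain ⟨i, rfl⟩ := Finset.card_eq_one.1 hc
    exact hfix ⟨i, fun g hg => Finset.mem_singleton.1 (hsinv g hg i (Finset.mem_singleton_self i))⟩
  · obtain ⟨i, j, hij, rfl⟩ := Finset.card_eq_two.1 hc
    have hle : Fintype.card K ≤ 6 := by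
      refine le_trans ?_ (pair_bound i j hij)
      rw [← Finset.card_univ, ← Finset.card_map ⟨Subtype.val, Subtype.val_injective⟩]
      refine Finset.card_le_card fun g hg => ?_
      simp only [Finset.mem_map, Finset.mem_univ, true_and, Function.Embedding.coeFn_mk] at hg
      obtain ⟨⟨g, hgK⟩, rfl⟩ := hg
      have hi := hsinv g hgK i (by simp)
      have hj := hsinv g hgK j (by simp)
      simp only [Finset.mem_insert, Finset.mem_singleton] at hi hj
      simp only [Finset.mem_filter, Finset.mem_univ, true_and]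
      have hne : (g : Equiv.Perm (Fin 5)) i ≠ (g : Equiv.Perm (Fin 5)) j := fun e => hij ((g : Equiv.Perm (Fin 5)).injective e)
      rcases hi with hi | hi <;> rcases hj with hj | hj
      · exact absurd (hi.trans hj.symm) hne
      · exact Or.inl ⟨hi, hj⟩
      · exact Or.inr ⟨hi, hj⟩
      · exact absurd (hi.trans hj.symm) hne
    rw [← Nat.card_eq_fintype_card, hK] at hle
    omega

/-- The four-group fixing `4`. -/
def V0 : Subgroup A5 where
  carrier := {g | (g : Equiv.Perm (Fin 5)) 4 = 4 ∧ g * g = 1}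
  one_mem' := ⟨rfl, one_mul 1⟩
  mul_mem' := fun {a b} ha hb => by
    revert a b
    decide +kernel
  inv_mem' := fun {a} ha => by
    revert a
    decide +kernel

theorem card_V0 : Nat.card V0 = 4 := by
  have h : (Finset.univ.filter fun g : A5 => (g : Equiv.Perm (Fin 5)) 4 = 4 ∧ g * g = 1).card = 4 := by decide +kernel
  rw [← h, ← Fintype.card_subtype, ← Nat.card_eq_fintype_card]
  rfl

theorem sq_of_four : ∀ g : A5, (g : Equiv.Perm (Fin 5)) 4 = 4 → g * g * (g * g) = 1 → g * g = 1 := by decide +kernel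

/-- Stabiliser of a pair of points. -/
def S0 : Subgroup A5 where
  carrier := {g | ((g : Equiv.Perm (Fin 5)) 3 = 3 ∧ (g : Equiv.Perm (Fin 5)) 4 = 4) ∨
      ((g : Equiv.Perm (Fin 5)) 3 = 4 ∧ (g : Equiv.Perm (Fin 5)) 4 = 3)}
  one_mem' := Or.inl ⟨rfl, rfl⟩
  mul_mem' := fun {a b} ha hb => by
    revert a b
    decide +kernel
  inv_mem' := fun {a} ha => by
    revert a
    decide +kernel

theorem card_S0 : Nat.card S0 = 6 := by
  have h : (Finset.univ.filter fun g : A5 => ((g : Equiv.Perm (Fin 5)) 3 = 3 ∧ (g : Equiv.Perm (Fin 5)) 4 = 4) ∨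
      ((g : Equiv.Perm (Fin 5)) 3 = 4 ∧ (g : Equiv.Perm (Fin 5)) 4 = 3)).card = 6 := by decide +kernel
  rw [← h, ← Fintype.card_subtype, ← Nat.card_eq_fintype_card]
  rfl

/-- A three cycle. -/
def c0 : A5 := ⟨Equiv.swap 0 1 * Equiv.swap 1 2, Equiv.Perm.mem_alternatingGroup.2 (by decide +kernel)⟩

/-- An involution inverting it. -/
def t0 : A5 := ⟨Equiv.swap 0 1 * Equiv.swap 3 4, Equiv.Perm.mem_alternatingGroup.2 (by decide +kernel)⟩

theorem small_facts : c0 ∈ stab 4 ∧ c0 ∈ S0 ∧ t0 ∈ S0 ∧ t0 ∉ stab 4 ∧ orderOf c0 = 3 ∧ t0 * c0 * t0⁻¹ = c0⁻¹ := by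
  refine ⟨?_, Or.inl ?_, Or.inr ?_, ?_, ?_, ?_⟩
  · show (c0 : Equiv.Perm (Fin 5)) 4 = 4; decide
  · decide
  · decide
  · show ¬ (t0 : Equiv.Perm (Fin 5)) 4 = 4; decide
  · rw [orderOf_eq_iff (by norm_num)]
    refine ⟨by decide +kernel, fun m hm hm0 => ?_⟩
    interval_cases m <;> decide +kernel
  · decide +kernel

theorem S0_conj_c0 : ∀ s : A5, (((s : Equiv.Perm (Fin 5)) 3 = 3 ∧ (s : Equiv.Perm (Fin 5)) 4 = 4) ∨
    ((s : Equiv.Perm (Fin 5)) 3 = 4 ∧ (s : Equiv.Perm (Fin 5)) 4 = 3)) →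
    s * c0 * s⁻¹ = c0 ∨ s * c0 * s⁻¹ = c0⁻¹ := by decide +kernel

theorem three_conj : ∀ x : A5, (x : Equiv.Perm (Fin 5)) 4 = 4 → x * x * x = 1 → x ≠ 1 →
    ∃ k : A5, (k : Equiv.Perm (Fin 5)) 4 = 4 ∧ (k * x * k⁻¹ = c0 ∨ k * x * k⁻¹ = c0⁻¹) := by decide +kernel

theorem sup_eq_top {S : Subgroup A5} (h : stab 4 ≤ S) (ht : t0 ∈ S) : S = ⊤ := by
  have h1 := Subgroup.card_dvd_of_le h
  have h2 := Subgroup.card_subgroup_dvd_card S
  rw [card_stab] at h1
  rw [card_a5] at h2
  have h3 : Nat.card S ≠ 12 := fun e => small_facts.2.2.2.1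
    ((Subgroup.eq_of_le_of_card_ge h (by rw [card_stab, e])) ▸ ht)
  refine Subgroup.eq_top_of_card_eq S ?_
  rw [card_a5]
  obtain ⟨k, hk⟩ := h1
  have h4 : Nat.card S ≤ 60 := Nat.le_of_dvd (by norm_num) h2
  have hk5 : k ≤ 5 := by omega
  interval_cases k <;> (rw [hk] at h2 h3; first | omega | (exfalso; revert h2 h3; norm_num))

/-- The hypotheses on the ambient group. -/
structure Setup (G : Type*) [Group G] [Finite G] : Prop where
  simple : IsSimpleGroup G
  card : Nat.card G = 660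
  no_ten : ∀ g : G, orderOf g ≠ 10
  no_fifteen : ∀ g : G, orderOf g ≠ 15

variable {G : Type*} [Group G] [Finite G]

theorem proper_bound (hG : Setup G) (M : Subgroup G) (hM : M ≠ ⊤) : Nat.card M ≤ 60 ∧ Nat.card M ∣ 660 := by
  have := hG.simple
  refine ⟨?_, hG.card ▸ Subgroup.card_subgroup_dvd_card M⟩
  have hcore : M.normalCore = ⊥ := (M.normalCore_normal.eq_bot_or_eq_top).resolve_right
    fun h => hM (top_le_iff.1 (h ▸ M.normalCore_le))
  have hinj : Function.Injective (MulAction.toPermHom G (G ⧸ M)) := by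
    rw [← MonoidHom.ker_eq_bot_iff, ← Subgroup.normalCore_eq_ker, hcore]
  have h := Subgroup.card_dvd_of_injective _ hinj
  rw [hG.card, Nat.card_perm, ← Subgroup.index_eq_card] at h
  have h11 : 11 ≤ M.index := by
    by_contra hlt
    have h' : 11 ∣ M.index.factorial := dvd_trans (by norm_num) h
    exact hlt ((Nat.Prime.dvd_factorial (by norm_num)).1 h')
  have hm := M.card_mul_index
  rw [hG.card] at hm
  nlinarith

/-- A subgroup of order twelve containing the four-group as a normal subgroup is its normaliser. -/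
theorem normalizer_V (hG : Setup G) (f : A5 →* G) (hf : Function.Injective f) :
    Subgroup.normalizer ((V0.map f : Subgroup G) : Set G) = (stab 4).map f := by
  classical
  set N := Subgroup.normalizer ((V0.map f : Subgroup G) : Set G)
  have hKN : (stab 4).map f ≤ N := by
    rintro _ ⟨k, hk, rfl⟩
    rw [Subgroup.mem_normalizer_iff]
    have key : ∀ (a b : A5), (a : Equiv.Perm (Fin 5)) 4 = 4 → ((b : Equiv.Perm (Fin 5)) 4 = 4 ∧ b * b = 1) →
        ((a * b * a⁻¹ : A5) : Equiv.Perm (Fin 5)) 4 = 4 ∧ a * b * a⁻¹ * (a * b * a⁻¹) = 1 := by decide +kernel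
    intro n
    constructor
    · rintro ⟨v, hv, rfl⟩
      exact ⟨k * v * k⁻¹, key k v hk hv, by simp⟩
    · rintro ⟨v, hv, e⟩
      refine ⟨k⁻¹ * v * k, ?_, ?_⟩
      · have := key k⁻¹ v ((stab 4).inv_mem hk) hv
        rw [inv_inv] at this
        exact this
      · rw [map_mul, map_mul, map_inv, e]; group
  have h12 : 12 ∣ Nat.card N := by
    have := Subgroup.card_dvd_of_le hKN
    rwa [Subgroup.card_map_of_injective hf, card_stab] at this
  have hVcard : Nat.card (V0.map f) = 4 := by rw [Subgroup.card_map_of_injective hf, card_V0]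
  have hN : N ≠ ⊤ := by
    intro h
    have := hG.simple
    have hn : (V0.map f).Normal := Subgroup.normalizer_eq_top_iff.1 h
    rcases hn.eq_bot_or_eq_top with h' | h' <;> rw [h'] at hVcard
    · rw [Subgroup.card_bot] at hVcard; omega
    · rw [Subgroup.card_top, hG.card] at hVcard; omega
  obtain ⟨hle, hdvd⟩ := proper_bound hG N hN
  by_cases h5 : 5 ∣ Nat.card N
  · exfalso
    haveI : Fact (Nat.Prime 5) := ⟨by norm_num⟩
    obtain ⟨⟨y, hy⟩, hy5⟩ := exists_prime_orderOf_dvd_card' 5 h5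
    rw [← Subgroup.orderOf_coe] at hy5
    -- conjugation by `y` permutes the three involutions
    have hV : ∀ v : V0.map f, y * (v : G) * y⁻¹ ∈ V0.map f := fun v => (Subgroup.mem_normalizer_iff.1 hy _).1 v.2
    let π : Equiv.Perm (V0.map f) :=
      { toFun := fun v => ⟨y * (v : G) * y⁻¹, hV v⟩
        invFun := fun v => ⟨y⁻¹ * (v : G) * y, (Subgroup.mem_normalizer_iff.1 hy _).2 (by
          show y * (y⁻¹ * (v : G) * y) * y⁻¹ ∈ V0.map f
          convert v.2 using 1; group)⟩
        left_inv := fun v => Subtype.ext (by simp only; group)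
        right_inv := fun v => Subtype.ext (by simp only; group) }
    have hπ : ∀ (n : ℕ) (v : V0.map f), ((π ^ n) v : G) = y ^ n * (v : G) * (y ^ n)⁻¹ := by
      intro n
      induction n with
      | zero => intro v; simp
      | succ n ih =>
        intro v
        rw [pow_succ', Equiv.Perm.mul_apply]
        show y * ((π ^ n) v : G) * y⁻¹ = _
        rw [ih, pow_succ']; group
    have hπ5 : π ^ 5 = 1 := Equiv.ext fun v => Subtype.ext (by
      rw [hπ, show y ^ 5 = 1 from (congrArg (y ^ ·) hy5).symm.trans (pow_orderOf_eq_one y)]; simp)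
    have hπ1 : π = 1 := by
      rcases (Nat.dvd_prime (by norm_num)).1 (orderOf_dvd_of_pow_eq_one hπ5) with h | h
      · exact orderOf_eq_one_iff.1 h
      · exfalso
        have := orderOf_dvd_natCard π
        rw [h] at this
        rw [Nat.card_perm, hVcard] at this
        norm_num at this
    have : Nontrivial (V0.map f) := Finite.one_lt_card_iff_nontrivial.1 (by omega)
    obtain ⟨v, hv⟩ := exists_ne (1 : V0.map f)
    have hvc : y * (v : G) * y⁻¹ = (v : G) := congrArg (fun e : Equiv.Perm (V0.map f) => ((e v : V0.map f) : G)) hπ1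
    obtain ⟨v', hv', e'⟩ := v.2
    have hv2 : orderOf (v : G) = 2 := orderOf_eq_prime (by
      rw [pow_two, ← e', ← map_mul, hv'.2, map_one]) (fun h => hv (Subtype.ext h))
    have hcomm : Commute (v : G) y := (mul_inv_eq_iff_eq_mul.1 hvc).symm
    have h10 := hcomm.orderOf_mul_eq_mul_orderOf_of_coprime (by rw [hv2, hy5]; norm_num)
    rw [hv2, hy5] at h10
    exact hG.no_ten _ h10
  · refine (Subgroup.eq_of_le_of_card_ge hKN ?_).symm
    rw [Subgroup.card_map_of_injective hf, card_stab]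
    obtain ⟨k, hk⟩ := h12
    have hk5 : k ≤ 5 := by omega
    interval_cases k <;> (rw [hk] at hdvd h5; first | omega | (exfalso; revert hdvd h5; norm_num))

theorem normalizer_K (hG : Setup G) (f : A5 →* G) (hf : Function.Injective f) (g : G)
    (hg : ∀ x ∈ (stab 4).map f, g * x * g⁻¹ ∈ (stab 4).map f) : g ∈ (stab 4).map f := by
  rw [← normalizer_V hG f hf, Subgroup.mem_normalizer_iff]
  have key : ∀ v ∈ V0.map f, g * v * g⁻¹ ∈ V0.map f := by
    rintro _ ⟨v, hv, rfl⟩
    obtain ⟨w, hw, e⟩ := hg (f v) ⟨v, hv.1, rfl⟩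
    refine ⟨w, ⟨hw, ?_⟩, e⟩
    have h4 : w * w * (w * w) = 1 := hf (by
      rw [map_mul, map_mul, e, map_one]
      rw [show g * f v * g⁻¹ * (g * f v * g⁻¹) = g * f (v * v) * g⁻¹ by rw [map_mul]; group, hv.2, map_one]
      group)
    exact sq_of_four w hw h4
  intro n
  refine ⟨key n, fun hn => ?_⟩
  -- finiteness
  have hsurj : Function.Surjective (fun v : V0.map f => (⟨g * (v : G) * g⁻¹, key _ v.2⟩ : V0.map f)) :=
    Finite.injective_iff_surjective.1 fun a b h => Subtype.ext (by simpa using congrArg Subtype.val h)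
  obtain ⟨⟨v, hv⟩, e⟩ := hsurj ⟨_, hn⟩
  have e' := congrArg Subtype.val e
  simp only [mul_left_inj, mul_right_inj] at e'
  exact e' ▸ hv

theorem range_ne_top (hG : Setup G) (f : A5 →* G) (hf : Function.Injective f) : f.range ≠ ⊤ := by
  intro h
  have h1 : Nat.card f.range = 60 := by rw [← Nat.card_congr (MonoidHom.ofInjective hf).toEquiv, card_a5]
  rw [h, Subgroup.card_top, hG.card] at h1
  omega

theorem card_range (f : A5 →* G) (hf : Function.Injective f) : Nat.card f.range = 60 := by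
  rw [← Nat.card_congr (MonoidHom.ofInjective hf).toEquiv, card_a5]

theorem normalizer_range (hG : Setup G) (f : A5 →* G) (hf : Function.Injective f) :
    Subgroup.normalizer (f.range : Set G) = f.range := by
  have h := hG.simple
  have hne : Subgroup.normalizer (f.range : Set G) ≠ ⊤ := by
    intro e
    rcases (Subgroup.normalizer_eq_top_iff.1 e).eq_bot_or_eq_top with h' | h'
    · have := card_range f hf
      rw [h', Subgroup.card_bot] at this
      omega
    · exact range_ne_top hG f hf h'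
  exact (Subgroup.eq_of_le_of_card_ge Subgroup.le_normalizer ((proper_bound hG _ hne).1.trans (card_range f hf).ge)).symm

/-- The stabiliser of a second coset is not too big. -/
theorem inf_conj_small (hG : Setup G) (f : A5 →* G) (hf : Function.Injective f) (g : G) (hg : g ∉ f.range) :
    Nat.card ↥(f.range ⊓ f.range.map (MulAut.conj g).toMonoidHom) ≤ 10 := by
  set K' := f.range ⊓ f.range.map (MulAut.conj g).toMonoidHom
  have h60 : Nat.card K' ∣ 60 := card_range f hf ▸ Subgroup.card_dvd_of_le inf_le_left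
  set K0 := K'.comap f
  have hK0 : Nat.card K0 = Nat.card K' := by
    rw [← Subgroup.card_map_of_injective hf, Subgroup.map_comap_eq_self inf_le_left]
  have hne : Nat.card K' ≠ 60 := by
    intro h
    have e1 : K' = f.range := Subgroup.eq_of_le_of_card_ge inf_le_left (by rw [card_range f hf, h])
    have e2 : f.range.map (MulAut.conj g).toMonoidHom = f.range := by
      refine (Subgroup.eq_of_le_of_card_ge (e1.symm.le.trans inf_le_right) ?_).symm
      rw [Subgroup.card_map_of_injective (MulEquiv.injective _)]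
    refine hg ?_
    rw [← normalizer_range hG f hf, Subgroup.mem_normalizer_iff]
    intro n
    constructor
    · intro hn; rw [← e2]; exact ⟨n, hn, rfl⟩
    · intro hn
      rw [← e2] at hn
      obtain ⟨n', hn', e⟩ := hn
      rw [show n = n' from (MulAut.conj g).injective e.symm]
      exact hn'
  have hne12 : Nat.card K' ≠ 12 := by
    intro h
    obtain ⟨i, hi⟩ := eq_stab K0 (hK0.trans h)
    let Kg : Subgroup A5 := (K'.map (MulAut.conj g⁻¹).toMonoidHom).comap f
    have hle : K'.map (MulAut.conj g⁻¹).toMonoidHom ≤ f.range := by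
      rintro _ ⟨x, hx, rfl⟩
      obtain ⟨y, hy, rfl⟩ := hx.2
      show g⁻¹ * (g * y * g⁻¹) * g⁻¹⁻¹ ∈ f.range
      rw [show g⁻¹ * (g * y * g⁻¹) * g⁻¹⁻¹ = y by group]; exact hy
    have hKg : Nat.card Kg = 12 := by
      rw [← Subgroup.card_map_of_injective hf, Subgroup.map_comap_eq_self hle,
        Subgroup.card_map_of_injective (MulEquiv.injective _), h]
    obtain ⟨j, hj⟩ := eq_stab Kg hKg
    obtain ⟨a, ha⟩ := a5_transitive 4 i
    obtain ⟨b, hb⟩ := a5_transitive 4 j
    have hmem : (f b)⁻¹ * g⁻¹ * f a ∈ (stab 4).map f := by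
      refine normalizer_K hG f hf _ ?_
      rintro _ ⟨x, hx, rfl⟩
      have hax : a * x * a⁻¹ ∈ K0 := by
        rw [hi, mem_stab]
        show (a : Equiv.Perm (Fin 5)) ((x : Equiv.Perm (Fin 5)) ((a : Equiv.Perm (Fin 5))⁻¹ i)) = i
        rw [show (a : Equiv.Perm (Fin 5))⁻¹ i = 4 from (Equiv.symm_apply_eq _).2 ha.symm,
          show (x : Equiv.Perm (Fin 5)) 4 = 4 from hx, ha]
      obtain ⟨w, hw, e⟩ : ∃ w, w ∈ Kg ∧ f w = g⁻¹ * f (a * x * a⁻¹) * g := by
        have h1 : g⁻¹ * f (a * x * a⁻¹) * g⁻¹⁻¹ ∈ K'.map (MulAut.conj g⁻¹).toMonoidHom := ⟨_, hax, rfl⟩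
        obtain ⟨w, hw⟩ := hle h1
        rw [inv_inv] at hw h1
        exact ⟨w, Subgroup.mem_comap.2 (by rw [hw]; exact h1), hw⟩
      refine ⟨b⁻¹ * w * b, ?_, ?_⟩
      · rw [hj, mem_stab] at hw
        show (b : Equiv.Perm (Fin 5))⁻¹ ((w : Equiv.Perm (Fin 5)) ((b : Equiv.Perm (Fin 5)) 4)) = 4
        rw [hb, hw]; exact (Equiv.symm_apply_eq _).2 hb.symm
      · rw [map_mul, map_mul, e, map_mul, map_mul, map_inv, map_inv]
        group
    obtain ⟨w, -, hw⟩ := hmem
    exact hg ⟨a * w⁻¹ * b⁻¹, by rw [map_mul, map_mul, map_inv, map_inv, hw]; group⟩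
  have hK60 : K0 ≠ ⊤ := fun e => hne (by rw [← hK0, e, Subgroup.card_top, card_a5])
  have hidx : 5 ≤ K0.index := by
    by_contra hlt
    have hcore : K0.normalCore = ⊥ := (K0.normalCore_normal.eq_bot_or_eq_top).resolve_right
      fun h => hK60 (top_le_iff.1 (h ▸ K0.normalCore_le))
    have hinj : Function.Injective (MulAction.toPermHom A5 (A5 ⧸ K0)) := by
      rw [← MonoidHom.ker_eq_bot_iff, ← Subgroup.normalCore_eq_ker, hcore]
    have h := Subgroup.card_dvd_of_injective _ hinj
    rw [card_a5, Nat.card_perm, ← Subgroup.index_eq_card] at h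
    have := Nat.le_of_dvd (Nat.factorial_pos _) h
    have h24 := Nat.factorial_le (show K0.index ≤ 4 by omega)
    norm_num [Nat.factorial] at h24
    omega
  have hm := K0.card_mul_index
  rw [card_a5, hK0] at hm
  have h12 : Nat.card K' ≤ 12 := by nlinarith
  interval_cases h : Nat.card K' <;> omega

theorem two_pretransitive (hG : Setup G) (f : A5 →* G) (hf : Function.Injective f) :
    f.range.index = 11 ∧ MulAction.IsMultiplyPretransitive G (G ⧸ f.range) 2 := by
  classical
  let : Fintype G := Fintype.ofFinite G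
  set H := f.range with hH
  have hidx : H.index = 11 := by
    have := H.card_mul_index
    rw [card_range f hf, hG.card] at this
    omega
  refine ⟨hidx, ?_⟩
  set x0 : G ⧸ H := ((1 : G) : G ⧸ H)
  have hbig : ∀ y : G ⧸ H, y ≠ x0 → 6 ≤ (MulAction.orbit H y).ncard := by
    intro y hy
    obtain ⟨g, rfl⟩ := QuotientGroup.mk_surjective y
    have hg : g ∉ H := fun h => hy (QuotientGroup.eq.2 (by simpa using h))
    have h := MulAction.card_orbit_mul_card_stabilizer_eq_card_group H ((g : G) : G ⧸ H)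
    rw [← Nat.card_eq_fintype_card, ← Nat.card_eq_fintype_card, ← Nat.card_eq_fintype_card, card_range f hf,
      Nat.card_coe_set_eq] at h
    have hst : Nat.card (MulAction.stabilizer H ((g : G) : G ⧸ H)) ≤ 10 := by
      refine le_trans (le_of_eq ?_) (inf_conj_small hG f hf g hg)
      have key : ∀ k : H, k ∈ MulAction.stabilizer H ((g : G) : G ⧸ H) ↔
          (k : G) ∈ H ⊓ H.map (MulAut.conj g).toMonoidHom := by
        intro k
        rw [MulAction.mem_stabilizer_iff]
        show (((k : G) * g : G) : G ⧸ H) = _ ↔ _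
        rw [QuotientGroup.eq, Subgroup.mem_inf]
        constructor
        · intro h
          refine ⟨k.2, _, inv_mem h, ?_⟩
          show g * (((k : G) * g)⁻¹ * g)⁻¹ * g⁻¹ = k
          group
        · rintro ⟨-, n, hn, e⟩
          replace e : g * n * g⁻¹ = (k : G) := e
          rw [← e]
          convert inv_mem hn using 1
          group
      exact Nat.card_congr
        { toFun := fun k => ⟨(k.1 : G), (key k.1).1 k.2⟩
          invFun := fun k => ⟨⟨k.1, k.2.1⟩, (key ⟨k.1, k.2.1⟩).2 k.2⟩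
          left_inv := fun _ => rfl
          right_inv := fun _ => rfl }
    by_contra hlt
    nlinarith
  have hx0 : ∀ k : H, k • x0 = x0 := fun k => QuotientGroup.eq.2 (by simpa using k.2)
  have htrans : ∀ y y' : G ⧸ H, y ≠ x0 → y' ≠ x0 → ∃ k : H, k • y = y' := by
    intro y y' hy hy'
    by_contra hne
    have hd : Disjoint (MulAction.orbit H y) (MulAction.orbit H y') := by
      rw [Set.disjoint_left]
      intro z hz hz'
      obtain ⟨a, ha⟩ := hz
      obtain ⟨b, hb⟩ := hz'
      exact hne ⟨b⁻¹ * a, by rw [mul_smul]; simp only at ha hb; rw [ha, ← hb, inv_smul_smul]⟩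
    have hsub : MulAction.orbit H y ∪ MulAction.orbit H y' ⊆ {x0}ᶜ := by
      rintro z (⟨k, rfl⟩ | ⟨k, rfl⟩) (h : k • _ = x0)
      · exact hy (MulAction.injective k (h.trans (hx0 k).symm))
      · exact hy' (MulAction.injective k (h.trans (hx0 k).symm))
    have h1 := Set.ncard_le_ncard hsub
    rw [Set.ncard_union_eq hd, Set.ncard_compl, Set.ncard_singleton] at h1
    have h2 : Nat.card (G ⧸ H) = 11 := hidx
    have := hbig y hy
    have := hbig y' hy'
    omega
  rw [MulAction.is_two_pretransitive_iff]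
  intro a b c d hab hcd
  obtain ⟨g, hg⟩ := MulAction.exists_smul_eq G a x0
  obtain ⟨g', hg'⟩ := MulAction.exists_smul_eq G c x0
  obtain ⟨k, hk⟩ := htrans (g • b) (g' • d) (fun e => hab (MulAction.injective g (hg.trans e.symm)))
    (fun e => hcd (MulAction.injective g' (hg'.trans e.symm)))
  refine ⟨g'⁻¹ * ((k : G) * g), ?_, ?_⟩
  · rw [mul_smul, mul_smul, hg, inv_smul_eq_iff, hg']; exact hx0 k
  · rw [mul_smul, mul_smul, inv_smul_eq_iff]; exact hk

/-- Normalise the position of a second subgroup. -/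
theorem normalise (hG : Setup G) (f f' : A5 →* G) (hf : Function.Injective f) (hf' : Function.Injective f') :
    ∃ g : G, ((stab 4).map f').map (MulAut.conj g).toMonoidHom = (stab 4).map f ∧
      (g * f' c0 * g⁻¹ = f c0 ∨ g * f' c0 * g⁻¹ = (f c0)⁻¹) := by
  classical
  haveI : Fact (Nat.Prime 2) := ⟨Nat.prime_two⟩
  have hfac : (660 : ℕ).factorization 2 = 2 := by
    rw [Nat.factorization_def _ Nat.prime_two, show (660 : ℕ) = 2 ^ 2 * 165 by norm_num, padicValNat.mul (by norm_num) (by norm_num),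
      padicValNat.prime_pow, padicValNat.eq_zero_of_not_dvd (by norm_num)]
  let P : Sylow 2 G := Sylow.ofCard (V0.map f) (by
    rw [Subgroup.card_map_of_injective hf, card_V0, hG.card, hfac]; rfl)
  let P' : Sylow 2 G := Sylow.ofCard (V0.map f') (by
    rw [Subgroup.card_map_of_injective hf', card_V0, hG.card, hfac]; rfl)
  obtain ⟨g, hg⟩ := MulAction.exists_smul_eq G P' P
  have hV : (V0.map f').map (MulAut.conj g).toMonoidHom = V0.map f := by
    have h := congrArg (fun Q : Sylow 2 G => (Q : Subgroup G)) hg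
    rw [Sylow.coe_subgroup_smul] at h
    exact h
  have hK : ((stab 4).map f').map (MulAut.conj g).toMonoidHom = (stab 4).map f := by
    rw [← normalizer_V hG f' hf', ← normalizer_V hG f hf]
    have h := Subgroup.map_equiv_normalizer_eq (V0.map f') (MulAut.conj g)
    rw [hV] at h
    exact h
  obtain ⟨x, hx, hxe⟩ : g * f' c0 * g⁻¹ ∈ (stab 4).map f := hK ▸ ⟨_, ⟨c0, small_facts.1, rfl⟩, rfl⟩
  have hx3 : x * x * x = 1 := hf (by
    rw [map_mul, map_mul, hxe, map_one]
    have h : (f' c0) ^ 3 = 1 := by rw [← map_pow, ← small_facts.2.2.2.2.1, pow_orderOf_eq_one, map_one]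
    calc _ = g * (f' c0) ^ 3 * g⁻¹ := by rw [pow_succ, pow_succ, pow_one]; group
      _ = 1 := by rw [h]; group)
  have hx1 : x ≠ 1 := fun h => by
    rw [h, map_one, eq_comm, mul_inv_eq_one, mul_eq_left, ← map_one f'] at hxe
    have := small_facts.2.2.2.2.1
    rw [hf' hxe, orderOf_one] at this
    omega
  obtain ⟨k, hk, hkx⟩ := three_conj x hx hx3 hx1
  refine ⟨f k * g, ?_, ?_⟩
  · rw [show (MulAut.conj (f k * g)).toMonoidHom = (MulAut.conj (f k)).toMonoidHom.comp (MulAut.conj g).toMonoidHom by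
      ext; simp [map_mul], ← Subgroup.map_map, hK]
    refine Subgroup.eq_of_le_of_card_ge ?_ (Nat.card_congr (((stab 4).map f).equivMapOfInjective _ (MulEquiv.injective (MulAut.conj (f k)))).toEquiv).le
    rintro _ ⟨_, ⟨y, hy, rfl⟩, rfl⟩
    refine ⟨k * y * k⁻¹, mul_mem (mul_mem hk hy) (inv_mem hk), ?_⟩
    simp [map_mul]
  · have e : f k * g * f' c0 * (f k * g)⁻¹ = f (k * x * k⁻¹) := by rw [map_mul, map_mul, hxe, map_inv]; group
    rw [e]
    rcases hkx with h | h
    · exact Or.inl (by rw [h])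
    · exact Or.inr (by rw [h, map_inv])

theorem range_eq_of_data (f f' : A5 →* G)
    (hK : (stab 4).map f' = (stab 4).map f) (hS : S0.map f' = S0.map f) : f'.range = f.range := by
  have h : ∀ φ : A5 →* G, φ.range = (stab 4).map φ ⊔ S0.map φ := fun φ => by
    rw [← Subgroup.map_sup, MonoidHom.range_eq_map]
    rw [sup_eq_top (le_sup_left) (Subgroup.mem_sup_right small_facts.2.2.1)]
  rw [h, h, hK, hS]

theorem inner_subgroup (hG : Setup G) (f : A5 →* G) (hf : Function.Injective f) (φ : A5 →* G) (hφ : Function.Injective φ)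
    (hc : φ c0 = f c0 ∨ φ c0 = (f c0)⁻¹) :
    Subgroup.zpowers (f c0) ≤ S0.map φ ∧ Nat.card (S0.map φ) = 6 ∧
      (∀ y ∈ S0.map φ, y * f c0 * y⁻¹ = f c0 ∨ y * f c0 * y⁻¹ = (f c0)⁻¹) := by
  refine ⟨?_, by rw [Subgroup.card_map_of_injective hφ, card_S0], ?_⟩
  · rw [Subgroup.zpowers_le]
    rcases hc with h | h
    · exact ⟨c0, small_facts.2.1, h⟩
    · exact ⟨c0⁻¹, inv_mem small_facts.2.1, by rw [map_inv, h, inv_inv]⟩
  · rintro _ ⟨s, hs, rfl⟩
    have h1 := S0_conj_c0 s hs
    rcases hc with h | h <;> rcases h1 with h1 | h1 <;> have e := congrArg φ h1 <;>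
      rw [map_mul, map_mul, map_inv, h] at e
    · exact Or.inl e
    · rw [map_inv, h] at e; exact Or.inr e
    · left
      have := congrArg (fun z : G => z⁻¹) e
      simpa [mul_assoc] using this
    · rw [map_inv, h] at e
      right
      have := congrArg (fun z : G => z⁻¹) e
      simpa [mul_assoc] using this

/-- Among three icosahedral subgroups two are conjugate. -/
theorem three_classes (hG : Setup G) (f₁ f₂ f₃ : A5 →* G) (h₁ : Function.Injective f₁) (h₂ : Function.Injective f₂)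
    (h₃ : Function.Injective f₃) :
    (∃ g : G, f₂.range.map (MulAut.conj g).toMonoidHom = f₁.range) ∨
    (∃ g : G, f₃.range.map (MulAut.conj g).toMonoidHom = f₁.range) ∨
    (∃ g : G, f₃.range.map (MulAut.conj g).toMonoidHom = f₂.range) := by
  classical
  obtain ⟨g₂, hK₂, hc₂⟩ := normalise hG f₁ f₂ h₁ h₂
  obtain ⟨g₃, hK₃, hc₃⟩ := normalise hG f₁ f₃ h₁ h₃
  set φ₂ : A5 →* G := (MulAut.conj g₂).toMonoidHom.comp f₂
  set φ₃ : A5 →* G := (MulAut.conj g₃).toMonoidHom.comp f₃
  rw [Subgroup.map_map] at hK₂ hK₃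
  obtain ⟨hP₁, hS₁, hn₁⟩ := inner_subgroup hG f₁ h₁ f₁ h₁ (Or.inl rfl)
  obtain ⟨hP₂, hS₂, hn₂⟩ := inner_subgroup hG f₁ h₁ φ₂ ((MulEquiv.injective (MulAut.conj g₂)).comp h₂) hc₂
  obtain ⟨hP₃, hS₃, hn₃⟩ := inner_subgroup hG f₁ h₁ φ₃ ((MulEquiv.injective (MulAut.conj g₃)).comp h₃) hc₃
  have key : S0.map φ₂ = S0.map f₁ ∨ S0.map φ₃ = S0.map f₁ ∨ S0.map φ₃ = S0.map φ₂ := by
    by_contra hne
    simp only [not_or] at hne
    set c := f₁ c0
    let N : Subgroup G :=
      { carrier := {y | y * c * y⁻¹ = c ∨ y * c * y⁻¹ = c⁻¹}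
        one_mem' := Or.inl (by group)
        mul_mem' := fun {a b} ha hb => by
          have e : a * b * c * (a * b)⁻¹ = a * (b * c * b⁻¹) * a⁻¹ := by group
          rcases hb with hb | hb <;> rw [Set.mem_setOf_eq, e, hb]
          · exact ha
          · rw [show a * c⁻¹ * a⁻¹ = (a * c * a⁻¹)⁻¹ by group]
            rcases ha with ha | ha <;> rw [ha] <;> simp
        inv_mem' := fun {a} ha => by
          rcases ha with ha | ha
          · left
            calc a⁻¹ * c * a⁻¹⁻¹ = a⁻¹ * (a * c * a⁻¹) * a := by rw [ha]; group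
              _ = c := by group
          · right
            calc a⁻¹ * c * a⁻¹⁻¹ = a⁻¹ * (a * c * a⁻¹)⁻¹ * a := by rw [ha]; group
              _ = c⁻¹ := by group }
    let C : Subgroup G := Subgroup.centralizer {c} ⊓ N
    have hc3 : orderOf c = 3 := by rw [orderOf_injective _ h₁]; exact small_facts.2.2.2.2.1
    set P := Subgroup.zpowers c
    have hPcard : Nat.card P = 3 := by rw [Nat.card_zpowers, hc3]
    have hPC : P ≤ C := le_inf (by rw [Subgroup.zpowers_le, Subgroup.mem_centralizer_singleton_iff])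
      (by rw [Subgroup.zpowers_le]; exact Or.inl (by group))
    have hS1N : S0.map f₁ ≤ N := fun y hy => hn₁ y hy
    have hS2N : S0.map φ₂ ≤ N := fun y hy => hn₂ y hy
    have hS3N : S0.map φ₃ ≤ N := fun y hy => hn₃ y hy
    -- the order of the normaliser
    have hNtop : N ≠ ⊤ := by
      intro h
      have := hG.simple
      have hn : P.Normal := ⟨fun x hx y => by
        obtain ⟨k, rfl⟩ := hx
        have hy : y ∈ N := h ▸ Subgroup.mem_top y
        show y * c ^ k * y⁻¹ ∈ P
        rw [← conj_zpow]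
        rcases hy with e | e <;> rw [e]
        · exact Subgroup.zpow_mem _ (Subgroup.mem_zpowers c) k
        · exact Subgroup.zpow_mem _ (inv_mem (Subgroup.mem_zpowers c)) k⟩
      rcases hn.eq_bot_or_eq_top with h' | h' <;> rw [h'] at hPcard
      · rw [Subgroup.card_bot] at hPcard; omega
      · rw [Subgroup.card_top, hG.card] at hPcard; omega
    obtain ⟨hle, hdvd⟩ := proper_bound hG N hNtop
    have h6 : 6 ∣ Nat.card N := hS₁ ▸ Subgroup.card_dvd_of_le hS1N
    have h5 : ¬ 5 ∣ Nat.card N := by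
      intro h5
      haveI : Fact (Nat.Prime 5) := ⟨by norm_num⟩
      obtain ⟨⟨y, hy⟩, hy5⟩ := exists_prime_orderOf_dvd_card' 5 h5
      rw [← Subgroup.orderOf_coe] at hy5
      have hyc : y * c * y⁻¹ = c := by
        rcases hy with h | h
        · exact h
        · exfalso
          have h2 : ∀ k : ℕ, y ^ (2 * k) * c * (y ^ (2 * k))⁻¹ = c := fun k => by
            induction k with
            | zero => simp
            | succ k ih =>
              calc y ^ (2 * (k + 1)) * c * (y ^ (2 * (k + 1)))⁻¹ = y * (y * (y ^ (2 * k) * c * (y ^ (2 * k))⁻¹) * y⁻¹) * y⁻¹ := by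
                    rw [show 2 * (k + 1) = 2 * k + 1 + 1 by ring, pow_succ', pow_succ']; group
                _ = y * (y * c * y⁻¹) * y⁻¹ := by rw [ih]
                _ = (y * c * y⁻¹)⁻¹ := by nth_rw 1 [h]; group
                _ = c := by rw [h, inv_inv]
          have h6' := h2 3
          rw [show 2 * 3 = 5 + 1 from rfl, pow_succ, ← hy5, pow_orderOf_eq_one, one_mul, h] at h6'
          have hd : orderOf c ∣ 2 := orderOf_dvd_of_pow_eq_one (by
            rw [pow_two]; exact mul_eq_one_iff_eq_inv.2 h6'.symm)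
          rw [hc3] at hd
          norm_num at hd
      have hcomm : Commute c y := (mul_inv_eq_iff_eq_mul.1 hyc).symm
      have h15 := hcomm.orderOf_mul_eq_mul_orderOf_of_coprime (by rw [hc3, hy5]; norm_num)
      rw [hc3, hy5] at h15
      exact hG.no_fifteen _ h15
    have hN12 : Nat.card N ≤ 12 := by
      by_contra hgt
      obtain ⟨k, hk⟩ := h6
      rw [hk] at hdvd h5 hle hgt
      have hk10 : k ≤ 10 := by omega
      interval_cases k <;> first | omega | (revert hdvd h5; norm_num)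
    -- four subgroups with pairwise intersection `P`
    have hsize : ∀ S : Subgroup G, P ≤ S → Nat.card S = 6 → ∀ T : Subgroup G, P ≤ T → Nat.card T = 6 → S ≠ T → S ⊓ T = P := by
      intro S hPS hS T hPT hT hne'
      have h1 : Nat.card (S ⊓ T : Subgroup G) ∣ 6 := hS ▸ Subgroup.card_dvd_of_le inf_le_left
      have h2 : 3 ∣ Nat.card (S ⊓ T : Subgroup G) := hPcard ▸ Subgroup.card_dvd_of_le (le_inf hPS hPT)
      refine (Subgroup.eq_of_le_of_card_ge (le_inf hPS hPT) ?_).symm
      by_contra hgt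
      have h6' : Nat.card (S ⊓ T : Subgroup G) = 6 := by
        have := Nat.le_of_dvd (by norm_num) h1
        obtain ⟨j, hj⟩ := h2
        rw [hPcard] at hgt
        omega
      have e1 : (S ⊓ T : Subgroup G) = S := Subgroup.eq_of_le_of_card_ge inf_le_left (by rw [hS, h6'])
      have e2 : (S ⊓ T : Subgroup G) = T := Subgroup.eq_of_le_of_card_ge inf_le_right (by rw [hT, h6'])
      exact hne' (e1.symm.trans e2)
    -- a single element outside each
    have hext : ∀ φ : A5 →* G, Function.Injective φ → (φ c0 = c ∨ φ c0 = c⁻¹) → φ t0 ∈ N ∧ φ t0 ∉ C := by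
      intro φ hφ hc
      obtain ⟨-, -, hn⟩ := inner_subgroup hG f₁ h₁ φ hφ hc
      refine ⟨hn _ ⟨t0, small_facts.2.2.1, rfl⟩, fun h => ?_⟩
      have hcomm : φ t0 * c * (φ t0)⁻¹ = c :=
        mul_inv_eq_iff_eq_mul.2 (Subgroup.mem_centralizer_singleton_iff.1 h.1)
      have h0 := congrArg φ small_facts.2.2.2.2.2
      rw [map_mul, map_mul, map_inv] at h0
      have : φ c0 = (φ c0)⁻¹ := by
        rw [map_inv] at h0
        rcases hc with e | e <;> rw [e] at h0 ⊢
        · rw [hcomm] at h0; exact h0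
        · rw [inv_inv] at h0 ⊢
          rw [show φ t0 * c⁻¹ * (φ t0)⁻¹ = (φ t0 * c * (φ t0)⁻¹)⁻¹ by group, hcomm] at h0
          exact h0
      have h32 : orderOf (φ c0) ∣ 2 := orderOf_dvd_of_pow_eq_one (by rw [pow_two]; exact mul_eq_one_iff_eq_inv.2 this)
      rw [orderOf_injective _ hφ, small_facts.2.2.2.2.1] at h32
      norm_num at h32
    obtain ⟨ht1, ht1'⟩ := hext f₁ h₁ (Or.inl rfl)
    have hCidx : (C.subgroupOf N).index = 2 := by
      rw [Subgroup.index_eq_two_iff]
      refine ⟨⟨f₁ t0, ht1⟩, fun b => ?_⟩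
      have mC : ∀ z : N, z ∈ C.subgroupOf N ↔ (z : G) * c * (z : G)⁻¹ = c := fun z => by
        rw [Subgroup.mem_subgroupOf, Subgroup.mem_inf, Subgroup.mem_centralizer_singleton_iff, mul_inv_eq_iff_eq_mul]
        exact ⟨fun h => h.1, fun h => ⟨h, z.2⟩⟩
      have hne2 : c ≠ c⁻¹ := fun e => by
        have : orderOf c ∣ 2 := orderOf_dvd_of_pow_eq_one (by rw [pow_two]; exact mul_eq_one_iff_eq_inv.2 e)
        rw [hc3] at this; norm_num at this
      have htc : f₁ t0 * c * (f₁ t0)⁻¹ = c⁻¹ := ht1.resolve_left fun h => ht1'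
        (Subgroup.mem_inf.2 ⟨Subgroup.mem_centralizer_singleton_iff.2 (mul_inv_eq_iff_eq_mul.1 h), ht1⟩)
      have eb : ((b * ⟨f₁ t0, ht1⟩ : N) : G) * c * ((b * ⟨f₁ t0, ht1⟩ : N) : G)⁻¹ = ((b : G) * c * (b : G)⁻¹)⁻¹ := by
        show (b : G) * f₁ t0 * c * ((b : G) * f₁ t0)⁻¹ = _
        calc _ = (b : G) * (f₁ t0 * c * (f₁ t0)⁻¹) * (b : G)⁻¹ := by group
          _ = _ := by rw [htc]; group
      rw [xor_def, mC, mC, eb]
      rcases b.2 with e | e <;> rw [e]
      · exact Or.inr ⟨rfl, fun h => hne2 h.symm⟩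
      · exact Or.inl ⟨inv_inv c, fun h => hne2 h.symm⟩
    have hC6 : Nat.card C = 6 ∧ Nat.card N = 12 := by
      have h1 := (C.subgroupOf N).card_mul_index
      rw [hCidx, Nat.card_congr (Subgroup.subgroupOfEquivOfLe inf_le_right).toEquiv] at h1
      have h2 : 6 ∣ Nat.card N := h6
      have h3 : Nat.card N ≠ 6 := by
        intro h
        have e1 : S0.map f₁ = N := Subgroup.eq_of_le_of_card_ge hS1N (by rw [h, hS₁])
        have e2 : S0.map φ₂ = N := Subgroup.eq_of_le_of_card_ge hS2N (by rw [h, hS₂])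
        exact hne.1 (e2.trans e1.symm)
      have h4 : 0 < Nat.card N := Nat.card_pos
      have h5 : Nat.card N = 12 := by omega
      change Nat.card C * 2 = Nat.card N at h1
      omega
    have hne' : ∀ φ : A5 →* G, Function.Injective φ → (φ c0 = c ∨ φ c0 = c⁻¹) → S0.map φ ≠ C := by
      intro φ hφ hc h
      exact (hext φ hφ hc).2 (h ▸ ⟨t0, small_facts.2.2.1, rfl⟩)
    -- count
    have hfin : ∀ S : Subgroup G, P ≤ S → Nat.card S = 6 → ((S : Set G) \ (P : Set G)).ncard = 3 := by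
      intro S hPS hS
      rw [Set.ncard_sdiff hPS, ← Nat.card_coe_set_eq, ← Nat.card_coe_set_eq]
      change Nat.card S - Nat.card P = 3
      rw [hS, hPcard]
    have hdisj : ∀ S : Subgroup G, P ≤ S → Nat.card S = 6 → ∀ T : Subgroup G, P ≤ T → Nat.card T = 6 → S ≠ T →
        Disjoint ((S : Set G) \ (P : Set G)) ((T : Set G) \ (P : Set G)) := by
      intro S a b T a' b' h
      rw [Set.disjoint_left]
      intro z hz hz'
      exact hz.2 ((hsize S a b T a' b' h).le ⟨hz.1, hz'.1⟩)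
    have hsub : ((S0.map f₁ : Subgroup G) : Set G) \ P ∪ ((S0.map φ₂ : Subgroup G) : Set G) \ P ∪
        ((S0.map φ₃ : Subgroup G) : Set G) \ P ∪ (C : Set G) \ P ⊆ (N : Set G) \ P := by
      rintro z (((⟨hz, hzP⟩ | ⟨hz, hzP⟩) | ⟨hz, hzP⟩) | ⟨hz, hzP⟩)
      · exact ⟨hS1N hz, hzP⟩
      · exact ⟨hS2N hz, hzP⟩
      · exact ⟨hS3N hz, hzP⟩
      · exact ⟨hz.2, hzP⟩
    have hcount := Set.ncard_le_ncard hsub
    have d12 := hdisj _ hP₁ hS₁ _ hP₂ hS₂ (Ne.symm hne.1)
    have d13 := hdisj _ hP₁ hS₁ _ hP₃ hS₃ (Ne.symm hne.2.1)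
    have d23 := hdisj _ hP₂ hS₂ _ hP₃ hS₃ (Ne.symm hne.2.2)
    have d1C := hdisj _ hP₁ hS₁ _ hPC hC6.1 (hne' f₁ h₁ (Or.inl rfl))
    have d2C := hdisj _ hP₂ hS₂ _ hPC hC6.1 (hne' φ₂ ((MulEquiv.injective (MulAut.conj g₂)).comp h₂) hc₂)
    have d3C := hdisj _ hP₃ hS₃ _ hPC hC6.1 (hne' φ₃ ((MulEquiv.injective (MulAut.conj g₃)).comp h₃) hc₃)
    rw [Set.ncard_union_eq (Disjoint.union_left (Disjoint.union_left d1C d2C) d3C),
      Set.ncard_union_eq (Disjoint.union_left d13 d23), Set.ncard_union_eq d12, hfin _ hP₁ hS₁, hfin _ hP₂ hS₂,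
      hfin _ hP₃ hS₃, hfin _ hPC hC6.1] at hcount
    have hNP : ((N : Set G) \ (P : Set G)).ncard = Nat.card N - Nat.card P := by
      rw [Set.ncard_sdiff (SetLike.coe_subset_coe.2 (hPC.trans inf_le_right)), ← Nat.card_coe_set_eq, ← Nat.card_coe_set_eq]
      rfl
    rw [hNP, hC6.2, hPcard] at hcount
    omega
  have conv : ∀ (f' : A5 →* G) (g : G), ((MulAut.conj g).toMonoidHom.comp f').range = f'.range.map (MulAut.conj g).toMonoidHom :=
    fun f' g => MonoidHom.range_comp _ _
  rcases key with h | h | h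
  · exact Or.inl ⟨g₂, (conv f₂ g₂).symm.trans (range_eq_of_data f₁ φ₂ hK₂ h)⟩
  · exact Or.inr (Or.inl ⟨g₃, (conv f₃ g₃).symm.trans (range_eq_of_data f₁ φ₃ hK₃ h)⟩)
  · refine Or.inr (Or.inr ⟨g₂⁻¹ * g₃, ?_⟩)
    have h' := (conv f₃ g₃).symm.trans ((range_eq_of_data φ₂ φ₃ (hK₃.trans hK₂.symm) h).trans (conv f₂ g₂))
    have e : (MulAut.conj (g₂⁻¹ * g₃)).toMonoidHom = (MulAut.conj g₂⁻¹).toMonoidHom.comp (MulAut.conj g₃).toMonoidHom := by
      ext; simp [map_mul]
    rw [e, ← Subgroup.map_map, h', Subgroup.map_map, ← MonoidHom.range_comp]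
    congr 1
    ext x
    simp [mul_assoc]

end CfsgLib.KnownC.A5InSixSixty
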