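import Mathlib

set_option autoImplicit false
set_option linter.unusedSectionVars false
set_option linter.style.haveILetI false

/-! A simple group of order 2520 acting on fifteen points is two-transitive once the elements of
order five and seven fix few points. -/

namespace CfsgLib.KnownC.A7OnFifteen

open MulAction

variable {G P : Type*} [Group G] [Finite G] [MulAction G P] [Finite P]

theorem dvd_orbit {p : ℕ} [hp : Fact p.Prime] (S : Subgroup G) {g : G} (hg : g ∈ S) (ho : orderOf g = p) {w : P}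
    (hw : ∀ z ∈ orbit S w, g • z ≠ z) : p ∣ Nat.card (orbit S w) := by
  classical
  let Z := Subgroup.zpowers (⟨g, hg⟩ : S)
  have hZ : IsPGroup p Z := IsPGroup.of_card (n := 1) (by
    rw [Nat.card_zpowers, pow_one, ← Subgroup.orderOf_coe]; exact ho)
  have h := hZ.card_modEq_card_fixedPoints (orbit S w)
  have hempty : IsEmpty (fixedPoints Z (orbit S w)) :=
    ⟨fun z => hw z.1.1 z.1.2 (congrArg Subtype.val (z.2 ⟨⟨g, hg⟩, Subgroup.mem_zpowers _⟩))⟩
  have h0 : Nat.card (fixedPoints Z (orbit S w)) = 0 := Nat.card_of_isEmpty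
  rw [h0, Nat.modEq_zero_iff_dvd] at h
  exact h

theorem two_transitive [FaithfulSMul G P] (hs : IsSimpleGroup G) (hG : Nat.card G = 2520) (hP : Nat.card P = 15)
    (h5 : ∀ g : G, orderOf g = 5 → ∀ z : P, g • z ≠ z)
    (h7 : ∀ g : G, orderOf g = 7 → ∀ v w : P, g • v = v → g • w = w → v = w) :
    IsMultiplyPretransitive G P 2 := by
  classical
  haveI := Fintype.ofFinite P
  haveI : Fact (Nat.Prime 5) := ⟨by norm_num⟩
  haveI : Fact (Nat.Prime 7) := ⟨by norm_num⟩
  haveI : Fact (Nat.Prime 2) := ⟨Nat.prime_two⟩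
  have hfix : ∀ z : P, orbit G z ≠ {z} := fun z hz => by
    obtain ⟨g, hg⟩ := exists_prime_orderOf_dvd_card' 5 (show 5 ∣ Nat.card G by rw [hG]; norm_num)
    exact h5 g hg z (Set.mem_singleton_iff.1 (hz ▸ mem_orbit z g))
  -- orbits have size fifteen
  have hbig : ∀ z : P, 7 ≤ Nat.card (orbit G z) := by
    intro z
    by_contra hlt
    let ρ := MulAction.toPermHom G (orbit G z)
    have hk : ρ.ker = ⊥ := (hs.eq_bot_or_eq_top_of_normal ρ.ker inferInstance).resolve_right fun h => by
      refine hfix z (Set.eq_singleton_iff_unique_mem.2 ⟨mem_orbit_self z, ?_⟩)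
      rintro _ ⟨g, rfl⟩
      have : ρ g = 1 := MonoidHom.mem_ker.1 (h ▸ Subgroup.mem_top g)
      exact congrArg Subtype.val (Equiv.Perm.ext_iff.1 this ⟨z, mem_orbit_self z⟩)
    have hd := Subgroup.card_dvd_of_injective ρ ((MonoidHom.ker_eq_bot_iff ρ).1 hk)
    rw [hG, Nat.card_perm] at hd
    have := Nat.le_of_dvd (Nat.factorial_pos _) hd
    have h6 := Nat.factorial_le (show Nat.card (orbit G z) ≤ 6 by omega)
    rw [show Nat.factorial 6 = 720 from rfl] at h6
    omega
  have h5d : ∀ z : P, 5 ∣ Nat.card (orbit G z) := by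
    intro z
    obtain ⟨g, hg⟩ := exists_prime_orderOf_dvd_card' 5 (show 5 ∣ Nat.card G by rw [hG]; norm_num)
    have h := dvd_orbit (⊤ : Subgroup G) (Subgroup.mem_top g) hg (w := z) (fun x _ => h5 g hg x)
    convert h using 2
    refine congrArg Set.Elem (Set.ext fun x => ?_)
    exact ⟨fun ⟨g, hg⟩ => ⟨⟨g, Subgroup.mem_top g⟩, hg⟩, fun ⟨g, hg⟩ => ⟨g.1, hg⟩⟩
  have horb : ∀ z : P, orbit G z = Set.univ := by
    intro z
    have h1 := h5d z
    have h2 := hbig z
    have h3 : Nat.card (orbit G z) ≤ 15 := hP ▸ Finite.card_subtype_le _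
    by_contra hne
    obtain ⟨y, hy⟩ := (Set.ne_univ_iff_exists_notMem _).1 hne
    have hd : Disjoint (orbit G z) (orbit G y) := by
      rw [Set.disjoint_left]
      intro x hx hx'
      exact hy (by rw [← orbit_eq_iff.2 hx, orbit_eq_iff.2 hx']; exact mem_orbit_self y)
    have h4 := Set.ncard_union_eq hd
    have h5' := Set.ncard_le_ncard (Set.subset_univ (orbit G z ∪ orbit G y))
    rw [Set.ncard_univ, hP, h4, ← Nat.card_coe_set_eq, ← Nat.card_coe_set_eq] at h5'
    have := hbig y
    have := h5d y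
    omega
  have htr : ∀ a b : P, ∃ g : G, g • a = b := fun a b => by
    have : b ∈ orbit G a := by rw [horb]; trivial
    exact this
  -- an involution moving a point
  obtain ⟨t, ht⟩ := exists_prime_orderOf_dvd_card' 2 (show 2 ∣ Nat.card G by rw [hG]; norm_num)
  obtain ⟨v, hv⟩ : ∃ v : P, t • v ≠ v := by
    by_contra h
    push Not at h
    have : t = 1 := FaithfulSMul.eq_of_smul_eq_smul fun a : P => by rw [one_smul]; exact h a
    rw [this, orderOf_one] at ht
    omega
  have ht2 : t * t = 1 := by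
    rw [← pow_two, ← ht, pow_orderOf_eq_one]
  set Gv := stabilizer G v
  have hGv : Nat.card Gv = 168 := by
    have h := index_stabilizer G v
    rw [horb v, Set.ncard_univ, hP] at h
    have hm := Gv.card_mul_index
    rw [h, hG] at hm
    omega
  -- a seven-element fixing only `v`
  obtain ⟨s, hsv, hs7⟩ : ∃ s ∈ Gv, orderOf s = 7 := by
    obtain ⟨s, hs⟩ := exists_prime_orderOf_dvd_card' 7 (show 7 ∣ Nat.card Gv by rw [hGv]; norm_num)
    exact ⟨s, s.2, (Subgroup.orderOf_coe s).trans hs⟩
  have h7d : ∀ w : P, w ≠ v → 7 ∣ Nat.card (orbit Gv w) := fun w hw =>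
    dvd_orbit Gv hsv hs7 fun z hz hzfix => by
      have hzv : z = v := h7 s hs7 z v hzfix hsv
      obtain ⟨k, hk⟩ := hz
      subst hzv
      exact hw (MulAction.injective k (hk.trans (k.2 : (k : G) • z = z).symm))
  set w := t • v
  have hsub : ∀ y : P, y ≠ v → orbit Gv y ⊆ {v}ᶜ := by
    rintro y hy _ ⟨k, rfl⟩ (h : k • y = v)
    exact hy (MulAction.injective k (h.trans (k.2 : (k : G) • v = v).symm))
  -- its suborbit is even
  have heven : 2 ∣ Nat.card (orbit Gv w) := by
    let R : Finset (P × P) := Finset.univ.filter fun x => ∃ g : G, g • v = x.1 ∧ g • w = x.2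
    have hR0 : ((R.card : ℕ) : ZMod 2) = 0 := by
      rw [Finset.cast_card]
      refine Finset.sum_involution (fun x _ => x.swap) (fun _ _ => CharTwo.add_self_eq_zero _) (fun x hx _ => ?_) (fun x hx => ?_)
        (fun _ _ => Prod.swap_swap _)
      · obtain ⟨g, e1, e2⟩ := (Finset.mem_filter.1 hx).2
        intro e
        refine hv (MulAction.injective g ?_)
        show g • w = g • v
        rw [e1, e2]
        exact congrArg Prod.fst e
      · obtain ⟨g, e1, e2⟩ := (Finset.mem_filter.1 hx).2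
        refine Finset.mem_filter.2 ⟨Finset.mem_univ _, g * t, ?_, ?_⟩
        · rw [mul_smul]; exact e2
        · rw [mul_smul, ← mul_smul t t, ht2, one_smul]; exact e1
    have hRcard : R.card = Fintype.card P * Nat.card (orbit Gv w) := by
      choose γ hγ using htr v
      let e : P × orbit Gv w ≃ R :=
        Equiv.ofBijective (fun x => ⟨(x.1, γ x.1 • x.2.1), Finset.mem_filter.2 ⟨Finset.mem_univ _, by
            obtain ⟨k, hk⟩ := x.2.2
            exact ⟨γ x.1 * k, by rw [mul_smul, show (k : G) • v = v from k.2, hγ],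
              by rw [mul_smul, ← hk]; rfl⟩⟩⟩)
          ⟨fun a b h => by
            obtain ⟨h1, h2⟩ := Prod.mk.inj (congrArg Subtype.val h)
            refine Prod.ext h1 (Subtype.ext ?_)
            simp only at h1 h2
            rw [h1] at h2
            exact MulAction.injective _ h2,
          fun x => by
            obtain ⟨g, e1, e2⟩ := (Finset.mem_filter.1 x.2).2
            have hk : (γ x.1.1)⁻¹ * g ∈ Gv := by
              rw [mem_stabilizer_iff, mul_smul, e1, inv_smul_eq_iff, hγ]
            refine ⟨(x.1.1, ⟨(γ x.1.1)⁻¹ • x.1.2, ⟨⟨_, hk⟩, ?_⟩⟩), Subtype.ext (Prod.ext rfl ?_)⟩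
            · show ((γ x.1.1)⁻¹ * g) • w = _
              rw [mul_smul, e2]
            · show γ x.1.1 • (γ x.1.1)⁻¹ • x.1.2 = x.1.2
              rw [smul_inv_smul]⟩
      rw [← Fintype.card_coe, ← Nat.card_eq_fintype_card, ← Nat.card_congr e, Nat.card_prod,
        Nat.card_eq_fintype_card (α := P)]
    rw [hRcard, ← Nat.card_eq_fintype_card, hP] at hR0
    have := (ZMod.natCast_eq_zero_iff_even).1 hR0
    rw [Nat.even_mul] at this
    exact (this.resolve_left (by decide)).two_dvd
  have hstab : orbit Gv w = {v}ᶜ := by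
    refine Set.eq_of_subset_of_ncard_le (hsub w hv) ?_
    rw [Set.ncard_compl, Set.ncard_singleton, hP, ← Nat.card_coe_set_eq]
    have h1 := h7d w hv
    have h3 : 0 < Nat.card (orbit Gv w) := Nat.card_pos_iff.2 ⟨⟨⟨w, mem_orbit_self w⟩⟩, inferInstance⟩
    omega
  rw [is_two_pretransitive_iff]
  intro a b c d hab hcd
  obtain ⟨g, hg⟩ := htr a v
  obtain ⟨g', hg'⟩ := htr c v
  have hb : g • b ∈ orbit Gv w := hstab ▸ fun e => hab (MulAction.injective g (hg.trans e.symm))
  have hd : g' • d ∈ orbit Gv w := hstab ▸ fun e => hcd (MulAction.injective g' (hg'.trans e.symm))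
  obtain ⟨k, hk⟩ : g' • d ∈ orbit Gv (g • b) := (orbit_eq_iff.2 hb).symm ▸ hd
  refine ⟨g'⁻¹ * ((k : G) * g), ?_, ?_⟩
  · rw [mul_smul, mul_smul, hg, inv_smul_eq_iff, hg']; exact k.2
  · rw [mul_smul, mul_smul, inv_smul_eq_iff]; exact hk

end CfsgLib.KnownC.A7OnFifteen
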