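import Mathlib

set_option autoImplicit false
set_option linter.unusedSectionVars false

/-! Abelian permutation groups of largest order. -/

namespace CfsgLib.KnownC.AbelianPerm

/-- The largest product of parts summing to `n`. -/
def g : ℕ → ℕ
  | 0 => 1
  | 1 => 1
  | 2 => 2
  | 3 => 3
  | 4 => 4
  | n + 5 => 3 * g (n + 2)

theorem g_step (n : ℕ) (hn : 2 ≤ n) : g (n + 3) = 3 * g n := by
  obtain ⟨m, rfl⟩ := Nat.exists_eq_add_of_le' hn
  rw [show m + 2 + 3 = m + 5 from rfl, g]

theorem one_le_g (n : ℕ) : 1 ≤ g n := by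
  induction n using Nat.strong_induction_on with
  | _ n ih =>
    rcases Nat.lt_or_ge n 5 with h | h
    · interval_cases n <;> simp [g]
    · have := ih (n - 3) (by omega)
      have e := g_step (n - 3) (by omega)
      rw [show n - 3 + 3 = n by omega] at e
      omega

theorem mul_g_le : ∀ s m j : ℕ, m + j = s → m * g j ≤ g (m + j) := by
  intro s
  induction s using Nat.strong_induction_on with
  | _ s ih =>
    intro m j hs
    rcases Nat.lt_or_ge m 5 with hm | hm
    · rcases Nat.lt_or_ge j 5 with hj | hj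
      · interval_cases m <;> interval_cases j <;> simp [g]
      · have h := ih (m + (j - 3)) (by omega) m (j - 3) rfl
        have e1 := g_step (j - 3) (by omega)
        rw [show j - 3 + 3 = j by omega] at e1
        have e2 := g_step (m + (j - 3)) (by omega)
        rw [show m + (j - 3) + 3 = m + j by omega] at e2
        rw [e1, e2, show m * (3 * g (j - 3)) = 3 * (m * g (j - 3)) by ring]
        exact Nat.mul_le_mul_left 3 h
    · have h := ih (m - 3 + j) (by omega) (m - 3) j rfl
      have e2 := g_step (m - 3 + j) (by omega)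
      rw [show m - 3 + j + 3 = m + j by omega] at e2
      rw [e2]
      calc m * g j ≤ 3 * (m - 3) * g j := Nat.mul_le_mul_right _ (by omega)
        _ = 3 * ((m - 3) * g j) := Nat.mul_assoc _ _ _
        _ ≤ _ := Nat.mul_le_mul_left 3 h

theorem card_le : ∀ (n : ℕ) (X : Type) [Finite X], Nat.card X = n →
    ∀ A : Subgroup (Equiv.Perm X), IsMulCommutative A → Nat.card A ≤ g n := by
  intro n
  induction n using Nat.strong_induction_on with
  | _ n ih =>
    intro X _ hn A hA
    classical
    haveI := Fintype.ofFinite X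
    rcases Nat.eq_zero_or_pos n with rfl | hpos
    · haveI : IsEmpty X := (Nat.card_eq_zero.1 hn).resolve_right (fun h => h.not_finite inferInstance)
      haveI : Subsingleton A := ⟨fun a b => Subtype.ext (Subsingleton.elim _ _)⟩
      exact le_of_le_of_eq (Finite.card_le_one_iff_subsingleton.2 inferInstance) rfl
    obtain ⟨x⟩ : Nonempty X := (Nat.card_pos_iff.1 (hn ▸ hpos)).1
    let O : Set X := MulAction.orbit A x
    let Y := {y : X // y ∉ O}
    have hinv : ∀ (a : A) (y : X), y ∉ O ↔ (a : Equiv.Perm X) y ∉ O := by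
      intro a y
      refine not_congr ⟨fun hy => ?_, fun hy => ?_⟩
      · obtain ⟨b, rfl⟩ := hy
        exact ⟨a * b, rfl⟩
      · obtain ⟨b, hb⟩ := hy
        exact ⟨a⁻¹ * b, by show (a : Equiv.Perm X)⁻¹ ((b : Equiv.Perm X) x) = y; rw [show (b : Equiv.Perm X) x = _ from hb]; simp⟩
    let ρ : A →* Equiv.Perm Y :=
      { toFun := fun a => (a : Equiv.Perm X).subtypePerm (fun y => (hinv a y).symm)
        map_one' := Equiv.ext fun y => rfl
        map_mul' := fun a b => Equiv.ext fun y => rfl }
    have hY : Nat.card Y < n := by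
      rw [← hn]
      exact Finite.card_subtype_lt (x := x) (fun h => h (MulAction.mem_orbit_self x))
    have himg : Nat.card ρ.range ≤ g (Nat.card Y) := ih _ hY Y rfl _ ⟨⟨by
      rintro ⟨_, a, rfl⟩ ⟨_, b, rfl⟩
      refine Subtype.ext ?_
      show ρ a * ρ b = ρ b * ρ a
      rw [← map_mul, ← map_mul, hA.is_comm.comm a b]⟩⟩
    have hker : Nat.card ρ.ker ≤ Nat.card O := by
      refine Nat.card_le_card_of_injective (fun k => (⟨(k.1 : Equiv.Perm X) x, ⟨k.1, rfl⟩⟩ : O)) fun k l h => ?_
      refine Subtype.ext (Subtype.ext (Equiv.ext fun y => ?_))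
      by_cases hy : y ∈ O
      · obtain ⟨b, rfl⟩ := hy
        show (k.1 : Equiv.Perm X) ((b : Equiv.Perm X) x) = (l.1 : Equiv.Perm X) ((b : Equiv.Perm X) x)
        have hk := congrArg (fun c : A => (c : Equiv.Perm X) x) (hA.is_comm.comm k.1 b)
        have hl := congrArg (fun c : A => (c : Equiv.Perm X) x) (hA.is_comm.comm l.1 b)
        simp only [Subgroup.coe_mul, Equiv.Perm.mul_apply] at hk hl
        rw [hk, hl, show (k.1 : Equiv.Perm X) x = (l.1 : Equiv.Perm X) x from congrArg Subtype.val h]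
      · have hk := congrArg (fun e : Equiv.Perm Y => ((e ⟨y, hy⟩ : Y) : X)) (MonoidHom.mem_ker.1 k.2)
        have hl := congrArg (fun e : Equiv.Perm Y => ((e ⟨y, hy⟩ : Y) : X)) (MonoidHom.mem_ker.1 l.2)
        exact hk.trans hl.symm
    have hsum : Nat.card O + Nat.card Y = n := by
      rw [← hn, ← Nat.card_sum]
      exact Nat.card_congr (Equiv.sumCompl (fun y => y ∈ O))
    have hcard : Nat.card A = Nat.card ρ.range * Nat.card ρ.ker := by
      rw [← Subgroup.card_mul_index ρ.ker, Subgroup.index_ker, mul_comm]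
    calc Nat.card A = Nat.card ρ.range * Nat.card ρ.ker := hcard
      _ ≤ g (Nat.card Y) * Nat.card O := Nat.mul_le_mul himg hker
      _ ≤ g n := by rw [mul_comm]; exact (mul_g_le _ _ _ rfl).trans_eq (by rw [hsum])

/-- `k` triples and one block of size `r`. -/
theorem exists_abelian (k r n : ℕ) [NeZero r] (hn : 3 * k + r = n) :
    ∃ A : Subgroup (Equiv.Perm (Fin n)), IsMulCommutative A ∧ Nat.card A = 3 ^ k * r := by
  classical
  let e : (Fin k × ZMod 3) ⊕ ZMod r ≃ Fin n := Fintype.equivFinOfCardEq (by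
    simp [Fintype.card_sum, Fintype.card_prod, ZMod.card, ← hn, mul_comm])
  let φ : Multiplicative ((Fin k → ZMod 3) × ZMod r) →* Equiv.Perm ((Fin k × ZMod 3) ⊕ ZMod r) :=
    { toFun := fun a => Equiv.sumCongr (Equiv.prodShear (Equiv.refl (Fin k)) fun i => Equiv.addLeft (a.toAdd.1 i))
        (Equiv.addLeft a.toAdd.2)
      map_one' := Equiv.ext fun z => by rcases z with ⟨i, z⟩ | z <;> simp
      map_mul' := fun a b => Equiv.ext fun z => by rcases z with ⟨i, z⟩ | z <;> simp [add_assoc] }
  let ψ := e.permCongrHom.toMonoidHom.comp φ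
  have hψ : Function.Injective ψ := e.permCongrHom.injective.comp fun a b h => by
    apply Multiplicative.toAdd.injective
    refine Prod.ext (funext fun i => ?_) ?_
    · simpa [φ] using Equiv.ext_iff.1 h (Sum.inl (i, 0))
    · simpa [φ] using Equiv.ext_iff.1 h (Sum.inr 0)
  refine ⟨ψ.range, ⟨⟨?_⟩⟩, ?_⟩
  · rintro ⟨_, a, rfl⟩ ⟨_, b, rfl⟩
    refine Subtype.ext ?_
    show ψ a * ψ b = ψ b * ψ a
    rw [← map_mul, ← map_mul, mul_comm]
  · rw [← Nat.card_congr (MonoidHom.ofInjective hψ).toEquiv, Nat.card_congr Multiplicative.toAdd, Nat.card_prod,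
      Nat.card_fun, Nat.card_zmod, Nat.card_zmod, Nat.card_fin]

theorem g_values (k : ℕ) (hk : 1 ≤ k) :
    g (3 * k) = 3 ^ k ∧ g (3 * k + 1) = 4 * 3 ^ (k - 1) ∧ g (3 * k + 2) = 2 * 3 ^ k := by
  induction k, hk using Nat.le_induction with
  | base => simp [g]
  | succ m hm ih =>
    obtain ⟨a, b, c⟩ := ih
    refine ⟨?_, ?_, ?_⟩
    · rw [show 3 * (m + 1) = 3 * m + 3 by ring, g_step _ (by omega), a, pow_succ']
    · rw [show 3 * (m + 1) + 1 = 3 * m + 1 + 3 by ring, g_step _ (by omega), b, show m + 1 - 1 = m - 1 + 1 by omega,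
        pow_succ']
      ring
    · rw [show 3 * (m + 1) + 2 = 3 * m + 2 + 3 by ring, g_step _ (by omega), c, pow_succ']
      ring

end CfsgLib.KnownC.AbelianPerm
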