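import Cfsg.Agent.Lib.KnownC.SemisimpleClasses

set_option autoImplicit false
set_option linter.unusedSectionVars false

/-! The irreducible factors of `X ^ r - 1` over a finite field. -/

namespace CfsgLib.KnownC.CyclotomicFactors

open Polynomial UniqueFactorizationMonoid

variable (F : Type*) [Field F] [Fintype F] [DecidableEq F] (r : ℕ)

/-- The index type of the cyclotomic factors. -/
abbrev Orbit : Type _ := {f : F[X] // f ∈ (normalizedFactors (cyclotomic r F)).toFinset}

/-- The factors of `X ^ r - 1`. -/
noncomputable def fac : Option (Orbit F r) → F[X] := fun o => o.elim (X - C 1) Subtype.val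

variable {F r}

theorem some_mem (f : Orbit F r) : f.1 ∈ normalizedFactors (cyclotomic r F) := Multiset.mem_toFinset.1 f.2

theorem irreducible_fac : ∀ o, Irreducible (fac F r o)
  | none => irreducible_X_sub_C 1
  | some f => irreducible_of_normalized_factor _ (some_mem f)

theorem monic_some (f : Orbit F r) : f.1.Monic := by
  have h := normalize_normalized_factor _ (some_mem f)
  rw [← h]
  exact Polynomial.monic_normalize (irreducible_of_normalized_factor _ (some_mem f)).ne_zero

variable (hr : r.Prime) (hrF : (r : F) ≠ 0)
include hr hrF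

theorem fac_injective : Function.Injective (fac F r) := by
  have key : ∀ f : Orbit F r, f.1 ≠ X - C 1 := fun f h => by
    have hd := dvd_of_mem_normalizedFactors (some_mem f)
    rw [h, dvd_iff_isRoot, IsRoot.def] at hd
    haveI := Fact.mk hr
    rw [eval_one_cyclotomic_prime] at hd
    exact hrF hd
  rintro (_ | a) (_ | b) hab
  · rfl
  · exact absurd hab.symm (key b)
  · exact absurd hab (key a)
  · exact congrArg some (Subtype.ext hab)

theorem coprime_fac : Pairwise fun a b => IsCoprime (fac F r a) (fac F r b) := by
  intro a b hab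
  refine (irreducible_fac a).coprime_iff_not_dvd.2 fun h => hab (fac_injective hr hrF ?_)
  have hassoc := (irreducible_fac a).associated_of_dvd (irreducible_fac b) h
  have hm : ∀ o, (fac F r o).Monic := fun o => by
    cases o with
    | none => exact monic_X_sub_C 1
    | some f => exact monic_some f
  exact eq_of_monic_of_associated (hm a) (hm b) hassoc

theorem prod_some : ∏ f : Orbit F r, f.1 = cyclotomic r F := by
  have hne : (cyclotomic r F) ≠ 0 := cyclotomic_ne_zero r F
  have hsq : Squarefree (cyclotomic r F) :=
    Squarefree.squarefree_of_dvd (cyclotomic.dvd_X_pow_sub_one r F)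
      ((Polynomial.X_pow_sub_one_separable_iff.2 hrF).squarefree)
  rw [Finset.univ_eq_attach, Finset.prod_attach _ (fun f : F[X] => f), ← Finset.prod_map_val, Multiset.map_id',
    Multiset.toFinset_val, Multiset.dedup_eq_self.2 ((squarefree_iff_nodup_normalizedFactors hne).1 hsq),
    prod_normalizedFactors_eq hne, (cyclotomic.monic r F).normalize_eq_self]

theorem prod_fac : ∏ o, fac F r o = X ^ r - 1 := by
  haveI := Fact.mk hr
  have h := prod_some (F := F) hr hrF
  rw [Fintype.prod_option, ← cyclotomic_prime_mul_X_sub_one F r]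
  show (X - C 1) * ∏ f : Orbit F r, f.1 = _
  rw [h, map_one, mul_comm]

theorem not_X_dvd : ∀ o, ¬ X ∣ fac F r o := by
  intro o h
  have h1 : X ∣ (X ^ r - 1 : F[X]) := (prod_fac hr hrF) ▸ h.trans (Finset.dvd_prod_of_mem _ (Finset.mem_univ o))
  rw [X_dvd_iff, coeff_sub, coeff_X_pow, coeff_one_zero, if_neg hr.ne_zero.symm, zero_sub, neg_eq_zero] at h1
  exact one_ne_zero h1

theorem natDegree_some {q : ℕ} (hF : Fintype.card F = q) (f : Orbit F r) :
    f.1.natDegree = orderOf (q : ZMod r) := by
  obtain ⟨p, hp⟩ := CharP.exists F
  obtain ⟨e, hpr, he⟩ := FiniteField.card F p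
  haveI := Fact.mk hpr
  have hco : p.Coprime r := (Nat.coprime_primes hpr hr).2 fun h => hrF (by rw [← h, CharP.cast_eq_zero])
  rw [natDegree_of_mem_normalizedFactors_cyclotomic he hco (some_mem f), ← orderOf_units, ZMod.coe_unitOfCoprime,
    ← hF, he]

theorem card_orbit {q : ℕ} (hF : Fintype.card F = q) : Fintype.card (Orbit F r) * orderOf (q : ZMod r) = r - 1 := by
  have h : (cyclotomic r F).natDegree = r - 1 := by rw [natDegree_cyclotomic, Nat.totient_prime hr]
  rw [← prod_some hr hrF, natDegree_prod _ _ (fun f _ => (monic_some f).ne_zero),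
    Finset.sum_congr rfl (fun f _ => natDegree_some hr hrF hF f), Finset.sum_const, Finset.card_univ,
    smul_eq_mul] at h
  exact h

end CfsgLib.KnownC.CyclotomicFactors
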