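import Cfsg.Agent.Lib.KnownC.FieldExt

set_option autoImplicit false
set_option linter.unusedSectionVars false

/-! The types of the trace forms of Hermitian forms. -/

namespace CfsgLib.KnownC.FieldExt

open Module QuadraticMap CfsgLib.Orth
open scoped Matrix

variable {F K : Type*} [Field F] [Fintype F] [Field K] [Fintype K] [Algebra F K] {q : ℕ}

theorem exists_norm_neg_one (hK : Fintype.card K = q ^ 2) : ∃ t : K, t * t ^ q = -1 := by
  by_cases h2 : (2 : K) = 0
  · exact ⟨1, by rw [one_pow, one_mul]; linear_combination h2⟩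
  have hodd : Odd (Fintype.card K) := by
    rcases Nat.even_or_odd (Fintype.card K) with h | h
    · exfalso
      apply h2
      obtain ⟨p, hp⟩ := CharP.exists K
      obtain ⟨n, hpp, hn⟩ := FiniteField.card K p
      have hp2 : p = 2 := ((Nat.prime_dvd_prime_iff_eq Nat.prime_two hpp).1
        (Nat.prime_two.dvd_of_dvd_pow (hn ▸ h.two_dvd))).symm
      subst hp2
      exact CharP.cast_eq_zero K 2
    · exact h
  obtain ⟨g, hg⟩ := IsCyclic.exists_ofOrder_eq_natCard (α := Kˣ)
  rw [Nat.card_units, Nat.card_eq_fintype_card, hK] at hg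
  have hq : Odd q := Nat.Odd.of_mul_left (pow_two q ▸ hK ▸ hodd)
  obtain ⟨j, rfl⟩ := hq
  have hj : 1 ≤ j := by
    by_contra h
    have : j = 0 := by omega
    subst this
    have := Fintype.one_lt_card (α := K)
    simp [hK] at this
  have hord : orderOf g = 4 * j * (j + 1) := by
    rw [hg]
    have : (2 * j + 1) ^ 2 = 4 * j * (j + 1) + 1 := by ring
    omega
  refine ⟨((g ^ j : Kˣ) : K), ?_⟩
  have hsq : (((g ^ j : Kˣ) : K) * ((g ^ j : Kˣ) : K) ^ (2 * j + 1)) ^ 2 = 1 := by
    rw [← pow_succ', ← Units.val_pow_eq_pow_val, ← Units.val_pow_eq_pow_val, ← pow_mul, ← pow_mul,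
      show j * ((2 * j + 1 + 1) * 2) = orderOf g by rw [hord]; ring, pow_orderOf_eq_one, Units.val_one]
  rcases sq_eq_one_iff.1 hsq with h | h
  · exfalso
    rw [← pow_succ', ← Units.val_pow_eq_pow_val, Units.val_eq_one, ← pow_mul] at h
    have hdvd := orderOf_dvd_of_pow_eq_one h
    rw [hord] at hdvd
    have hpos : 0 < j * (2 * j + 1 + 1) := Nat.mul_pos hj (by omega)
    have hle := Nat.le_of_dvd hpos hdvd
    have : 4 * j * (j + 1) = 2 * (j * (2 * j + 1 + 1)) := by ring
    omega
  · exact h

theorem descQuad_apply (hF : Fintype.card F = q) (m : ℕ) (τ : K →ₗ[F] F) (u : Fin m → K) :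
    descQuad hF m τ u = τ (Cfsg.hermForm m K q u u) := rfl

theorem finrank_pi_K (hF : Fintype.card F = q) (hK : Fintype.card K = q ^ 2) (m : ℕ) :
    finrank F (Fin m → K) = 2 * m := by
  rw [Module.finrank_pi_fintype, Finset.sum_const, Finset.card_univ, Fintype.card_fin, finrank_eq_two hF hK,
    smul_eq_mul, mul_comm]

theorem descQuad_plus (hF : Fintype.card F = q) (hK : Fintype.card K = q ^ 2) (k : ℕ) {τ : K →ₗ[F] F}
    (hτ : ∀ a, τ (algebraMap F K a) = a) :
    ∃ e : (Fin (k * 2) ⊕ Fin (k * 2) → F) ≃ₗ[F] (Fin (k * 2) → K),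
      ∀ v, descQuad hF (k * 2) τ (e v) = plusForm F (k * 2) v := by
  obtain ⟨t, ht⟩ := exists_norm_neg_one (q := q) hK
  let c : Fin 2 → K := ![1, t]
  let s : (Fin k → K) →ₗ[F] (Fin (k * 2) → K) :=
    { toFun := fun v j => c (finProdFinEquiv.symm j).2 * v (finProdFinEquiv.symm j).1
      map_add' := fun v w => funext fun j => mul_add _ _ _
      map_smul' := fun a v => funext fun j => by simp }
  have hs : Function.Injective s := fun v w h => funext fun i => by
    have := congrFun h (finProdFinEquiv (i, 0))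
    simp only [s, LinearMap.coe_mk, AddHom.coe_mk, Equiv.symm_apply_apply] at this
    simpa [c] using this
  refine iso_plus_of_singular (descQuad_nondeg hF hK _ hτ) (finrank_pi_K hF hK _) (LinearMap.range s) ?_ ?_
  · rintro _ ⟨v, rfl⟩
    have h0 : Cfsg.hermForm (k * 2) K q (s v) (s v) = 0 := by
      rw [Cfsg.hermForm, ← finProdFinEquiv.sum_comp, Fintype.sum_prod_type]
      refine Finset.sum_eq_zero fun i _ => ?_
      simp only [s, LinearMap.coe_mk, AddHom.coe_mk, Equiv.symm_apply_apply, Fin.sum_univ_two, c,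
        Matrix.cons_val_zero, Matrix.cons_val_one, mul_pow, one_mul, one_pow]
      linear_combination (v i * v i ^ q) * ht
    rw [descQuad_apply, h0, map_zero]
  · rw [LinearMap.finrank_range_of_inj hs, finrank_pi_K hF hK]
    omega

theorem descQuad_minus (hF : Fintype.card F = q) (hK : Fintype.card K = q ^ 2) (k : ℕ) {τ : K →ₗ[F] F}
    (hτ : ∀ a, τ (algebraMap F K a) = a) :
    ∃ (ζ : F) (e : ((Fin (k * 2) ⊕ Fin (k * 2)) ⊕ Fin 2 → F) ≃ₗ[F] (Fin (k * 2 + 1) → K)),
      (∀ t : F, t ^ 2 + t + ζ ≠ 0) ∧ ∀ v, descQuad hF (k * 2 + 1) τ (e v) = minusForm F (k * 2) 1 ζ v := by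
  classical
  obtain ⟨e₁, he₁⟩ := descQuad_plus hF hK k hτ
  rcases classify_even (descQuad_nondeg hF hK 1 hτ) (finrank_pi_K hF hK 1) with ⟨e, he⟩ | ⟨-, e, ζ, hζ, he⟩
  · exfalso
    have h := he (Pi.single (Sum.inl 0) 1)
    rw [← plusForm_apply] at h
    simp only [Cfsg.quadFormPlus, Fin.sum_univ_one, Pi.single_eq_same, Pi.single_eq_of_ne (Sum.inr_ne_inl),
      mul_zero] at h
    set u := e (Pi.single (Sum.inl 0) 1)
    have hu : u ≠ 0 := by
      intro h0
      have := congrFun (e.injective (h0.trans (map_zero e).symm)) (Sum.inl 0)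
      simp at this
    obtain ⟨a, ha⟩ := herm_self_mem hF hK u
    rw [descQuad_apply, ← ha, hτ] at h
    rw [h, map_zero, Cfsg.hermForm, Fin.sum_univ_one] at ha
    have h0 : u 0 = 0 := by
      rcases mul_eq_zero.1 ha.symm with h | h
      · exact h
      · exact (pow_eq_zero_iff'.1 h).1
    exact hu (funext fun i => by rw [Subsingleton.elim i 0]; exact h0)
  let S : ((Fin (k * 2) ⊕ Fin (k * 2)) ⊕ Fin 2 → F) →ₗ[F] (Fin (k * 2 + 1) → K) :=
    { toFun := fun v => Fin.append (e₁ (fun i => v (Sum.inl i))) (e (Sum.elim (Sum.elim (fun i => i.elim0) (fun i => i.elim0)) (fun i => v (Sum.inr i))))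
      map_add' := fun v w => by
        funext j
        refine Fin.addCases (fun i => ?_) (fun i => ?_) j
        · simp only [Fin.append_left, Pi.add_apply]
          rw [← Pi.add_apply (e₁ _) (e₁ _), ← map_add]; rfl
        · simp only [Fin.append_right, Pi.add_apply]
          rw [← Pi.add_apply (e _) (e _), ← map_add]
          refine congrFun (congrArg e (funext fun x => ?_)) i
          rcases x with (x | x) | x
          · exact x.elim0
          · exact x.elim0
          · rfl
      map_smul' := fun a v => by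
        funext j
        refine Fin.addCases (fun i => ?_) (fun i => ?_) j
        · simp only [Fin.append_left, Pi.smul_apply, RingHom.id_apply]
          rw [← Pi.smul_apply a (e₁ _), ← map_smul]; rfl
        · simp only [Fin.append_right, Pi.smul_apply, RingHom.id_apply]
          rw [← Pi.smul_apply a (e _), ← map_smul]
          refine congrFun (congrArg e (funext fun x => ?_)) i
          rcases x with (x | x) | x
          · exact x.elim0
          · exact x.elim0
          · rfl }
  have hS : ∀ v, descQuad hF (k * 2 + 1) τ (S v) = minusForm F (k * 2) 1 ζ v := by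
    intro v
    have h1 := he₁ (fun i => v (Sum.inl i))
    have h2 := he (Sum.elim (Sum.elim (fun i => i.elim0) (fun i => i.elim0)) (fun i => v (Sum.inr i)))
    rw [descQuad_apply] at h1 h2 ⊢
    rw [Cfsg.hermForm, Fin.sum_univ_add, map_add]
    simp only [S, LinearMap.coe_mk, AddHom.coe_mk, Fin.append_left, Fin.append_right]
    rw [← Cfsg.hermForm, ← Cfsg.hermForm, h1, h2, ← plusForm_apply, ← minusForm_apply, ← minusForm_apply]
    simp only [Cfsg.quadFormPlus, Cfsg.quadFormMinus, Sum.elim_inr]
    rw [Finset.sum_eq_zero (s := (Finset.univ : Finset (Fin (1 - 1)))) fun i _ => i.elim0]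
    ring
  have hinj := injective_of_preserving (minusForm_nondeg (k * 2) 1 ζ (anisotropic_of_no_root hζ)) S hS
  refine ⟨ζ, LinearEquiv.ofBijective S ⟨hinj, (LinearMap.injective_iff_surjective_of_finrank_eq_finrank ?_).1 hinj⟩,
    hζ, hS⟩
  rw [finrank_pi_K hF hK, finrank_fintype_fun_eq_card, Fintype.card_sum, Fintype.card_sum, Fintype.card_fin,
    Fintype.card_fin]
  omega

end CfsgLib.KnownC.FieldExt
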