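import Cfsg.Agent.Lib.KnownC.CyclotomicFactors

set_option autoImplicit false
set_option linter.unusedSectionVars false

/-! Duality of cyclotomic factors and the counting of self-dual multiplicity tuples. -/

namespace CfsgLib.KnownC.DualFactors

open Polynomial UniqueFactorizationMonoid CfsgLib.KnownC.CyclotomicFactors

variable {F : Type*} [Field F] [Fintype F] [DecidableEq F] {r : ℕ}

instance (f : Orbit F r) : Fact (Irreducible f.1) := ⟨irreducible_of_normalized_factor _ (some_mem f)⟩

instance (f : Orbit F r) : Finite (AdjoinRoot f.1) := by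
  haveI := (AdjoinRoot.powerBasis (irreducible_of_normalized_factor _ (some_mem f)).ne_zero).finite
  exact Module.finite_of_finite F

variable (hr : r.Prime) (hrF : (r : F) ≠ 0)
include hr hrF

theorem root_primitive (f : Orbit F r) : IsPrimitiveRoot (AdjoinRoot.root f.1) r := by
  haveI : NeZero (r : AdjoinRoot f.1) := ⟨by
    rw [← map_natCast (algebraMap F (AdjoinRoot f.1))]
    exact (_root_.map_ne_zero _).2 hrF⟩
  rw [← isRoot_cyclotomic_iff]
  refine (AdjoinRoot.isRoot_root f.1).dvd ?_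
  rw [← map_cyclotomic r (algebraMap F (AdjoinRoot f.1))]
  exact Polynomial.map_dvd _ (dvd_of_mem_normalizedFactors (some_mem f))

/-- The roots of a factor are the conjugates of one of them. -/
theorem exists_pow_of_root (f : Orbit F r) {η : AdjoinRoot f.1} (h : aeval η f.1 = 0) :
    ∃ k : ℕ, η = AdjoinRoot.root f.1 ^ (Fintype.card F ^ k) := by
  haveI := (AdjoinRoot.powerBasis (irreducible_of_normalized_factor _ (some_mem f)).ne_zero).finite
  let φ : AdjoinRoot f.1 →ₐ[F] AdjoinRoot f.1 := AdjoinRoot.liftAlgHom f.1 (Algebra.ofId F _) η h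
  have hb : Function.Bijective φ := Finite.injective_iff_bijective.1 φ.toRingHom.injective
  obtain ⟨k, hk⟩ := (FiniteField.bijective_frobeniusAlgEquivOfAlgebraic_pow F (AdjoinRoot f.1)).2
    (AlgEquiv.ofBijective φ hb)
  refine ⟨k, ?_⟩
  have e := congrArg (fun ψ : AdjoinRoot f.1 ≃ₐ[F] AdjoinRoot f.1 => ψ (AdjoinRoot.root f.1)) hk
  simp only [AlgEquiv.coe_pow, FiniteField.coe_frobeniusAlgEquivOfAlgebraic, pow_iterate, AlgEquiv.coe_ofBijective,
    φ] at e
  exact ((AdjoinRoot.liftAlgHom_root ..).symm.trans e.symm)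

theorem root_pow_of_frob (f : Orbit F r) (k : ℕ) : aeval (AdjoinRoot.root f.1 ^ (Fintype.card F ^ k)) f.1 = 0 := by
  haveI := (AdjoinRoot.powerBasis (irreducible_of_normalized_factor _ (some_mem f)).ne_zero).finite
  have e := aeval_algHom_apply ((FiniteField.frobeniusAlgEquivOfAlgebraic F (AdjoinRoot f.1)) ^ k).toAlgHom
    (AdjoinRoot.root f.1) f.1
  rw [AdjoinRoot.aeval_eq f.1, AdjoinRoot.mk_self, map_zero] at e
  simpa only [AlgEquiv.coe_toAlgHom, AlgEquiv.coe_pow, FiniteField.coe_frobeniusAlgEquivOfAlgebraic, pow_iterate] using e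

/-- The factor whose roots are the inverse `e`-th powers. -/
noncomputable def dual (e : ℕ) (he : ¬ r ∣ e) (f : Orbit F r) : Orbit F r :=
  ⟨minpoly F ((AdjoinRoot.root f.1 ^ e)⁻¹), by
    haveI := (AdjoinRoot.powerBasis (irreducible_of_normalized_factor _ (some_mem f)).ne_zero).finite
    have hp : IsPrimitiveRoot ((AdjoinRoot.root f.1 ^ e)⁻¹) r :=
      ((root_primitive hr hrF f).pow_of_coprime e ((hr.coprime_iff_not_dvd.2 he).symm)).inv
    haveI : NeZero (r : AdjoinRoot f.1) := ⟨by
      rw [← map_natCast (algebraMap F (AdjoinRoot f.1))]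
      exact (_root_.map_ne_zero _).2 hrF⟩
    have hi : IsIntegral F ((AdjoinRoot.root f.1 ^ e)⁻¹) := IsIntegral.of_finite F _
    rw [Multiset.mem_toFinset, Polynomial.mem_normalizedFactors_iff (cyclotomic_ne_zero r F)]
    refine ⟨minpoly.irreducible hi, minpoly.monic hi, minpoly.dvd _ _ ?_⟩
    rw [aeval_def, ← eval_map, map_cyclotomic]
    exact isRoot_cyclotomic_iff.2 hp⟩

theorem aeval_dual (e : ℕ) (he : ¬ r ∣ e) (f : Orbit F r) :
    aeval ((AdjoinRoot.root f.1 ^ e)⁻¹) (dual hr hrF e he f).1 = 0 := minpoly.aeval _ _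

theorem root_pow_eq_iff (f : Orbit F r) (a b : ℕ) :
    AdjoinRoot.root f.1 ^ a = AdjoinRoot.root f.1 ^ b ↔ (a : ZMod r) = b := by
  have h := root_primitive hr hrF f
  have e := (isOfFinOrder_iff_pow_eq_one.2 ⟨r, hr.pos, h.pow_eq_one⟩).pow_eq_pow_iff_modEq (n := a) (m := b)
  rw [← h.eq_orderOf] at e
  rw [ZMod.natCast_eq_natCast_iff]
  exact e

theorem inv_pow_eq_pow_iff (f : Orbit F r) (e a : ℕ) :
    (AdjoinRoot.root f.1 ^ e)⁻¹ = AdjoinRoot.root f.1 ^ a ↔ -(e : ZMod r) = a := by
  have hne : AdjoinRoot.root f.1 ^ e ≠ 0 := pow_ne_zero _ ((root_primitive hr hrF f).ne_zero hr.ne_zero)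
  rw [inv_eq_iff_mul_eq_one₀ hne, ← pow_add, ← pow_zero (AdjoinRoot.root f.1), root_pow_eq_iff hr hrF, Nat.cast_add,
    Nat.cast_zero, neg_eq_iff_add_eq_zero]
where
  inv_eq_iff_mul_eq_one₀ {G : Type _} [Field G] {x y : G} (hx : x ≠ 0) : x⁻¹ = y ↔ x * y = 1 :=
    ⟨fun h => by rw [← h, mul_inv_cancel₀ hx], fun h => inv_eq_of_mul_eq_one_right h⟩

theorem eq_of_aeval (f g : Orbit F r) (h : aeval (AdjoinRoot.root f.1) g.1 = 0) : g = f := by
  refine Subtype.ext (eq_of_monic_of_associated (monic_some g) (monic_some f) ?_)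
  rw [AdjoinRoot.aeval_eq, AdjoinRoot.mk_eq_zero] at h
  exact ((irreducible_of_normalized_factor _ (some_mem f)).associated_of_dvd
    (irreducible_of_normalized_factor _ (some_mem g)) h).symm

theorem dual_eq_self_iff (e : ℕ) (he : ¬ r ∣ e) (f : Orbit F r) :
    dual hr hrF e he f = f ↔ ∃ k : ℕ, -(e : ZMod r) = (Fintype.card F : ZMod r) ^ k := by
  constructor
  · intro h
    have h1 := aeval_dual hr hrF e he f
    rw [h] at h1
    obtain ⟨k, hk⟩ := exists_pow_of_root hr hrF f h1
    exact ⟨k, by rw [(inv_pow_eq_pow_iff hr hrF f e _).1 hk, Nat.cast_pow]⟩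
  · rintro ⟨k, hk⟩
    have h1 : aeval ((AdjoinRoot.root f.1 ^ e)⁻¹) f.1 = 0 := by
      rw [(inv_pow_eq_pow_iff hr hrF f e (Fintype.card F ^ k)).2 (by rw [hk, Nat.cast_pow])]
      exact root_pow_of_frob hr hrF f k
    exact Subtype.ext (minpoly.eq_of_irreducible_of_monic (irreducible_of_normalized_factor _ (some_mem f)) h1
      (monic_some f)).symm

theorem dual_dual (e : ℕ) (he : ¬ r ∣ e) (hee : ∃ k : ℕ, (e : ZMod r) * e = (Fintype.card F : ZMod r) ^ k)
    (f : Orbit F r) : dual hr hrF e he (dual hr hrF e he f) = f := by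
  obtain ⟨k, hk⟩ := hee
  set g := dual hr hrF e he f with hg
  let φ : AdjoinRoot g.1 →ₐ[F] AdjoinRoot f.1 :=
    AdjoinRoot.liftAlgHom g.1 (Algebra.ofId F _) ((AdjoinRoot.root f.1 ^ e)⁻¹) (aeval_dual hr hrF e he f)
  have h1 := congrArg φ (aeval_dual hr hrF e he g)
  have hroot : φ (AdjoinRoot.root g.1) = (AdjoinRoot.root f.1 ^ e)⁻¹ := AdjoinRoot.liftAlgHom_root ..
  rw [map_zero, ← aeval_algHom_apply, map_inv₀, map_pow, hroot, inv_pow, inv_inv, ← pow_mul] at h1
  have h2 : AdjoinRoot.root f.1 ^ (e * e) = AdjoinRoot.root f.1 ^ (Fintype.card F ^ k) := by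
    rw [root_pow_eq_iff hr hrF, Nat.cast_mul, Nat.cast_pow, hk]
  rw [h2] at h1
  haveI := (AdjoinRoot.powerBasis (irreducible_of_normalized_factor _ (some_mem f)).ne_zero).finite
  let ψ := (FiniteField.frobeniusAlgEquivOfAlgebraic F (AdjoinRoot f.1)) ^ k
  have hψ : ψ (AdjoinRoot.root f.1) = AdjoinRoot.root f.1 ^ (Fintype.card F ^ k) := by
    simp only [ψ, AlgEquiv.coe_pow, FiniteField.coe_frobeniusAlgEquivOfAlgebraic, pow_iterate]
  rw [← hψ, ← AlgEquiv.coe_toAlgHom, aeval_algHom_apply, AlgEquiv.coe_toAlgHom, map_eq_zero] at h1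
  exact eq_of_aeval hr hrF f _ h1

omit hr hrF in
theorem card_tuples (τ : Type*) [Fintype τ] {b : ℕ} (hb : 0 < b) (n : ℕ) :
    Nat.card {x : τ → ℕ // b * ∑ o, x o ≤ n ∧ ∃ o, x o ≠ 0} =
      (n / b + Fintype.card τ).choose (Fintype.card τ) - 1 := by
  classical
  haveI : Finite {x : τ → ℕ // ∑ o, x o ≤ n / b} := Nat.finite_of_card_ne_zero (by
    rw [SemisimpleClasses.card_sum_le]; exact (Nat.choose_pos (Nat.le_add_left _ _)).ne')
  haveI := Fintype.ofFinite {x : τ → ℕ // ∑ o, x o ≤ n / b}
  let z : {x : τ → ℕ // ∑ o, x o ≤ n / b} := ⟨0, by simp⟩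
  have e : {x : τ → ℕ // b * ∑ o, x o ≤ n ∧ ∃ o, x o ≠ 0} ≃ {x : {x : τ → ℕ // ∑ o, x o ≤ n / b} // x ≠ z} :=
    { toFun := fun x => ⟨⟨x.1, by rw [Nat.le_div_iff_mul_le hb, mul_comm]; exact x.2.1⟩, fun h => by
        obtain ⟨o, ho⟩ := x.2.2
        exact ho (congrFun (congrArg Subtype.val h) o)⟩
      invFun := fun x => ⟨x.1.1, by
        refine ⟨?_, ?_⟩
        · have h := x.1.2
          rwa [Nat.le_div_iff_mul_le hb, mul_comm] at h
        · by_contra hc
          push Not at hc
          exact x.2 (Subtype.ext (funext hc))⟩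
      left_inv := fun x => rfl
      right_inv := fun x => rfl }
  rw [Nat.card_congr e, Nat.card_eq_fintype_card, Fintype.card_subtype_compl, Fintype.card_subtype_eq,
    ← Nat.card_eq_fintype_card, SemisimpleClasses.card_sum_le]

omit hr hrF in
/-- Multiplicity tuples of total `n` invariant under an involution of the nontrivial factors. -/
theorem card_invariant (τ : Type*) [Fintype τ] (π : τ → τ) (hπ : ∀ o, π (π o) = o) {b : ℕ} (hb : 0 < b) (n : ℕ) :
    ((∀ o, π o = o) → Nat.card {a : Option τ → ℕ // a none + b * ∑ o, a (some o) = n ∧ (∀ o, a (some (π o)) = a (some o)) ∧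
        ∃ o, a (some o) ≠ 0} = (n / b + Fintype.card τ).choose (Fintype.card τ) - 1) ∧
      ((∀ o, π o ≠ o) → Nat.card {a : Option τ → ℕ // a none + b * ∑ o, a (some o) = n ∧ (∀ o, a (some (π o)) = a (some o)) ∧
        ∃ o, a (some o) ≠ 0} = (n / (2 * b) + Fintype.card τ / 2).choose (Fintype.card τ / 2) - 1) := by
  classical
  refine ⟨fun hid => ?_, fun hfix => ?_⟩
  · rw [← card_tuples τ hb n]
    refine Nat.card_congr
      { toFun := fun a => ⟨fun o => a.1 (some o), Nat.le.intro ((add_comm _ _).trans a.2.1), a.2.2.2⟩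
        invFun := fun x => ⟨fun o => o.elim (n - b * ∑ o, x.1 o) x.1, by
          have := x.2.1
          show n - b * ∑ o, x.1 o + b * ∑ o, x.1 o = n
          omega, fun o => by rw [hid], x.2.2⟩
        left_inv := fun a => Subtype.ext (funext fun o => by
          have := a.2.1
          cases o with
          | none => show n - b * ∑ o, a.1 (some o) = a.1 none; omega
          | some o => rfl)
        right_inv := fun x => rfl }
  · let idx := Fintype.equivFin τ
    let H := {o : τ // idx o < idx (π o)}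
    have hne : ∀ o, idx o ≠ idx (π o) := fun o h => hfix o (idx.injective h).symm
    let s : τ → H := fun o => if h : idx o < idx (π o) then ⟨o, h⟩ else ⟨π o, by
      rw [hπ]; exact lt_of_le_of_ne (not_lt.1 h) (hne o).symm⟩
    let E : H × Bool ≃ τ :=
      { toFun := fun x => if x.2 then π x.1.1 else x.1.1
        invFun := fun o => (s o, decide (¬ idx o < idx (π o)))
        left_inv := fun ⟨⟨o, ho⟩, c⟩ => by
          cases c
          · simp [s, ho]
          · have hn : ¬ idx (π o) < idx o := not_lt.2 ho.le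
            simp [s, hπ, hn]
        right_inv := fun o => by
          by_cases h : idx o < idx (π o)
          · simp [s, h]
          · simp [s, h, hπ] }
    have hcard : Fintype.card τ = 2 * Fintype.card H := by
      exact (Fintype.card_congr E).symm.trans (by rw [Fintype.card_prod, Fintype.card_bool, mul_comm])
    have hsum : ∀ x : τ → ℕ, ∑ o, x o = ∑ h : H, (x h.1 + x (π h.1)) := fun x => by
      rw [← E.sum_comp, Fintype.sum_prod_type]
      exact Finset.sum_congr rfl fun h _ => by simp [E, add_comm]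
    have hs : ∀ (a : τ → ℕ), (∀ o, a (π o) = a o) → ∀ o, a (s o).1 = a o := fun a ha o => by
      simp only [s]
      split_ifs
      · rfl
      · exact ha o
    rw [show Fintype.card τ / 2 = Fintype.card H by omega, ← card_tuples H (show 0 < 2 * b by omega) n]
    refine Nat.card_congr
      { toFun := fun a => ⟨fun h => a.1 (some h.1), ?_, ?_⟩
        invFun := fun x => ⟨fun o => o.elim (n - 2 * b * ∑ h, x.1 h) (fun o => x.1 (s o)), ?_, ?_, ?_⟩
        left_inv := ?_
        right_inv := ?_ }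
    · have h := a.2.1
      rw [hsum] at h
      simp only [a.2.2.1, ← two_mul, ← Finset.mul_sum] at h
      rw [mul_comm 2 b, mul_assoc]
      exact Nat.le.intro ((add_comm _ _).trans h)
    · obtain ⟨o, ho⟩ := a.2.2.2
      exact ⟨s o, fun h0 => ho ((hs (fun o => a.1 (some o)) a.2.2.1 o).symm.trans h0)⟩
    · have hx := x.2.1
      show n - 2 * b * ∑ h, x.1 h + b * ∑ o, x.1 (s o) = n
      have e : ∑ o, x.1 (s o) = 2 * ∑ h, x.1 h := by
        rw [hsum, Finset.mul_sum]
        refine Finset.sum_congr rfl fun h _ => ?_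
        have h1 : s h.1 = h := dif_pos h.2
        have h2 : s (π h.1) = h := by
          refine Subtype.ext ?_
          simp only [s, hπ, dif_neg (not_lt.2 (h.2).le)]
        rw [h1, h2]
        exact (two_mul _).symm
      rw [e]
      have e2 : b * (2 * ∑ h, x.1 h) = 2 * b * ∑ h, x.1 h := by ring
      omega
    · intro o
      show x.1 (s (π o)) = x.1 (s o)
      refine congrArg x.1 (Subtype.ext ?_)
      simp only [s, hπ]
      rcases lt_or_gt_of_ne (hne o) with h | h
      · rw [dif_pos h, dif_neg (not_lt.2 h.le)]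
      · rw [dif_neg (not_lt.2 h.le), dif_pos h]
    · obtain ⟨h, hh⟩ := x.2.2
      exact ⟨h.1, by show x.1 (s h.1) ≠ 0; rw [show s h.1 = h from dif_pos h.2]; exact hh⟩
    · intro a
      refine Subtype.ext (funext fun o => ?_)
      have h := a.2.1
      rw [hsum] at h
      simp only [a.2.2.1, ← two_mul, ← Finset.mul_sum] at h
      have e2 : b * (2 * ∑ x : H, a.1 (some x.1)) = 2 * b * ∑ x : H, a.1 (some x.1) := by ring
      cases o with
      | none => show n - 2 * b * ∑ x : H, a.1 (some x.1) = a.1 none; omega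
      | some o => exact hs (fun o => a.1 (some o)) a.2.2.1 o
    · intro x
      refine Subtype.ext (funext fun h => ?_)
      show x.1 (s h.1) = x.1 h
      rw [show s h.1 = h from dif_pos h.2]

end CfsgLib.KnownC.DualFactors
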