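import Cfsg.Agent.Lib.KnownC.JordanNormal

set_option autoImplicit false
set_option linter.unusedSectionVars false

/-! Counting unipotent classes by partitions. -/

namespace CfsgLib.KnownC.JordanNormal

open Matrix

variable {F : Type*} [Field F] {n : ℕ}

/-- Classes of unipotent matrices with a property of the partition. -/
theorem card_classes (P : GL (Fin n) F → Prop) (Q : Nat.Partition n → Prop)
    (hP : ∀ g, P g → IsNilpotent (g.val - 1))
    (hPQ : ∀ g (hg : IsNilpotent (g.val - 1)), P g ↔ Q (jordanPartition g hg)) :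
    Nat.card {C : ConjClasses (GL (Fin n) F) // ∃ g, ConjClasses.mk g = C ∧ P g} =
      Nat.card {μ : Nat.Partition n // Q μ} := by
  classical
  have hs : ∀ μ : Nat.Partition n, ∃ g : GL (Fin n) F, ∃ hg : IsNilpotent (g.val - 1), jordanPartition g hg = μ :=
    fun μ => by
      obtain ⟨g, hg, e⟩ := exists_of_partition (F := F) μ
      exact ⟨g, hg, Nat.Partition.ext e⟩
  choose g hg hgμ using hs
  symm
  refine Nat.card_eq_of_bijective (fun μ => ⟨ConjClasses.mk (g μ.1), g μ.1, rfl, (hPQ _ (hg μ.1)).2 (by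
    rw [hgμ]; exact μ.2)⟩) ⟨?_, ?_⟩
  · intro a b hab
    have h := (jordanSizes_conj (hg a.1) (ConjClasses.mk_eq_mk_iff_isConj.1 (congrArg Subtype.val hab))).2
    exact Subtype.ext (by rw [← hgμ a.1, ← hgμ b.1]; exact (Nat.Partition.ext h).symm)
  · rintro ⟨C, h, rfl, hh⟩
    refine ⟨⟨jordanPartition h (hP h hh), (hPQ h (hP h hh)).1 hh⟩, Subtype.ext ?_⟩
    refine ConjClasses.mk_eq_mk_iff_isConj.2 (isConj_of_sizes_eq (hg _) (hP h hh) ?_)
    exact congrArg Nat.Partition.parts (hgμ _)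

theorem card_unipotent_classes (p n : ℕ) [Fact p.Prime] [CharP F p] :
    Nat.card {C : ConjClasses (GL (Fin n) F) // ∃ g, ConjClasses.mk g = C ∧ ∃ k : ℕ, orderOf g = p ^ k} =
      Nat.card (Nat.Partition n) := by
  have key : ∀ g : GL (Fin n) F, IsNilpotent (g.val - 1) ↔ ∃ k : ℕ, orderOf g = p ^ k := by
    intro g
    rcases Nat.eq_zero_or_pos n with rfl | hn
    · exact iff_of_true ⟨1, Subsingleton.elim _ _⟩ ⟨0, by rw [Subsingleton.elim g 1, orderOf_one, pow_zero]⟩
    haveI : Nonempty (Fin n) := ⟨⟨0, hn⟩⟩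
    have hpow : ∀ k : ℕ, (g.val - 1) ^ (p ^ k) = 0 ↔ g ^ (p ^ k) = 1 := fun k => by
      rw [sub_pow_char_pow_of_commute (p := p) (h := Commute.one_right g.val), one_pow, sub_eq_zero,
        ← Units.val_pow_eq_pow_val, Units.val_eq_one]
    constructor
    · rintro ⟨j, hj⟩
      obtain ⟨k, -, hk⟩ := (Nat.dvd_prime_pow Fact.out).1 (orderOf_dvd_of_pow_eq_one
        ((hpow j).1 (pow_eq_zero_of_le (Nat.lt_pow_self (Fact.out : p.Prime).one_lt).le hj)))
      exact ⟨k, hk⟩
    · rintro ⟨k, hk⟩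
      exact ⟨p ^ k, (hpow k).2 (hk ▸ pow_orderOf_eq_one g)⟩
  rw [card_classes _ (fun _ => True) (fun g h => (key g).2 h) (fun g hg => iff_of_true ((key g).1 hg) trivial)]
  exact Nat.card_congr (Equiv.subtypeUnivEquiv fun _ => trivial)

end CfsgLib.KnownC.JordanNormal
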