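import Cfsg.Agent.Lib.KnownC.DualFactors
import Cfsg.Agent.Lib.KnownC.GUConj
import Cfsg.Agent.S2642

set_option autoImplicit false
set_option linter.unusedSectionVars false

/-! Multiplicities of the inverse adjoint of a semisimple matrix. -/

namespace CfsgLib.KnownC.DualFactors

open Polynomial Matrix UniqueFactorizationMonoid CfsgLib.KnownC.CyclotomicFactors CfsgLib.KnownC.SemisimpleClasses
  CfsgLib.KnownC.GUConj

variable {F : Type*} [Field F] [Fintype F] {n : ℕ} (σ : F →+* F)

theorem aeval_reverse_units {A : Type*} [Ring A] [Algebra F A] (u : Aˣ) (P : F[X]) :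
    aeval (u : A) P.reverse = (u : A) ^ P.natDegree * aeval ((u⁻¹ : Aˣ) : A) P := by
  rw [aeval_eq_sum_range' (lt_of_le_of_lt (reverse_natDegree_le P) (Nat.lt_succ_self _)),
    aeval_eq_sum_range' (Nat.lt_succ_self P.natDegree), Finset.mul_sum]
  refine (Finset.sum_range_reflect _ (P.natDegree + 1)).symm.trans (Finset.sum_congr rfl fun i hi => ?_)
  have hi' : i ≤ P.natDegree := Nat.lt_succ_iff.1 (Finset.mem_range.1 hi)
  rw [show P.natDegree + 1 - 1 - i = P.natDegree - i by omega, coeff_reverse, revAt_le (Nat.sub_le _ _),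
    Nat.sub_sub_self hi', mul_smul_comm]
  congr 1
  rw [← Units.val_pow_eq_pow_val, ← Units.val_pow_eq_pow_val, ← Units.val_pow_eq_pow_val, ← Units.val_mul, inv_pow,
    pow_sub _ hi']

theorem adj_eq_map_transpose (M : Matrix (Fin n) (Fin n) F) : adj σ M = (σ.mapMatrix M)ᵀ := rfl

theorem adj_aeval (M : Matrix (Fin n) (Fin n) F) (P : F[X]) : adj σ (aeval M P) = aeval (adj σ M) (P.map σ) := by
  induction P using Polynomial.induction_on' with
  | add a b ha hb => rw [map_add, adj_add, ha, hb, Polynomial.map_add, map_add]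
  | monomial k c =>
    rw [Polynomial.map_monomial, aeval_monomial, aeval_monomial, adj_mul, adj_algebraMap, ← Algebra.commutes]
    congr 1
    rw [adj_eq_map_transpose, adj_eq_map_transpose, map_pow, Matrix.transpose_pow]

variable (hσσ : ∀ x, σ (σ x) = x)
include hσσ

theorem rank_aeval_adj_inv (g : GL (Fin n) F) (P : F[X]) :
    (aeval ((adjGL σ g)⁻¹ : GL (Fin n) F).val P).rank = (aeval g.val ((P.map σ).reverse)).rank := by
  have h1 := aeval_reverse_units (A := Matrix (Fin n) (Fin n) F) (adjGL σ g) P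
  have hu : IsUnit ((adjGL σ g).val ^ P.natDegree).det :=
    (Matrix.isUnit_iff_isUnit_det _).1 ((Units.isUnit (adjGL σ g)).pow _)
  rw [← Matrix.rank_mul_eq_right_of_isUnit_det _ _ hu, ← h1]
  have h2 : (P.map σ).reverse = P.reverse.map σ := by
    rw [reverse, reverse, reflect_map, natDegree_map]
  have h3 : aeval (adjGL σ g).val P.reverse = adj σ (aeval g.val ((P.map σ).reverse)) := by
    rw [adj_aeval, h2, Polynomial.map_map]
    have : (σ.comp σ) = RingHom.id F := RingHom.ext hσσ
    rw [this, Polynomial.map_id]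
    rfl
  rw [h3, adj, Matrix.rank_transpose, Cfsg.Agent.S2642.rank_map_field]

variable [DecidableEq F] {r : ℕ} (hr : r.Prime) (hrF : (r : F) ≠ 0) {p k e : ℕ} [Fact p.Prime] [CharP F p]
  (hek : e = p ^ k) (hσ : ∀ x, σ x = x ^ e)
include hr hrF hek hσ

theorem associated_dual (he : ¬ r ∣ e) (hee : ∃ j : ℕ, (e : ZMod r) * e = (Fintype.card F : ZMod r) ^ j)
    (f : Orbit F r) : Associated ((f.1.map σ).reverse) (dual hr hrF e he f).1 := by
  have deg : ∀ o : Orbit F r, o.1.natDegree = orderOf (Fintype.card F : ZMod r) := fun o => natDegree_some hr hrF rfl o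
  have hf0 : f.1.coeff 0 ≠ 0 := fun h0 => not_X_dvd hr hrF (some f) (X_dvd_iff.2 h0)
  haveI : CharP (AdjoinRoot f.1) p := charP_of_injective_algebraMap (algebraMap F _).injective p
  have hdeg : ((f.1.map σ).reverse).natDegree = f.1.natDegree := by
    rw [reverse_natDegree, natTrailingDegree_eq_zero.2 (Or.inr (by
      rw [coeff_map]; exact (_root_.map_ne_zero σ).2 hf0)), Nat.sub_zero, natDegree_map]
  have hroot : aeval ((AdjoinRoot.root f.1 ^ e)⁻¹) ((f.1.map σ).reverse) = 0 := by
    have hne : AdjoinRoot.root f.1 ^ e ≠ 0 := pow_ne_zero _ ((root_primitive hr hrF f).ne_zero hr.ne_zero)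
    have h := aeval_reverse_units (A := AdjoinRoot f.1) (Units.mk0 _ hne)⁻¹ (f.1.map σ)
    rw [inv_inv] at h
    simp only [Units.val_inv_eq_inv_val, Units.val_mk0] at h
    rw [h]
    have h2 : aeval (AdjoinRoot.root f.1 ^ e) (f.1.map σ) = (aeval (AdjoinRoot.root f.1) f.1) ^ e := by
      have hφ : ∀ x, iterateFrobenius (AdjoinRoot f.1) p k x = x ^ e := fun x => by
        rw [iterateFrobenius_def, hek]
      rw [← hφ, ← hφ, aeval_def, aeval_def, hom_eval₂, eval₂_map]
      congr 1
      refine RingHom.ext fun c => ?_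
      rw [RingHom.comp_apply, RingHom.comp_apply, hφ, hσ, map_pow]
    rw [h2, AdjoinRoot.aeval_eq f.1, AdjoinRoot.mk_self, zero_pow (fun h0 => he (by rw [h0]; exact dvd_zero r)),
      mul_zero]
  refine (associated_of_dvd_of_natDegree_le (minpoly.dvd _ _ hroot) ?_ ?_).symm
  · intro h0
    rw [h0, natDegree_zero] at hdeg
    exact (irreducible_of_normalized_factor _ (some_mem f)).natDegree_pos.ne hdeg
  · rw [hdeg, deg f]
    exact (deg (dual hr hrF e he f)).ge

theorem mult_adj_inv (he : ¬ r ∣ e) (hee : ∃ j : ℕ, (e : ZMod r) * e = (Fintype.card F : ZMod r) ^ j)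
    (g : GL (Fin n) F) (f : Orbit F r) :
    mult (fac F r) (adjGL σ g)⁻¹ (some f) = mult (fac F r) g (some (dual hr hrF e he f)) := by
  have hd : (fac F r (some (dual hr hrF e he f))).natDegree = (fac F r (some f)).natDegree :=
    (natDegree_some hr hrF rfl _).trans (natDegree_some hr hrF rfl f).symm
  obtain ⟨u, hu⟩ := associated_dual σ hσσ hr hrF hek hσ he hee f
  have hk : comp (Matrix.toLin' g.val) ((f.1.map σ).reverse) = comp (Matrix.toLin' g.val) (dual hr hrF e he f).1 := by
    rw [← hu, mul_comm]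
    ext x
    simp only [SemisimpleClasses.comp, LinearMap.mem_ker, map_mul, Module.End.mul_apply]
    refine ⟨fun h => by rw [h, map_zero], fun h => ?_⟩
    have h2 := congrArg (aeval (Matrix.toLin' g.val) ((u⁻¹ : (F[X])ˣ) : F[X])) h
    rwa [map_zero, ← Module.End.mul_apply, ← map_mul, Units.inv_mul, map_one, Module.End.one_apply] at h2
  rw [mult, mult, hd]
  congr 1
  show _ = Module.finrank F (comp (Matrix.toLin' g.val) (dual hr hrF e he f).1)
  rw [← hk]
  have h1 := LinearMap.finrank_range_add_finrank_ker (Matrix.toLin' (aeval (adjGL σ g)⁻¹.val f.1))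
  have h2 := LinearMap.finrank_range_add_finrank_ker (Matrix.toLin' (aeval g.val ((f.1.map σ).reverse)))
  rw [SemisimpleClasses.comp, SemisimpleClasses.comp, toLin_aeval, toLin_aeval]
  change Matrix.rank _ + _ = _ at h1 h2
  rw [rank_aeval_adj_inv σ hσσ] at h1
  show Module.finrank F (LinearMap.ker (Matrix.toLin' (aeval (adjGL σ g)⁻¹.val f.1))) = _
  omega

omit hek in
/-- Similarity to the inverse adjoint through multiplicities. -/
theorem isConj_adj_inv_iff (he : ¬ r ∣ e) (hee : ∃ j : ℕ, (e : ZMod r) * e = (Fintype.card F : ZMod r) ^ j)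
    (hek : e = p ^ k) (g : GL (Fin n) F) (hg : g ^ r = 1) :
    IsConj g (adjGL σ g)⁻¹ ↔
      ∀ f : Orbit F r, mult (fac F r) g (some (dual hr hrF e he f)) = mult (fac F r) g (some f) := by
  have hz : ∀ x : GL (Fin n) F, x ^ r = 1 → aeval x.val (∏ o, fac F r o) = 0 := fun x hx => by
    rw [prod_fac hr hrF, map_sub, map_pow, aeval_X, map_one, sub_eq_zero, ← Units.val_pow_eq_pow_val, hx,
      Units.val_one]
  have hpow : ∀ m : ℕ, adjGL σ (g ^ m) = adjGL σ g ^ m := fun m => by
    induction m with
    | zero => exact Units.ext (adj_one σ)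
    | succ m ih => rw [pow_succ, adjGL_mul, ih, ← pow_succ']
  have hh : ((adjGL σ g)⁻¹) ^ r = 1 := by
    rw [inv_pow, ← hpow, hg, inv_eq_one]; exact Units.ext (adj_one σ)
  constructor
  · intro h f
    rw [← mult_adj_inv σ hσσ hr hrF hek hσ he hee g f, mult, mult, finrank_comp_conj h]
  · intro h
    refine isConj_of_mult_eq irreducible_fac (coprime_fac hr hrF) (hz _ hg) (hz _ hh) ?_
    have hsome : ∀ f, mult (fac F r) g (some f) = mult (fac F r) (adjGL σ g)⁻¹ (some f) := fun f => by
      rw [mult_adj_inv σ hσσ hr hrF hek hσ he hee g f, h]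
    intro o
    cases o with
    | some f => exact hsome f
    | none =>
      have h1 := sum_mult irreducible_fac (coprime_fac hr hrF) (hz _ hg)
      have h2 := sum_mult irreducible_fac (coprime_fac hr hrF) (hz _ hh)
      rw [Fintype.sum_option, show (fac F r none).natDegree = 1 from natDegree_X_sub_C 1, mul_one] at h1 h2
      simp only [hsome] at h1
      omega

omit hek hσ hσσ in
theorem order_iff (g : GL (Fin n) F) (hg : aeval g.val (∏ o, fac F r o) = 0) :
    orderOf g = r ↔ ∃ o, mult (fac F r) g (some o) ≠ 0 := by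
  have hgr : g ^ r = 1 := by
    rwa [prod_fac hr hrF, map_sub, map_pow, aeval_X, map_one, sub_eq_zero, ← Units.val_pow_eq_pow_val,
      Units.val_eq_one] at hg
  have hs := sum_mult irreducible_fac (coprime_fac hr hrF) hg
  have hd : (fac F r none).natDegree = 1 := natDegree_X_sub_C 1
  rw [Fintype.sum_option, hd, mul_one] at hs
  have ha : aeval (Matrix.toLin' g.val) (fac F r none) = Matrix.toLin' (g.val - 1) := by
    show aeval _ (X - C 1) = _
    rw [map_sub, aeval_X, aeval_C, map_one, map_sub, Matrix.toLin'_one]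
    rfl
  have h1 := mult_mul irreducible_fac g (none : Option (Orbit F r))
  rw [hd, mul_one, SemisimpleClasses.comp, ha] at h1
  constructor
  · intro h
    by_contra hc
    push Not at hc
    rw [Finset.sum_eq_zero (fun o _ => by rw [hc o, zero_mul]), add_zero] at hs
    have h' : LinearMap.ker (Matrix.toLin' (g.val - 1)) = ⊤ :=
      Submodule.eq_top_of_finrank_eq (by rw [← h1, hs, Module.finrank_fin_fun])
    have hg1 : g = 1 := Units.ext (sub_eq_zero.1 (Matrix.toLin'.injective (by
      rw [Units.val_one, LinearMap.ker_eq_top.1 h', map_zero])))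
    rw [hg1, orderOf_one] at h
    exact hr.one_lt.ne h
  · rintro ⟨o, ho⟩
    haveI := Fact.mk hr
    refine orderOf_eq_prime hgr fun h => ho ?_
    rw [h, Units.val_one, sub_self, map_zero, LinearMap.ker_zero, finrank_top, Module.finrank_fin_fun] at h1
    rw [← h] at h1
    rw [h1] at hs
    have h3 : ∑ o, mult (fac F r) g (some o) * (fac F r (some o)).natDegree = 0 := by omega
    rcases Nat.mul_eq_zero.1 (Finset.sum_eq_zero_iff.1 h3 o (Finset.mem_univ _)) with h5 | h5
    · exact h5
    · exact absurd h5 (irreducible_fac (some o)).natDegree_pos.ne'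

end CfsgLib.KnownC.DualFactors
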