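import Cfsg.Agent.Lib.KnownC.FormConj
import Mathlib

set_option autoImplicit false
set_option linter.unusedSectionVars false

/-! Symmetric and alternating forms preserved by semisimple endomorphisms similar to their inverse transpose. -/

namespace CfsgLib.KnownC.InvariantForms

open Module CfsgLib.KnownC.FormConj

/-- Hilbert's theorem ninety in the algebra generated by two commuting units. -/
theorem exists_fix {F E : Type*} [Field F] [Ring E] [Algebra F E] [Finite E] (τ : E →ₗ[F] E)
    (hmul : ∀ x y, τ (x * y) = τ y * τ x) (hone : τ 1 = 1) (a x : Eˣ) (hcomm : Commute a x)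
    (ha : τ (a : E) = ((a⁻¹ : Eˣ) : E)) (hx : τ (x : E) = ((x⁻¹ : Eˣ) : E))
    (hθ : IsUnit ((a : E) - ((a⁻¹ : Eˣ) : E))) :
    ∃ v : Eˣ, τ (v : E) * x = v ∧ Commute a v := by
  classical
  set R := Algebra.adjoin F ({(a : E), (x : E)} : Set E)
  have hgen : ∀ u ∈ ({(a : E), (x : E)} : Set E), ∀ y ∈ ({(a : E), (x : E)} : Set E), u * y = y * u := by
    rintro u (rfl | rfl) y (rfl | rfl)
    · rfl
    · exact congrArg Units.val hcomm.eq
    · exact congrArg Units.val hcomm.eq.symm
    · rfl
  have hc : ∀ u y : R, u * y = y * u := fun u y =>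
    Subtype.ext (Algebra.commute_of_mem_adjoin_of_forall_mem_commute y.2 fun b hb =>
      (Algebra.commute_of_mem_adjoin_of_forall_mem_commute u.2 fun c hc => hgen b hb c hc).symm)
  letI : CommRing R := { (inferInstance : Ring R) with mul_comm := hc }
  haveI : Finite R := inferInstance
  have hunit : ∀ u : R, IsUnit (u : E) → IsUnit u := by
    intro u hu
    have hinj : Function.Injective (fun y : R => u * y) := fun y z h => Subtype.ext (hu.mul_left_cancel (congrArg Subtype.val h))
    obtain ⟨y, hy⟩ := (Finite.injective_iff_surjective.1 hinj) 1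
    exact IsUnit.of_mul_eq_one y hy
  have hinvR : ∀ u : Eˣ, (u : E) ∈ R → ((u⁻¹ : Eˣ) : E) ∈ R := by
    intro u hu
    obtain ⟨y, hy⟩ := (hunit ⟨_, hu⟩ u.isUnit).exists_right_inv
    have h : (u : E) * (y : E) = 1 := congrArg Subtype.val hy
    rw [show ((u⁻¹ : Eˣ) : E) = y from Units.inv_eq_of_mul_eq_one_right h]
    exact y.2
  have haR : (a : E) ∈ R := Algebra.subset_adjoin (Or.inl rfl)
  have hxR : (x : E) ∈ R := Algebra.subset_adjoin (Or.inr rfl)
  have hinv : ∀ u : Eˣ, τ (u : E) = ((u⁻¹ : Eˣ) : E) → τ ((u⁻¹ : Eˣ) : E) = u := by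
    intro u hu
    have e : τ ((u⁻¹ : Eˣ) : E) * τ (u : E) = 1 := by rw [← hmul, Units.mul_inv, hone]
    rw [hu] at e
    calc τ ((u⁻¹ : Eˣ) : E) = τ ((u⁻¹ : Eˣ) : E) * ((u⁻¹ : Eˣ) : E) * u := by
          rw [mul_assoc, Units.inv_mul, mul_one]
      _ = u := by rw [e, one_mul]
  have halg : ∀ c : F, τ (algebraMap F E c) = algebraMap F E c := fun c => by
    rw [Algebra.algebraMap_eq_smul_one, map_smul, hone]
  have hmem : ∀ u ∈ R, τ u ∈ R ∧ τ (τ u) = u := by
    intro u hu
    induction hu using Algebra.adjoin_induction with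
    | mem y hy =>
      rcases hy with rfl | rfl
      · exact ⟨ha ▸ hinvR a haR, by rw [ha, hinv a ha]⟩
      · exact ⟨hx ▸ hinvR x hxR, by rw [hx, hinv x hx]⟩
    | algebraMap c => exact ⟨by rw [halg]; exact R.algebraMap_mem c, by rw [halg, halg]⟩
    | add y z _ _ hy hz => exact ⟨by rw [map_add]; exact R.add_mem hy.1 hz.1, by rw [map_add, map_add, hy.2, hz.2]⟩
    | mul y z _ _ hy hz => exact ⟨by rw [hmul]; exact R.mul_mem hz.1 hy.1, by rw [hmul, hmul, hy.2, hz.2]⟩
  let σ : R →+* R :=
    { toFun := fun u => ⟨τ u, (hmem u u.2).1⟩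
      map_one' := Subtype.ext hone
      map_mul' := fun u y => by
        rw [mul_comm u y]
        exact Subtype.ext (hmul _ _)
      map_zero' := Subtype.ext (map_zero τ)
      map_add' := fun u y => Subtype.ext (map_add τ _ _) }
  obtain ⟨v, hv, hvs⟩ := NormSurj.exists_unit_eq σ (fun u => Subtype.ext (hmem u u.2).2)
    (θ := ⟨(a : E), haR⟩) (hunit _ (by
      show IsUnit ((a : E) - τ (a : E))
      rwa [ha])) (u := ⟨(x : E), hxR⟩) (Subtype.ext (by
        show (x : E) * τ (x : E) = 1
        rw [hx, Units.mul_inv]))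
  refine ⟨Units.map R.val.toRingHom.toMonoidHom hv.unit, ?_, Units.ext ?_⟩
  · have h := congrArg Subtype.val (hvs.trans (hc _ _))
    exact h.symm
  · exact congrArg Subtype.val (hc ⟨(a : E), haR⟩ v)

variable {F V : Type*} [Field F] [Finite F] [AddCommGroup V] [Module F V] [FiniteDimensional F V]
  {B : V →ₗ[F] V →ₗ[F] F}

/-- An invariant non-degenerate form gives a symmetric and an alternating one. -/
theorem exists_symm_alt (hN : B.Nondegenerate) (a : V ≃ₗ[F] V) (ha : ∀ x y, B (a x) (a y) = B x y)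
    (hfix : ∀ x, a (a x) = x → x = 0) :
    ∃ S T : V →ₗ[F] V →ₗ[F] F, S.Nondegenerate ∧ (∀ x y, S x y = S y x) ∧ (∀ x y, S (a x) (a y) = S x y) ∧
      T.Nondegenerate ∧ T.IsAlt ∧ ∀ x y, T (a x) (a y) = T x y := by
  classical
  haveI : Finite V := Module.finite_of_finite F
  haveI : Finite (V →ₗ[F] V) := Finite.of_injective _ DFunLike.coe_injective
  have hinj : Function.Injective B := by
    rw [← LinearMap.ker_eq_bot, LinearMap.ker_eq_bot']
    exact fun x hx => hN.1 x fun y => LinearMap.congr_fun hx y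
  let eB : V ≃ₗ[F] Module.Dual F V := LinearEquiv.ofBijective B
    ⟨hinj, (LinearMap.injective_iff_surjective_of_finrank_eq_finrank
      (Subspace.dual_finrank_eq (K := F) (V := V)).symm).1 hinj⟩
  have hext : ∀ x x' : V, (∀ y, B x y = B x' y) → x = x' := fun x x' h => hinj (LinearMap.ext h)
  let τ : Module.End F V →ₗ[F] Module.End F V :=
    { toFun := fun T => eB.symm.toLinearMap.comp (T.dualMap.comp eB.toLinearMap)
      map_add' := fun S T => by ext x; simp [LinearMap.dualMap]
      map_smul' := fun c T => by ext x; simp [LinearMap.dualMap] }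
  have hτ : ∀ (T : Module.End F V) x y, B (τ T x) y = B x (T y) := fun T x y => by
    have : eB (τ T x) = T.dualMap (eB x) := eB.apply_symm_apply _
    exact LinearMap.congr_fun this y
  let X : Module.End F V := eB.symm.toLinearMap.comp B.flip
  have hX : ∀ x y, B (X x) y = B y x := fun x y => LinearMap.congr_fun (eB.apply_symm_apply (B.flip x)) y
  have hXinj : Function.Injective X := by
    rw [← LinearMap.ker_eq_bot, LinearMap.ker_eq_bot']
    exact fun x hx => hN.2 x fun y => by rw [← hX, hx, map_zero, LinearMap.zero_apply]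
  have hXu : IsUnit X := (Module.End.isUnit_iff _).2 ⟨hXinj, LinearMap.injective_iff_surjective.1 hXinj⟩
  let au : (Module.End F V)ˣ :=
    { val := a.toLinearMap, inv := a.symm.toLinearMap
      val_inv := LinearMap.ext fun x => a.apply_symm_apply x
      inv_val := LinearMap.ext fun x => a.symm_apply_apply x }
  have haτ : τ (au : Module.End F V) = ((au⁻¹ : (Module.End F V)ˣ) : Module.End F V) := LinearMap.ext fun x =>
    hext _ _ fun y => by
      rw [hτ]
      show B x (a y) = B (a.symm x) y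
      rw [← ha (a.symm x) y, LinearEquiv.apply_symm_apply]
  have hXτ : τ (hXu.unit : Module.End F V) = ((hXu.unit⁻¹ : (Module.End F V)ˣ) : Module.End F V) :=
    LinearMap.ext fun x => hext _ _ fun y => by
      rw [hτ]
      have e : X (((hXu.unit⁻¹ : (Module.End F V)ˣ) : Module.End F V) x) = x := by
        rw [← Module.End.mul_apply, hXu.mul_val_inv, Module.End.one_apply]
      conv_lhs => arg 1; rw [← e]
      show B (X _) (X y) = _
      rw [hX, hX]
  have hcomm : Commute au hXu.unit := Units.ext (LinearMap.ext fun x => hext _ _ fun y => by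
    show B (a (X x)) y = B (X (a x)) y
    rw [hX (a x) y, ← a.apply_symm_apply y, ha, hX x, ha])
  have hθ : IsUnit ((au : Module.End F V) - ((au⁻¹ : (Module.End F V)ˣ) : Module.End F V)) := by
    have hi : Function.Injective ((au : Module.End F V) - ((au⁻¹ : (Module.End F V)ˣ) : Module.End F V)) := by
      rw [← LinearMap.ker_eq_bot, LinearMap.ker_eq_bot']
      intro x hx
      refine hfix x ?_
      have h : a x = a.symm x := sub_eq_zero.1 hx
      rw [h, LinearEquiv.apply_symm_apply]
    exact (Module.End.isUnit_iff _).2 ⟨hi, LinearMap.injective_iff_surjective.1 hi⟩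
  obtain ⟨v, hv, hav⟩ := exists_fix τ (fun S T => LinearMap.ext fun x => hext _ _ fun y => by
      rw [hτ, Module.End.mul_apply, Module.End.mul_apply, hτ, hτ])
    (LinearMap.ext fun x => hext _ _ fun y => by rw [hτ]; rfl) au hXu.unit hcomm haτ hXτ hθ
  let S : V →ₗ[F] V →ₗ[F] F := B.comp (v : Module.End F V)
  have hS : ∀ x y, S x y = B ((v : Module.End F V) x) y := fun x y => rfl
  have hvinj : Function.Injective (v : Module.End F V) := ((Module.End.isUnit_iff _).1 v.isUnit).1
  have hSs : ∀ x y, S x y = S y x := fun x y => by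
    rw [hS, hS]
    conv_lhs => rw [show (v : Module.End F V) = τ (v : Module.End F V) * (hXu.unit : Module.End F V) from hv.symm]
    rw [Module.End.mul_apply, hτ]
    exact hX _ _
  have hSa : ∀ x y, S (a x) (a y) = S x y := fun x y => by
    rw [hS, hS, show (v : Module.End F V) (a x) = a ((v : Module.End F V) x) from
      (LinearMap.congr_fun (congrArg Units.val hav.eq) x).symm, ha]
  have hSN : S.Nondegenerate := by
    have h : ∀ x, (∀ y, S x y = 0) → x = 0 := fun x hx => hvinj (by rw [map_zero]; exact hN.1 _ hx)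
    exact ⟨h, fun x hx => h x fun y => by rw [hSs]; exact hx y⟩
  let θ : Module.End F V := a.toLinearMap - a.symm.toLinearMap
  let T : V →ₗ[F] V →ₗ[F] F := S.comp θ
  have hT : ∀ x y, T x y = S (a x) y - S (a.symm x) y := fun x y => by
    show S (a x - a.symm x) y = _
    rw [map_sub, LinearMap.sub_apply]
  have hsym : ∀ x y, S (a.symm x) y = S x (a y) := fun x y => by rw [← hSa (a.symm x) y, LinearEquiv.apply_symm_apply]
  refine ⟨S, T, hSN, hSs, hSa, ?_, fun x => by rw [hT, hsym, hSs x, sub_self], fun x y => ?_⟩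
  · have hneg : ∀ x y, T x y = -T y x := fun x y => by
      rw [hT, hT, hsym, hsym, hSs x (a y), hSs y (a x)]
      ring
    have h : ∀ x, (∀ y, T x y = 0) → x = 0 := fun x hx => hfix x (by
      have h1 : θ x = 0 := hSN.1 _ hx
      have h2 : a x = a.symm x := sub_eq_zero.1 h1
      rw [h2, LinearEquiv.apply_symm_apply])
    exact ⟨h, fun x hx => h x fun y => by rw [hneg, hx y, neg_zero]⟩
  · rw [hT, hT, hSa, LinearEquiv.symm_apply_apply, hsym]

/-- A bilinear form glued from forms on the two parts of a complementary pair. -/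
noncomputable def glue {K W : Submodule F V} (h : IsCompl K W) (B₁ : K →ₗ[F] K →ₗ[F] F)
    (B₂ : W →ₗ[F] W →ₗ[F] F) : V →ₗ[F] V →ₗ[F] F :=
  B₁.compl₁₂ (Submodule.projectionOnto K W h) (Submodule.projectionOnto K W h) +
    B₂.compl₁₂ (Submodule.projectionOnto W K h.symm) (Submodule.projectionOnto W K h.symm)

theorem glue_apply {K W : Submodule F V} (h : IsCompl K W) (B₁ : K →ₗ[F] K →ₗ[F] F)
    (B₂ : W →ₗ[F] W →ₗ[F] F) (k k' : K) (w w' : W) :
    glue h B₁ B₂ ((k : V) + w) ((k' : V) + w') = B₁ k k' + B₂ w w' := by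
  simp [glue, Submodule.projectionOnto_apply_left, Submodule.projectionOnto_apply_right]

/-- An invariant form on the part without fixed vectors, both symmetric and alternating. -/
theorem exists_on_range (hN : B.Nondegenerate) (A : Module.End F V) (hiso : ∀ x y, B (A x) (A y) = B x y) {r : ℕ}
    (hodd : Odd r) (hA : A ^ r = 1) (hr : (r : F) ≠ 0) :
    ∃ (a : LinearMap.range (A - 1) ≃ₗ[F] LinearMap.range (A - 1))
      (S T : LinearMap.range (A - 1) →ₗ[F] LinearMap.range (A - 1) →ₗ[F] F),
      (∀ x : LinearMap.range (A - 1), (a x : V) = A x) ∧ S.Nondegenerate ∧ (∀ x y, S x y = S y x) ∧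
      (∀ x y, S (a x) (a y) = S x y) ∧ T.Nondegenerate ∧ T.IsAlt ∧ ∀ x y, T (a x) (a y) = T x y := by
  set W := LinearMap.range (A - 1)
  have hinv : ∀ x ∈ W, A x ∈ W := by
    rintro _ ⟨y, rfl⟩
    exact ⟨A y, by simp [map_sub]⟩
  have hAinj : Function.Injective A := by
    refine Function.LeftInverse.injective (g := (A ^ (r - 1) : Module.End F V)) fun x => ?_
    rw [← Module.End.mul_apply, ← pow_succ, Nat.sub_add_cancel hodd.pos, hA, Module.End.one_apply]
  let a : W ≃ₗ[F] W := LinearEquiv.ofBijective (A.restrict hinv) (by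
    have hi : Function.Injective (A.restrict hinv) := fun x y h => Subtype.ext (hAinj (congrArg Subtype.val h))
    exact ⟨hi, LinearMap.injective_iff_surjective.1 hi⟩)
  have hright : ∀ x ∈ W, (∀ z ∈ W, B z x = 0) → x = 0 := fun x hx h => by
    refine hN.2 x fun y => ?_
    have hy : y ∈ LinearMap.ker (A - 1) ⊔ W := by
      rw [(isCompl_ker_range hA hr).sup_eq_top]; trivial
    obtain ⟨w, hw, z, hz, rfl⟩ := Submodule.mem_sup.1 hy
    obtain ⟨x', rfl⟩ := hx
    rw [map_add, LinearMap.add_apply, h z hz, (perp_ker_range hiso hw x').1, add_zero]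
  have hB₁ : (B.compl₁₂ W.subtype W.subtype).Nondegenerate :=
    ⟨fun x hx => Subtype.ext (nondeg_range hN hiso hA hr x.2 fun z hz => hx ⟨z, hz⟩),
      fun x hx => Subtype.ext (hright x x.2 fun z hz => hx ⟨z, hz⟩)⟩
  obtain ⟨S, T, h⟩ := exists_symm_alt hB₁ a (fun x y => hiso x y) (fun x hx => by
    have h2 : (A ^ 2) (x : V) = x := congrArg Subtype.val hx
    have hev : ∀ j : ℕ, (A ^ (2 * j)) (x : V) = x := fun j => by
      induction j with
      | zero => rfl
      | succ j ih => rw [mul_add, pow_add, Module.End.mul_apply]; exact (congrArg _ h2).trans ih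
    obtain ⟨j, hj⟩ := hodd
    have h1 : (A - 1) (x : V) = 0 := by
      have h3 := LinearMap.congr_fun hA (x : V)
      rw [hj, pow_succ', Module.End.mul_apply, hev] at h3
      rw [LinearMap.sub_apply, h3, sub_self]
    exact Subtype.ext (Submodule.disjoint_def.1 (isCompl_ker_range hA hr).disjoint _ h1 x.2))
  exact ⟨a, S, T, fun x => rfl, h⟩

theorem glue_invariant {A : Module.End F V} {r : ℕ} (hA : A ^ r = 1) (hr : (r : F) ≠ 0)
    (a : LinearMap.range (A - 1) ≃ₗ[F] LinearMap.range (A - 1)) (ha : ∀ x, ((a x : LinearMap.range (A - 1)) : V) = A x)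
    (B₁ : LinearMap.ker (A - 1) →ₗ[F] LinearMap.ker (A - 1) →ₗ[F] F)
    (B₂ : LinearMap.range (A - 1) →ₗ[F] LinearMap.range (A - 1) →ₗ[F] F)
    (h₂ : ∀ x y, B₂ (a x) (a y) = B₂ x y) (x y : V) :
    glue (isCompl_ker_range hA hr) B₁ B₂ (A x) (A y) = glue (isCompl_ker_range hA hr) B₁ B₂ x y := by
  have hc := isCompl_ker_range hA hr
  have hsp : ∀ z : V, ∃ (k : LinearMap.ker (A - 1)) (w : LinearMap.range (A - 1)), z = (k : V) + (w : V) := fun z => by
    have hz : z ∈ LinearMap.ker (A - 1) ⊔ LinearMap.range (A - 1) := by rw [hc.sup_eq_top]; trivial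
    obtain ⟨k, hk, w, hw, e⟩ := Submodule.mem_sup.1 hz
    exact ⟨⟨k, hk⟩, ⟨w, hw⟩, e.symm⟩
  obtain ⟨k, w, rfl⟩ := hsp x
  obtain ⟨k', w', rfl⟩ := hsp y
  have e : ∀ (k : LinearMap.ker (A - 1)) (w : LinearMap.range (A - 1)),
      A ((k : V) + (w : V)) = (k : V) + ((a w : LinearMap.range (A - 1)) : V) :=
    fun k w => by rw [map_add, ha, show A (k : V) = k from sub_eq_zero.1 (LinearMap.mem_ker.1 k.2)]
  rw [e, e, glue_apply, glue_apply, h₂]

theorem glue_nondeg {K W : Submodule F V} (h : IsCompl K W) {B₁ : K →ₗ[F] K →ₗ[F] F}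
    {B₂ : W →ₗ[F] W →ₗ[F] F} (h₁ : B₁.Nondegenerate) (h₂ : B₂.Nondegenerate) : (glue h B₁ B₂).Nondegenerate := by
  have hsp : ∀ z : V, ∃ (k : K) (w : W), z = (k : V) + w := fun z => by
    have hz : z ∈ K ⊔ W := by rw [h.sup_eq_top]; trivial
    obtain ⟨k, hk, w, hw, e⟩ := Submodule.mem_sup.1 hz
    exact ⟨⟨k, hk⟩, ⟨w, hw⟩, e.symm⟩
  constructor
  · intro x hx
    obtain ⟨k, w, rfl⟩ := hsp x
    have hk : k = 0 := h₁.1 k fun k' => by
      have := hx ((k' : V) + ((0 : W) : V))
      rwa [glue_apply, map_zero, add_zero] at this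
    have hw : w = 0 := h₂.1 w fun w' => by
      have := hx (((0 : K) : V) + w')
      rwa [glue_apply, map_zero, zero_add] at this
    simp [hk, hw]
  · intro x hx
    obtain ⟨k, w, rfl⟩ := hsp x
    have hk : k = 0 := h₁.2 k fun k' => by
      have := hx ((k' : V) + ((0 : W) : V))
      rwa [glue_apply, map_zero, LinearMap.zero_apply, add_zero] at this
    have hw : w = 0 := h₂.2 w fun w' => by
      have := hx (((0 : K) : V) + w')
      rwa [glue_apply, map_zero, LinearMap.zero_apply, zero_add] at this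
    simp [hk, hw]

end CfsgLib.KnownC.InvariantForms
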