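import Mathlib

set_option autoImplicit false

/-! Lang's theorem for `GL_n`: every `q`-semilinear bijection has a basis of fixed vectors. -/

namespace CfsgLib.KnownC.Lang

open Polynomial

variable {K : Type*} [Field K]

/-- The polynomials expressing the coefficients of a fixed vector in terms of the last one. -/
noncomputable def chain (q : ℕ) (a : ℕ → K) : ℕ → K[X]
  | 0 => C (a 0) * X ^ q
  | i + 1 => chain q a i ^ q + C (a (i + 1)) * X ^ q

theorem natDegree_chain {q : ℕ} (hq : 1 < q) {a : ℕ → K} (ha : a 0 ≠ 0) :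
    ∀ i, (chain q a i).natDegree = q ^ (i + 1)
  | 0 => by simp [chain, natDegree_C_mul_X_pow _ _ ha]
  | i + 1 => by
    have ih := natDegree_chain hq ha i
    have h1 : (chain q a i ^ q).natDegree = q ^ (i + 1 + 1) := by
      rw [natDegree_pow, ih, pow_succ' q (i + 1)]
    rw [chain, natDegree_add_eq_left_of_natDegree_lt, h1]
    rw [h1]
    refine lt_of_le_of_lt (natDegree_C_mul_X_pow_le _ _) ?_
    calc q = q ^ 1 := (pow_one q).symm
      _ < q ^ (i + 1 + 1) := Nat.pow_lt_pow_right hq (by omega)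

theorem X_sq_dvd_chain {q : ℕ} (hq : 1 < q) (a : ℕ → K) : ∀ i, (X : K[X]) ^ 2 ∣ chain q a i
  | 0 => Dvd.dvd.mul_left (pow_dvd_pow X hq) _
  | i + 1 => dvd_add (dvd_pow (X_sq_dvd_chain hq a i) (by omega))
      (Dvd.dvd.mul_left (pow_dvd_pow X hq) _)

theorem exists_coeffs [IsAlgClosed K] {q : ℕ} (hq : 1 < q) {a : ℕ → K} (ha : a 0 ≠ 0) (k : ℕ) :
    ∃ c : ℕ → K, c k ≠ 0 ∧ c 0 = c k ^ q * a 0 ∧ ∀ i, c (i + 1) = c i ^ q + c k ^ q * a (i + 1) := by
  obtain ⟨r, hr⟩ := X_sq_dvd_chain hq a k
  have hr0 : X * r - 1 ≠ (0 : K[X]) ∧ 0 < (X * r - 1).natDegree := by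
    have hdeg : 1 < (chain q a k).natDegree := by
      rw [natDegree_chain hq ha]; exact Nat.one_lt_pow (by omega) hq
    have hr' : r ≠ 0 := fun h => by rw [hr, h, mul_zero, natDegree_zero] at hdeg; omega
    have h : (X * r - 1).natDegree = r.natDegree + 1 := by
      rw [← C_1, natDegree_sub_C, natDegree_mul X_ne_zero hr', natDegree_X, add_comm]
    exact ⟨fun h0 => by rw [h0, natDegree_zero] at h; omega, by omega⟩
  obtain ⟨c, hc⟩ := IsAlgClosed.exists_root (X * r - 1) (natDegree_pos_iff_degree_pos.1 hr0.2).ne'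
  rw [IsRoot, eval_sub, eval_mul, eval_X, eval_one, sub_eq_zero] at hc
  have hc0 : c ≠ 0 := fun h => by rw [h, zero_mul] at hc; exact zero_ne_one hc
  have hk : (chain q a k).eval c = c := by
    rw [hr, eval_mul, eval_pow, eval_X, sq, mul_assoc, hc, mul_one]
  refine ⟨fun i => (chain q a i).eval c, by simp only [hk]; exact hc0, ?_, fun i => ?_⟩
  · simp only [hk]
    simp only [chain, eval_add, eval_mul, eval_C, eval_pow, eval_X]
    ring
  · simp only [hk]
    simp only [chain, eval_add, eval_mul, eval_C, eval_pow, eval_X]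
    ring

variable {V : Type*} [AddCommGroup V] [Module K V] [FiniteDimensional K V]

theorem span_fixed_eq_top [IsAlgClosed K] {q : ℕ} (hq : 1 < q) (p : ℕ) [CharP K p] (hpq : p ∣ q)
    (φ : V →+ V) (hφ : ∀ (a : K) v, φ (a • v) = a ^ q • φ v) (hinj : Function.Injective φ) :
    Submodule.span K {v | φ v = v} = ⊤ := by
  classical
  set W := Submodule.span K {v | φ v = v} with hW
  have hpre : ∀ w ∈ W, φ w ∈ W ∧ (∃ w' ∈ W, φ w' = w) := by
    intro w hw
    induction hw using Submodule.span_induction with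
    | mem x hx =>
      have hxW : x ∈ W := Submodule.subset_span hx
      exact ⟨by rw [show φ x = x from hx]; exact hxW, x, hxW, hx⟩
    | zero => exact ⟨by rw [map_zero]; exact W.zero_mem, 0, W.zero_mem, map_zero φ⟩
    | add x y _ _ hx hy =>
      obtain ⟨hx1, x', hx', rfl⟩ := hx; obtain ⟨hy1, y', hy', rfl⟩ := hy
      exact ⟨by rw [map_add]; exact W.add_mem hx1 hy1, x' + y', W.add_mem hx' hy', map_add φ _ _⟩
    | smul a x _ hx =>
      obtain ⟨hx1, x', hx', rfl⟩ := hx
      obtain ⟨b, hb⟩ := IsAlgClosed.exists_pow_nat_eq a (by omega : 0 < q)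
      exact ⟨by rw [hφ]; exact W.smul_mem _ hx1, b • x', W.smul_mem _ hx', by rw [hφ, hb]⟩
  have hback : ∀ v, φ v ∈ W → v ∈ W := by
    intro v hv
    obtain ⟨w', hw', he⟩ := (hpre _ hv).2
    exact hinj he ▸ hw'
  by_contra hne
  obtain ⟨v₀, hv₀⟩ : ∃ v, v ∉ W := by
    by_contra h
    push Not at h
    exact hne (eq_top_iff.2 fun v _ => h v)
  let P : ℕ → Prop := fun m => ∃ (v : V) (a : ℕ → K), v ∉ W ∧
    φ^[m] v - ∑ i ∈ Finset.range m, a i • φ^[i] v ∈ W
  have hP : ∃ m, P m := by
    by_contra h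
    push Not at h
    have key : ∀ m, m ≤ Module.finrank K (Submodule.span K (Set.range fun i : Fin m => φ^[(i : ℕ)] v₀)) := by
      intro m
      induction m with
      | zero => exact Nat.zero_le _
      | succ m ih =>
        have hlt : Submodule.span K (Set.range fun i : Fin m => φ^[(i : ℕ)] v₀) <
            Submodule.span K (Set.range fun i : Fin (m + 1) => φ^[(i : ℕ)] v₀) := by
          refine lt_of_le_of_ne (Submodule.span_mono ?_) fun e => ?_
          · rintro _ ⟨i, rfl⟩; exact ⟨i.castSucc, rfl⟩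
          · have hmem : φ^[m] v₀ ∈ Submodule.span K (Set.range fun i : Fin m => φ^[(i : ℕ)] v₀) := by
              rw [e]; exact Submodule.subset_span ⟨Fin.last m, rfl⟩
            obtain ⟨c, hc⟩ := (Submodule.mem_span_range_iff_exists_fun K).1 hmem
            refine h m ⟨v₀, fun i => if hi : i < m then c ⟨i, hi⟩ else 0, hv₀, ?_⟩
            rw [← hc, Finset.sum_range, sub_eq_zero.2]
            · exact W.zero_mem
            · exact Finset.sum_congr rfl fun i _ => by simp
        have := Submodule.finrank_lt_finrank_of_lt hlt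
        omega
    have h1 := key (Module.finrank K V + 1)
    have h2 := Submodule.finrank_le (R := K)
      (Submodule.span K (Set.range fun i : Fin (Module.finrank K V + 1) => φ^[(i : ℕ)] v₀))
    omega
  obtain ⟨m, ⟨v, a, hv, hrel⟩, hmin⟩ : ∃ m, P m ∧ ∀ j, j < m → ¬ P j :=
    ⟨Nat.find hP, Nat.find_spec hP, fun j hj => Nat.find_min hP hj⟩
  obtain ⟨k, rfl⟩ : ∃ k, m = k + 1 := by
    refine ⟨m - 1, ?_⟩
    rcases m with _ | m
    · simp at hrel; exact absurd hrel hv
    · rfl
  have ha : a 0 ≠ 0 := by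
    intro h0
    refine hmin k (by omega) ⟨φ v, fun i => a (i + 1), fun h => hv (hback v h), ?_⟩
    rw [Finset.sum_range_succ', h0, zero_smul, add_zero] at hrel
    simp only [Function.iterate_succ_apply] at hrel
    exact hrel
  obtain ⟨c, hck, hc0, hcs⟩ := exists_coeffs hq ha k
  set w := ∑ i ∈ Finset.range (k + 1), c i • φ^[i] v with hw
  have hd : φ w - w ∈ W := by
    have h : φ w - w = c k ^ q • (φ^[k + 1] v - ∑ i ∈ Finset.range (k + 1), a i • φ^[i] v) := by
      rw [smul_sub, Finset.smul_sum]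
      conv_lhs => rw [hw]; arg 2; rw [Finset.sum_range_succ']
      conv_rhs => arg 2; rw [Finset.sum_range_succ']
      rw [map_sum]
      simp only [hφ, ← Function.iterate_succ_apply' φ, smul_smul]
      rw [Finset.sum_range_succ (fun i => c i ^ q • φ^[i + 1] v), hc0]
      simp only [hcs, add_smul, Finset.sum_add_distrib, Function.iterate_zero, id_eq]
      abel
    rw [h]; exact W.smul_mem _ hrel
  have hwW : w ∉ W := by
    intro hwW
    refine hmin k (by omega) ⟨v, fun i => -(c i / c k), hv, ?_⟩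
    have : φ^[k] v - ∑ i ∈ Finset.range k, -(c i / c k) • φ^[i] v = (c k)⁻¹ • w := by
      rw [hw, Finset.sum_range_succ, smul_add, Finset.smul_sum, smul_smul, inv_mul_cancel₀ hck, one_smul]
      simp only [neg_smul, Finset.sum_neg_distrib, sub_neg_eq_add, smul_smul, div_eq_inv_mul]
      abel
    rw [this]; exact W.smul_mem _ hwW
  have hfix : ∀ d ∈ W, ∃ e ∈ W, φ e - e = d := by
    intro d hd
    induction hd using Submodule.span_induction with
    | mem x hx =>
      obtain ⟨c, hc⟩ := IsAlgClosed.exists_root (X ^ q - X - C (1 : K))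
        (natDegree_pos_iff_degree_pos.1 (by rw [natDegree_sub_C, FiniteField.X_pow_card_sub_X_natDegree_eq K hq]; omega)).ne'
      simp only [IsRoot, eval_sub, eval_pow, eval_X, eval_C, sub_eq_zero] at hc
      exact ⟨c • x, W.smul_mem _ (Submodule.subset_span hx), by rw [hφ, show φ x = x from hx, ← sub_smul, hc, one_smul]⟩
    | zero => exact ⟨0, W.zero_mem, by rw [map_zero, sub_zero]⟩
    | add x y _ _ hx hy =>
      obtain ⟨e, he, rfl⟩ := hx; obtain ⟨e', he', rfl⟩ := hy
      exact ⟨e + e', W.add_mem he he', by rw [map_add]; abel⟩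
    | smul b x hxW ih =>
      clear ih
      induction hxW using Submodule.span_induction generalizing b with
      | mem x hx =>
        obtain ⟨c, hc⟩ := IsAlgClosed.exists_root (X ^ q - X - C b)
          (natDegree_pos_iff_degree_pos.1 (by rw [natDegree_sub_C, FiniteField.X_pow_card_sub_X_natDegree_eq K hq]; omega)).ne'
        simp only [IsRoot, eval_sub, eval_pow, eval_X, eval_C, sub_eq_zero] at hc
        exact ⟨c • x, W.smul_mem _ (Submodule.subset_span hx), by rw [hφ, show φ x = x from hx, ← sub_smul, hc]⟩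
      | zero => exact ⟨0, W.zero_mem, by rw [map_zero, sub_zero, smul_zero]⟩
      | add x y _ _ hx hy =>
        obtain ⟨e, he, hee⟩ := hx b; obtain ⟨e', he', hee'⟩ := hy b
        exact ⟨e + e', W.add_mem he he', by rw [map_add, smul_add, ← hee, ← hee']; abel⟩
      | smul b' x _ hx =>
        obtain ⟨e, he, hee⟩ := hx (b * b')
        exact ⟨e, he, by rw [hee, smul_smul]⟩
  obtain ⟨e, he, hee⟩ := hfix _ hd
  have : w - e ∈ W := Submodule.subset_span (show φ (w - e) = w - e by
    rw [map_sub, sub_eq_sub_iff_sub_eq_sub]; exact hee.symm)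
  exact hwW (by simpa using W.add_mem this he)

open Matrix in
theorem exists_eq_mul_map [IsAlgClosed K] {q : ℕ} (hq : 1 < q) (p : ℕ) [CharP K p] (hpq : p ∣ q)
    (hadd : ∀ a b : K, (a + b) ^ q = a ^ q + b ^ q) (n : ℕ) (g : GL (Fin n) K) :
    ∃ x : GL (Fin n) K, (x : Matrix (Fin n) (Fin n) K) =
      (g : Matrix (Fin n) (Fin n) K) * (x : Matrix (Fin n) (Fin n) K).map (· ^ q) := by
  classical
  let φ : (Fin n → K) →+ (Fin n → K) := AddMonoidHom.mk'
    (fun v => (g : Matrix (Fin n) (Fin n) K) *ᵥ (fun i => v i ^ q)) fun u v => by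
      rw [← mulVec_add]; congr 1; funext i; exact hadd _ _
  have hφ : ∀ (a : K) v, φ (a • v) = a ^ q • φ v := fun a v => by
    show (g : Matrix (Fin n) (Fin n) K) *ᵥ (fun i => (a • v) i ^ q) =
      a ^ q • ((g : Matrix (Fin n) (Fin n) K) *ᵥ fun i => v i ^ q)
    rw [← mulVec_smul]; congr 1; funext i; simp [mul_pow]
  have hinj : Function.Injective φ := by
    rw [injective_iff_map_eq_zero]
    intro v hv
    have h := mulVec_injective_of_isUnit g.isUnit (hv.trans (mulVec_zero _).symm)
    funext i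
    exact (pow_eq_zero_iff'.1 (congrFun h i)).1
  have hspan := span_fixed_eq_top hq p hpq φ hφ hinj
  obtain ⟨b, hb, hbspan, hbli⟩ := exists_linearIndependent K {v | φ v = v}
  rw [hspan] at hbspan
  haveI : Fintype b := hbli.setFinite.fintype
  let B : Module.Basis b K (Fin n → K) := Module.Basis.mk hbli (by rw [Subtype.range_coe, hbspan])
  let e : b ≃ Fin n := B.indexEquiv (Pi.basisFun K (Fin n))
  set M := (Pi.basisFun K (Fin n)).toMatrix (B.reindex e) with hM
  have hM0 : M.det ≠ 0 := fun h0 => by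
    have h := congrArg Matrix.det ((Pi.basisFun K (Fin n)).toMatrix_mul_toMatrix_flip (B.reindex e))
    rw [Matrix.det_mul, ← hM, h0, zero_mul, Matrix.det_one] at h
    exact zero_ne_one h
  refine ⟨GeneralLinearGroup.mkOfDetNeZero M hM0, ?_⟩
  show M = _ * M.map _
  ext i j
  have hcol : φ (B (e.symm j)) = B (e.symm j) := by
    rw [show B (e.symm j) = ((e.symm j : b) : Fin n → K) from Module.Basis.mk_apply _ _ _]
    exact hb (e.symm j).2
  simp only [hM, Matrix.mul_apply, Matrix.map_apply, Module.Basis.toMatrix_apply, Pi.basisFun_repr,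
    Module.Basis.reindex_apply]
  exact (congrFun hcol i).symm

end CfsgLib.KnownC.Lang
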