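import Cfsg.Agent.Lib.KnownC.PSL2Classes
import Cfsg.Agent.Lib.Classical.Dickson.PSL
import Cfsg.Agent.Lib.Classical.SL2Fours
import Mathlib.GroupTheory.SemidirectProduct

set_option autoImplicit false
set_option linter.unusedSectionVars false
set_option backward.isDefEq.respectTransparency false

/-! A group with normal three-subgroup and the maximal element orders `6, 9, q - 1, (q + 1) / 2`. -/

namespace CfsgLib.KnownC.MaxOrdersExample

open Matrix CfsgLib.Classical
open scoped MatrixGroups

variable (F : Type) [Field F] [CharP F 3]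

local notation "M2" => Matrix (Fin 2) (Fin 2) F

/-- the twisted transpose -/
def tw (A : SL(2, F)) : M2 := ((A : M2).map (frobenius F 3))ᵀ

theorem tw_mul (A B : SL(2, F)) : tw F (A * B) = tw F B * tw F A := by
  simp [tw, sl2_coe_mul, Matrix.map_mul, transpose_mul]

theorem tw_one : tw F 1 = 1 := by simp [tw]

theorem tw_neg_one : tw F (-1) = -1 := by
  ext i j
  fin_cases i <;> fin_cases j <;> simp [tw, frobenius_def] <;> norm_num

/-- one element -/
def slAct (A : SL(2, F)) : Multiplicative M2 ≃* Multiplicative M2 :=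
  AddEquiv.toMultiplicative
    { toFun := fun X => (A : M2) * X * tw F A
      invFun := fun X => ((A⁻¹ : SL(2, F)) : M2) * X * tw F A⁻¹
      left_inv := fun X => by
        show ((A⁻¹ : SL(2, F)) : M2) * ((A : M2) * X * tw F A) * tw F A⁻¹ = X
        rw [show ((A⁻¹ : SL(2, F)) : M2) * ((A : M2) * X * tw F A) * tw F A⁻¹ =
          ((A⁻¹ * A : SL(2, F)) : M2) * X * (tw F A * tw F A⁻¹) by
          rw [sl2_coe_mul]; simp only [Matrix.mul_assoc], ← tw_mul, inv_mul_cancel, tw_one]
        simp
      right_inv := fun X => by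
        show (A : M2) * (((A⁻¹ : SL(2, F)) : M2) * X * tw F A⁻¹) * tw F A = X
        rw [show (A : M2) * (((A⁻¹ : SL(2, F)) : M2) * X * tw F A⁻¹) * tw F A =
          ((A * A⁻¹ : SL(2, F)) : M2) * X * (tw F A⁻¹ * tw F A) by
          rw [sl2_coe_mul]; simp only [Matrix.mul_assoc], ← tw_mul, mul_inv_cancel, tw_one]
        simp
      map_add' := fun X Y => by rw [Matrix.mul_add, Matrix.add_mul] }

/-- the action of `SL₂` -/
def slHom : SL(2, F) →* MulAut (Multiplicative M2) where
  toFun := slAct F
  map_one' := MulEquiv.ext fun X => by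
    show Multiplicative.ofAdd (((1 : SL(2, F)) : M2) * X.toAdd * tw F 1) = X
    rw [tw_one]; simp
  map_mul' A B := MulEquiv.ext fun X => by
    show Multiplicative.ofAdd (((A * B : SL(2, F)) : M2) * X.toAdd * tw F (A * B)) =
      Multiplicative.ofAdd ((A : M2) * ((B : M2) * X.toAdd * tw F B) * tw F A)
    rw [tw_mul, sl2_coe_mul]
    simp only [Matrix.mul_assoc]

variable [Fintype F]

theorem center_le : Subgroup.center SL(2, F) ≤ (slHom F).ker := by
  intro z hz
  rw [MonoidHom.mem_ker]
  refine MulEquiv.ext fun X => ?_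
  show Multiplicative.ofAdd ((z : M2) * X.toAdd * tw F z) = X
  rcases sl2_center_eq hz with rfl | rfl
  · rw [tw_one]; simp
  · rw [tw_neg_one]; simp

/-- the action of `PSL₂` -/
def pslHom : ProjectiveSpecialLinearGroup (Fin 2) F →* MulAut (Multiplicative M2) :=
  QuotientGroup.lift _ (slHom F) (center_le F)

/-- the signs -/
def sgnHom : ℤˣ →* MulAut (Multiplicative M2) :=
  (MulAutMultiplicative M2).symm.toMonoidHom.comp (DistribMulAction.toAddAut ℤˣ M2)

theorem sgn_comm (u : ℤˣ) (x : ProjectiveSpecialLinearGroup (Fin 2) F) :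
    Commute (sgnHom F u) (pslHom F x) := by
  induction x using QuotientGroup.induction_on with
  | H A =>
    refine MulEquiv.ext fun X => ?_
    show Multiplicative.ofAdd (u • ((A : M2) * X.toAdd * tw F A)) = Multiplicative.ofAdd ((A : M2) * (u • X.toAdd) * tw F A)
    rcases Int.units_eq_one_or u with rfl | rfl <;> simp

/-- the action -/
def act : ℤˣ × ProjectiveSpecialLinearGroup (Fin 2) F →* MulAut (Multiplicative M2) :=
  (sgnHom F).noncommCoprod (pslHom F) (sgn_comm F)

/-- the group -/
abbrev HG := Multiplicative M2 ⋊[act F] (ℤˣ × ProjectiveSpecialLinearGroup (Fin 2) F)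

theorem act_apply (u : ℤˣ) (A : SL(2, F)) (X : M2) :
    act F (u, (A : ProjectiveSpecialLinearGroup (Fin 2) F)) (Multiplicative.ofAdd X) =
      Multiplicative.ofAdd (u • ((A : M2) * X * tw F A)) := rfl

theorem cube_eq_one (L : Multiplicative M2) : L ^ 3 = 1 := by
  apply Multiplicative.toAdd.injective
  rw [toAdd_pow, toAdd_one]
  ext i j
  rw [Matrix.smul_apply, nsmul_eq_mul, show ((3 : ℕ) : F) = 0 from CharP.cast_eq_zero F 3, zero_mul, Matrix.zero_apply]

theorem pow_three_of_right (w : HG F) {m : ℕ} (hm : w.right ^ m = 1) : w ^ (3 * m) = 1 := by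
  have h : w ^ m = SemidirectProduct.inl (w ^ m).left := by
    refine SemidirectProduct.ext (by simp) ?_
    rw [SemidirectProduct.right_inl, show (w ^ m).right = w.right ^ m from map_pow SemidirectProduct.rightHom w m, hm]
  rw [mul_comm, pow_mul, h, ← map_pow, cube_eq_one, map_one]

theorem pow_of_free (w : HG F) {m : ℕ} (hm : w.right ^ m = 1)
    (hfree : ∀ L : Multiplicative M2, act F w.right L = L → L = 1) : w ^ m = 1 := by
  have hr : (w ^ m).right = 1 := (map_pow SemidirectProduct.rightHom w m).trans hm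
  refine SemidirectProduct.ext ?_ hr
  rw [SemidirectProduct.one_left]
  apply hfree
  have h := congrArg SemidirectProduct.left ((Commute.self_pow w m).eq)
  rw [SemidirectProduct.mul_left, SemidirectProduct.mul_left, hr, map_one, MulAut.one_apply] at h
  exact mul_left_cancel (h.trans (mul_comm _ _))

theorem fixed_trace (u : ℤˣ) (A : SL(2, F)) (X : M2) (hX : X ≠ 0)
    (h : u • ((A : M2) * X * tw F A) = X) :
    (A : M2).trace ^ 3 = ((u : ℤ) : F) * (A : M2).trace := by
  set t := (A : M2).trace
  set e : F := ((u : ℤ) : F)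
  set C := tw F A with hC
  have hee : e * e = 1 := by rcases Int.units_eq_one_or u with rfl | rfl <;> simp [e]
  have hu : (A : M2) * X * C = e • X := by
    rcases Int.units_eq_one_or u with rfl | rfl
    · simpa [e] using h
    · simp [e] at h ⊢
      exact neg_eq_iff_eq_neg.1 h
  have hA : (A : M2) * A = t • (A : M2) - 1 := sl2_sq A
  have htC : C.trace = t ^ 3 := by
    simp [hC, tw, t, trace_fin_two, frobenius_def, add_pow_char]
  have hCC : C * C = (t ^ 3) • C - 1 := by
    have hd : C.det = 1 := by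
      rw [hC, tw, det_transpose, ← RingHom.mapMatrix_apply, ← RingHom.map_det, A.2, map_one]
    have := sl2_sq (⟨C, hd⟩ : SL(2, F))
    rw [show (⟨C, hd⟩ : SL(2, F)).1 = C from rfl, htC] at this
    exact this
  have h2 : (A : M2) * A * X * (C * C) = X := by
    rw [show (A : M2) * A * X * (C * C) = (A : M2) * ((A : M2) * X * C) * C by simp only [Matrix.mul_assoc], hu,
      Matrix.mul_smul, Matrix.smul_mul, hu, smul_smul, hee, one_smul]
  rw [hA, Matrix.sub_mul, Matrix.sub_mul, Matrix.one_mul, Matrix.smul_mul, Matrix.smul_mul,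
    ← Matrix.mul_assoc ((A : M2) * X), hu, Matrix.smul_mul, smul_smul, hCC, Matrix.mul_sub, Matrix.mul_one,
    Matrix.mul_smul, ← sub_add, add_eq_right, ← sub_smul] at h2
  rcases smul_eq_zero.1 h2 with h3 | h3
  · linear_combination -h3
  · exfalso
    apply hX
    have := hu
    rw [Matrix.mul_assoc, h3, Matrix.mul_zero] at this
    calc X = (e * e) • X := by rw [hee, one_smul]
      _ = e • (e • X) := by rw [smul_smul]
      _ = 0 := by rw [← this, smul_zero]

theorem orders_bound [DecidableEq F] (hq4 : Fintype.card F % 4 = 3) (w : HG F) :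
    orderOf w ∣ 6 ∨ orderOf w ∣ 9 ∨ orderOf w ∣ Fintype.card F - 1 ∨ orderOf w ∣ (Fintype.card F + 1) / 2 := by
  obtain ⟨v, ⟨u, x⟩⟩ := w
  induction x using QuotientGroup.induction_on with
  | H A =>
  set w : HG F := ⟨v, (u, (A : ProjectiveSpecialLinearGroup (Fin 2) F))⟩
  have hu2 : u ^ 2 = 1 := by rcases Int.units_eq_one_or u with rfl | rfl <;> simp
  by_cases hfix : ∃ X : M2, X ≠ 0 ∧ u • ((A : M2) * X * tw F A) = X
  · obtain ⟨X, hX, hXe⟩ := hfix
    have ht := fixed_trace F u A X hX hXe
    set t := (A : M2).trace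
    have hmk : ∀ B : SL(2, F), B = 1 ∨ B = -1 → (B : ProjectiveSpecialLinearGroup (Fin 2) F) = 1 := by
      rintro B (rfl | rfl)
      · rfl
      · exact (QuotientGroup.eq_one_iff _).2 sl2_neg_one_central
    have hA : (A : M2) * A = t • (A : M2) - 1 := sl2_sq A
    rcases eq_or_ne t 0 with ht0 | ht0
    · left
      refine orderOf_dvd_of_pow_eq_one (pow_three_of_right F w (m := 2) ?_)
      refine Prod.ext hu2 ?_
      show (A : ProjectiveSpecialLinearGroup (Fin 2) F) ^ 2 = 1
      rw [← QuotientGroup.mk_pow]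
      refine hmk _ (Or.inr (Subtype.ext ?_))
      rw [pow_two, sl2_coe_mul, hA, ht0]
      simp
    · have ht2 : t * t = ((u : ℤ) : F) := mul_right_cancel₀ ht0 (by linear_combination ht)
      rcases Int.units_eq_one_or u with rfl | rfl
      · right; left
        refine orderOf_dvd_of_pow_eq_one (pow_three_of_right F w (m := 3) ?_)
        refine Prod.ext (by simp [w]) ?_
        show (A : ProjectiveSpecialLinearGroup (Fin 2) F) ^ 3 = 1
        rw [← QuotientGroup.mk_pow]
        apply hmk
        have h3 : ((A ^ 3 : SL(2, F)) : M2) = (t * t - 1) • (A : M2) - t • 1 := by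
          rw [sl2_coe_pow, pow_succ, pow_two, hA, Matrix.sub_mul, Matrix.smul_mul, hA, Matrix.one_mul,
            smul_sub, smul_smul, sub_smul, one_smul]
          abel
        simp at ht2
        rw [ht2, sub_self, zero_smul, zero_sub] at h3
        rcases mul_self_eq_one_iff.1 ht2 with e | e
        · exact Or.inr (Subtype.ext (by rw [h3, e]; simp))
        · exact Or.inl (Subtype.ext (by rw [h3, e]; simp))
      · exfalso
        have hsq : IsSquare (-1 : F) := ⟨t, by simp at ht2; exact ht2.symm⟩
        exact absurd hq4 (FiniteField.isSquare_neg_one_iff.1 hsq)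
  · have hfree : ∀ L : Multiplicative M2, act F w.right L = L → L = 1 := by
      intro L hL
      by_contra hne
      exact hfix ⟨L.toAdd, fun e => hne (Multiplicative.toAdd.injective e),
        congrArg Multiplicative.toAdd ((act_apply F u A L.toAdd).symm.trans hL)⟩
    have hdiv : ∀ m, 2 ∣ m → (A : ProjectiveSpecialLinearGroup (Fin 2) F) ^ m = 1 → orderOf w ∣ m := by
      intro m hm2 hm
      refine orderOf_dvd_of_pow_eq_one (pow_of_free F w (Prod.ext ?_ hm) hfree)
      obtain ⟨j, rfl⟩ := hm2
      show u ^ (2 * j) = 1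
      rw [pow_mul, hu2, one_pow]
    have hcases := PSL2Classes.pow_eq_one_or 3 (ProjectiveSpecialLinearGroup.toPGL (A : ProjectiveSpecialLinearGroup (Fin 2) F))
      ⟨A, rfl⟩
    rw [← map_pow, orderOf_injective _ ProjectiveSpecialLinearGroup.toPGL_injective] at hcases
    rcases hcases with h3 | h3
    · left
      refine hdiv 6 ⟨3, rfl⟩ ?_
      rw [show 6 = 3 * 2 from rfl, pow_mul, (map_eq_one_iff _ ProjectiveSpecialLinearGroup.toPGL_injective).1 h3, one_pow]
    · have hg : Nat.gcd 2 (Fintype.card F - 1) = 2 := Nat.gcd_eq_left (by omega)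
      rcases Dickson.psl_order_dvd 3 h3 with h | h <;> rw [hg] at h
      · right; right; left
        exact hdiv _ (by omega) (orderOf_dvd_iff_pow_eq_one.1 (h.trans (Nat.div_dvd_of_dvd (by omega))))
      · right; right; right
        exact hdiv _ (by omega) (orderOf_dvd_iff_pow_eq_one.1 h)

theorem order_right (v : Multiplicative M2) (g : ℤˣ × ProjectiveSpecialLinearGroup (Fin 2) F) :
    orderOf g ∣ orderOf (⟨v, g⟩ : HG F) :=
  orderOf_map_dvd (SemidirectProduct.rightHom : HG F →* _) (⟨v, g⟩ : HG F)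

theorem order_pair (u : ℤˣ) (hu : u = -1) {x : ProjectiveSpecialLinearGroup (Fin 2) F} {n : ℕ} (hx : orderOf x = n) :
    ∃ w : HG F, orderOf w = Nat.lcm 2 n := by
  refine ⟨SemidirectProduct.inr (u, x), ?_⟩
  rw [orderOf_injective _ SemidirectProduct.inr_injective, Prod.orderOf_mk, hx, hu]
  congr 1
  exact orderOf_eq_prime (by simp) (by decide)

theorem exists_orders [DecidableEq F] (hq4 : Fintype.card F % 4 = 3) :
    (∃ w : HG F, orderOf w = 6) ∧ (∃ w : HG F, orderOf w = 9) ∧ (∃ w : HG F, orderOf w = Fintype.card F - 1) ∧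
    (∃ w : HG F, orderOf w = (Fintype.card F + 1) / 2) := by
  classical
  have h3 : (3 : F) = 0 := by exact_mod_cast CharP.cast_eq_zero F 3
  have h2 : (2 : F) ≠ 0 := fun e => one_ne_zero (α := F) (by linear_combination h3 - e)
  let T : SL(2, F) := ⟨!![1, 1; 0, 1], by simp⟩
  have hT3 : (T : ProjectiveSpecialLinearGroup (Fin 2) F) ^ 3 = 1 := by
    rw [← QuotientGroup.mk_pow, sl2_pow_char 3 T (by simp [T, det_fin_two]), QuotientGroup.mk_one]
  have hTo : orderOf (T : ProjectiveSpecialLinearGroup (Fin 2) F) = 3 := by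
    refine orderOf_eq_prime hT3 fun e => ?_
    rcases sl2_center_eq ((QuotientGroup.eq_one_iff _).1 e) with e' | e'
    · simpa [T] using congrArg (fun B : SL(2, F) => (B : M2) 0 1) e'
    · simpa [T] using congrArg (fun B : SL(2, F) => (B : M2) 0 1) e'
  refine ⟨?_, ?_, ?_, ?_⟩
  · obtain ⟨w, hw⟩ := order_pair F (-1) rfl hTo
    exact ⟨w, hw⟩
  · let v : Multiplicative M2 := Multiplicative.ofAdd !![0, 0; 0, 1]
    refine ⟨⟨v, (1, (T : ProjectiveSpecialLinearGroup (Fin 2) F))⟩, ?_⟩
    set w : HG F := ⟨v, (1, (T : ProjectiveSpecialLinearGroup (Fin 2) F))⟩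
    have h9 : w ^ 9 = 1 := pow_three_of_right F w (m := 3) (Prod.ext (by simp [w]) hT3)
    have hne : ¬ w ^ 3 = 1 := by
      intro e
      have h := congrArg SemidirectProduct.left e
      rw [pow_succ, pow_two] at h
      simp only [SemidirectProduct.mul_left, SemidirectProduct.mul_right, SemidirectProduct.one_left, w, v] at h
      rw [Prod.mk_mul_mk, one_mul, ← QuotientGroup.mk_mul, act_apply, act_apply, tw_mul] at h
      have h' := congrArg (fun L : Multiplicative M2 => L.toAdd 0 0) h
      have htw : tw F T = !![1, 0; 1, 1] := by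
        ext i j; fin_cases i <;> fin_cases j <;> simp [tw, T, frobenius_def]
      simp [htw, T, SpecialLinearGroup.coe_mul] at h'
      norm_num at h'
      exact h2 (by linear_combination h' - h3)
    have hd := orderOf_dvd_of_pow_eq_one h9
    rw [show (9 : ℕ) = 3 ^ 2 from rfl] at hd ⊢
    obtain ⟨i, hi, he⟩ := (Nat.dvd_prime_pow Nat.prime_three).1 hd
    interval_cases i
    · exact absurd (orderOf_dvd_iff_pow_eq_one.1 (he ▸ one_dvd 3)) hne
    · exact absurd (orderOf_dvd_iff_pow_eq_one.1 (by rw [he]; rfl)) hne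
    · exact he
  · obtain ⟨g, hg⟩ := exists_sl2_minus (F := F)
    have hg2 : orderOf (g ^ 2) = (Fintype.card F - 1) / 2 := by
      rw [orderOf_pow' _ two_ne_zero, hg, Nat.gcd_comm, Nat.gcd_eq_left (by omega)]
    have hx : orderOf ((g ^ 2 : SL(2, F)) : ProjectiveSpecialLinearGroup (Fin 2) F) = (Fintype.card F - 1) / 2 := by
      refine Nat.dvd_antisymm (hg2 ▸ orderOf_map_dvd (QuotientGroup.mk' _) (g ^ 2)) ?_
      rw [← hg2]
      refine Nat.Coprime.dvd_of_dvd_mul_left (show Nat.Coprime (orderOf (g ^ 2)) 2 from ?_) (orderOf_dvd_of_pow_eq_one ?_)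
      · rw [hg2, Nat.coprime_two_right, Nat.odd_iff]; omega
      · have h1 : (((g ^ 2) ^ orderOf ((g ^ 2 : SL(2, F)) : ProjectiveSpecialLinearGroup (Fin 2) F) : SL(2, F)) :
            ProjectiveSpecialLinearGroup (Fin 2) F) = 1 := by rw [QuotientGroup.mk_pow, pow_orderOf_eq_one]
        rw [mul_comm, pow_mul]
        rcases sl2_center_eq ((QuotientGroup.eq_one_iff _).1 h1) with e | e <;> rw [e] <;> simp [pow_two]
    obtain ⟨w, hw⟩ := order_pair F (-1) rfl hx
    refine ⟨w, hw.trans ?_⟩
    rw [Nat.Coprime.lcm_eq_mul (by rw [Nat.coprime_two_left, Nat.odd_iff]; omega)]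
    omega
  · obtain ⟨g, hg⟩ := exists_sl2_plus (F := F) 3
    have hx : orderOf (g : ProjectiveSpecialLinearGroup (Fin 2) F) = (Fintype.card F + 1) / 2 := by
      have hd : Fintype.card F + 1 ∣ 2 * orderOf (g : ProjectiveSpecialLinearGroup (Fin 2) F) := by
        rw [← hg]
        refine orderOf_dvd_of_pow_eq_one ?_
        have h1 : ((g ^ orderOf (g : ProjectiveSpecialLinearGroup (Fin 2) F) : SL(2, F)) :
            ProjectiveSpecialLinearGroup (Fin 2) F) = 1 := by rw [QuotientGroup.mk_pow, pow_orderOf_eq_one]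
        rw [mul_comm, pow_mul]
        rcases sl2_center_eq ((QuotientGroup.eq_one_iff _).1 h1) with e | e <;> rw [e] <;> simp [pow_two]
      have hh : g ^ ((Fintype.card F + 1) / 2) = -1 := by
        refine sl2_eq_neg_one h2 ?_ ?_
        · exact pow_ne_one_of_lt_orderOf (by omega) (by omega)
        · rw [← pow_add, show (Fintype.card F + 1) / 2 + (Fintype.card F + 1) / 2 = Fintype.card F + 1 by omega,
            ← hg, pow_orderOf_eq_one]
      refine Nat.dvd_antisymm (orderOf_dvd_of_pow_eq_one ?_) ?_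
      · rw [← QuotientGroup.mk_pow, hh]
        exact (QuotientGroup.eq_one_iff _).2 sl2_neg_one_central
      · exact (Nat.mul_dvd_mul_iff_left two_pos).1
          (by rwa [Nat.mul_div_cancel' (show 2 ∣ Fintype.card F + 1 by omega)])
    refine ⟨SemidirectProduct.inr (1, (g : ProjectiveSpecialLinearGroup (Fin 2) F)), ?_⟩
    rw [orderOf_injective _ SemidirectProduct.inr_injective, Prod.orderOf_mk, orderOf_one, hx, Nat.lcm_one_left]

theorem exists_normal : ∃ P : Subgroup (HG F), P.Normal ∧ P ≠ ⊥ ∧ IsPGroup 3 P := by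
  refine ⟨(SemidirectProduct.inl : Multiplicative M2 →* HG F).range, ?_, ?_, ?_⟩
  · rw [SemidirectProduct.range_inl_eq_ker_rightHom]; infer_instance
  · intro h
    have hm : SemidirectProduct.inl (φ := act F) (Multiplicative.ofAdd (1 : M2)) ∈
        (SemidirectProduct.inl : Multiplicative M2 →* HG F).range := ⟨_, rfl⟩
    rw [h, Subgroup.mem_bot, ← map_one (SemidirectProduct.inl : Multiplicative M2 →* HG F)] at hm
    exact one_ne_zero (α := M2) (Multiplicative.ofAdd.injective (SemidirectProduct.inl_injective hm))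
  · rintro ⟨_, L, rfl⟩
    exact ⟨1, Subtype.ext (by rw [pow_one, Subgroup.coe_pow, ← map_pow, cube_eq_one, map_one]; rfl)⟩

end CfsgLib.KnownC.MaxOrdersExample
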