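import Mathlib

set_option autoImplicit false

/-! Element orders in direct powers, and lcm bookkeeping. -/

namespace CfsgLib.KnownC.Orders

theorem orderOf_pi_dvd_iff {ι : Type*} {M : ι → Type*} [∀ i, Monoid (M i)] (x : ∀ i, M i) (m : ℕ) :
    orderOf x ∣ m ↔ ∀ i, orderOf (x i) ∣ m := by
  simp [orderOf_dvd_iff_pow_eq_one, funext_iff]

theorem dvd_orderOf_pi {ι : Type*} {M : ι → Type*} [∀ i, Monoid (M i)] (x : ∀ i, M i) (i : ι) :
    orderOf (x i) ∣ orderOf x :=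
  (orderOf_pi_dvd_iff x _).1 dvd_rfl i

theorem mem_range_orderOf_of_dvd {G : Type*} [Monoid G] {x : G} {d : ℕ} (h : d ∣ orderOf x)
    (h0 : orderOf x ≠ 0) : d ∈ Set.range (orderOf : G → ℕ) :=
  ⟨_, orderOf_pow_orderOf_div h0 h⟩

theorem range_orderOf_congr {G H : Type*} [Monoid G] [Monoid H] (e : G ≃* H) :
    Set.range (orderOf : G → ℕ) = Set.range (orderOf : H → ℕ) := by
  ext n
  constructor
  · rintro ⟨x, rfl⟩; exact ⟨e x, e.orderOf_eq x⟩
  · rintro ⟨x, rfl⟩; exact ⟨e.symm x, e.symm.orderOf_eq x⟩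

theorem exists_maximal_order {G : Type*} [Group G] [Finite G] (x : G) :
    ∃ n, (n ∈ Set.range (orderOf : G → ℕ) ∧
      ∀ m ∈ Set.range (orderOf : G → ℕ), n ∣ m → m = n) ∧ orderOf x ∣ n := by
  classical
  have : Fintype G := Fintype.ofFinite G
  obtain ⟨y, hy, hmax⟩ := Finset.exists_max_image
    (Finset.univ.filter fun y : G => orderOf x ∣ orderOf y) orderOf ⟨x, by simp⟩
  refine ⟨orderOf y, ⟨⟨y, rfl⟩, ?_⟩, (Finset.mem_filter.1 hy).2⟩
  rintro m ⟨z, rfl⟩ hz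
  refine le_antisymm (hmax z ?_) (Nat.le_of_dvd (orderOf_pos z) hz)
  simp [dvd_trans (Finset.mem_filter.1 hy).2 hz]

end CfsgLib.KnownC.Orders
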