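import Cfsg.Agent.Lib.KnownC.FormConj
import Cfsg.Agent.Lib.Orth.Witt
import Cfsg.Agent.Lib.Orth.Bridge

set_option autoImplicit false
set_option linter.unusedSectionVars false

/-! Conjugacy of semisimple isometries of odd order in orthogonal groups. -/

namespace CfsgLib.KnownC.OrthConj

open Module QuadraticMap CfsgLib.Orth CfsgLib.KnownC.FormConj

theorem exists_conj {F V : Type*} [Field F] [Finite F] [AddCommGroup V] [Module F V] [FiniteDimensional F V]
    (Q : QuadraticForm F V) (hQ : (QuadraticMap.polarBilin Q).Nondegenerate) (α γ : orthGroup Q) (g : V ≃ₗ[F] V)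
    (hg : ∀ x, g (α.1 x) = γ.1 (g x)) (r : ℕ) (hodd : Odd r) (hr : (r : F) ≠ 0) (hα : α ^ r = 1) :
    ∃ h : orthGroup Q, ∀ x, h.1 (α.1 x) = γ.1 (h.1 x) := by
  classical
  set B := QuadraticMap.polarBilin Q with hB
  have hBp : ∀ x y, B x y = polar Q x y := fun x y => rfl
  set A : Module.End F V := α.1.toLinearMap with hAdef
  set C : Module.End F V := γ.1.toLinearMap with hCdef
  have hApow : ∀ k : ℕ, ∀ x, (A ^ k) x = (α ^ k).1 x := fun k => by
    induction k with
    | zero => intro x; rfl
    | succ k ih =>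
      intro x
      rw [pow_succ, Module.End.mul_apply, ih, pow_succ, Subgroup.coe_mul, LinearEquiv.mul_apply]
      rfl
  have hgpow : ∀ k : ℕ, ∀ x, g ((A ^ k) x) = (C ^ k) (g x) := fun k => by
    induction k with
    | zero => intro x; rfl
    | succ k ih =>
      intro x
      rw [pow_succ, Module.End.mul_apply, ih, pow_succ, Module.End.mul_apply]
      exact congrArg _ (hg x)
  have hA : A ^ r = 1 := LinearMap.ext fun x => by rw [hApow, hα]; rfl
  have hC : C ^ r = 1 := LinearMap.ext fun x => by
    obtain ⟨y, rfl⟩ := g.surjective x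
    rw [← hgpow, hA]; rfl
  have hAi : ∀ x y, B (A x) (A y) = B x y := fun x y => polar_isom α x y
  have hCi : ∀ x y, B (C x) (C y) = B x y := fun x y => polar_isom γ x y
  set W := LinearMap.range (A - 1) with hW
  have hinv : ∀ x ∈ W, A x ∈ W := by
    rintro _ ⟨y, rfl⟩
    exact ⟨A y, by simp [map_sub]⟩
  have hAinj : Function.Injective A := α.1.injective
  let a : W ≃ₗ[F] W := LinearEquiv.ofBijective (A.restrict hinv) (by
    have hi : Function.Injective (A.restrict hinv) := fun x y h => Subtype.ext (hAinj (congrArg Subtype.val h))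
    exact ⟨hi, LinearMap.injective_iff_surjective.1 hi⟩)
  let B₁ : W →ₗ[F] W →ₗ[F] F := B.compl₁₂ W.subtype W.subtype
  have hB₁ : B₁.Nondegenerate := by
    refine ⟨fun x hx => Subtype.ext (nondeg_range hQ hAi hA hr x.2 fun z hz => hx ⟨z, hz⟩),
      fun x hx => Subtype.ext (nondeg_range hQ hAi hA hr x.2 fun z hz => ?_)⟩
    rw [hBp, polar_comm]
    exact hx ⟨z, hz⟩
  have hmaps : ∀ x : W, g x ∈ LinearMap.range (C - 1) := fun x => by
    obtain ⟨_, y, rfl⟩ := x
    refine ⟨g y, ?_⟩
    show C (g y) - g y = g (A y - y)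
    rw [map_sub]
    exact congrArg (· - g y) (hg y).symm
  obtain ⟨u, hu, hua, hur⟩ := exists_isom (B := B₁) hB₁ (ε := 1) (fun x y => by
      rw [one_mul]; exact polar_comm Q x y) (C := C) (B' := B) (fun x y => by rw [one_mul]; exact polar_comm Q x y)
    hCi a (fun x y => hAi x y) (fun x hx => by
      have h2 : (A ^ 2) (x : V) = x := congrArg Subtype.val hx
      have hev : ∀ j : ℕ, (A ^ (2 * j)) (x : V) = x := fun j => by
        induction j with
        | zero => rfl
        | succ j ih => rw [mul_add, pow_add, Module.End.mul_apply]; exact (congrArg _ h2).trans ih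
      obtain ⟨j, hj⟩ := hodd
      have h1 : (A - 1) (x : V) = 0 := by
        have h3 := LinearMap.congr_fun hA (x : V)
        rw [hj, pow_succ', Module.End.mul_apply, hev] at h3
        rw [LinearMap.sub_apply, h3, sub_self]
      exact Subtype.ext (Submodule.disjoint_def.1 (isCompl_ker_range hA hr).disjoint _ h1 x.2))
    (g.toLinearMap.comp W.subtype) (fun x => hg x) (fun x hx => by
      refine Subtype.ext (g.injective ?_)
      rw [ZeroMemClass.coe_zero, map_zero]
      refine nondeg_range hQ hCi hC hr (hmaps x) fun z hz => ?_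
      obtain ⟨y, rfl⟩ := hz
      obtain ⟨y', rfl⟩ := g.surjective y
      have h := hx ⟨(A - 1) y', ⟨y', rfl⟩⟩
      simp only [LinearMap.comp_apply, Submodule.coe_subtype, LinearEquiv.coe_coe] at h
      rw [show g ((A - 1) y') = (C - 1) (g y') by
        show g (A y' - y') = C (g y') - g y'
        rw [map_sub]; exact congrArg (· - g y') (hg y')] at h
      exact h)
  have huinj : Function.Injective u := by
    rw [← LinearMap.ker_eq_bot, LinearMap.ker_eq_bot']
    exact fun x hx => hB₁.1 x fun y => by rw [← hu, hx, map_zero, LinearMap.zero_apply]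
  let D : W → F := fun x => Q (u x) - Q (x : V)
  have hDadd : ∀ x y : W, D (x + y) = D x + D y := fun x y => by
    have h : polar Q (u x) (u y) = polar Q (x : V) (y : V) := hu x y
    simp only [D, map_add, Submodule.coe_add, quad_add', h]
    ring
  have hDa : ∀ x : W, D (a x) = D x := fun x => by
    show Q (u (a x)) - Q (A x) = Q (u x) - Q (x : V)
    rw [hua, show Q (A (x : V)) = Q (x : V) from α.2 _, show Q (C (u x)) = Q (u x) from γ.2 _]
  have hQu : ∀ x : W, Q (u x) = Q (x : V) := by
    intro x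
    obtain ⟨z, hz⟩ := x.2
    have hz' : z ∈ LinearMap.ker (A - 1) ⊔ W := by rw [(isCompl_ker_range hA hr).sup_eq_top]; trivial
    obtain ⟨w, hw, z', hz'', rfl⟩ := Submodule.mem_sup.1 hz'
    rw [map_add, LinearMap.mem_ker.1 hw, zero_add] at hz
    have e : x + ⟨z', hz''⟩ = a ⟨z', hz''⟩ := Subtype.ext (by
      show (x : V) + z' = A z'
      rw [← hz, LinearMap.sub_apply, Module.End.one_apply, sub_add_cancel])
    have h := hDadd x ⟨z', hz''⟩
    rw [e, hDa] at h
    have : D x = 0 := by linear_combination -h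
    exact sub_eq_zero.1 this
  let b := Module.finBasis F W
  obtain ⟨h, hh⟩ := witt_family' hQ (fun i => ((b i : W) : V)) (fun i => u (b i))
    (b.linearIndependent.map' W.subtype W.ker_subtype) (b.linearIndependent.map' u (LinearMap.ker_eq_bot.2 huinj))
    (fun i => (hQu _).symm) (fun i j => (hu _ _).symm)
  have hhu : h.1.toLinearMap.comp W.subtype = u := b.ext fun i => hh i
  refine ⟨h, fun x => ?_⟩
  have hx : x ∈ LinearMap.ker (A - 1) ⊔ W := by rw [(isCompl_ker_range hA hr).sup_eq_top]; trivial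
  obtain ⟨w, hw, y, hy, rfl⟩ := Submodule.mem_sup.1 hx
  have hfix : A w = w := sub_eq_zero.1 hw
  have h1 : h.1 (α.1 y) = γ.1 (h.1 y) := by
    have e1 := LinearMap.congr_fun hhu (a ⟨y, hy⟩)
    have e2 := LinearMap.congr_fun hhu ⟨y, hy⟩
    simp only [LinearMap.comp_apply, Submodule.coe_subtype, LinearEquiv.coe_coe] at e1 e2
    rw [show ((a ⟨y, hy⟩ : W) : V) = α.1 y from rfl, hua] at e1
    rw [e1, e2]
    rfl
  have h2 : C (h.1 w) = h.1 w := by
    refine fixed_of_perp_range hQ hCi (fun z hz => ?_) γ.1.surjective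
    obtain ⟨y', rfl⟩ := hz
    obtain ⟨y'', rfl⟩ := g.surjective y'
    have hmem : (C - 1) (g y'') ∈ LinearMap.range u := by
      rw [hur]
      refine ⟨⟨(A - 1) y'', ⟨y'', rfl⟩⟩, ?_⟩
      show g (A y'' - y'') = C (g y'') - g y''
      rw [map_sub]; exact congrArg (· - g y'') (hg y'')
    obtain ⟨x', hx'⟩ := hmem
    have ex : h.1 (x' : V) = u x' := LinearMap.congr_fun hhu x'
    rw [← hx', ← ex, hBp, polar_isom]
    obtain ⟨z, hz⟩ := x'.2
    rw [← hz]
    exact (perp_ker_range hAi hw z).1
  rw [map_add, map_add, map_add, map_add, h1, show α.1 w = w from hfix]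
  exact congrArg (· + γ.1 (h.1 y)) h2.symm

end CfsgLib.KnownC.OrthConj
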