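import Cfsg.Agent.Lib.KnownC.OrthSign
import Cfsg.Agent.Lib.Orth.WittIndex
import Cfsg.Agent.Lib.KnownC.DualKernels

set_option autoImplicit false
set_option linter.unusedSectionVars false

/-! The sign of a space with an isometry of prime order without fixed vectors. -/

namespace CfsgLib.KnownC.OrthFixFree

open Module QuadraticMap Polynomial CfsgLib.Orth CfsgLib.Classical CfsgLib.KnownC.OrthSign
  CfsgLib.KnownC.CyclotomicFactors CfsgLib.KnownC.DualFactors

variable {F : Type*} [Field F] [Fintype F] {V : Type*} [AddCommGroup V] [Module F V] [FiniteDimensional F V]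
  {Q : QuadraticForm F V} {r : ℕ} [Fact r.Prime]

theorem pow_coe (α : orthGroup Q) : ∀ k : ℕ, ∀ x, ((α.1.toLinearMap : Module.End F V) ^ k) x = (α ^ k).1 x
  | 0 => fun x => rfl
  | k + 1 => fun x => by
    rw [pow_succ, Module.End.mul_apply, pow_coe α k, pow_succ, Subgroup.coe_mul, LinearEquiv.mul_apply]
    rfl

/-- Zeros come in orbits of size `r`. -/
theorem zeroCount_modEq (α : orthGroup Q) (hα : α ^ r = 1)
    (hfix : ∀ v, α.1 v = v → v = 0) : zeroCount Q ≡ 1 [MOD r] := by
  classical
  haveI : Finite V := Module.finite_of_finite F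
  have hp : IsPGroup r (Subgroup.zpowers α) := by
    have hd : orderOf α ∣ r ^ 1 := by rw [pow_one]; exact orderOf_dvd_of_pow_eq_one hα
    obtain ⟨k, -, hk⟩ := (Nat.dvd_prime_pow Fact.out).1 hd
    exact IsPGroup.of_card (n := k) (by rw [Nat.card_zpowers, hk])
  let X := {v : V // Q v = 0}
  letI : MulAction (Subgroup.zpowers α) X :=
    { smul := fun g x => ⟨g.1.1 x.1, by rw [apply_quad, x.2]⟩
      one_smul := fun x => Subtype.ext rfl
      mul_smul := fun g h x => Subtype.ext rfl }
  have h := hp.card_modEq_card_fixedPoints X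
  have hone : Nat.card (MulAction.fixedPoints (Subgroup.zpowers α) X) = 1 := by
    refine Nat.card_eq_one_iff_unique.2 ⟨⟨fun a b => ?_⟩,
      ⟨⟨(⟨0, map_zero Q⟩ : X), fun g => Subtype.ext (map_zero g.1.1)⟩⟩⟩
    have key : ∀ a : MulAction.fixedPoints (Subgroup.zpowers α) X, a.1.1 = 0 := fun a =>
      hfix _ (congrArg Subtype.val (a.2 ⟨α, Subgroup.mem_zpowers α⟩))
    exact Subtype.ext (Subtype.ext ((key a).trans (key b).symm))
  rwa [hone] at h

/-- Orbits that are self-dual: the sign alternates. -/
theorem sign_of_even (hQ : (QuadraticMap.polarBilin Q).Nondegenerate) (α : orthGroup Q) (hα : α ^ r = 1)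
    (hfix : ∀ v, α.1 v = v → v = 0) (hr2 : r ≠ 2) {j s : ℕ} (hq : (Fintype.card F : ZMod r) ^ j = -1)
    (hq1 : (Fintype.card F : ZMod r) ≠ 1) (hV : finrank F V = 2 * (j * s)) : HasSign Q (j * s) ((-1) ^ s) := by
  have hZ : (zeroCount Q : ZMod r) = 1 := by
    rw [← Nat.cast_one, ZMod.natCast_eq_natCast_iff]
    exact zeroCount_modEq α hα hfix
  obtain ⟨ε, hε, hε1⟩ : ∃ ε : ℤ, HasSign Q (j * s) ε ∧ (ε = 1 ∨ ε = -1) := by
    rcases exists_sign hQ hV with h | h
    · exact ⟨1, h, Or.inl rfl⟩
    · exact ⟨-1, h.1, Or.inr rfl⟩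
  suffices h : ε = (-1) ^ s by rw [← h]; exact hε
  have h := congrArg (fun x : ℤ => (x : ZMod r)) hε
  simp only [Int.cast_mul, Int.cast_add, Int.cast_sub, Int.cast_pow, Int.cast_one, Int.cast_natCast, hZ, mul_one] at h
  rw [show (Fintype.card F : ZMod r) ^ (2 * (j * s)) = 1 by
      rw [show 2 * (j * s) = j * (2 * s) by ring, pow_mul, hq, pow_mul, neg_one_sq, one_pow],
    pow_mul, hq] at h
  have h1 : (ε : ZMod r) * (-1) ^ s = 1 := by
    refine mul_left_cancel₀ (sub_ne_zero.2 hq1) ?_
    linear_combination -h
  have hne : (-1 : ZMod r) ≠ 1 := fun e => by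
    have h2 : ((2 : ℕ) : ZMod r) = 0 := by rw [Nat.cast_ofNat]; linear_combination -e
    exact hr2 ((Nat.prime_dvd_prime_iff_eq Fact.out Nat.prime_two).1 ((ZMod.natCast_eq_zero_iff _ _).1 h2))
  rcases hε1 with rfl | rfl <;> rcases Nat.even_or_odd s with he | he
  · rw [he.neg_one_pow]
  · rw [he.neg_one_pow, Int.cast_one, one_mul] at h1; exact absurd h1 hne
  · rw [he.neg_one_pow, Int.cast_neg, Int.cast_one, mul_one] at h1; exact absurd h1 hne
  · rw [he.neg_one_pow]

variable [DecidableEq F]

/-- Orbits in dual pairs: the space is hyperbolic. -/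
theorem sign_of_pairs (hrF : (r : F) ≠ 0) (hQ : (QuadraticMap.polarBilin Q).Nondegenerate) (α : orthGroup Q)
    (hα : α ^ r = 1) (hfix : ∀ v, α.1 v = v → v = 0)
    (hπ : ∀ o : Orbit F r, dual Fact.out hrF 1 (Nat.Prime.not_dvd_one Fact.out) o ≠ o)
    {m : ℕ} (hV : finrank F V = 2 * m) : HasSign Q m 1 := by
  classical
  have hr : r.Prime := Fact.out
  set A : Module.End F V := α.1.toLinearMap with hAdef
  have hA : A ^ r = 1 := LinearMap.ext fun x => by rw [pow_coe, hα]; rfl
  obtain ⟨p, hp⟩ := CharP.exists F
  haveI := Fact.mk (CharP.char_is_prime F p)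
  set π := dual (F := F) hr hrF 1 hr.not_dvd_one
  have hee : ∃ j : ℕ, ((1 : ℕ) : ZMod r) * ((1 : ℕ) : ZMod r) = (Fintype.card F : ZMod r) ^ j :=
    ⟨0, by rw [pow_zero, Nat.cast_one, mul_one]⟩
  have hππ : ∀ o, π (π o) = o := dual_dual hr hrF 1 hr.not_dvd_one hee
  let idx := Fintype.equivFin (Orbit F r)
  let H : Finset (Orbit F r) := Finset.univ.filter fun o => idx o < idx (π o)
  have hne : ∀ o, idx o ≠ idx (π o) := fun o h => hπ o (idx.injective h).symm
  have hHc : Finset.univ.filter (fun o => ¬ idx o < idx (π o)) = H.image π := by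
    ext o
    simp only [Finset.mem_filter, Finset.mem_univ, true_and, Finset.mem_image, H]
    constructor
    · exact fun h => ⟨π o, by rw [hππ]; exact lt_of_le_of_ne (not_lt.1 h) (hne o).symm, hππ o⟩
    · rintro ⟨x, hx, rfl⟩
      rw [hππ]; exact not_lt.2 hx.le
  set P : F[X] := ∏ o ∈ H, o.1 with hP
  set P' : F[X] := ∏ o ∈ H, (π o).1 with hP'
  have hinj : Set.InjOn π H := fun x _ y _ h => by rw [← hππ x, h, hππ]
  have hprod : (X - C (1 : F)) * (P * P') = X ^ r - 1 := by
    rw [← prod_fac (F := F) hr hrF, Fintype.prod_option]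
    show _ = (X - C 1) * ∏ o : Orbit F r, o.1
    rw [← Finset.prod_filter_mul_prod_filter_not Finset.univ (fun o => idx o < idx (π o)) (fun o => o.1), hHc,
      Finset.prod_image hinj]
  have hcop : IsCoprime P P' := IsCoprime.prod_left fun x hx => IsCoprime.prod_right fun y hy => by
    have key : (some x : Option (Orbit F r)) ≠ some (π y) → IsCoprime (fac F r (some x)) (fac F r (some (π y))) :=
      fun h => coprime_fac (F := F) hr hrF h
    refine key fun h => ?_
    have e := Option.some_injective _ h
    simp only [H, Finset.mem_filter, Finset.mem_univ, true_and] at hx hy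
    rw [e, hππ] at hx
    exact lt_irrefl _ (hx.trans hy)
  set U := LinearMap.ker (aeval A P)
  set U' := LinearMap.ker (aeval A P')
  have htop : U ⊔ U' = ⊤ := by
    rw [Polynomial.sup_ker_aeval_eq_ker_aeval_mul_of_coprime A hcop, eq_top_iff]
    intro x _
    rw [LinearMap.mem_ker]
    refine hfix _ ?_
    have h0 := LinearMap.congr_fun (congrArg (aeval A) hprod) x
    simp only [map_mul, map_sub, map_pow, aeval_X, map_one, hA, sub_self, Module.End.mul_apply, LinearMap.sub_apply,
      LinearMap.zero_apply, Module.End.one_apply, sub_eq_zero] at h0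
    rw [map_mul, Module.End.mul_apply]
    exact h0
  let Au : (Module.End F V)ˣ :=
    { val := A, inv := α.1.symm.toLinearMap
      val_inv := LinearMap.ext fun x => α.1.apply_symm_apply x
      inv_val := LinearMap.ext fun x => α.1.symm_apply_apply x }
  have hdualprod : ∀ S : Finset (Orbit F r), Associated (∏ o ∈ S, o.1).reverse (∏ o ∈ S, (π o).1) := by
    intro S
    induction S using Finset.induction_on with
    | empty =>
      rw [Finset.prod_empty, Finset.prod_empty, show (1 : F[X]).reverse = 1 from by
        rw [← Polynomial.C_1, reverse_C]]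
    | insert a S ha ih =>
      rw [Finset.prod_insert ha, Finset.prod_insert ha, reverse_mul_of_domain]
      refine Associated.mul_mul ?_ ih
      have h := associated_dual (RingHom.id F) (fun _ => rfl) hr hrF (p := p) (k := 0) (e := 1) (pow_zero p).symm
        (fun x => (pow_one x).symm) hr.not_dvd_one hee a
      rwa [Polynomial.map_id] at h
  have hsing : ∀ (R R' : F[X]), Associated R.reverse R' → IsCoprime R R' →
      ∀ u ∈ LinearMap.ker (aeval A R), Q u = 0 := by
    intro R R' hassoc hRc
    set W := LinearMap.ker (aeval A R)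
    have hinvW : ∀ x ∈ W, aeval (α.1.symm.toLinearMap : Module.End F V) R x ∈ W := by
      intro x hx
      rw [LinearMap.mem_ker] at hx ⊢
      have hc : Commute (aeval A R) (aeval (α.1.symm.toLinearMap : Module.End F V) R) := by
        refine (Algebra.commute_of_mem_adjoin_singleton_of_commute (R := F) (Polynomial.aeval_mem_adjoin_singleton F _) ?_)
        exact (Algebra.commute_of_mem_adjoin_singleton_of_commute (R := F) (Polynomial.aeval_mem_adjoin_singleton F A)
          ((Commute.refl (Au : Module.End F V)).units_inv_left)).symm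
      rw [← Module.End.mul_apply, hc.eq, Module.End.mul_apply, hx, map_zero]
    have hsurj : ∀ y ∈ W, ∃ z ∈ W, aeval (α.1.symm.toLinearMap : Module.End F V) R z = y := by
      have hi : Function.Injective ((aeval (α.1.symm.toLinearMap : Module.End F V) R).restrict hinvW) := by
        rw [← LinearMap.ker_eq_bot, LinearMap.ker_eq_bot']
        intro x hx
        have hx0 : aeval (α.1.symm.toLinearMap : Module.End F V) R x.1 = 0 := congrArg Subtype.val hx
        have h1 : aeval A R.reverse x.1 = 0 := by
          rw [show aeval A R.reverse = A ^ R.natDegree * aeval (α.1.symm.toLinearMap : Module.End F V) R from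
            aeval_reverse_units Au R, Module.End.mul_apply, hx0, map_zero]
        obtain ⟨u, hu⟩ := hassoc
        have h2 : aeval A R' x.1 = 0 := by
          rw [← hu, mul_comm, map_mul, Module.End.mul_apply, h1, map_zero]
        exact Subtype.ext (Submodule.disjoint_def.1 (Polynomial.disjoint_ker_aeval_of_isCoprime A hRc) x.1 x.2 h2)
      intro y hy
      obtain ⟨z, hz⟩ := LinearMap.injective_iff_surjective.1 hi ⟨y, hy⟩
      exact ⟨z.1, z.2, congrArg Subtype.val hz⟩
    have hadj : ∀ (G : F[X]) (x y : V), polar Q (aeval A G x) y =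
        polar Q x (aeval (α.1.symm.toLinearMap : Module.End F V) G y) := by
      intro G
      induction G using Polynomial.induction_on' with
      | add a b ha hb =>
        intro x y
        simp only [map_add, LinearMap.add_apply, polar_add_left, polar_add_right, ha, hb]
      | monomial k c =>
        intro x y
        simp only [aeval_monomial, Module.End.mul_apply, Module.algebraMap_end_apply, polar_smul_l', polar_smul_r']
        congr 1
        induction k generalizing y with
        | zero => rfl
        | succ k ih =>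
          rw [pow_succ', Module.End.mul_apply, pow_succ, Module.End.mul_apply, ← ih]
          show polar Q (α.1 ((A ^ k) x)) y = polar Q ((A ^ k) x) (α.1.symm y)
          conv_lhs => rw [← α.1.apply_symm_apply y]
          exact polar_isom α _ _
    have hpol : ∀ x ∈ W, ∀ y ∈ W, polar Q x y = 0 := by
      intro x hx y hy
      obtain ⟨z, -, rfl⟩ := hsurj y hy
      rw [← hadj, LinearMap.mem_ker.1 hx]
      exact polar_zero_left (Q := Q) _
    intro u hu
    have hAW : ∀ x ∈ W, (A - 1) x ∈ W := by
      intro x hx
      rw [LinearMap.mem_ker] at hx ⊢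
      have hc : Commute (aeval A R) (A - 1) :=
        ((Algebra.commute_of_mem_adjoin_singleton_of_commute (R := F) (Polynomial.aeval_mem_adjoin_singleton F A)
          (Commute.refl A)).symm).sub_right (Commute.one_right _)
      rw [← Module.End.mul_apply, hc.eq, Module.End.mul_apply, hx, map_zero]
    have hi : Function.Injective ((A - 1).restrict hAW) := by
      rw [← LinearMap.ker_eq_bot, LinearMap.ker_eq_bot']
      exact fun x hx => Subtype.ext (hfix _ (sub_eq_zero.1 (congrArg Subtype.val hx)))
    obtain ⟨z, hz⟩ := LinearMap.injective_iff_surjective.1 hi ⟨u, hu⟩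
    have e : u = α.1 z.1 - z.1 := (congrArg Subtype.val hz).symm
    have h1 : Q (α.1 z.1) = Q z.1 := apply_quad α _
    have h2 := hpol u hu z.1 z.2
    rw [show α.1 z.1 = u + z.1 by rw [e, sub_add_cancel], quad_add', h2] at h1
    linear_combination h1
  have hU : ∀ u ∈ U, Q u = 0 := hsing P P' (hdualprod H) hcop
  have hU' : ∀ u ∈ U', Q u = 0 := by
    refine hsing P' P ?_ hcop.symm
    have h := hdualprod (H.image π)
    rw [Finset.prod_image hinj, Finset.prod_image hinj] at h
    simpa only [hππ] using h
  have h1 := singular_finrank_le hQ U hU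
  have h2 := singular_finrank_le hQ U' hU'
  have h3 := Submodule.finrank_add_le_finrank_add_finrank U U'
  rw [htop, finrank_top] at h3
  rcases classify_even hQ hV with ⟨e, he⟩ | ⟨hm, e, ζ, hζ, he⟩
  · exact hasSign_congr e he (plus_sign m)
  · exfalso
    have h4 := minus_singular_finrank_le (anisotropic_of_no_root hζ) (U.map e.symm.toLinearMap) (by
      rintro _ ⟨u, hu, rfl⟩
      rw [← he]
      simp [hU u hu])
    rw [LinearEquiv.finrank_map_eq] at h4
    omega

end CfsgLib.KnownC.OrthFixFree
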