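import Cfsg.Agent.Lib.KnownC.DualFactors

set_option autoImplicit false
set_option linter.unusedSectionVars false

/-! Counting invariant multiplicity tuples with a condition on the fixed part. -/

namespace CfsgLib.KnownC.TupleCount

/-- Tuples of exact sum. -/
theorem card_sum_eq (α : Type*) [Fintype α] [Nonempty α] (N : ℕ) :
    Nat.card {b : α → ℕ // ∑ x, b x = N} = (N + Fintype.card α - 1).choose (Fintype.card α - 1) := by
  classical
  have h := Fintype.card_pos (α := α)
  rw [Nat.card_congr (Sym.equivNatSumOfFintype α N).symm, Nat.card_eq_fintype_card, Sym.card_sym_eq_choose,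
    add_comm (Fintype.card α) N]
  have e := Nat.choose_symm (n := N + Fintype.card α - 1) (k := Fintype.card α - 1) (by omega)
  rw [show N + Fintype.card α - 1 - (Fintype.card α - 1) = N by omega] at e
  exact e

/-- Invariant tuples of a fixed-point-free involution are tuples on half of the points. -/
theorem exists_half {τ : Type*} [Fintype τ] (π : τ → τ) (hπ : ∀ o, π (π o) = o) (hfix : ∀ o, π o ≠ o) :
    ∃ h : ℕ, Fintype.card τ = 2 * h ∧ ∃ E : {f : τ → ℕ // ∀ o, f (π o) = f o} ≃ (Fin h → ℕ),
      ∀ f, ∑ o, f.1 o = 2 * ∑ x, E f x := by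
  classical
  let idx := Fintype.equivFin τ
  let H := {o : τ // idx o < idx (π o)}
  have hne : ∀ o, idx o ≠ idx (π o) := fun o h => hfix o (idx.injective h).symm
  let s : τ → H := fun o => if h : idx o < idx (π o) then ⟨o, h⟩ else ⟨π o, by
    rw [hπ]; exact lt_of_le_of_ne (not_lt.1 h) (hne o).symm⟩
  let E₀ : H × Bool ≃ τ :=
    { toFun := fun x => if x.2 then π x.1.1 else x.1.1
      invFun := fun o => (s o, decide (¬ idx o < idx (π o)))
      left_inv := fun ⟨⟨o, ho⟩, c⟩ => by
        cases c
        · simp [s, ho]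
        · have hn : ¬ idx (π o) < idx o := not_lt.2 ho.le
          simp [s, hπ, hn]
      right_inv := fun o => by
        by_cases h : idx o < idx (π o)
        · simp [s, h]
        · simp [s, h, hπ] }
  let ψ : H ≃ Fin (Fintype.card H) := Fintype.equivFin H
  have hs : ∀ h : H, s h.1 = h ∧ s (π h.1) = h := fun h => ⟨dif_pos h.2, by
    refine Subtype.ext ?_
    simp only [s, hπ, dif_neg (not_lt.2 (h.2).le)]⟩
  refine ⟨Fintype.card H, ?_, ?_⟩
  · exact (Fintype.card_congr E₀).symm.trans (by rw [Fintype.card_prod, Fintype.card_bool, mul_comm])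
  refine ⟨{ toFun := fun f x => f.1 (ψ.symm x).1
            invFun := fun g => ⟨fun o => g (ψ (s o)), fun o => by
              refine congrArg (fun z => g (ψ z)) (Subtype.ext ?_)
              simp only [s, hπ]
              rcases lt_or_gt_of_ne (hne o) with h | h
              · rw [dif_pos h, dif_neg (not_lt.2 h.le)]
              · rw [dif_neg (not_lt.2 h.le), dif_pos h]⟩
            left_inv := fun f => Subtype.ext (funext fun o => by
              show f.1 (ψ.symm (ψ (s o))).1 = f.1 o
              rw [ψ.symm_apply_apply]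
              simp only [s]
              split_ifs
              · rfl
              · exact f.2 o)
            right_inv := fun g => funext fun x => by
              show g (ψ (s (ψ.symm x).1)) = g x
              rw [(hs _).1, ψ.apply_symm_apply] }, fun f => ?_⟩
  show ∑ o, f.1 o = 2 * ∑ x, f.1 (ψ.symm x).1
  rw [← E₀.sum_comp, Fintype.sum_prod_type, ψ.symm.sum_comp (fun h : H => f.1 h.1), Finset.mul_sum]
  refine Finset.sum_congr rfl fun h _ => ?_
  simp [E₀, f.2, two_mul]

/-- Self-dual multiplicity tuples, some of which may be excluded. -/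
theorem card_tuples_cond {τ : Type*} [Fintype τ] [Nonempty τ] (π : τ → τ) (hπ : ∀ o, π (π o) = o) {i : ℕ}
    (hi : 0 < i) (N : ℕ) (hN : 1 ≤ N) (Ok : Prop) [Decidable Ok] :
    ((∀ o, π o = o) → Nat.card {a : Option τ → ℕ // a none + i * ∑ o, a (some o) = N ∧
        (∀ o, a (some (π o)) = a (some o)) ∧ (∃ o, a (some o) ≠ 0) ∧ (a none = 0 → Ok)} =
      (N / i + Fintype.card τ).choose (Fintype.card τ) - 1 -
        (if ¬ Ok ∧ i ∣ N then (N / i + Fintype.card τ - 1).choose (Fintype.card τ - 1) else 0)) ∧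
    ((∀ o, π o ≠ o) → Nat.card {a : Option τ → ℕ // a none + i * ∑ o, a (some o) = N ∧
        (∀ o, a (some (π o)) = a (some o)) ∧ (∃ o, a (some o) ≠ 0) ∧ (a none = 0 → Ok)} =
      (N / (2 * i) + Fintype.card τ / 2).choose (Fintype.card τ / 2) - 1 -
        (if ¬ Ok ∧ 2 * i ∣ N then (N / (2 * i) + Fintype.card τ / 2 - 1).choose (Fintype.card τ / 2 - 1) else 0)) := by
  classical
  let T := {a : Option τ → ℕ // a none + i * ∑ o, a (some o) = N ∧
    (∀ o, a (some (π o)) = a (some o)) ∧ ∃ o, a (some o) ≠ 0}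
  have hb : ∀ a : T, ∀ o, a.1 o < N + 1 := by
    intro a o
    have h := a.2.1
    cases o with
    | none => omega
    | some o =>
      have h1 : a.1 (some o) ≤ ∑ o, a.1 (some o) :=
        Finset.single_le_sum (f := fun o => a.1 (some o)) (fun _ _ => Nat.zero_le _) (Finset.mem_univ o)
      have h2 : a.1 (some o) ≤ i * ∑ o, a.1 (some o) := h1.trans (Nat.le_mul_of_pos_left _ hi)
      omega
  haveI : Finite T := Finite.of_injective (fun a o => (⟨a.1 o, hb a o⟩ : Fin (N + 1))) fun a b h =>
    Subtype.ext (funext fun o => congrArg Fin.val (congrFun h o))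
  haveI := Fintype.ofFinite T
  have hsplit : Nat.card {a : Option τ → ℕ // a none + i * ∑ o, a (some o) = N ∧
        (∀ o, a (some (π o)) = a (some o)) ∧ (∃ o, a (some o) ≠ 0) ∧ (a none = 0 → Ok)} =
      Nat.card T - (if ¬ Ok then Nat.card {a : T // a.1 none = 0} else 0) := by
    by_cases hok : Ok
    · rw [if_neg (not_not.2 hok), Nat.sub_zero]
      exact Nat.card_congr (Equiv.subtypeEquivRight fun a =>
        ⟨fun h => ⟨h.1, h.2.1, h.2.2.1⟩, fun h => ⟨h.1, h.2.1, h.2.2, fun _ => hok⟩⟩)
    · have e : {a : Option τ → ℕ // a none + i * ∑ o, a (some o) = N ∧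
          (∀ o, a (some (π o)) = a (some o)) ∧ (∃ o, a (some o) ≠ 0) ∧ (a none = 0 → Ok)} ≃
          {a : T // ¬ a.1 none = 0} :=
        { toFun := fun a => ⟨⟨a.1, a.2.1, a.2.2.1, a.2.2.2.1⟩, fun h => hok (a.2.2.2.2 h)⟩
          invFun := fun a => ⟨a.1.1, a.1.2.1, a.1.2.2.1, a.1.2.2.2, fun h => absurd h a.2⟩
          left_inv := fun a => rfl
          right_inv := fun a => rfl }
      rw [if_pos hok, Nat.card_congr e, Nat.card_eq_fintype_card, Nat.card_eq_fintype_card,
        Nat.card_eq_fintype_card, Fintype.card_subtype_compl]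
  have hzero : {a : T // a.1 none = 0} ≃ {f : {f : τ → ℕ // ∀ o, f (π o) = f o} // i * ∑ o, f.1 o = N} :=
    { toFun := fun a => ⟨⟨fun o => a.1.1 (some o), a.1.2.2.1⟩, by
        have h := a.1.2.1; rw [a.2, zero_add] at h; exact h⟩
      invFun := fun f => ⟨⟨fun o => o.elim 0 f.1.1, by
        refine ⟨?_, f.1.2, ?_⟩
        · show 0 + i * ∑ o, f.1.1 o = N
          rw [zero_add, f.2]
        · by_contra hc
          push Not at hc
          have h := f.2
          have hc' : ∀ o, f.1.1 o = 0 := hc
          rw [Finset.sum_eq_zero (fun o _ => hc' o), mul_zero] at h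
          omega⟩, rfl⟩
      left_inv := fun a => Subtype.ext (Subtype.ext (funext fun o => by
        cases o with
        | none => exact a.2.symm
        | some o => rfl))
      right_inv := fun f => rfl }
  obtain ⟨hA, hB⟩ := DualFactors.card_invariant τ π hπ hi N
  refine ⟨fun hid => ?_, fun hfix => ?_⟩
  · rw [hsplit, hA hid]
    congr 1
    rw [show (if ¬ Ok ∧ i ∣ N then (N / i + Fintype.card τ - 1).choose (Fintype.card τ - 1) else 0) =
      if ¬ Ok then (if i ∣ N then (N / i + Fintype.card τ - 1).choose (Fintype.card τ - 1) else 0) else 0 from ite_and ..]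
    refine if_congr Iff.rfl ?_ rfl
    rw [Nat.card_congr hzero]
    split_ifs with hdiv
    · rw [← card_sum_eq τ (N / i)]
      refine Nat.card_congr
        { toFun := fun f => ⟨f.1.1, (Nat.div_eq_of_eq_mul_right hi f.2.symm).symm⟩
          invFun := fun g => ⟨⟨g.1, fun o => by rw [hid]⟩, by rw [g.2, Nat.mul_div_cancel' hdiv]⟩
          left_inv := fun f => rfl
          right_inv := fun g => rfl }
    · exact Nat.card_eq_zero.2 (Or.inl ⟨fun f => hdiv ⟨_, f.2.symm⟩⟩)
  · obtain ⟨h, hcard, E, hE⟩ := exists_half π hπ hfix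
    haveI : Nonempty (Fin h) := ⟨⟨0, by have := Fintype.card_pos (α := τ); omega⟩⟩
    rw [hsplit, hB hfix]
    congr 1
    rw [show (if ¬ Ok ∧ 2 * i ∣ N then (N / (2 * i) + Fintype.card τ / 2 - 1).choose (Fintype.card τ / 2 - 1) else 0) =
      if ¬ Ok then (if 2 * i ∣ N then (N / (2 * i) + Fintype.card τ / 2 - 1).choose (Fintype.card τ / 2 - 1) else 0)
        else 0 from ite_and ..]
    refine if_congr Iff.rfl ?_ rfl
    rw [Nat.card_congr hzero, hcard, Nat.mul_div_cancel_left h two_pos]
    have e : Nat.card {f : {f : τ → ℕ // ∀ o, f (π o) = f o} // i * ∑ o, f.1 o = N} =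
        Nat.card {g : Fin h → ℕ // 2 * i * ∑ x, g x = N} :=
      Nat.card_congr (E.subtypeEquiv fun f => by rw [hE, mul_comm 2 i, mul_assoc])
    rw [e]
    split_ifs with hdiv
    · have h2 := card_sum_eq (Fin h) (N / (2 * i))
      rw [Fintype.card_fin] at h2
      rw [← h2]
      refine Nat.card_congr (Equiv.subtypeEquivRight fun g => ?_)
      obtain ⟨c, hc⟩ := hdiv
      rw [hc, Nat.mul_div_cancel_left _ (show 0 < 2 * i by omega)]
      exact ⟨fun e => Nat.eq_of_mul_eq_mul_left (show 0 < 2 * i by omega) e, fun e => by rw [e]⟩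
    · exact Nat.card_eq_zero.2 (Or.inl ⟨fun f => hdiv ⟨_, f.2.symm⟩⟩)

end CfsgLib.KnownC.TupleCount
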