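import Cfsg.Agent.Lib.KnownC.OrthRealise
import Cfsg.Agent.Lib.KnownC.OrthFixFree
import Cfsg.Agent.Lib.KnownC.OrthConj
import Cfsg.Agent.Lib.KnownC.TupleCount

set_option autoImplicit false
set_option linter.unusedSectionVars false

/-! Classes of elements of odd prime order prime to the characteristic in orthogonal groups. -/

namespace CfsgLib.KnownC.OrthClasses

open Module QuadraticMap Polynomial CfsgLib.Orth CfsgLib.Classical CfsgLib.KnownC.GUConj
  CfsgLib.KnownC.CyclotomicFactors CfsgLib.KnownC.SemisimpleClasses CfsgLib.KnownC.DualFactors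
  CfsgLib.KnownC.OrthSign

variable {F : Type*} [Field F] [Fintype F] {N : ℕ}

/-- A matrix with an invariant non-degenerate form is similar to its inverse transpose. -/
theorem isConj_adj_inv_of_form (g : GL (Fin N) F) {B : (Fin N → F) →ₗ[F] (Fin N → F) →ₗ[F] F} (hN : B.Nondegenerate)
    (hB : ∀ x y, B (g.val.mulVec x) (g.val.mulVec y) = B x y) : IsConj g (adjGL (RingHom.id F) g)⁻¹ := by
  classical
  set P := LinearMap.toMatrix₂' F B with hPdef
  have hBa : ∀ x y, B x y = dotProduct x (P.mulVec y) := fun x y => by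
    have e : Matrix.toLinearMap₂' F P = B := Matrix.toLinearMap₂'_toMatrix' _
    rw [← e]
    exact Matrix.toLinearMap₂'_apply' _ _ _
  have hdet : P.det ≠ 0 := fun h0 => by
    obtain ⟨v, hv, hv'⟩ := Matrix.exists_mulVec_eq_zero_iff.2 h0
    exact hv (hN.2 v fun x => by rw [hBa, hv', dotProduct_zero])
  let c : GL (Fin N) F := Matrix.GeneralLinearGroup.mkOfDetNeZero P hdet
  refine isConj_iff.2 ⟨c, ?_⟩
  rw [eq_inv_iff_mul_eq_one, mul_eq_one_comm, ← mul_assoc, mul_inv_eq_one, ← mul_assoc]
  refine Units.ext ?_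
  show g.val.transpose * P * g.val = P
  ext i j
  have h := hB (Pi.single i 1) (Pi.single j 1)
  rw [hBa, hBa, ← Matrix.vecMul_transpose, ← Matrix.dotProduct_mulVec, Matrix.mulVec_mulVec, Matrix.mulVec_mulVec,
    Matrix.mulVec_single_one, Matrix.mulVec_single_one, single_dotProduct, single_dotProduct, one_mul, one_mul] at h
  exact h

/-- The converse. -/
theorem exists_form_of_isConj (g : GL (Fin N) F) (h : IsConj g (adjGL (RingHom.id F) g)⁻¹) :
    ∃ B : (Fin N → F) →ₗ[F] (Fin N → F) →ₗ[F] F, B.Nondegenerate ∧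
      ∀ x y, B (g.val.mulVec x) (g.val.mulVec y) = B x y := by
  classical
  obtain ⟨c, hc⟩ := isConj_iff.1 h
  have hP : g.val.transpose * c.val * g.val = c.val := by
    have h1 : adjGL (RingHom.id F) g * c * g = c := by
      rw [eq_inv_iff_mul_eq_one, mul_eq_one_comm, ← mul_assoc, mul_inv_eq_one, ← mul_assoc] at hc
      exact hc
    have := congrArg Units.val h1
    rwa [Units.val_mul, Units.val_mul, show (adjGL (RingHom.id F) g).val = g.val.transpose from rfl] at this
  refine ⟨Matrix.toLinearMap₂' F c.val, ?_, fun x y => ?_⟩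
  · have hBa : ∀ x y, Matrix.toLinearMap₂' F c.val x y = dotProduct x (c.val.mulVec y) := fun x y =>
      Matrix.toLinearMap₂'_apply' _ _ _
    refine ⟨fun x hx => ?_, fun y hy => ?_⟩
    · funext i
      have := hx ((c⁻¹).val.mulVec (Pi.single i 1))
      rw [hBa, Matrix.mulVec_mulVec, Units.mul_inv, Matrix.one_mulVec, dotProduct_single, mul_one] at this
      exact this
    · have h0 : c.val.mulVec y = 0 := funext fun i => by
        have := hy (Pi.single i 1)
        rwa [hBa, single_dotProduct, one_mul] at this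
      have := congrArg (Matrix.mulVec (c⁻¹).val) h0
      rwa [Matrix.mulVec_mulVec, Units.inv_mul, Matrix.one_mulVec, Matrix.mulVec_zero] at this
  · rw [Matrix.toLinearMap₂'_apply', Matrix.toLinearMap₂'_apply', ← Matrix.vecMul_transpose,
      ← Matrix.dotProduct_mulVec, Matrix.mulVec_mulVec, Matrix.mulVec_mulVec, hP]

variable [DecidableEq F]

/-- The count for an arbitrary non-degenerate quadratic space. -/
theorem card_classes_orth {ι : Type} [Fintype ι] [DecidableEq ι] {Qf : (ι → F) → F} (Q : QuadraticForm F (ι → F))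
    (hQf : ∀ v, Qf v = Q v) (hQ : (QuadraticMap.polarBilin Q).Nondegenerate) {p q r i t : ℕ} [Fact p.Prime]
    [CharP F p] (hF : Fintype.card F = q) (hr : r.Prime) (hr2 : r ≠ 2) (hrp : r ≠ p) (hi : i = orderOf (q : ZMod r))
    (ht : t * i = r - 1) (hcard : Fintype.card ι = N) (hN1 : 1 ≤ N) (Ok : Prop) [Decidable Ok]
    (hOk : Ok ↔ ∀ m, N = 2 * m → HasSign Q m (if Odd i then 1 else (-1) ^ (N / i))) :
    Nat.card {C : ConjClasses ↥(Cfsg.isometryGroup F Qf) //
        ∃ g : ↥(Cfsg.isometryGroup F Qf), ConjClasses.mk g = C ∧ orderOf g = r} =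
      if Odd i then (N / (2 * i) + t / 2).choose (t / 2) - 1 -
        (if ¬ Ok ∧ 2 * i ∣ N then (N / (2 * i) + t / 2 - 1).choose (t / 2 - 1) else 0)
      else (N / i + t).choose t - 1 - (if ¬ Ok ∧ i ∣ N then (N / i + t - 1).choose (t - 1) else 0) := by
  classical
  have hp : p.Prime := Fact.out
  haveI := Fact.mk hr
  have hrF : (r : F) ≠ 0 := fun h => hrp (((Nat.prime_dvd_prime_iff_eq hp hr).1
    ((CharP.cast_eq_zero_iff F p r).1 h)).symm)
  have hodd : Odd r := hr.odd_of_ne_two hr2
  have hrq : ¬ r ∣ q := fun h => by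
    obtain ⟨j, -, hj⟩ := FiniteField.card F p
    exact hrp ((Nat.prime_dvd_prime_iff_eq hr hp).1 (hr.dvd_of_dvd_pow (hj ▸ hF.symm ▸ h)))
  have hr1 : ¬ r ∣ 1 := hr.not_dvd_one
  have hq0 : (q : ZMod r) ≠ 0 := fun h => hrq ((ZMod.natCast_eq_zero_iff _ _).1 h)
  have hi0 : 0 < i := hi ▸ Nat.pos_of_ne_zero (fun h => by
    rw [orderOf_eq_zero_iff] at h
    exact h (isOfFinOrder_iff_isUnit.2 (isUnit_iff_ne_zero.2 hq0)))
  have hdeg : ∀ o : Orbit F r, o.1.natDegree = i := fun o => (natDegree_some hr hrF hF o).trans hi.symm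
  have hcardO : Fintype.card (Orbit F r) = t := by
    refine Nat.eq_of_mul_eq_mul_right hi0 ?_
    rw [ht, hi]
    exact card_orbit hr hrF hF
  haveI : Nonempty (Orbit F r) := Fintype.card_pos_iff.1 (by
    rw [hcardO]
    rcases Nat.eq_zero_or_pos t with h | h
    · rw [h, zero_mul] at ht; have := hr.two_le; omega
    · exact h)
  have hee : ∃ j : ℕ, ((1 : ℕ) : ZMod r) * ((1 : ℕ) : ZMod r) = (Fintype.card F : ZMod r) ^ j :=
    ⟨0, by rw [pow_zero, Nat.cast_one, mul_one]⟩
  have hneg1 : (-1 : ZMod r) ≠ 1 := by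
    intro h
    have h2 : ((2 : ℕ) : ZMod r) = 0 := by
      rw [Nat.cast_ofNat]; linear_combination -h
    exact hr2 ((Nat.prime_dvd_prime_iff_eq hr Nat.prime_two).1 ((ZMod.natCast_eq_zero_iff _ _).1 h2))
  have hhalf : ∀ j, i = j + j → (q : ZMod r) ^ j = -1 := fun j hj => by
    rcases sq_eq_one_iff.1 (show ((q : ZMod r) ^ j) ^ 2 = 1 by
      rw [← pow_mul, show j * 2 = i by omega, hi]; exact pow_orderOf_eq_one _) with h | h
    · have h2 := Nat.le_of_dvd (show 0 < j by omega) ((dvd_of_eq hi).trans (orderOf_dvd_of_pow_eq_one h))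
      omega
    · exact h
  have hcrit : (∃ j : ℕ, -((1 : ℕ) : ZMod r) = (Fintype.card F : ZMod r) ^ j) ↔ ¬ Odd i := by
    rw [hF, Nat.cast_one, Nat.not_odd_iff_even]
    constructor
    · rintro ⟨j, hj⟩
      by_contra ho
      rw [Nat.not_even_iff_odd] at ho
      refine hneg1 ?_
      rw [hj]
      refine orderOf_dvd_iff_pow_eq_one.1 ((dvd_of_eq hi.symm).trans ((Nat.coprime_two_right.2 ho).dvd_of_dvd_mul_left ?_))
      exact (dvd_of_eq hi).trans (orderOf_dvd_of_pow_eq_one (by rw [mul_comm, pow_mul, ← hj, neg_one_sq]))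
    · rintro ⟨j, hj⟩
      exact ⟨j, (hhalf j hj).symm⟩
  let π := dual (F := F) hr hrF 1 hr1
  have hπ : ∀ o, π (π o) = o := dual_dual hr hrF 1 hr1 hee
  have hfixπ : Odd i → ∀ o, π o ≠ o := fun ho o h =>
    (hcrit.1 ((dual_eq_self_iff hr hrF 1 hr1 o).1 h)) ho
  have hidπ : ¬ Odd i → ∀ o, π o = o := fun ho o => (dual_eq_self_iff hr hrF 1 hr1 o).2 (hcrit.2 ho)
  let b : (ι → F) ≃ₗ[F] (Fin N → F) := LinearEquiv.funCongrLeft F F (Fintype.equivFinOfCardEq hcard).symm
  let hom : orthGroup Q →* Matrix (Fin N) (Fin N) F :=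
    { toFun := fun g => LinearMap.toMatrix' (b.toLinearMap.comp (g.1.toLinearMap.comp b.symm.toLinearMap))
      map_one' := by
        rw [show b.toLinearMap.comp ((1 : orthGroup Q).1.toLinearMap.comp b.symm.toLinearMap) = LinearMap.id from
          LinearMap.ext fun x => b.apply_symm_apply x]
        exact LinearMap.toMatrix'_id
      map_mul' := fun g h => by
        rw [← LinearMap.toMatrix'_comp]
        congr 1
        refine LinearMap.ext fun x => ?_
        show b (g.1 (h.1 (b.symm x))) = b (g.1 (b.symm (b (h.1 (b.symm x)))))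
        rw [b.symm_apply_apply] }
  let emb : orthGroup Q →* GL (Fin N) F := hom.toHomUnits
  have hemb : ∀ (g : orthGroup Q) x, (emb g).val.mulVec x = b (g.1 (b.symm x)) := fun g x =>
    LinearMap.toMatrix'_mulVec _ x
  have hembinj : Function.Injective emb := fun g h e => Subtype.ext (LinearEquiv.ext fun x => by
    have := congrArg (fun z : GL (Fin N) F => z.val.mulVec (b x)) e
    rw [hemb, hemb, b.symm_apply_apply] at this
    exact b.injective this)
  let B₀ : (Fin N → F) →ₗ[F] (Fin N → F) →ₗ[F] F :=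
    (QuadraticMap.polarBilin Q).compl₁₂ b.symm.toLinearMap b.symm.toLinearMap
  have hB₀ : B₀.Nondegenerate := by
    refine ⟨fun x hx => b.symm.map_eq_zero_iff.1 (hQ.1 _ fun y => ?_),
      fun x hx => b.symm.map_eq_zero_iff.1 (hQ.2 _ fun y => ?_)⟩ <;>
    · obtain ⟨y', rfl⟩ := b.symm.surjective y
      exact hx y'
  let σ : F →+* F := RingHom.id F
  let Cond : GL (Fin N) F → Prop := fun g => orderOf g = r ∧ IsConj g (adjGL σ g)⁻¹ ∧
    (mult (fac F r) g none = 0 → Ok)
  have hzero : ∀ g : GL (Fin N) F, g ^ r = 1 → aeval g.val (∏ o, fac F r o) = 0 := fun g hg => by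
    rw [prod_fac hr hrF, map_sub, map_pow, aeval_X, map_one, sub_eq_zero, ← Units.val_pow_eq_pow_val, hg,
      Units.val_one]
  have hnone : ∀ g : GL (Fin N) F, mult (fac F r) g none =
      finrank F (LinearMap.ker ((Matrix.toLin' g.val : Module.End F (Fin N → F)) - 1)) := fun g => by
    have h1 := mult_mul irreducible_fac g (none : Option (Orbit F r))
    rw [show (fac F r none).natDegree = 1 from natDegree_X_sub_C 1, mul_one] at h1
    have e : aeval (Matrix.toLin' g.val : Module.End F (Fin N → F)) (fac F r none) =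
        (Matrix.toLin' g.val : Module.End F (Fin N → F)) - 1 := by
      show aeval _ (X - C 1) = _
      rw [map_sub, aeval_X, aeval_C, map_one]
    rw [h1, SemisimpleClasses.comp, e]
  have hsum : ∀ g : GL (Fin N) F, g ^ r = 1 →
      mult (fac F r) g none + i * ∑ o, mult (fac F r) g (some o) = N := fun g hg => by
    have h := sum_mult irreducible_fac (coprime_fac hr hrF) (hzero g hg)
    rw [Fintype.sum_option, show (fac F r none).natDegree = 1 from natDegree_X_sub_C 1, mul_one] at h
    refine Eq.trans ?_ h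
    rw [Finset.mul_sum]
    refine congrArg _ (Finset.sum_congr rfl fun o _ => ?_)
    show _ = _ * o.1.natDegree
    rw [hdeg o, mul_comm]
  have hev : ∀ a : Option (Orbit F r) → ℕ, (∀ o, a (some (π o)) = a (some o)) → Even (i * ∑ o, a (some o)) := by
    intro a ha
    rcases Nat.even_or_odd i with he | ho
    · exact he.mul_right _
    · refine Even.mul_left ?_ i
      rw [← ZMod.natCast_eq_zero_iff_even, Nat.cast_sum]
      refine Finset.sum_involution (fun o _ => π o) (fun o _ => ?_) (fun o _ _ => hfixπ ho o)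
        (fun o _ => Finset.mem_univ _) (fun o _ => hπ o)
      rw [ha]
      exact CharTwo.add_self_eq_zero _
  have hinvariant : ∀ g : GL (Fin N) F, g ^ r = 1 → IsConj g (adjGL σ g)⁻¹ →
      ∀ o, mult (fac F r) g (some (π o)) = mult (fac F r) g (some o) := fun g hg hc =>
    (isConj_adj_inv_iff σ (fun _ => rfl) hr hrF (p := p) (k := 0) (e := 1) (fun x => (pow_one x).symm) hr1 hee
      (pow_zero p).symm g hg).1 hc
  have forced : ∀ (R : QuadraticForm F (ι → F)), (QuadraticMap.polarBilin R).Nondegenerate → ∀ (α : orthGroup R),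
      α ^ r = 1 → (∀ v, α.1 v = v → v = 0) → (Even i → i ∣ N) → ∀ m, N = 2 * m →
      HasSign R m (if Odd i then 1 else (-1) ^ (N / i)) := by
    intro R hR α hα hfix hdvd m hm
    have hdim : finrank F (ι → F) = 2 * m := by rw [Module.finrank_fintype_fun_eq_card, hcard, hm]
    split_ifs with ho
    · exact OrthFixFree.sign_of_pairs hrF hR α hα hfix (fun o => hfixπ ho o) hdim
    · obtain ⟨j, hj⟩ := Nat.not_odd_iff_even.1 ho
      obtain ⟨s, hs⟩ := hdvd ⟨j, hj⟩
      have hm' : m = j * s := by rw [hj, ← two_mul, mul_assoc] at hs; omega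
      rw [show N / i = s by rw [hs, Nat.mul_div_cancel_left _ hi0], hm']
      refine OrthFixFree.sign_of_even hR α hα hfix hr2 (by rw [hF]; exact hhalf j hj) ?_ (by rw [hdim, hm'])
      rw [hF]
      intro h1
      rw [h1, orderOf_one] at hi
      omega
  let T := {C : ConjClasses (GL (Fin N) F) // ∃ g : GL (Fin N) F, ConjClasses.mk g = C ∧ Cond g}
  have e : Nat.card {C : ConjClasses ↥(Cfsg.isometryGroup F Qf) //
      ∃ g : ↥(Cfsg.isometryGroup F Qf), ConjClasses.mk g = C ∧ orderOf g = r} = Nat.card T := by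
    let tO := toOrth Q hQf
    let em : ↥(Cfsg.isometryGroup F Qf) →* GL (Fin N) F := emb.comp tO.toMonoidHom
    have heminj : Function.Injective em := hembinj.comp tO.injective
    refine Nat.card_eq_of_bijective (fun C => (⟨ConjClasses.map em C.1, ?_⟩ : T)) ⟨?_, ?_⟩
    · obtain ⟨g, hg, ho⟩ := C.2
      have hpow : em g ^ r = 1 := by rw [← map_pow, ← ho, pow_orderOf_eq_one, map_one]
      have hadj : IsConj (em g) (adjGL σ (em g))⁻¹ := isConj_adj_inv_of_form _ hB₀ fun x y => by
        show polar Q (b.symm ((emb (tO g)).val.mulVec x)) (b.symm ((emb (tO g)).val.mulVec y)) = _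
        rw [hemb, hemb, b.symm_apply_apply, b.symm_apply_apply, polar_isom]
        rfl
      refine ⟨em g, by rw [← hg]; rfl, by rw [orderOf_injective em heminj, ho], hadj, fun h0 => hOk.2 ?_⟩
      refine forced Q hQ (tO g) (by rw [← map_pow, ← ho, pow_orderOf_eq_one, map_one]) ?_ ?_
      · intro v hv
        rw [hnone, Submodule.finrank_eq_zero] at h0
        have hb : b v ∈ LinearMap.ker ((Matrix.toLin' (em g).val : Module.End F (Fin N → F)) - 1) := by
          rw [LinearMap.mem_ker, LinearMap.sub_apply, Matrix.toLin'_apply, sub_eq_zero]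
          show (emb (tO g)).val.mulVec (b v) = _
          rw [hemb, b.symm_apply_apply, hv]
          rfl
        rw [h0, Submodule.mem_bot] at hb
        exact b.map_eq_zero_iff.1 hb
      · intro _
        have h := hsum _ hpow
        rw [h0, zero_add] at h
        exact ⟨_, h.symm⟩
    · intro a c hac
      obtain ⟨g, hg, hgo⟩ := a.2
      obtain ⟨h, hh, -⟩ := c.2
      refine Subtype.ext ?_
      have e : ConjClasses.map em a.1 = ConjClasses.map em c.1 := congrArg Subtype.val hac
      rw [← hg, ← hh] at e ⊢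
      refine ConjClasses.mk_eq_mk_iff_isConj.2 ?_
      obtain ⟨d, hd⟩ := isConj_iff.1 (ConjClasses.mk_eq_mk_iff_isConj.1 e)
      let γ : (ι → F) ≃ₗ[F] (ι → F) :=
        b.trans ((Matrix.GeneralLinearGroup.toLin d).toLinearEquiv.trans b.symm)
      have hγ : ∀ x, γ ((tO g).1 x) = (tO h).1 (γ x) := fun x => by
        have e1 := congrArg (fun z : GL (Fin N) F => z.val.mulVec (b x)) (mul_inv_eq_iff_eq_mul.1 hd)
        simp only [Units.val_mul, ← Matrix.mulVec_mulVec] at e1
        rw [show em g = emb (tO g) from rfl, show em h = emb (tO h) from rfl, hemb, hemb, b.symm_apply_apply] at e1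
        show b.symm (d.val.mulVec (b ((tO g).1 x))) = (tO h).1 (b.symm (d.val.mulVec (b x)))
        rw [e1, b.symm_apply_apply]
      obtain ⟨k, hk⟩ := OrthConj.exists_conj Q hQ (tO g) (tO h) γ hγ r hodd hrF
        (by rw [← map_pow, ← hgo, pow_orderOf_eq_one, map_one])
      refine isConj_iff.2 ⟨tO.symm k, tO.injective ?_⟩
      rw [map_mul, map_mul, map_inv, MulEquiv.apply_symm_apply, mul_inv_eq_iff_eq_mul]
      exact Subtype.ext (LinearEquiv.ext hk)
    · rintro ⟨C, g, rfl, hg, hgc, hgok⟩
      have hgr : g ^ r = 1 := hg ▸ pow_orderOf_eq_one g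
      obtain ⟨B, hB, hBi⟩ := exists_form_of_isConj g hgc
      let α : (ι → F) ≃ₗ[F] (ι → F) :=
        b.trans ((Matrix.GeneralLinearGroup.toLin g).toLinearEquiv.trans b.symm)
      have hαap : ∀ x, b (α x) = g.val.mulVec (b x) := fun x => b.apply_symm_apply _
      let B' : (ι → F) →ₗ[F] (ι → F) →ₗ[F] F := B.compl₁₂ b.toLinearMap b.toLinearMap
      have hB' : B'.Nondegenerate := by
        refine ⟨fun x hx => b.map_eq_zero_iff.1 (hB.1 _ fun y => ?_), fun x hx => b.map_eq_zero_iff.1 (hB.2 _ fun y => ?_)⟩ <;>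
        · obtain ⟨y', rfl⟩ := b.surjective y
          exact hx y'
      have hαpow : (α.toLinearMap : Module.End F (ι → F)) ^ r = 1 := by
        have key : ∀ k : ℕ, ∀ x, b (((α.toLinearMap : Module.End F (ι → F)) ^ k) x) = (g ^ k).val.mulVec (b x) :=
            fun k => by
          induction k with
          | zero => intro x; rw [pow_zero, pow_zero, Units.val_one, Matrix.one_mulVec]; rfl
          | succ k ih =>
            intro x
            rw [pow_succ, Module.End.mul_apply, ih, pow_succ, Units.val_mul, ← Matrix.mulVec_mulVec]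
            exact congrArg _ (hαap x)
        exact LinearMap.ext fun x => b.injective (by rw [key, hgr, Units.val_one, Matrix.one_mulVec]; rfl)
      have hker : finrank F (LinearMap.ker ((α.toLinearMap : Module.End F (ι → F)) - 1)) =
          mult (fac F r) g none := by
        rw [hnone, ← LinearEquiv.finrank_map_eq b]
        refine congrArg (fun U : Submodule F (Fin N → F) => finrank F U) ?_
        ext y
        obtain ⟨x, rfl⟩ := b.surjective y
        rw [Submodule.mem_map_equiv, b.symm_apply_apply, LinearMap.mem_ker, LinearMap.mem_ker, LinearMap.sub_apply,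
          LinearMap.sub_apply, sub_eq_zero, sub_eq_zero, Matrix.toLin'_apply, Module.End.one_apply, Module.End.one_apply,
          ← hαap]
        exact b.injective.eq_iff.symm
      obtain ⟨h, φ, hφ⟩ := OrthRealise.exists_preserving hQ hB' α (fun x y => by
          show B (b (α x)) (b (α y)) = _
          rw [hαap, hαap, hBi]; rfl)
        hodd hrF hαpow (by
          have h1 := LinearMap.finrank_range_add_finrank_ker ((α.toLinearMap : Module.End F (ι → F)) - 1)
          rw [hker, Module.finrank_fintype_fun_eq_card, hcard] at h1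
          have h2 := hsum g hgr
          have h3 := hev _ (hinvariant g hgr hgc)
          rw [show finrank F (LinearMap.range ((α.toLinearMap : Module.End F (ι → F)) - 1)) =
            i * ∑ o, mult (fac F r) g (some o) by omega]
          exact h3)
        (fun hfix m R hm hR hRα ε hε => by
          have h0 : mult (fac F r) g none = 0 := by
            rw [← hker, Submodule.finrank_eq_zero, LinearMap.ker_eq_bot']
            exact fun x hx => hfix x (sub_eq_zero.1 hx)
          rw [Module.finrank_fintype_fun_eq_card, hcard] at hm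
          have hαR : (⟨α, hRα⟩ : orthGroup R) ^ r = 1 := Subtype.ext (LinearEquiv.ext fun x => by
            rw [← OrthFixFree.pow_coe]; exact LinearMap.congr_fun hαpow x)
          have hf := forced R hR ⟨α, hRα⟩ hαR hfix (fun _ => ⟨∑ o, mult (fac F r) g (some o), by
            have h := hsum g hgr; rw [h0, zero_add] at h; exact h.symm⟩) m hm
          rw [sign_unique hε hf]
          exact (hOk.1 (hgok h0)) m hm)
      have hconj : IsConj g (emb h) := by
        let ψ := (b.symm.trans φ).trans b
        let d : GL (Fin N) F :=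
          { val := LinearMap.toMatrix' ψ.toLinearMap
            inv := LinearMap.toMatrix' ψ.symm.toLinearMap
            val_inv := by rw [← LinearMap.toMatrix'_comp]; simp
            inv_val := by rw [← LinearMap.toMatrix'_comp]; simp }
        refine isConj_iff.2 ⟨d, ?_⟩
        rw [mul_inv_eq_iff_eq_mul]
        refine Units.ext (Matrix.toLin'.injective (LinearMap.ext fun x => ?_))
        simp only [Units.val_mul, Matrix.toLin'_mul, LinearMap.comp_apply, d, Matrix.toLin'_toMatrix',
          LinearEquiv.coe_coe]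
        show b (φ (b.symm (g.val.mulVec x))) = (emb h).val.mulVec (b (φ (b.symm x)))
        rw [hemb, b.symm_apply_apply, ← hφ]
        obtain ⟨y, rfl⟩ := b.surjective x
        rw [← hαap, b.symm_apply_apply, b.symm_apply_apply]
      have hh : em (tO.symm h) = emb h := congrArg emb (tO.apply_symm_apply h)
      refine ⟨⟨ConjClasses.mk (tO.symm h), tO.symm h, rfl, ?_⟩,
        Subtype.ext (ConjClasses.mk_eq_mk_iff_isConj.2 (hh.symm ▸ hconj.symm))⟩
      obtain ⟨d, hd⟩ := isConj_iff.1 hconj
      rw [← orderOf_injective em heminj, hh, ← hd, ← hg]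
      exact orderOf_injective (MulAut.conj d).toMonoidHom (MulAut.conj d).injective g
  rw [e, card_classes irreducible_fac (coprime_fac hr hrF) (not_X_dvd hr hrF) Cond
    (fun a => (∃ o, a (some o) ≠ 0) ∧ (∀ o, a (some (π o)) = a (some o)) ∧ (a none = 0 → Ok))
    (fun g h => hzero g (h.1 ▸ pow_orderOf_eq_one g)) ?_]
  · have e2 : Nat.card {a : Option (Orbit F r) → ℕ // (∑ o, a o * (fac F r o).natDegree = N) ∧
        (∃ o, a (some o) ≠ 0) ∧ (∀ o, a (some (π o)) = a (some o)) ∧ (a none = 0 → Ok)} =
      Nat.card {a : Option (Orbit F r) → ℕ // a none + i * ∑ o, a (some o) = N ∧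
        (∀ o, a (some (π o)) = a (some o)) ∧ (∃ o, a (some o) ≠ 0) ∧ (a none = 0 → Ok)} := by
      refine Nat.card_congr (Equiv.subtypeEquivRight fun a => ?_)
      rw [show ∑ o, a o * (fac F r o).natDegree = a none + i * ∑ o, a (some o) from ?_]
      · tauto
      rw [Fintype.sum_option, Finset.mul_sum]
      congr 1
      · show a none * (X - C (1 : F)).natDegree = _
        rw [natDegree_X_sub_C, mul_one]
      · refine Finset.sum_congr rfl fun o _ => ?_
        show _ * o.1.natDegree = _
        rw [hdeg o, mul_comm]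
    rw [e2]
    obtain ⟨hA, hB⟩ := TupleCount.card_tuples_cond π hπ hi0 N hN1 Ok
    by_cases h4 : Odd i
    · rw [if_pos h4, hB (hfixπ h4), hcardO]
    · rw [if_neg h4, hA (hidπ h4), hcardO]
  · intro g hg
    show (orderOf g = r ∧ IsConj g (adjGL σ g)⁻¹ ∧ (mult (fac F r) g none = 0 → Ok)) ↔ _
    rw [order_iff hr hrF g hg]
    refine and_congr_right fun ho => and_congr ?_ Iff.rfl
    exact isConj_adj_inv_iff σ (fun _ => rfl) hr hrF (p := p) (k := 0) (e := 1) (fun x => (pow_one x).symm) hr1 hee
      (pow_zero p).symm g ((orderOf_dvd_iff_pow_eq_one).1 ((order_iff hr hrF g hg).2 ho).dvd)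

end CfsgLib.KnownC.OrthClasses
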