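import Cfsg.Prelude.Def_LieTypeDatum
import Cfsg.Agent.Lib.Orth.Similitude
import Cfsg.Agent.Lib.Orth.Bridge

set_option autoImplicit false
set_option linter.unusedSectionVars false

/-! The image of the similitude group in the automorphism group of `PΩ(Q)`. -/

namespace CfsgLib.KnownC.POmegaAut

open CfsgLib.Orth
open scoped Matrix

universe u

/-- Restriction of automorphisms to the commutator subgroup. -/
def restrictComm {G : Type*} [Group G] : MulAut G →* MulAut ↥(commutator G) where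
  toFun e :=
    { toFun := fun x => ⟨e x.1, by
        have h := Subgroup.map_commutator (⊤ : Subgroup G) ⊤ e.toMonoidHom
        rw [Subgroup.map_top_of_surjective _ e.surjective] at h
        exact h.le ⟨x.1, x.2, rfl⟩⟩
      invFun := fun x => ⟨e.symm x.1, by
        have h := Subgroup.map_commutator (⊤ : Subgroup G) ⊤ e.symm.toMonoidHom
        rw [Subgroup.map_top_of_surjective _ e.symm.surjective] at h
        exact h.le ⟨x.1, x.2, rfl⟩⟩
      left_inv := fun x => Subtype.ext (e.symm_apply_apply _)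
      right_inv := fun x => Subtype.ext (e.apply_symm_apply _)
      map_mul' := fun x y => Subtype.ext (map_mul e _ _) }
  map_one' := by ext x; rfl
  map_mul' a b := by ext x; rfl

theorem center_map {H : Type*} [Group H] (e : MulAut H) :
    (Subgroup.center H).map e.toMonoidHom = Subgroup.center H := by
  ext x
  constructor
  · rintro ⟨y, hy, rfl⟩
    refine Subgroup.mem_center_iff.2 fun z => ?_
    apply e.symm.injective
    rw [map_mul, map_mul, MulEquiv.coe_toMonoidHom, e.symm_apply_apply]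
    exact Subgroup.mem_center_iff.1 hy _
  · intro hx
    refine ⟨e.symm x, Subgroup.mem_center_iff.2 fun z => ?_, e.apply_symm_apply x⟩
    apply e.injective
    rw [map_mul, map_mul, e.apply_symm_apply]
    exact Subgroup.mem_center_iff.1 hx _

/-- The action on the central quotient. -/
def quotCenter {H : Type*} [Group H] : MulAut H →* MulAut (H ⧸ Subgroup.center H) where
  toFun e := QuotientGroup.congr _ _ e (center_map e)
  map_one' := by ext x; induction x using QuotientGroup.induction_on; rfl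
  map_mul' a b := by ext x; induction x using QuotientGroup.induction_on; rfl

variable {F : Type u} [Field F] {ι : Type} [Fintype ι] [DecidableEq ι] (Qf : (ι → F) → F)

/-- The similitude group. -/
abbrev GS : Subgroup (GL ι F) := Cfsg.Geo.quadSimilarityGroup (F := F) Qf

theorem mulVec_cancel (g : GL ι F) (v : ι → F) :
    (g : Matrix ι ι F) *ᵥ (((g⁻¹ : GL ι F) : Matrix ι ι F) *ᵥ v) = v := by
  rw [Matrix.mulVec_mulVec, ← Units.val_mul, mul_inv_cancel, Units.val_one, Matrix.one_mulVec]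

theorem conj_mem (g : GS Qf) {h : GL ι F} (hh : h ∈ Cfsg.isometryGroup F Qf) :
    g.1 * h * g.1⁻¹ ∈ Cfsg.isometryGroup F Qf := by
  obtain ⟨c, hc⟩ := g.2
  intro u _
  show Qf (((g.1 * h * g.1⁻¹ : GL ι F) : Matrix ι ι F) *ᵥ u) = Qf u
  have e := hh (((g.1⁻¹ : GL ι F) : Matrix ι ι F) *ᵥ u) (((g.1⁻¹ : GL ι F) : Matrix ι ι F) *ᵥ u)
  change Qf ((h : Matrix ι ι F) *ᵥ _) = Qf _ at e
  rw [Units.val_mul, Units.val_mul, ← Matrix.mulVec_mulVec, ← Matrix.mulVec_mulVec, hc, e, ← hc, mulVec_cancel]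

/-- Conjugation on the isometry group. -/
def conjIso : GS Qf →* MulAut ↥(Cfsg.isometryGroup F Qf) where
  toFun g :=
    { toFun := fun h => ⟨g.1 * h.1 * g.1⁻¹, conj_mem Qf g h.2⟩
      invFun := fun h => ⟨g.1⁻¹ * h.1 * g.1, by simpa using conj_mem Qf g⁻¹ h.2⟩
      left_inv := fun h => Subtype.ext (by simp [mul_assoc])
      right_inv := fun h => Subtype.ext (by simp [mul_assoc])
      map_mul' := fun a b => Subtype.ext (by simp [mul_assoc]) }
  map_one' := by ext h; simp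
  map_mul' a b := by
    refine MulEquiv.ext fun h => Subtype.ext ?_
    show (a.1 * b.1) * h.1 * (a.1 * b.1)⁻¹ = a.1 * (b.1 * h.1 * b.1⁻¹) * a.1⁻¹
    group

/-- The automorphism of `PΩ` induced by a similitude. -/
def Φ : GS Qf →* MulAut (Cfsg.POmega F Qf) :=
  quotCenter.comp (restrictComm.comp (conjIso Qf))

/-- The conjugate of an element of `Ω`. -/
def conjΩ (g : GS Qf) (s : ↥(Cfsg.Omega F Qf)) : ↥(Cfsg.Omega F Qf) := restrictComm (conjIso Qf g) s

theorem Φ_mk (g : GS Qf) (s : ↥(Cfsg.Omega F Qf)) :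
    Φ Qf g (QuotientGroup.mk s) = QuotientGroup.mk (conjΩ Qf g s) := rfl

theorem induced_iff (g : GS Qf) (β : MulAut (Cfsg.POmega F Qf)) :
    Cfsg.IsInducedBySemilinearPOmega Qf g.1 (RingEquiv.refl F) β ↔ β = Φ Qf g := by
  constructor
  · intro h
    refine MulEquiv.ext fun x => ?_
    induction x using QuotientGroup.induction_on with
    | _ s =>
      rw [Φ_mk]
      refine h s (conjΩ Qf g s) ?_
      show ((g.1 * (s.1 : GL ι F) * g.1⁻¹ : GL ι F) : Matrix ι ι F) = _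
      rw [Units.val_mul, Units.val_mul]
      congr 2
  · rintro rfl s s' hs'
    rw [Φ_mk]
    congr 1
    refine Subtype.ext (Subtype.ext (Units.ext ?_))
    rw [hs']
    show ((g.1 * (s.1 : GL ι F) * g.1⁻¹ : GL ι F) : Matrix ι ι F) = _
    rw [Units.val_mul, Units.val_mul]
    congr 2

theorem closure_eq_map (S : Subgroup (GS Qf)) (P : MulAut (Cfsg.POmega F Qf) → Prop)
    (h : ∀ β, P β ↔ ∃ g ∈ S, β = Φ Qf g) : Subgroup.closure {β | P β} = S.map (Φ Qf) := by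
  have : {β | P β} = ((S.map (Φ Qf) : Subgroup _) : Set (MulAut (Cfsg.POmega F Qf))) := by
    ext β
    rw [Set.mem_ofPred_eq, h, SetLike.mem_coe, Subgroup.mem_map]
    exact ⟨fun ⟨g, hg, e⟩ => ⟨g, hg, e.symm⟩, fun ⟨g, hg, e⟩ => ⟨g, hg, e.symm⟩⟩
  rw [this, Subgroup.closure_eq]

theorem isometry_le_GS : Cfsg.isometryGroup F Qf ≤ GS Qf := fun g hg => ⟨1, fun v => by
  rw [Units.val_one, one_mul]; exact hg v v⟩

/-- The isometries inside the similitude group. -/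
def isoSub : Subgroup (GS Qf) := (Cfsg.isometryGroup F Qf).subgroupOf (GS Qf)

/-- The special isometries inside the similitude group. -/
def soSub : Subgroup (GS Qf) := (Cfsg.specialIsometryGL F Qf).subgroupOf (GS Qf)

/-- `Ω` inside the similitude group. -/
def omegaSub : Subgroup (GS Qf) :=
  (Cfsg.Omega F Qf).map (Subgroup.inclusion (isometry_le_GS Qf))

/-- The scalar similitudes. -/
def scalars : Subgroup (GS Qf) where
  carrier := {g | ∃ c : F, (g.1 : Matrix ι ι F) = c • 1}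
  one_mem' := ⟨1, by simp⟩
  mul_mem' := by
    rintro a b ⟨c, hc⟩ ⟨d, hd⟩
    exact ⟨c * d, by simp [hc, hd, smul_smul]; rw [mul_comm]⟩
  inv_mem' := by
    rintro a ⟨c, hc⟩
    refine ⟨c⁻¹, ?_⟩
    show ((a.1⁻¹ : GL ι F) : Matrix ι ι F) = c⁻¹ • 1
    rcases eq_or_ne c 0 with rfl | hc0
    · have h : (1 : Matrix ι ι F) = 0 := by
        rw [← Units.val_one, ← inv_mul_cancel a.1, Units.val_mul, hc, zero_smul, mul_zero]
      rw [← one_mul ((a.1⁻¹ : GL ι F) : Matrix ι ι F), h, zero_mul, smul_zero]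
    · have h1 : ((a.1⁻¹ : GL ι F) : Matrix ι ι F) * (c • 1) = 1 := by
        rw [← hc, ← Units.val_mul, inv_mul_cancel, Units.val_one]
      rw [Matrix.mul_smul, mul_one] at h1
      rw [← h1, smul_smul, inv_mul_cancel₀ hc0, one_smul]

theorem pgoAut_eq : Cfsg.pgoAut F Qf = (⊤ : Subgroup (GS Qf)).map (Φ Qf) :=
  closure_eq_map Qf ⊤ _ fun β =>
    ⟨fun ⟨g, hg, hi⟩ => ⟨⟨g, hg⟩, trivial, (induced_iff Qf ⟨g, hg⟩ β).1 hi⟩,
      fun ⟨g, _, hi⟩ => ⟨g.1, g.2, (induced_iff Qf g β).2 hi⟩⟩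

theorem poAut_eq : Cfsg.poAut F Qf = (isoSub Qf).map (Φ Qf) :=
  closure_eq_map Qf _ _ fun β =>
    ⟨fun ⟨g, hg, hi⟩ => ⟨⟨g, isometry_le_GS Qf hg⟩, hg, (induced_iff Qf ⟨g, isometry_le_GS Qf hg⟩ β).1 hi⟩,
      fun ⟨g, hg, hi⟩ => ⟨g.1, hg, (induced_iff Qf g β).2 hi⟩⟩

theorem psoAut_eq : Cfsg.psoAut F Qf = (soSub Qf).map (Φ Qf) :=
  closure_eq_map Qf _ _ fun β =>
    ⟨fun ⟨g, hg, hi⟩ => ⟨⟨g, isometry_le_GS Qf hg.1⟩, hg, (induced_iff Qf ⟨g, isometry_le_GS Qf hg.1⟩ β).1 hi⟩,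
      fun ⟨g, hg, hi⟩ => ⟨g.1, hg, (induced_iff Qf g β).2 hi⟩⟩

theorem inn_eq : Cfsg.Inn (Cfsg.POmega F Qf) = (omegaSub Qf).map (Φ Qf) := by
  have key : ∀ s : ↥(Cfsg.Omega F Qf),
      MulAut.conj (QuotientGroup.mk s : Cfsg.POmega F Qf) = Φ Qf (Subgroup.inclusion (isometry_le_GS Qf) s.1) := by
    intro s
    refine MulEquiv.ext fun x => ?_
    induction x using QuotientGroup.induction_on with
    | _ t =>
      rw [MulAut.conj_apply, Φ_mk, ← QuotientGroup.mk_mul, ← QuotientGroup.mk_inv, ← QuotientGroup.mk_mul]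
      congr 1
  apply le_antisymm
  · rintro _ ⟨x, rfl⟩
    induction x using QuotientGroup.induction_on with
    | _ s => exact ⟨_, ⟨s.1, s.2, rfl⟩, (key s).symm⟩
  · rintro _ ⟨_, ⟨s, hs, rfl⟩, rfl⟩
    exact ⟨_, key ⟨s, hs⟩⟩

theorem scalars_le_ker : scalars Qf ≤ (Φ Qf).ker := by
  rintro g ⟨c, hc⟩
  rw [MonoidHom.mem_ker]
  refine MulEquiv.ext fun x => ?_
  induction x using QuotientGroup.induction_on with
  | _ s =>
    rw [Φ_mk]
    refine congrArg (QuotientGroup.mk (s := Subgroup.center (Cfsg.Omega F Qf))) ?_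
    refine Subtype.ext (Subtype.ext ?_)
    show g.1 * (s.1 : GL ι F) * g.1⁻¹ = s.1
    rw [mul_inv_eq_iff_eq_mul]
    refine Units.ext ?_
    rw [Units.val_mul, Units.val_mul, hc, Matrix.smul_mul, one_mul, Matrix.mul_smul, mul_one]

section Linear

variable (Q : QuadraticForm F (ι → F)) (hQf : ∀ v, Qf v = Q v)

/-- A similitude as a linear map. -/
noncomputable def lin : GS Qf →* ((ι → F) ≃ₗ[F] (ι → F)) :=
  ((LinearMap.GeneralLinearGroup.generalLinearEquiv F (ι → F)).toMonoidHom.comp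
    Matrix.GeneralLinearGroup.toLin.toMonoidHom).comp (Subgroup.subtype _)

theorem lin_apply (g : GS Qf) (v : ι → F) : lin Qf g v = (g.1 : Matrix ι ι F) *ᵥ v := by
  simp [lin, LinearMap.GeneralLinearGroup.generalLinearEquiv]

theorem lin_injective : Function.Injective (lin Qf) := fun g h e =>
  Subtype.ext (Units.ext (Matrix.ext_of_mulVec_single fun i => by rw [← lin_apply, ← lin_apply, e]))

theorem det_lin (g : GS Qf) :
    LinearMap.det ((lin Qf g : (ι → F) ≃ₗ[F] (ι → F)) : (ι → F) →ₗ[F] (ι → F)) = (g.1 : Matrix ι ι F).det := by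
  rw [show ((lin Qf g : (ι → F) ≃ₗ[F] (ι → F)) : (ι → F) →ₗ[F] (ι → F)) = Matrix.toLin' (g.1 : Matrix ι ι F) from
    LinearMap.ext fun v => lin_apply Qf g v, LinearMap.det_toLin']

include hQf in
theorem exists_mult (g : GS Qf) : ∃ μ : F, μ ≠ 0 ∧ IsSimil Q (lin Qf g) μ := by
  obtain ⟨c, hc⟩ := g.2
  exact ⟨c, c.ne_zero, fun v => by rw [lin_apply, ← hQf, hc, hQf]⟩

/-- The similitude given by a linear map. -/
noncomputable def mkGS (g : (ι → F) ≃ₗ[F] (ι → F)) {μ : F} (hμ : μ ≠ 0) (hg : IsSimil Q g μ)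
    (hQf : ∀ v, Qf v = Q v) : GS Qf :=
  ⟨Matrix.GeneralLinearGroup.toLin.symm ((LinearMap.GeneralLinearGroup.generalLinearEquiv F (ι → F)).symm g),
    Units.mk0 μ hμ, fun v => by
      have e : ((Matrix.GeneralLinearGroup.toLin.symm
          ((LinearMap.GeneralLinearGroup.generalLinearEquiv F (ι → F)).symm g) : GL ι F) : Matrix ι ι F) =
          LinearMap.toMatrix' (g : (ι → F) →ₗ[F] (ι → F)) := rfl
      rw [e, LinearMap.toMatrix'_mulVec, hQf, hQf]; exact hg v⟩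

theorem lin_mkGS (g : (ι → F) ≃ₗ[F] (ι → F)) {μ : F} (hμ : μ ≠ 0) (hg : IsSimil Q g μ) :
    lin Qf (mkGS Qf Q g hμ hg hQf) = g := by
  show (LinearMap.GeneralLinearGroup.generalLinearEquiv F (ι → F))
    (Matrix.GeneralLinearGroup.toLin (Matrix.GeneralLinearGroup.toLin.symm _)) = g
  rw [MulEquiv.apply_symm_apply, MulEquiv.apply_symm_apply]

/-- The isometries as similitudes. -/
noncomputable def ofOrth : orthGroup Q →* GS Qf :=
  (Subgroup.inclusion (isometry_le_GS Qf)).comp (toOrth Q hQf).symm.toMonoidHom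

theorem lin_ofOrth (h : orthGroup Q) : lin Qf (ofOrth Qf Q hQf h) = h.1 := LinearEquiv.ext fun v => by
  rw [lin_apply]
  show ((((toOrth Q hQf).symm h : GL ι F)) : Matrix ι ι F) *ᵥ v = _
  rw [toOrth_symm_coe, matOf_mulVec]

theorem mem_isoSub_iff (g : GS Qf) : g ∈ isoSub Qf ↔ ∃ h : orthGroup Q, g = ofOrth Qf Q hQf h := by
  constructor
  · intro hg
    refine ⟨toOrth Q hQf ⟨g.1, hg⟩, Subtype.ext ?_⟩
    show g.1 = (((toOrth Q hQf).symm (toOrth Q hQf ⟨g.1, hg⟩)) : GL ι F)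
    rw [MulEquiv.symm_apply_apply]
  · rintro ⟨h, rfl⟩
    exact ((toOrth Q hQf).symm h).2

theorem mem_omegaSub_iff (g : GS Qf) :
    g ∈ omegaSub Qf ↔ ∃ h ∈ commutator (orthGroup Q), g = ofOrth Qf Q hQf h := by
  constructor
  · rintro ⟨s, hs, rfl⟩
    exact ⟨toOrth Q hQf s, (mem_Omega_iff Q hQf s).1 hs,
      congrArg _ ((toOrth Q hQf).symm_apply_apply s).symm⟩
  · rintro ⟨h, hh, rfl⟩
    exact ⟨(toOrth Q hQf).symm h, (mem_Omega_iff Q hQf _).2 (by rwa [MulEquiv.apply_symm_apply]), rfl⟩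

theorem mem_soSub_iff (g : GS Qf) :
    g ∈ soSub Qf ↔ ∃ h : orthGroup Q, LinearMap.det (h.1 : (ι → F) →ₗ[F] (ι → F)) = 1 ∧ g = ofOrth Qf Q hQf h := by
  constructor
  · rintro ⟨hg, hd⟩
    refine ⟨toOrth Q hQf ⟨g.1, hg⟩, ?_, Subtype.ext ?_⟩
    swap
    · show g.1 = (((toOrth Q hQf).symm (toOrth Q hQf ⟨g.1, hg⟩)) : GL ι F)
      rw [MulEquiv.symm_apply_apply]
    rw [det_toOrth]
    exact congrArg Units.val hd
  · rintro ⟨h, hh, rfl⟩
    refine ⟨((toOrth Q hQf).symm h).2, Units.ext ?_⟩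
    show (((toOrth Q hQf).symm h : GL ι F) : Matrix ι ι F).det = 1
    rw [← det_toOrth Q hQf, MulEquiv.apply_symm_apply]
    exact hh

/-- Two orthogonal hyperbolic pairs. -/
def TwoPairs : Prop :=
  ∃ e₀ f₀ e₁ f₁ : ι → F, Q e₀ = 0 ∧ Q f₀ = 0 ∧ Q e₁ = 0 ∧ Q f₁ = 0 ∧ QuadraticMap.polar Q e₀ f₀ = 1 ∧
    QuadraticMap.polar Q e₁ f₁ = 1 ∧ QuadraticMap.polar Q e₀ e₁ = 0 ∧ QuadraticMap.polar Q e₀ f₁ = 0 ∧
    QuadraticMap.polar Q f₀ e₁ = 0 ∧ QuadraticMap.polar Q f₀ f₁ = 0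

include hQf in
/-- The kernel of the action on `PΩ` is the scalars. -/
theorem ker_eq (hQ : (QuadraticMap.polarBilin Q).Nondegenerate) (h2 : (2 : F) ≠ 0) (hp : TwoPairs Q) :
    (Φ Qf).ker = scalars Qf := by
  obtain ⟨e₀, f₀, e₁, f₁, he₀, hf₀, he₁, hf₁, h00, h11, hee, hef, hfe, hff⟩ := hp
  refine le_antisymm (fun g hg => ?_) (scalars_le_ker Qf)
  have comm := fun (A : (ι → F) →ₗ[F] (ι → F))
      (hA : ∀ (h : orthGroup Q) v, A (((h * h) * (h * h)).1 v) = ((h * h) * (h * h)).1 (A v)) =>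
    scalar_of_commute hQ h2 he₀ hf₀ he₁ hf₁ h00 h11 hee hef hfe hff A hA
  -- squares as elements of `Ω`
  have sqΩ : ∀ h : orthGroup Q, (toOrth Q hQf).symm (h * h) ∈ Cfsg.Omega F Qf := fun h => by
    rw [mem_Omega_iff Q hQf, MulEquiv.apply_symm_apply]
    exact sq_mem_commutator hQ (good_of_two_ne h2) h
  have matmul : ∀ (h : orthGroup Q) v,
      (((toOrth Q hQf).symm h : GL ι F) : Matrix ι ι F) *ᵥ v = h.1 v := fun h v => by
    rw [toOrth_symm_coe, matOf_mulVec]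
  -- the centre is `±1`
  have hcen : ∀ z : ↥(Cfsg.Omega F Qf), z ∈ Subgroup.center _ →
      ∃ c : F, c * c = 1 ∧ ∀ v, ((z.1 : GL ι F) : Matrix ι ι F) *ᵥ v = c • v := by
    intro z hz
    obtain ⟨c, hc⟩ := comm (Matrix.toLin' ((z.1 : GL ι F) : Matrix ι ι F)) (fun h v => by
      have e := congrArg (fun s : ↥(Cfsg.Omega F Qf) => ((s.1 : GL ι F) : Matrix ι ι F) *ᵥ v)
        (Subgroup.mem_center_iff.1 hz ⟨_, sqΩ (h * h)⟩)
      simp only [Subgroup.coe_mul, Units.val_mul, ← Matrix.mulVec_mulVec, matmul] at e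
      simp only [Matrix.toLin'_apply]
      exact e.symm)
    refine ⟨c, ?_, hc⟩
    have h1 := z.1.2 (e₀ + f₀) (e₀ + f₀)
    change Qf (((z.1 : GL ι F) : Matrix ι ι F) *ᵥ (e₀ + f₀)) = Qf (e₀ + f₀) at h1
    rw [show ((z.1 : GL ι F) : Matrix ι ι F) *ᵥ (e₀ + f₀) = c • (e₀ + f₀) from hc _, hQf, hQf, quad_smul',
      quad_add', he₀, hf₀, h00] at h1
    linear_combination h1
  have hone : ∀ h : orthGroup Q, ∀ v, lin Qf g (((h * h) * (h * h)).1 v) = ((h * h) * (h * h)).1 (lin Qf g v) := by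
    intro h v
    set s : ↥(Cfsg.Omega F Qf) := ⟨_, sqΩ h⟩
    have e : (QuotientGroup.mk (conjΩ Qf g s) : Cfsg.POmega F Qf) = QuotientGroup.mk s := by
      rw [← Φ_mk, MonoidHom.mem_ker.1 hg]; rfl
    have hz := QuotientGroup.eq.1 e.symm
    obtain ⟨c, hc2, hc⟩ := hcen _ hz
    have key : ∀ w, lin Qf g ((h * h).1 w) = c • (h * h).1 (lin Qf g w) := by
      intro w
      have e1 := hc ((g.1 : Matrix ι ι F) *ᵥ w)
      have e2 : (((s⁻¹ * conjΩ Qf g s).1 : GL ι F) : Matrix ι ι F) =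
          (((s.1⁻¹ : ↥(Cfsg.isometryGroup F Qf)) : GL ι F) : Matrix ι ι F) *
            ((g.1 : Matrix ι ι F) * ((s.1 : GL ι F) : Matrix ι ι F) * ((g.1⁻¹ : GL ι F) : Matrix ι ι F)) := rfl
      rw [e2, ← Matrix.mulVec_mulVec, ← Matrix.mulVec_mulVec, ← Matrix.mulVec_mulVec] at e1
      rw [show ((g.1⁻¹ : GL ι F) : Matrix ι ι F) *ᵥ ((g.1 : Matrix ι ι F) *ᵥ w) = w by
        rw [Matrix.mulVec_mulVec, ← Units.val_mul, inv_mul_cancel, Units.val_one, Matrix.one_mulVec]] at e1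
      have e3 := congrArg (fun x => ((s.1 : GL ι F) : Matrix ι ι F) *ᵥ x) e1
      simp only [Matrix.mulVec_smul] at e3
      rw [show ((s.1 : GL ι F) : Matrix ι ι F) *ᵥ ((((s.1⁻¹ : ↥(Cfsg.isometryGroup F Qf)) : GL ι F) : Matrix ι ι F) *ᵥ
          ((g.1 : Matrix ι ι F) *ᵥ (((s.1 : GL ι F) : Matrix ι ι F) *ᵥ w))) =
          (g.1 : Matrix ι ι F) *ᵥ (((s.1 : GL ι F) : Matrix ι ι F) *ᵥ w) from mulVec_cancel _ _] at e3
      rw [show ((s.1 : GL ι F) : Matrix ι ι F) = (((toOrth Q hQf).symm (h * h) : GL ι F) : Matrix ι ι F) from rfl,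
        matmul, matmul] at e3
      rw [lin_apply, lin_apply]; exact e3
    show lin Qf g ((h * h).1 ((h * h).1 v)) = (h * h).1 ((h * h).1 (lin Qf g v))
    rw [key, key, map_smul, smul_smul, hc2, one_smul]
  obtain ⟨c, hc⟩ := comm (lin Qf g : (ι → F) →ₗ[F] (ι → F)) hone
  refine ⟨c, Matrix.ext_of_mulVec_single fun i => ?_⟩
  rw [← lin_apply, Matrix.smul_mulVec, Matrix.one_mulVec]
  exact hc _

end Linear

end CfsgLib.KnownC.POmegaAut
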