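import Cfsg.Agent.Lib.KnownC.POmegaQuot

set_option autoImplicit false
set_option linter.unusedSectionVars false

/-! `PGO / Inn` and its index two subgroup. -/

namespace CfsgLib.KnownC.POmegaAut

open CfsgLib.Orth CfsgLib.Derangements
open scoped Matrix

universe u

variable {F : Type u} [Field F] [Fintype F] {ι : Type} [Fintype ι] [DecidableEq ι] {Qf : (ι → F) → F}
  {Q : QuadraticForm F (ι → F)} {n : ℕ} (D : Setup Qf Q n)

namespace Setup

include D

/-- The image of the first reflection. -/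
noncomputable def R : GS Qf := D.iso (refl Q D.a)

theorem N_le_chi : D.N ≤ D.chi.ker := by
  rw [← D.soSub_le_chi]
  refine sup_le ?_ le_sup_right
  intro g hg
  refine Subgroup.mem_sup_left ?_
  obtain ⟨h, hh, rfl⟩ := (mem_omegaSub_iff Qf Q D.hQf g).1 hg
  classical
  exact (mem_soSub_iff Qf Q D.hQf _).2 ⟨h, ((mem_commutator_odd D.hQ D.h2 h).1 hh).1, rfl⟩

theorem omega_le_N {h : orthGroup Q} (hh : h ∈ commutator (orthGroup Q)) : D.iso h ∈ D.N :=
  D.iso_mem_N.2 (Or.inl hh)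

theorem chi_R : D.chi D.R = Multiplicative.ofAdd ((0 : ZMod 2), (1 : ZMod 2)) := by
  classical
  rw [D.chi_eq, R, D.mult_iso, D.eps_iso, det_refl Q (by rw [D.ha]; exact one_ne_zero), map_one]
  simp [bit, D.neg_one_ne]

theorem chi_s : D.chi D.s = Multiplicative.ofAdd ((1 : ZMod 2), bit (D.eps D.s)) := by
  classical
  rw [D.chi_eq, quadraticChar_neg_one_iff_not_isSquare.2 (show ¬ IsSquare (D.mult D.s) from D.hν)]
  simp [bit]

/-- Relations modulo `N`. -/
theorem relations [D.N.Normal] :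
    (QuotientGroup.mk (D.s * D.R) : GS Qf ⧸ D.N) ^ 4 = 1 ∧
      (QuotientGroup.mk D.R : GS Qf ⧸ D.N) * QuotientGroup.mk D.R = 1 ∧
      (QuotientGroup.mk D.R : GS Qf ⧸ D.N) * QuotientGroup.mk (D.s * D.R) * QuotientGroup.mk D.R =
        (QuotientGroup.mk (D.s * D.R))⁻¹ ∧
      (QuotientGroup.mk (D.s * D.R) : GS Qf ⧸ D.N) ^ 2 = QuotientGroup.mk (D.iso D.p) := by
  have hR : D.R * D.R = 1 := by rw [R, ← map_mul, refl_mul_self, map_one]
  have hs : (QuotientGroup.mk D.s : GS Qf ⧸ D.N) * QuotientGroup.mk D.s = 1 := by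
    rw [← QuotientGroup.mk_mul, QuotientGroup.eq_one_iff]
    exact Subgroup.mem_sup_right D.hs
  have hR' : (QuotientGroup.mk D.R : GS Qf ⧸ D.N) * QuotientGroup.mk D.R = 1 := by
    rw [← QuotientGroup.mk_mul, hR]; rfl
  set T : GS Qf ⧸ D.N := QuotientGroup.mk D.s with hT
  set A : GS Qf ⧸ D.N := QuotientGroup.mk D.R with hA
  set B : GS Qf ⧸ D.N := QuotientGroup.mk (D.iso (refl Q D.a')) with hB
  have hsr : (QuotientGroup.mk (D.s * D.R) : GS Qf ⧸ D.N) = T * A := rfl
  have hTAT : T * A * T = B := by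
    rw [show B = T * A * T⁻¹ from congrArg QuotientGroup.mk D.conj_refl_s.symm, inv_eq_of_mul_eq_one_right hs]
  have hBB : B * B = 1 := by rw [hB, ← QuotientGroup.mk_mul, ← map_mul, refl_mul_self, map_one]; rfl
  have hAB : B * A = A * B := by
    rw [hA, hB, R, ← QuotientGroup.mk_mul, ← QuotientGroup.mk_mul, ← map_mul, ← map_mul, QuotientGroup.eq, ← map_inv,
      ← map_mul]
    refine D.omega_le_N ?_
    rw [mem_commutator_iff, map_mul, map_inv, map_mul, map_mul, mul_comm (Abelianization.of (refl Q D.a')),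
      inv_mul_cancel]
  have h2 : (T * A) ^ 2 = A * B := by rw [pow_two, ← mul_assoc, hTAT, hAB]
  refine ⟨?_, hR', ?_, ?_⟩
  · rw [hsr, show (4 : ℕ) = 2 + 2 from rfl, pow_add, h2]
    calc A * B * (A * B) = A * (B * A) * B := by group
      _ = A * A * (B * B) := by rw [hAB]; group
      _ = 1 := by rw [hR', hBB, one_mul]
  · rw [hsr]
    refine (inv_eq_of_mul_eq_one_right ?_).symm
    calc T * A * (A * (T * A) * A) = T * (A * A) * T * (A * A) := by group
      _ = 1 := by simp only [hR', mul_one, hs]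
  · rw [hsr, h2, hA, hB, R, ← QuotientGroup.mk_mul, ← map_mul]; rfl

/-- Generation modulo `N`. -/
theorem generate [D.N.Normal] (x : GS Qf ⧸ D.N) :
    x ∈ Subgroup.closure ({QuotientGroup.mk (D.s * D.R), QuotientGroup.mk D.R} : Set (GS Qf ⧸ D.N)) := by
  classical
  set S := Subgroup.closure ({QuotientGroup.mk (D.s * D.R), QuotientGroup.mk D.R} : Set (GS Qf ⧸ D.N))
  have hR : (QuotientGroup.mk D.R : GS Qf ⧸ D.N) ∈ S := Subgroup.subset_closure (Set.mem_insert_of_mem _ rfl)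
  have hs : (QuotientGroup.mk D.s : GS Qf ⧸ D.N) ∈ S := by
    have h := mul_mem (Subgroup.subset_closure (Set.mem_insert (QuotientGroup.mk (D.s * D.R)) _) :
      (QuotientGroup.mk (D.s * D.R) : GS Qf ⧸ D.N) ∈ S) (inv_mem hR)
    rw [QuotientGroup.mk_mul, mul_inv_cancel_right] at h
    exact h
  have hsquare : ∀ g : GS Qf, IsSquare (D.mult g) → (QuotientGroup.mk g : GS Qf ⧸ D.N) ∈ S := by
    intro g hg
    obtain ⟨z, hz, h, rfl⟩ := D.exists_decomp g hg
    have hz1 : (QuotientGroup.mk z : GS Qf ⧸ D.N) = 1 :=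
      (QuotientGroup.eq_one_iff (N := D.N) z).2 (Subgroup.mem_sup_right hz)
    rw [QuotientGroup.mk_mul, hz1, one_mul]
    obtain ⟨w, hw, hwN⟩ := D.iso_reduce h
    rw [show (QuotientGroup.mk (D.iso h) : GS Qf ⧸ D.N) = QuotientGroup.mk w from (QuotientGroup.eq.2 hwN).symm]
    have hle : (Subgroup.closure ({D.iso (refl Q D.a), D.iso (refl Q D.a')} : Set (GS Qf))).map
        (QuotientGroup.mk' D.N) ≤ S := by
      rw [MonoidHom.map_closure, Subgroup.closure_le]
      rintro _ ⟨y, rfl | rfl, rfl⟩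
      · exact hR
      · show (QuotientGroup.mk (D.iso (refl Q D.a')) : GS Qf ⧸ D.N) ∈ S
        rw [← D.conj_refl_s]
        exact mul_mem (mul_mem hs hR) (inv_mem hs)
    exact hle ⟨w, hw, rfl⟩
  induction x using QuotientGroup.induction_on with
  | _ g =>
    by_cases hg : IsSquare (D.mult g)
    · exact hsquare g hg
    · have h : IsSquare (D.mult (g * D.s)) := by
        rw [← quadraticChar_one_iff_isSquare (D.mult_ne _), map_mul, map_mul,
          quadraticChar_neg_one_iff_not_isSquare.2 hg,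
          quadraticChar_neg_one_iff_not_isSquare.2 (show ¬ IsSquare (D.mult D.s) from D.hν)]
        rfl
      have := mul_mem (hsquare _ h) (inv_mem hs)
      rwa [QuotientGroup.mk_mul, mul_inv_cancel_right] at this

/-- The class of an element under `(multiplier, parity)`, read on `DihedralGroup 4`. -/
def e4 (b : ZMod 2) : DihedralGroup 4 → ZMod 2 × ZMod 2
  | .r i => i.val • ((1 : ZMod 2), b + 1)
  | .sr i => ((0 : ZMod 2), (1 : ZMod 2)) + i.val • ((1 : ZMod 2), b + 1)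

theorem exists_dihedral (hN : D.negOne ∈ commutator (orthGroup Q)) :
    ∃ ψ : GS Qf →* DihedralGroup 4, Function.Surjective ψ ∧ ψ.ker = D.N ∧
      ∀ g, Multiplicative.toAdd (D.chi g) = e4 (bit (D.eps D.s)) (ψ g) := by
  haveI := D.N_normal
  obtain ⟨h4, hR, hconj, hsq⟩ := D.relations
  let f : DihedralGroup 4 →* GS Qf ⧸ D.N := DihedralHom.lift _ _ h4 hR hconj
  let χ' : GS Qf ⧸ D.N →* Multiplicative (ZMod 2 × ZMod 2) := QuotientGroup.lift D.N D.chi D.N_le_chi
  have hchi : ∀ x, Multiplicative.toAdd (χ' (f x)) = e4 (bit (D.eps D.s)) x := by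
    have hρ : χ' (QuotientGroup.mk (D.s * D.R)) = Multiplicative.ofAdd ((1 : ZMod 2), bit (D.eps D.s) + 1) := by
      show D.chi (D.s * D.R) = _
      rw [map_mul, D.chi_R, D.chi_s, ← ofAdd_add]
      simp
    have ht : χ' (QuotientGroup.mk D.R) = Multiplicative.ofAdd ((0 : ZMod 2), (1 : ZMod 2)) := D.chi_R
    rintro (i | i)
    · rw [DihedralHom.lift_r, map_pow, hρ]; rfl
    · rw [DihedralHom.lift_sr, map_mul, map_pow, hρ, ht]; rfl
  have hsurj : Function.Surjective f := fun x => by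
    have hle : Subgroup.closure ({QuotientGroup.mk (D.s * D.R), QuotientGroup.mk D.R} : Set (GS Qf ⧸ D.N)) ≤
        f.range := by
      rw [Subgroup.closure_le]
      rintro y (rfl | rfl)
      · exact ⟨DihedralGroup.r 1, by rw [DihedralHom.lift_r]; exact pow_one _⟩
      · exact ⟨DihedralGroup.sr 0, by rw [DihedralHom.lift_sr, ZMod.val_zero, pow_zero, mul_one]⟩
    exact hle (D.generate x)
  have hinj : Function.Injective f := by
    rw [injective_iff_map_eq_one]
    intro x hx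
    have h0 : e4 (bit (D.eps D.s)) x = 0 := by rw [← hchi, hx, map_one]; rfl
    have hρ2 : f (DihedralGroup.r 2) ≠ 1 := by
      rw [DihedralHom.lift_r, show (2 : ZMod 4).val = 2 from rfl, hsq, Ne, QuotientGroup.eq_one_iff]
      exact fun h => D.p_mem_N_iff.1 h hN
    have key : ∀ (b : ZMod 2) (x : DihedralGroup 4), e4 b x = 0 → x = 1 ∨ x = DihedralGroup.r 2 := by
      intro b x
      rcases x with i | i <;> revert i b <;> decide
    rcases key _ x h0 with h | h
    · exact h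
    · exact absurd (h ▸ hx) hρ2
  let E := MulEquiv.ofBijective f ⟨hinj, hsurj⟩
  refine ⟨E.symm.toMonoidHom.comp (QuotientGroup.mk' D.N), E.symm.surjective.comp (QuotientGroup.mk'_surjective _),
    ?_, fun g => ?_⟩
  · ext g
    rw [MonoidHom.mem_ker]
    show E.symm (QuotientGroup.mk g) = 1 ↔ _
    rw [MulEquiv.map_eq_one_iff, QuotientGroup.eq_one_iff]
  · show _ = e4 _ (E.symm (QuotientGroup.mk g))
    rw [← hchi, show f (E.symm (QuotientGroup.mk g)) = QuotientGroup.mk g from E.apply_symm_apply _]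
    rfl

theorem N_eq_chi (hN : D.negOne ∉ commutator (orthGroup Q)) : D.N = D.chi.ker := by
  refine le_antisymm D.N_le_chi ?_
  rw [← D.soSub_le_chi]
  have h := D.relIndex_so.2 hN
  rw [inn_eq, psoAut_eq, relIndex_map_ker, D.ker_Φ, Subgroup.relIndex_eq_one] at h
  exact h

theorem N_iff (g : GS Qf) : g ∈ D.N ↔ g ∈ omegaSub Qf ⊔ (Φ Qf).ker := by rw [D.ker_Φ]; rfl

theorem pgo_inn_klein (hN : D.negOne ∉ commutator (orthGroup Q)) :
    ∃ φ : ↥(Cfsg.pgoAut F Qf) →* Multiplicative (ZMod 2 × ZMod 2), Function.Surjective φ ∧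
      φ.ker = (Cfsg.Inn (Cfsg.POmega F Qf)).subgroupOf (Cfsg.pgoAut F Qf) := by
  rw [pgoAut_eq, inn_eq]
  refine descend (Φ Qf) (omegaSub Qf) ⊤ (D.chi.comp (Subgroup.subtype _))
    (fun x => ⟨⟨(D.chi_surjective x).choose, trivial⟩, (D.chi_surjective x).choose_spec⟩) fun t => ?_
  rw [← D.N_iff, D.N_eq_chi hN]
  rfl

theorem pgo_inn_dihedral (hN : D.negOne ∈ commutator (orthGroup Q)) :
    ∃ φ : ↥(Cfsg.pgoAut F Qf) →* DihedralGroup 4, Function.Surjective φ ∧
      φ.ker = (Cfsg.Inn (Cfsg.POmega F Qf)).subgroupOf (Cfsg.pgoAut F Qf) := by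
  rw [pgoAut_eq, inn_eq]
  obtain ⟨ψ, hs, hk, -⟩ := D.exists_dihedral hN
  refine descend (Φ Qf) (omegaSub Qf) ⊤ (ψ.comp (Subgroup.subtype _))
    (fun x => ⟨⟨(hs x).choose, trivial⟩, (hs x).choose_spec⟩) fun t => ?_
  rw [← D.N_iff, ← hk]
  rfl

/-- The similitudes of trivial parity. -/
noncomputable def evenSub : Subgroup (GS Qf) := D.eps.ker

theorem mem_evenSub {g : GS Qf} : g ∈ D.evenSub ↔ (Multiplicative.toAdd (D.chi g)).2 = 0 := by
  rw [D.chi_snd]; exact MonoidHom.mem_ker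

theorem inndiag_two (hN : D.negOne ∉ commutator (orthGroup Q)) :
    ∃ φ : ↥(D.evenSub.map (Φ Qf)) →* Multiplicative (ZMod 2), Function.Surjective φ ∧
      φ.ker = (Cfsg.Inn (Cfsg.POmega F Qf)).subgroupOf (D.evenSub.map (Φ Qf)) := by
  rw [inn_eq]
  let χ : D.evenSub →* Multiplicative (ZMod 2) :=
    { toFun := fun g => Multiplicative.ofAdd (Multiplicative.toAdd (D.chi g.1)).1
      map_one' := by rw [Subgroup.coe_one, map_one]; rfl
      map_mul' := fun g h => by rw [Subgroup.coe_mul, map_mul]; rfl }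
  refine descend (Φ Qf) (omegaSub Qf) D.evenSub χ (fun x => ?_) fun t => ?_
  · obtain ⟨g, hg⟩ := D.chi_surjective (Multiplicative.ofAdd (Multiplicative.toAdd x, (0 : ZMod 2)))
    refine ⟨⟨g, D.mem_evenSub.2 (by rw [hg]; rfl)⟩, ?_⟩
    show Multiplicative.ofAdd (Multiplicative.toAdd (D.chi g)).1 = x
    rw [hg]; rfl
  · rw [← D.N_iff, D.N_eq_chi hN, MonoidHom.mem_ker]
    constructor
    · intro h
      exact Multiplicative.toAdd.injective (Prod.ext (congrArg Multiplicative.toAdd h) (D.mem_evenSub.1 t.2))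
    · intro h
      show Multiplicative.ofAdd (Multiplicative.toAdd (D.chi t.1)).1 = 1
      rw [h]; rfl

/-- Read a function on `DihedralGroup 4` as a homomorphism on the even part. -/
theorem inndiag_read (hN : D.negOne ∈ commutator (orthGroup Q)) {A : Type} [AddGroup A] (h : DihedralGroup 4 → A)
    (hmul : ∀ x y, (e4 (bit (D.eps D.s)) x).2 = 0 → (e4 (bit (D.eps D.s)) y).2 = 0 → h (x * y) = h x + h y)
    (hsurj : ∀ a, ∃ x, (e4 (bit (D.eps D.s)) x).2 = 0 ∧ h x = a)
    (hinj : ∀ x, (e4 (bit (D.eps D.s)) x).2 = 0 → (h x = 0 ↔ x = 1)) :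
    ∃ φ : ↥(D.evenSub.map (Φ Qf)) →* Multiplicative A, Function.Surjective φ ∧
      φ.ker = (Cfsg.Inn (Cfsg.POmega F Qf)).subgroupOf (D.evenSub.map (Φ Qf)) := by
  obtain ⟨ψ, hψ, hk, he⟩ := D.exists_dihedral hN
  have heven : ∀ t : D.evenSub, (e4 (bit (D.eps D.s)) (ψ t.1)).2 = 0 := fun t => by
    rw [← he]; exact D.mem_evenSub.1 t.2
  rw [inn_eq]
  let χ : D.evenSub →* Multiplicative A := MonoidHom.mk' (fun g => Multiplicative.ofAdd (h (ψ g.1))) (fun a b => by
    rw [Subgroup.coe_mul, map_mul, hmul _ _ (heven a) (heven b), ofAdd_add])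
  refine descend (Φ Qf) (omegaSub Qf) D.evenSub χ (fun a => ?_) fun t => ?_
  · obtain ⟨x, hx, hxa⟩ := hsurj (Multiplicative.toAdd a)
    obtain ⟨g, rfl⟩ := hψ x
    refine ⟨⟨g, D.mem_evenSub.2 (by rw [he]; exact hx)⟩, ?_⟩
    show Multiplicative.ofAdd (h (ψ g)) = a
    rw [hxa]; rfl
  · rw [← D.N_iff, ← hk, MonoidHom.mem_ker]
    show Multiplicative.ofAdd (h (ψ t.1)) = 1 ↔ _
    rw [ofAdd_eq_one, hinj _ (heven t)]

theorem inndiag_four (hN : D.negOne ∈ commutator (orthGroup Q)) (hε : D.eps D.s = -1) :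
    ∃ φ : ↥(D.evenSub.map (Φ Qf)) →* Multiplicative (ZMod 4), Function.Surjective φ ∧
      φ.ker = (Cfsg.Inn (Cfsg.POmega F Qf)).subgroupOf (D.evenSub.map (Φ Qf)) := by
  have hb : bit (D.eps D.s) = 1 := by rw [hε]; simp [bit, D.neg_one_ne]
  refine D.inndiag_read hN (fun x => match x with | .r i => i | .sr i => i) ?_ ?_ ?_ <;> rw [hb]
  · rintro (i | i) (j | j) <;> revert i j <;> decide
  · intro a; exact ⟨DihedralGroup.r a, (by revert a; decide), rfl⟩
  · rintro (i | i) <;> revert i <;> decide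

theorem inndiag_klein (hN : D.negOne ∈ commutator (orthGroup Q)) (hε : D.eps D.s = 1) :
    ∃ φ : ↥(D.evenSub.map (Φ Qf)) →* Multiplicative (ZMod 2 × ZMod 2), Function.Surjective φ ∧
      φ.ker = (Cfsg.Inn (Cfsg.POmega F Qf)).subgroupOf (D.evenSub.map (Φ Qf)) := by
  have hb : bit (D.eps D.s) = 0 := by rw [hε]; simp [bit]
  refine D.inndiag_read hN (fun x => match x with
    | .r i => (((i.val / 2 : ℕ) : ZMod 2), (0 : ZMod 2))
    | .sr i => (((i.val / 2 : ℕ) : ZMod 2), (1 : ZMod 2))) ?_ ?_ ?_ <;> rw [hb]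
  · rintro (i | i) (j | j) <;> revert i j <;> decide
  · rintro ⟨a, c⟩
    revert a c
    decide
  · rintro (i | i) <;> revert i <;> decide

end Setup

end CfsgLib.KnownC.POmegaAut
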