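import Cfsg.Agent.Lib.KnownC.POmegaGraph
import Cfsg.Agent.Lib.Orth.WittIndex

set_option autoImplicit false
set_option linter.unusedSectionVars false

/-! Graph involutions centralise no similitude of non-square multiplier when the half dimension is even. -/

namespace CfsgLib.Orth

open QuadraticMap Module

theorem det_of_sq_nonsquare {F : Type*} [Field F] {ι : Type*} [Fintype ι] [DecidableEq ι] (M : Matrix ι ι F) {c : F}
    (hM : M * M = c • 1) (hc : ¬ IsSquare c) {n : ℕ} (hn : Fintype.card ι = 2 * n) : M.det = (-c) ^ n := by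
  set p : Polynomial F := Polynomial.X ^ 2 - Polynomial.C c
  have hdeg : p.natDegree = 2 := Polynomial.natDegree_X_pow_sub_C
  have hmon : p.Monic := Polynomial.monic_X_pow_sub_C c (by norm_num)
  have hirr : Irreducible p := by
    rw [hmon.irreducible_iff_roots_eq_zero_of_degree_le_three (by omega) (by omega),
      Multiset.eq_zero_iff_forall_notMem]
    intro x hx
    rw [Polynomial.mem_roots hmon.ne_zero] at hx
    exact hc ⟨x, by simp [p, sub_eq_zero] at hx; rw [← hx, pow_two]⟩
  have hprod : M.charpoly * (Matrix.scalar ι (Polynomial.X : Polynomial F) + M.map Polynomial.C).det =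
      p ^ Fintype.card ι := by
    rw [Matrix.charpoly, Matrix.charmatrix, ← Matrix.det_mul]
    have h1 : (Matrix.scalar ι (Polynomial.X : Polynomial F) - M.map Polynomial.C) *
        (Matrix.scalar ι (Polynomial.X : Polynomial F) + M.map Polynomial.C) = Matrix.scalar ι p := by
      have hcomm : M.map Polynomial.C * Matrix.scalar ι (Polynomial.X : Polynomial F) =
          Matrix.scalar ι Polynomial.X * M.map Polynomial.C :=
        (Matrix.scalar_commute _ (fun x => Commute.all _ x) _).symm.eq
      have hsq : M.map Polynomial.C * M.map Polynomial.C = Matrix.scalar ι (Polynomial.C c) := by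
        rw [← Matrix.map_mul, hM, Matrix.scalar_apply, ← Matrix.diagonal_one, ← Matrix.diagonal_smul,
          Matrix.diagonal_map (map_zero _)]
        congr 1
        funext i
        simp
      rw [sub_mul, mul_add, mul_add, hcomm, hsq]
      simp only [p, map_sub, map_mul, pow_two]
      abel
    show (Matrix.det ((Matrix.scalar ι (Polynomial.X : Polynomial F) - M.map Polynomial.C) *
        (Matrix.scalar ι (Polynomial.X : Polynomial F) + M.map Polynomial.C))) = _
    rw [h1, Matrix.scalar_apply, Matrix.det_diagonal, Finset.prod_const, Finset.card_univ]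
  obtain ⟨i, -, hi⟩ := (dvd_prime_pow hirr.prime _).1 (Dvd.intro _ hprod)
  have heq : M.charpoly = p ^ i :=
    Polynomial.eq_of_monic_of_associated M.charpoly_monic (hmon.pow i) hi
  have hid : i = n := by
    have := congrArg Polynomial.natDegree heq
    rw [Matrix.charpoly_natDegree_eq_dim, Polynomial.natDegree_pow, hdeg, hn] at this
    omega
  rw [Matrix.det_eq_sign_charpoly_coeff, heq, hid, hn, pow_mul, neg_one_sq, one_pow, one_mul,
    Polynomial.coeff_zero_eq_eval_zero, Polynomial.eval_pow]
  simp [p]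

variable {F : Type*} [Field F] [Fintype F] {V : Type*} [AddCommGroup V] [Module F V] [FiniteDimensional F V]
  {Q : QuadraticForm F V} (hQ : (QuadraticMap.polarBilin Q).Nondegenerate)
include hQ

theorem isSquare_of_commuting (h2 : (2 : F) ≠ 0) {n : ℕ} (hn : finrank F V = 2 * n) (heven : Even n) (hn0 : 1 ≤ n)
    {g h : V ≃ₗ[F] V} {μ ν : F} (hμ : μ ≠ 0) (hν : ν ≠ 0) (hg : IsSimil Q g μ) (hh : IsSimil Q h ν) {c lam : F}
    (hc : ∀ v, g (g v) = c • v) (hdet : LinearMap.det (g : V →ₗ[F] V) ≠ μ ^ n)
    (hcomm : ∀ v, h (g v) = lam • g (h v)) : IsSquare ν := by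
  classical
  obtain ⟨a₀, -, ha₀⟩ : ∃ a ∈ (⊤ : Submodule F V), Q a = 1 := exists_value (Q := Q) ⊤ (by
    rw [top_inf_eq, LinearMap.BilinForm.finrank_orthogonal hQ, finrank_top]; omega) 1
  have hμc : μ * μ = c * c := by
    have := hg (g a₀)
    rw [hc, quad_smul', hg, ha₀] at this
    linear_combination -this
  have hc0 : c ≠ 0 := fun h => hμ (mul_self_eq_zero.1 (by rw [hμc, h, mul_zero]))
  have hμn : μ ^ n = c ^ n := by
    rcases mul_self_eq_mul_self_iff.1 hμc with h | h <;> rw [h]
    exact heven.neg_pow c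
  obtain ⟨r, hr⟩ : IsSquare c := by
    by_contra hns
    apply hdet
    let b := Module.finBasisOfFinrankEq F V hn
    rw [← LinearMap.det_toMatrix b, det_of_sq_nonsquare _ (c := c) ?_ hns (Fintype.card_fin _), hμn, heven.neg_pow]
    rw [← LinearMap.toMatrix_comp b b b, ← LinearMap.toMatrix_id b, ← map_smul]
    congr 1
    exact LinearMap.ext hc
  have hr0 : r ≠ 0 := fun h => hc0 (by rw [hr, h, mul_zero])
  let W : F → Submodule F V := fun s => LinearMap.ker ((g : V →ₗ[F] V) - s • LinearMap.id)
  have hW : ∀ s v, v ∈ W s ↔ g v = s • v := fun s v => by simp [W, sub_eq_zero]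
  have hcompl : IsCompl (W r) (W (-r)) := by
    constructor
    · rw [Submodule.disjoint_def]
      intro v h1 h2'
      have e : (2 * r) • v = 0 := by
        have e1 := ((hW r v).1 h1).symm.trans ((hW (-r) v).1 h2')
        rw [two_mul, add_smul]
        nth_rewrite 1 [e1]
        rw [neg_smul, neg_add_cancel]
      exact (smul_eq_zero.1 e).resolve_left (mul_ne_zero h2 hr0)
    · refine codisjoint_iff.2 (eq_top_iff.2 fun v _ => ?_)
      refine Submodule.mem_sup.2 ⟨(2 : F)⁻¹ • (v + r⁻¹ • g v), (hW r _).2 ?_, (2 : F)⁻¹ • (v - r⁻¹ • g v),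
        (hW (-r) _).2 ?_, ?_⟩
      · rw [map_smul, map_add, map_smul, hc, hr]
        match_scalars <;> field_simp
      · rw [map_smul, map_sub, map_smul, hc, hr]
        match_scalars <;> field_simp
      · match_scalars <;> field_simp <;> ring
  set dp := finrank F (W r)
  set dm := finrank F (W (-r))
  have hsum : dp + dm = 2 * n := by rw [← hn]; exact Submodule.finrank_add_eq_of_isCompl hcompl
  have hdetg : LinearMap.det (g : V →ₗ[F] V) = r ^ dp * (-r) ^ dm := by
    have e : (g : V →ₗ[F] V) = ((Submodule.prodEquivOfIsCompl _ _ hcompl : (W r × W (-r)) →ₗ[F] V)) ∘ₗ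
        ((r • LinearMap.id).prodMap ((-r) • LinearMap.id)) ∘ₗ
        ((Submodule.prodEquivOfIsCompl _ _ hcompl).symm : V →ₗ[F] (W r × W (-r))) := by
      refine LinearMap.ext fun v => ?_
      obtain ⟨⟨x, y⟩, rfl⟩ := (Submodule.prodEquivOfIsCompl _ _ hcompl).surjective v
      simp [Submodule.coe_prodEquivOfIsCompl', (hW r x).1 x.2, (hW (-r) y).1 y.2]
    rw [e, LinearMap.det_conj, LinearMap.det_prodMap, LinearMap.det_smul, LinearMap.det_smul, LinearMap.det_id,
      LinearMap.det_id, mul_one, mul_one]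
  have hodd : Odd dm := by
    by_contra he
    rw [Nat.not_odd_iff_even] at he
    apply hdet
    rw [hdetg, he.neg_pow, ← pow_add, hsum, hμn, hr, ← pow_two, ← pow_mul]
  have hne : ∀ d, d = n → ¬ Odd d := fun d hd => by rw [hd]; exact Nat.not_odd_iff_even.2 heven
  have hadj : ∀ u v, c * polar Q (g u) v = μ * polar Q u (g v) := by
    intro u v
    have h := hg.polar u (g v)
    rw [hc, polar_smul_r'] at h
    exact h
  rcases mul_self_eq_mul_self_iff.1 hμc with hμeq | hμeq
  swap
  · exfalso
    have sing : ∀ s, s ≠ 0 → ∀ u ∈ W s, Q u = 0 := by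
      intro s hs u hu
      have h := hadj u u
      rw [(hW s u).1 hu, hμeq, polar_smul_l', polar_smul_r', polar_self'] at h
      have : (2 * 2 * c * s) * Q u = 0 := by linear_combination h
      exact (mul_eq_zero.1 this).resolve_left (mul_ne_zero (mul_ne_zero (mul_ne_zero h2 h2) hc0) hs)
    have l1 := singular_finrank_le hQ (W r) (sing r hr0)
    have l2 := singular_finrank_le hQ (W (-r)) (sing (-r) (neg_ne_zero.2 hr0))
    exact hne dm (by omega) hodd
  have horth : ∀ u ∈ W r, ∀ w ∈ W (-r), polar Q u w = 0 := by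
    intro u hu w hw
    have h := hadj u w
    rw [(hW r u).1 hu, (hW (-r) w).1 hw, hμeq, polar_smul_l', polar_smul_r'] at h
    have : 2 * (c * r) * polar Q u w = 0 := by linear_combination h
    exact (mul_eq_zero.1 this).resolve_left (mul_ne_zero h2 (mul_ne_zero hc0 hr0))
  have hlam : lam * lam = 1 := by
    have h1 : h (g (g a₀)) = (lam * lam) • g (g (h a₀)) := by
      rw [hcomm, hcomm, map_smul, smul_smul]
    rw [hc, hc, map_smul, smul_smul] at h1
    have h3 := congrArg (fun v => Q v) h1
    have hha : h a₀ ≠ 0 := fun h0 => by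
      have := congrArg Q h0
      rw [hh, ha₀, QuadraticMap.map_zero, mul_one] at this
      exact hν this
    by_contra hne1
    apply hha
    have h4 : (lam * lam * c - c) • h a₀ = 0 := by rw [sub_smul, ← h1, sub_self]
    refine (smul_eq_zero.1 h4).resolve_left fun h5 => hne1 ?_
    have : (lam * lam - 1) * c = 0 := by linear_combination h5
    exact sub_eq_zero.1 ((mul_eq_zero.1 this).resolve_right hc0)
  rcases mul_self_eq_one_iff.1 hlam with hl | hl
  · -- `h` preserves the odd-dimensional eigenspace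
    have hpres : ∀ v ∈ W r, (h : V →ₗ[F] V) v ∈ W r := fun v hv => (hW r _).2 (by
      have := hcomm v
      rw [(hW r v).1 hv, map_smul, hl, one_smul] at this
      exact this.symm)
    let L : W r →ₗ[F] W r := (h : V →ₗ[F] V).restrict hpres
    let B : W r →ₗ[F] W r →ₗ[F] F := (QuadraticMap.polarBilin Q).compl₁₂ (W r).subtype (W r).subtype
    let b := Module.finBasis F (W r)
    have hBnd : B.Nondegenerate := by
      have hleft : B.SeparatingLeft := fun u hu => Subtype.ext (hQ.1 u.1 fun v => by
        obtain ⟨x, hx, y, hy, rfl⟩ := Submodule.mem_sup.1 (hcompl.sup_eq_top.ge (Submodule.mem_top : v ∈ ⊤))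
        show polar Q u.1 (x + y) = 0
        rw [polar_add_right, horth _ u.2 y hy, add_zero]
        exact hu ⟨x, hx⟩)
      exact ⟨hleft, fun v hv => hleft v fun u => by
        show polar Q v.1 u.1 = 0
        rw [polar_comm]; exact hv u⟩
    have hBL : B.compl₁₂ L L = ν • B := LinearMap.ext fun u => LinearMap.ext fun v => hh.polar u.1 v.1
    have hG := congrArg (fun B => (LinearMap.toMatrix₂ b b B).det) hBL
    simp only [LinearMap.toMatrix₂_compl₁₂ b b, map_smul, Matrix.det_mul, Matrix.det_transpose, Matrix.det_smul,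
      Fintype.card_fin] at hG
    have hG0 : (LinearMap.toMatrix₂ b b B).det ≠ 0 :=
      Matrix.nondegenerate_iff_det_ne_zero.1 ((LinearMap.nondegenerate_toMatrix₂_iff b b).2 hBnd)
    have hsq : (LinearMap.toMatrix b b L).det * (LinearMap.toMatrix b b L).det = ν ^ dp :=
      mul_right_cancel₀ hG0 (by linear_combination hG)
    obtain ⟨j, hj⟩ : Odd dp := by
      rcases Nat.even_or_odd dp with hp | hp
      · exfalso
        have : Even (dp + dm) := hsum ▸ even_two_mul n
        exact Nat.not_even_iff_odd.2 (hp.add_odd hodd) this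
      · exact hp
    refine ⟨(LinearMap.toMatrix b b L).det / ν ^ j, ?_⟩
    rw [hj] at hsq
    field_simp
    linear_combination -hsq
  · exfalso
    have hswap : ∀ s, ∀ v ∈ W s, (h : V →ₗ[F] V) v ∈ W (-s) := fun s v hv => (hW (-s) _).2 (by
      have := hcomm v
      rw [(hW s v).1 hv, map_smul, hl, neg_one_smul] at this
      show g (h v) = (-s) • h v
      rw [neg_smul, this, neg_neg])
    have l1 : dp ≤ dm := by
      show finrank F (W r) ≤ finrank F (W (-r))
      rw [← LinearEquiv.finrank_map_eq h (W r)]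
      exact Submodule.finrank_mono (by rintro _ ⟨v, hv, rfl⟩; exact hswap r v hv)
    have l2 : dm ≤ dp := by
      show finrank F (W (-r)) ≤ finrank F (W r)
      rw [← LinearEquiv.finrank_map_eq h (W (-r))]
      exact Submodule.finrank_mono (by rintro _ ⟨v, hv, rfl⟩; simpa using hswap (-r) v hv)
    exact hne dm (by omega) hodd

end CfsgLib.Orth

namespace CfsgLib.KnownC.POmegaAut

open CfsgLib.Orth
open scoped Matrix

universe u

variable {F : Type u} [Field F] [Fintype F] {ι : Type} [Fintype ι] [DecidableEq ι] {Qf : (ι → F) → F}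
  {Q : QuadraticForm F (ι → F)} {n : ℕ} (D : Setup Qf Q n)

theorem Setup.class_count_two (hn : 1 ≤ n) (hn2 : Even n) (hN : D.negOne ∉ commutator (orthGroup Q)) (g : GS Qf)
    (hg : g ∉ D.evenSub) (hg2 : g * g ∈ scalars Qf) :
    Cfsg.splitClassCount (D.evenSub.map (Φ Qf)) (Cfsg.Inn (Cfsg.POmega F Qf)) (Φ Qf g) = 2 := by
  classical
  haveI := inn_normal (Cfsg.POmega F Qf)
  set I := D.evenSub.map (Φ Qf)
  have hKI : Cfsg.Inn (Cfsg.POmega F Qf) ≤ I := by rw [inn_eq]; exact Subgroup.map_mono D.omega_le_even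
  rw [splitClassCount_eq I _ hKI]
  have hle : I ⊓ Subgroup.centralizer {Φ Qf g} ≤ Cfsg.Inn (Cfsg.POmega F Qf) := by
    rintro _ ⟨⟨t, ht, rfl⟩, htc⟩
    show t ∈ (Cfsg.Inn (Cfsg.POmega F Qf)).comap (Φ Qf)
    rw [← D.N_eq, D.N_eq_chi hN, MonoidHom.mem_ker]
    refine Multiplicative.toAdd.injective (Prod.ext ?_ (D.mem_evenSub.1 ht))
    show (Multiplicative.toAdd (D.chi t)).1 = 0
    rw [D.chi_fst]
    have h' := Subgroup.mem_centralizer_singleton_iff.1 htc
    rw [← map_mul, ← map_mul] at h'
    obtain ⟨lam, hlam⟩ : (t * g) * (g * t)⁻¹ ∈ scalars Qf := by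
      rw [← D.ker_Φ, MonoidHom.mem_ker, map_mul, map_inv, h', mul_inv_cancel]
    obtain ⟨c, hc⟩ := hg2
    refine isSquare_of_commuting D.hQ D.h2 (by rw [Module.finrank_fintype_fun_eq_card, D.hcard]) hn2 hn
      (D.mult_ne g) (D.mult_ne t) (D.isSimil g) (D.isSimil t) (c := c) (lam := lam) (fun v => ?_) ?_ fun v => ?_
    · have : lin Qf g (lin Qf g v) = lin Qf (g * g) v := by rw [map_mul]; rfl
      rw [this, lin_apply, hc, Matrix.smul_mulVec, Matrix.one_mulVec]
    · rw [det_lin]
      intro h
      apply hg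
      show (g.1 : Matrix ι ι F).det / _ = 1
      rw [h, div_self (pow_ne_zero _ (D.mult_ne g))]
    · have e : t * g = ((t * g) * (g * t)⁻¹) * (g * t) := by rw [inv_mul_cancel_right]
      have e' : lin Qf t (lin Qf g v) = lin Qf (t * g) v := by rw [map_mul]; rfl
      have e'' : lin Qf ((t * g) * (g * t)⁻¹ * (g * t)) v =
          lin Qf ((t * g) * (g * t)⁻¹) (lin Qf g (lin Qf t v)) := by
        rw [map_mul (lin Qf) ((t * g) * (g * t)⁻¹), map_mul (lin Qf) g t]; rfl
      rw [e', e, e'']
      rw [lin_apply, hlam, Matrix.smul_mulVec, Matrix.one_mulVec]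
  rw [sup_eq_left.2 hle, Setup.relIndex_of_exists D (D.inndiag_two hN), Nat.card_eq_fintype_card,
    Fintype.card_multiplicative, ZMod.card]

end CfsgLib.KnownC.POmegaAut
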