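import Cfsg.Agent.Lib.KnownC.POmegaDihedral
import Cfsg.Agent.Lib.Orth.OddOrderCentralizer

set_option autoImplicit false
set_option linter.unusedSectionVars false

/-! Classes of elements of odd prime order, prime to the characteristic, in `PGO`. -/

namespace CfsgLib.KnownC.POmegaAut

open CfsgLib.Orth Module

universe u

variable {F : Type u} [Field F] [Fintype F] {ι : Type} [Fintype ι] [DecidableEq ι] {Qf : (ι → F) → F}
  {Q : QuadraticForm F (ι → F)} {n : ℕ} (D : Setup Qf Q n)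

namespace Setup

include D

theorem mult_mk {u : (ι → F) ≃ₗ[F] (ι → F)} {μ : F} (hμ : μ ≠ 0) (hu : IsSimil Q u μ) :
    D.mult (mkGS Qf Q u hμ hu D.hQf) = μ :=
  D.mult_of _ fun v => by rw [lin_mkGS]; exact hu v

theorem eps_mk {u : (ι → F) ≃ₗ[F] (ι → F)} {μ : F} (hμ : μ ≠ 0) (hu : IsSimil Q u μ)
    (hd : LinearMap.det (u : (ι → F) →ₗ[F] (ι → F)) = μ ^ n) : D.eps (mkGS Qf Q u hμ hu D.hQf) = 1 := by
  show ((mkGS Qf Q u hμ hu D.hQf).1 : Matrix ι ι F).det / (D.mult (mkGS Qf Q u hμ hu D.hQf)) ^ n = 1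
  rw [D.mult_mk, ← det_lin, lin_mkGS, hd, div_self (pow_ne_zero _ hμ)]

theorem exists_isometry_lift {x : MulAut (Cfsg.POmega F Qf)} (hx : x ∈ Cfsg.pgoAut F Qf) {r : ℕ} (hr : r.Prime)
    (hro : Odd r) (hxr : orderOf x = r) :
    ∃ g : orthGroup Q, x = Φ Qf (D.iso g) ∧ g ^ r = 1 ∧ g ≠ 1 := by
  rw [pgoAut_eq] at hx
  obtain ⟨g₀, -, rfl⟩ := hx
  have hpow : g₀ ^ r ∈ scalars Qf := by
    rw [← D.ker_Φ, MonoidHom.mem_ker, map_pow, ← hxr, pow_orderOf_eq_one]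
  obtain ⟨c, hc⟩ := hpow
  have hmr := (D.scalar_eq _ hc).1
  rw [map_pow] at hmr
  obtain ⟨k, rfl⟩ := hro
  have hsq : IsSquare (D.mult g₀) := ⟨c / D.mult g₀ ^ k, by
    have := D.mult_ne g₀
    field_simp
    linear_combination hmr⟩
  obtain ⟨z, hz, h, rfl⟩ := D.exists_decomp g₀ hsq
  have hΦz : Φ Qf z = 1 := by
    rw [← MonoidHom.mem_ker, D.ker_Φ]; exact hz
  rw [map_mul, hΦz, one_mul] at hxr ⊢
  have hhr : D.iso (h ^ (2 * k + 1)) ∈ scalars Qf := by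
    rw [← D.ker_Φ, MonoidHom.mem_ker, map_pow, map_pow, ← hxr, pow_orderOf_eq_one]
  obtain ⟨e, he⟩ := hhr
  have hee : e * e = 1 := by rw [← (D.scalar_eq _ he).1, D.mult_iso]
  have hval : ∀ v, (h ^ (2 * k + 1)).1 v = e • v := fun v => by
    rw [← D.lin_iso, lin_apply, he, Matrix.smul_mulVec, Matrix.one_mulVec]
  have hn1 : ∀ y : orthGroup Q, Φ Qf (D.iso y) = Φ Qf (D.iso h) → y ≠ 1 := fun y hy e1 => by
    rw [e1, map_one, map_one] at hy
    rw [← hy, orderOf_one] at hxr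
    exact hr.ne_one hxr.symm
  rcases mul_self_eq_one_iff.1 hee with rfl | rfl
  · refine ⟨h, rfl, Subtype.ext (LinearEquiv.ext fun v => ?_), hn1 h rfl⟩
    rw [hval, one_smul]; rfl
  · have hN : Φ Qf (D.iso D.negOne) = 1 := by
      rw [← MonoidHom.mem_ker, D.ker_Φ]; exact D.iso_negOne_mem
    have hΦ : Φ Qf (D.iso (D.negOne * h)) = Φ Qf (D.iso h) := by rw [map_mul, map_mul, hN, one_mul]
    have hcomm : Commute D.negOne h := Subtype.ext (LinearEquiv.ext fun v => (map_neg h.1 v).symm)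
    refine ⟨D.negOne * h, hΦ.symm, Subtype.ext (LinearEquiv.ext fun v => ?_), hn1 _ hΦ⟩
    have hneg : D.negOne ^ (2 * k + 1) = D.negOne := by
      rw [pow_succ, pow_mul, pow_two, show D.negOne * D.negOne = 1 from Subtype.ext (LinearEquiv.ext fun v => neg_neg v),
        one_pow, one_mul]
    rw [hcomm.mul_pow, hneg]
    show -((h ^ (2 * k + 1)).1 v) = v
    rw [hval, neg_one_smul, neg_neg]

theorem odd_conj {x : MulAut (Cfsg.POmega F Qf)} (hx : x ∈ Cfsg.pgoAut F Qf) {r : ℕ} (hr : r.Prime) (hro : Odd r)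
    (hrF : (r : F) ≠ 0) (hxr : orderOf x = r) :
    (∀ y : MulAut (Cfsg.POmega F Qf),
      (Cfsg.IsConjUnder (Cfsg.Inn (Cfsg.POmega F Qf)) x y ↔ Cfsg.IsConjUnder (D.evenSub.map (Φ Qf)) x y) ∧
      (Cfsg.IsConjUnder (Cfsg.psoAut F Qf) x y ↔ Cfsg.IsConjUnder (D.evenSub.map (Φ Qf)) x y)) ∧
    (∀ y : MulAut (Cfsg.POmega F Qf),
      Cfsg.IsConjUnder (Cfsg.poAut F Qf) x y ↔ Cfsg.IsConjUnder (Cfsg.pgoAut F Qf) x y) := by
  classical
  obtain ⟨g, rfl, hgr, hg1⟩ := D.exists_isometry_lift hx hr hro hxr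
  haveI : Finite (ι → F) := inferInstance
  obtain ⟨⟨v, hvd, hvn, hvg⟩, hsim⟩ := exists_centralizer D.hQ D.h2 g hro hrF hgr hg1
    (n := n) (by rw [Module.finrank_fintype_fun_eq_card, D.hcard])
  obtain ⟨u, hu, hug, hud⟩ := hsim (D.mult D.s) (D.mult_ne _)
  set uG : GS Qf := mkGS Qf Q u (D.mult_ne _) hu D.hQf with huG
  have huc : uG * D.iso g = D.iso g * uG := lin_injective Qf (by
    rw [map_mul, map_mul, D.lin_iso, lin_mkGS]
    exact LinearEquiv.ext fun w => hug w)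
  have hvc : D.iso v * D.iso g = D.iso g * D.iso v := by rw [← map_mul, ← map_mul, hvg]
  -- a square multiplier modulo the centraliser
  have step : ∀ c : GS Qf, ∃ h : orthGroup Q, ∃ k : GS Qf, k * D.iso g = D.iso g * k ∧
      D.eps k = 1 ∧ Φ Qf c = Φ Qf (D.iso h) * Φ Qf k ∧ LinearMap.det (h.1 : (ι → F) →ₗ[F] (ι → F)) = D.eps c := by
    intro c
    obtain ⟨k, hkc, hke, hksq⟩ : ∃ k : GS Qf, k * D.iso g = D.iso g * k ∧ D.eps k = 1 ∧
        IsSquare (D.mult (c * k⁻¹)) := by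
      by_cases hc : IsSquare (D.mult c)
      · exact ⟨1, by rw [one_mul, mul_one], map_one _, by rwa [inv_one, mul_one]⟩
      · refine ⟨uG, huc, D.eps_mk _ hu hud, ?_⟩
        have h1 : D.mult uG = D.mult D.s := D.mult_mk _ hu
        have h2 : D.mult (c * uG⁻¹) * D.mult uG = D.mult c := by rw [← map_mul, inv_mul_cancel_right]
        rw [← quadraticChar_one_iff_isSquare (D.mult_ne _)]
        have h3 := congrArg (quadraticChar F) h2
        rw [map_mul, quadraticChar_neg_one_iff_not_isSquare.2 hc, h1,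
          show quadraticChar F (D.mult D.s) = -1 from quadraticChar_neg_one_iff_not_isSquare.2 D.hν] at h3
        linear_combination -h3
    obtain ⟨z, hz, h, hzh⟩ := D.exists_decomp _ hksq
    refine ⟨h, k, hkc, hke, ?_, ?_⟩
    · have hΦz : Φ Qf z = 1 := by
        rw [← MonoidHom.mem_ker, D.ker_Φ]; exact hz
      have := congrArg (Φ Qf) hzh
      rw [map_mul (Φ Qf) z, hΦz, one_mul, map_mul, map_inv, mul_inv_eq_iff_eq_mul] at this
      exact this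
    · obtain ⟨e, he⟩ := hz
      have := congrArg D.eps hzh
      rw [map_mul D.eps z, (D.scalar_eq z he).2, one_mul, D.eps_iso, map_mul] at this
      rw [← this, ← mul_one (D.eps c * _), ← hke, mul_assoc, ← map_mul, inv_mul_cancel, map_one, mul_one]
  have inner : ∀ c ∈ D.evenSub, ∃ a ∈ Cfsg.Inn (Cfsg.POmega F Qf), ∃ k : GS Qf,
      k * D.iso g = D.iso g * k ∧ Φ Qf c = a * Φ Qf k := by
    intro c hc
    obtain ⟨h, k, hkc, -, hck, hdet⟩ := step c
    rw [MonoidHom.mem_ker.1 hc] at hdet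
    have mem : ∀ w ∈ commutator (orthGroup Q), Φ Qf (D.iso w) ∈ Cfsg.Inn (Cfsg.POmega F Qf) := fun w hw => by
      rw [inn_eq]
      exact Subgroup.mem_map_of_mem _ ((mem_omegaSub_iff Qf Q D.hQf _).2 ⟨w, hw, rfl⟩)
    by_cases hh : h ∈ commutator (orthGroup Q)
    · exact ⟨_, mem h hh, k, hkc, hck⟩
    · have hhv : h * v⁻¹ ∈ commutator (orthGroup Q) := by
        rw [mem_commutator_odd D.hQ D.h2] at hh hvn ⊢
        push Not at hh hvn
        refine ⟨?_, ?_⟩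
        · have h1 : LinearMap.det ((v⁻¹).1 : (ι → F) →ₗ[F] (ι → F)) * LinearMap.det (v.1 : (ι → F) →ₗ[F] (ι → F)) = 1 := by
            rw [← map_mul]
            have : ((v⁻¹).1 : (ι → F) →ₗ[F] (ι → F)) * (v.1 : (ι → F) →ₗ[F] (ι → F)) = 1 :=
              LinearMap.ext fun w => v.1.symm_apply_apply w
            rw [this, map_one]
          rw [hvd, mul_one] at h1
          show LinearMap.det ((h.1 : (ι → F) →ₗ[F] (ι → F)) * ((v⁻¹).1 : (ι → F) →ₗ[F] (ι → F))) = 1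
          rw [map_mul, hdet, h1, one_mul]
        · rw [map_mul, map_inv, (Int.units_eq_one_or _).resolve_left (hh hdet),
            (Int.units_eq_one_or _).resolve_left (hvn hvd)]
          rfl
      refine ⟨_, mem _ hhv, D.iso v * k, ?_, ?_⟩
      · rw [mul_assoc, hkc, ← mul_assoc, hvc, mul_assoc]
      · rw [hck, map_mul D.iso h, map_inv D.iso, map_mul (Φ Qf) (D.iso h), map_inv (Φ Qf), map_mul (Φ Qf) (D.iso v),
          mul_assoc, inv_mul_cancel_left]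
  have conj_eq : ∀ {k : GS Qf}, k * D.iso g = D.iso g * k → ∀ a : MulAut (Cfsg.POmega F Qf),
      (a * Φ Qf k) * Φ Qf (D.iso g) * (a * Φ Qf k)⁻¹ = a * Φ Qf (D.iso g) * a⁻¹ := by
    intro k hk a
    rw [mul_inv_rev, mul_assoc a, ← map_mul, hk, map_mul]
    group
  have hle1 : Cfsg.Inn (Cfsg.POmega F Qf) ≤ Cfsg.psoAut F Qf := by
    rw [inn_eq, psoAut_eq]
    refine Subgroup.map_mono fun c hc => ?_
    obtain ⟨w, hw, rfl⟩ := (mem_omegaSub_iff Qf Q D.hQf _).1 hc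
    exact (mem_soSub_iff Qf Q D.hQf _).2 ⟨w, ((mem_commutator_odd D.hQ D.h2 w).1 hw).1, rfl⟩
  have hle2 : Cfsg.psoAut F Qf ≤ D.evenSub.map (Φ Qf) := by
    rw [psoAut_eq]
    refine Subgroup.map_mono fun c hc => ?_
    obtain ⟨w, hw, rfl⟩ := (mem_soSub_iff Qf Q D.hQf _).1 hc
    exact MonoidHom.mem_ker.2 ((D.eps_iso w).trans hw)
  refine ⟨fun y => ?_, fun y => ⟨?_, ?_⟩⟩
  · have down : Cfsg.IsConjUnder (D.evenSub.map (Φ Qf)) (Φ Qf (D.iso g)) y →
        Cfsg.IsConjUnder (Cfsg.Inn (Cfsg.POmega F Qf)) (Φ Qf (D.iso g)) y := by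
      rintro ⟨_, ⟨c, hc, rfl⟩, rfl⟩
      obtain ⟨a, ha, k, hk, hck⟩ := inner c hc
      exact ⟨a, ha, by rw [hck, conj_eq hk]⟩
    refine ⟨⟨fun ⟨h, hh, e⟩ => ⟨h, hle2 (hle1 hh), e⟩, down⟩, ⟨fun ⟨h, hh, e⟩ => ⟨h, hle2 hh, e⟩, fun hy => ?_⟩⟩
    obtain ⟨h, hh, e⟩ := down hy
    exact ⟨h, hle1 hh, e⟩
  · rintro ⟨h, hh, e⟩
    refine ⟨h, ?_, e⟩
    rw [poAut_eq] at hh
    rw [pgoAut_eq]
    exact Subgroup.map_mono le_top hh
  · rintro ⟨_, hc, rfl⟩
    rw [pgoAut_eq] at hc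
    obtain ⟨c, -, rfl⟩ := hc
    obtain ⟨h, k, hk, -, hck, -⟩ := step c
    refine ⟨Φ Qf (D.iso h), ?_, by rw [hck, conj_eq hk]⟩
    rw [poAut_eq]
    exact Subgroup.mem_map_of_mem _ ((mem_isoSub_iff Qf Q D.hQf _).2 ⟨h, rfl⟩)

end Setup

theorem natCast_ne_of_prime {F : Type*} [Field F] {p : ℕ} [Fact p.Prime] [CharP F p] {r : ℕ} (hr : r.Prime) (hrp : r ≠ p) :
    (r : F) ≠ 0 := fun h =>
  hrp ((Nat.prime_dvd_prime_iff_eq Fact.out hr).1 ((CharP.cast_eq_zero_iff F p r).1 h)).symm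

theorem odd_card_of_char {F : Type*} [Field F] [Fintype F] {p : ℕ} [Fact p.Prime] [CharP F p] (hp : p ≠ 2) :
    Odd (Fintype.card F) :=
  Nat.odd_iff.2 (FiniteField.odd_card_of_char_ne_two (by rw [ringChar.eq F p]; exact hp))

end CfsgLib.KnownC.POmegaAut
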