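import Cfsg.Agent.Lib.KnownC.POmegaAut
import Cfsg.Agent.Lib.Derangements.DihedralHom

set_option autoImplicit false
set_option linter.unusedSectionVars false

/-! The similitude group modulo scalars and `Ω`, for odd order and even dimension. -/

namespace CfsgLib.KnownC.POmegaAut

open CfsgLib.Orth
open scoped Matrix

universe u

/-- A homomorphism on a subgroup descends to its image. -/
theorem descend {G H A : Type*} [Group G] [Group H] [Group A] (f : G →* H) (S T : Subgroup G) (χ : T →* A)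
    (hs : Function.Surjective χ) (hker : ∀ t : T, χ t = 1 ↔ t.1 ∈ S ⊔ f.ker) :
    ∃ φ : ↥(T.map f) →* A, Function.Surjective φ ∧ φ.ker = (S.map f).subgroupOf (T.map f) := by
  have hle : (f.subgroupMap T).ker ≤ χ.ker := fun t ht => by
    rw [MonoidHom.mem_ker, hker]
    exact Subgroup.mem_sup_right (MonoidHom.mem_ker.2 (congrArg Subtype.val (MonoidHom.mem_ker.1 ht)))
  let φ := MonoidHom.liftOfSurjective (f.subgroupMap T) (f.subgroupMap_surjective T) ⟨χ, hle⟩
  have hφ : ∀ t, φ (f.subgroupMap T t) = χ t := fun t =>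
    MonoidHom.liftOfRightInverse_comp_apply _ _ (Function.rightInverse_surjInv (f.subgroupMap_surjective T)) _ t
  refine ⟨φ, fun a => ?_, ?_⟩
  · obtain ⟨t, rfl⟩ := hs a
    exact ⟨_, hφ t⟩
  · ext y
    obtain ⟨t, rfl⟩ := f.subgroupMap_surjective T y
    rw [MonoidHom.mem_ker, hφ, hker, Subgroup.mem_subgroupOf]
    show _ ↔ f t.1 ∈ S.map f
    rw [← Subgroup.comap_map_eq, Subgroup.mem_comap]

theorem relIndex_map_ker {G H : Type*} [Group G] [Group H] (f : G →* H) (S T : Subgroup G) :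
    (S.map f).relIndex (T.map f) = (S ⊔ f.ker).relIndex (T ⊔ f.ker) := by
  rw [← Subgroup.comap_map_eq, ← Subgroup.comap_map_eq, Subgroup.relIndex_comap, Subgroup.map_comap_eq,
    inf_eq_right.2 (Subgroup.map_le_range f T)]

theorem inn_normal (G : Type*) [Group G] : (Cfsg.Inn G).Normal where
  conj_mem := by
    rintro _ ⟨x, rfl⟩ β
    refine ⟨β x, MulEquiv.ext fun y => ?_⟩
    show β x * y * (β x)⁻¹ = β (x * β⁻¹ y * x⁻¹)
    rw [map_mul, map_mul, map_inv, MulAut.apply_inv_self]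

/-- Bit of a sign. -/
noncomputable def bit {M : Type*} [One M] (a : M) : ZMod 2 := by
  classical exact if a = 1 then 0 else 1

theorem bit_mul {M : Type*} [CommRing M] {a b : M} (h : (-1 : M) ≠ 1) (ha : a = 1 ∨ a = -1) (hb : b = 1 ∨ b = -1) :
    bit (a * b) = bit a + bit b := by
  rcases ha with rfl | rfl <;> rcases hb with rfl | rfl <;> simp [bit, h] <;> decide

theorem bit_eq_zero {M : Type*} [One M] {a : M} : bit a = 0 ↔ a = 1 := by
  unfold bit; split_ifs with h <;> simp [h]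

/-- The data: a form of even dimension with two hyperbolic pairs, a vector of value one and an involutory
similitude with a non-square multiplier. -/
structure Setup {F : Type u} [Field F] {ι : Type} [Fintype ι] [DecidableEq ι] (Qf : (ι → F) → F)
    (Q : QuadraticForm F (ι → F)) (n : ℕ) where
  hQf : ∀ v, Qf v = Q v
  hQ : (QuadraticMap.polarBilin Q).Nondegenerate
  h2 : (2 : F) ≠ 0
  hcard : Fintype.card ι = 2 * n
  hp : TwoPairs Q
  a : ι → F
  ha : Q a = 1
  s : GS Qf
  hs : s * s ∈ scalars Qf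
  hν : ¬ IsSquare (Q (lin Qf s a))

variable {F : Type u} [Field F] [Fintype F] {ι : Type} [Fintype ι] [DecidableEq ι] {Qf : (ι → F) → F}
  {Q : QuadraticForm F (ι → F)} {n : ℕ} (D : Setup Qf Q n)

namespace Setup

include D

theorem good : Good F (ι → F) := good_of_two_ne D.h2

/-- The multiplier. -/
noncomputable def mult : GS Qf →* F where
  toFun g := Q (lin Qf g D.a)
  map_one' := by rw [map_one]; exact D.ha
  map_mul' g h := by
    obtain ⟨μ, -, hμ⟩ := exists_mult Qf Q D.hQf g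
    rw [map_mul]
    show Q (lin Qf g (lin Qf h D.a)) = _
    rw [hμ, hμ, D.ha, mul_one]

theorem isSimil (g : GS Qf) : IsSimil Q (lin Qf g) (D.mult g) := by
  obtain ⟨μ, -, hμ⟩ := exists_mult Qf Q D.hQf g
  intro v
  show _ = Q (lin Qf g D.a) * Q v
  rw [hμ, hμ, D.ha, mul_one]

theorem mult_ne (g : GS Qf) : D.mult g ≠ 0 := fun h => by
  have := D.mult.map_one
  rw [← mul_inv_cancel g, map_mul, h, zero_mul] at this
  exact zero_ne_one this

theorem mult_of (g : GS Qf) {μ : F} (h : ∀ v, Q (lin Qf g v) = μ * Q v) : D.mult g = μ := by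
  show Q (lin Qf g D.a) = μ
  rw [h, D.ha, mul_one]

theorem det_sq (g : GS Qf) : (g.1 : Matrix ι ι F).det ^ 2 = (D.mult g) ^ (2 * n) := by
  set L : (ι → F) →ₗ[F] (ι → F) := (lin Qf g).toLinearMap
  have h : (QuadraticMap.polarBilin Q).compl₁₂ L L = D.mult g • QuadraticMap.polarBilin Q :=
    LinearMap.ext fun u => LinearMap.ext fun v => (D.isSimil g).polar u v
  have hd := congrArg (fun B => (LinearMap.toMatrix₂' F B).det) h
  simp only [LinearMap.toMatrix₂'_compl₁₂, Matrix.det_mul, Matrix.det_transpose, LinearMap.det_toMatrix', map_smul,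
    Matrix.det_smul, D.hcard, L, det_lin] at hd
  have hne : (LinearMap.toMatrix₂' F (QuadraticMap.polarBilin Q)).det ≠ 0 :=
    Matrix.nondegenerate_iff_det_ne_zero.1 ((LinearMap.nondegenerate_toMatrix₂'_iff).2 D.hQ)
  apply mul_right_cancel₀ hne
  linear_combination hd

/-- `det g / μ^n`. -/
noncomputable def eps : GS Qf →* F where
  toFun g := (g.1 : Matrix ι ι F).det / (D.mult g) ^ n
  map_one' := by simp
  map_mul' g h := by
    rw [map_mul, mul_pow]
    show ((g.1 : Matrix ι ι F) * (h.1 : Matrix ι ι F)).det / _ = _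
    rw [Matrix.det_mul, div_mul_div_comm]

theorem eps_cases (g : GS Qf) : D.eps g = 1 ∨ D.eps g = -1 := by
  rw [← sq_eq_one_iff]
  show ((g.1 : Matrix ι ι F).det / _) ^ 2 = 1
  rw [div_pow, D.det_sq, ← pow_mul, mul_comm n 2, div_self (pow_ne_zero _ (D.mult_ne g))]

theorem neg_one_ne : (-1 : F) ≠ 1 := fun h => D.h2 (by linear_combination -h)

theorem qchar_cases (g : GS Qf) [DecidableEq F] :
    quadraticChar F (D.mult g) = 1 ∨ quadraticChar F (D.mult g) = -1 :=
  quadraticChar_dichotomy (D.mult_ne g)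

/-- Multiplier class and parity. -/
noncomputable def chi : GS Qf →* Multiplicative (ZMod 2 × ZMod 2) := by
  classical exact
  { toFun := fun g => Multiplicative.ofAdd (bit (quadraticChar F (D.mult g)), bit (D.eps g))
    map_one' := by simp [bit]
    map_mul' := fun g h => by
      rw [map_mul, map_mul, map_mul, bit_mul (by decide) (D.qchar_cases g) (D.qchar_cases h),
        bit_mul D.neg_one_ne (D.eps_cases g) (D.eps_cases h)]
      rfl }

theorem chi_eq (g : GS Qf) [DecidableEq F] :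
    D.chi g = Multiplicative.ofAdd (bit (quadraticChar F (D.mult g)), bit (D.eps g)) := by
  unfold chi
  simp only [MonoidHom.coe_mk, OneHom.coe_mk]
  congr!

theorem chi_fst (g : GS Qf) : (Multiplicative.toAdd (D.chi g)).1 = 0 ↔ IsSquare (D.mult g) := by
  classical
  rw [D.chi_eq]
  exact bit_eq_zero.trans (quadraticChar_one_iff_isSquare (D.mult_ne g))

theorem chi_snd (g : GS Qf) : (Multiplicative.toAdd (D.chi g)).2 = 0 ↔ D.eps g = 1 := by
  classical
  rw [D.chi_eq]
  exact bit_eq_zero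

/-- The isometries as similitudes. -/
noncomputable def iso : orthGroup Q →* GS Qf := ofOrth Qf Q D.hQf

theorem lin_iso (h : orthGroup Q) : lin Qf (D.iso h) = h.1 := lin_ofOrth Qf Q D.hQf h

theorem mult_iso (h : orthGroup Q) : D.mult (D.iso h) = 1 :=
  D.mult_of _ fun v => by rw [D.lin_iso, apply_quad, one_mul]

theorem eps_iso (h : orthGroup Q) : D.eps (D.iso h) = LinearMap.det (h.1 : (ι → F) →ₗ[F] (ι → F)) := by
  show (((D.iso h).1 : GL ι F) : Matrix ι ι F).det / _ = _
  rw [D.mult_iso, one_pow, div_one, ← det_lin, D.lin_iso]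

theorem scalar_eq {c : F} (g : GS Qf) (hc : (g.1 : Matrix ι ι F) = c • 1) :
    D.mult g = c * c ∧ D.eps g = 1 := by
  have h1 : D.mult g = c * c := D.mult_of _ fun v => by
    rw [lin_apply, hc, Matrix.smul_mulVec, Matrix.one_mulVec, quad_smul']
  refine ⟨h1, ?_⟩
  show (g.1 : Matrix ι ι F).det / _ = 1
  rw [div_eq_one_iff_eq (pow_ne_zero _ (D.mult_ne g)), h1, hc, Matrix.det_smul, Matrix.det_one, mul_one, D.hcard,
    pow_mul, pow_two]

/-- Multiplier a square: scalar times isometry. -/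
theorem exists_decomp (g : GS Qf) (hg : IsSquare (D.mult g)) :
    ∃ z ∈ scalars Qf, ∃ h : orthGroup Q, g = z * D.iso h := by
  obtain ⟨c, hc⟩ := hg
  have hc0 : c ≠ 0 := fun h => D.mult_ne g (by rw [hc, h, mul_zero])
  let z : GS Qf := mkGS Qf Q (LinearEquiv.smulOfUnit (Units.mk0 c hc0)) (mul_ne_zero hc0 hc0)
    (fun v => quad_smul' (Q := Q) c v) D.hQf
  have hz : lin Qf z = LinearEquiv.smulOfUnit (Units.mk0 c hc0) := lin_mkGS Qf Q D.hQf _ _ _
  refine ⟨z, ⟨c, Matrix.ext_of_mulVec_single fun i => ?_⟩, ?_⟩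
  · rw [← lin_apply, hz, Matrix.smul_mulVec, Matrix.one_mulVec]; rfl
  have hmem : z⁻¹ * g ∈ isoSub Qf := by
    intro u _
    show Qf (((z⁻¹ * g : GS Qf).1 : Matrix ι ι F) *ᵥ u) = Qf u
    rw [← lin_apply, D.hQf, D.hQf, D.isSimil, map_mul]
    have hmz : D.mult z = c * c := D.mult_of _ fun v => by rw [hz]; exact quad_smul' (Q := Q) c v
    have h1 : D.mult z⁻¹ * D.mult z = 1 := by rw [← map_mul, inv_mul_cancel, map_one]
    rw [hmz] at h1
    rw [hc, h1, one_mul]
  obtain ⟨h, hh⟩ := (mem_isoSub_iff Qf Q D.hQf _).1 hmem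
  exact ⟨h, by rw [show D.iso h = z⁻¹ * g from hh.symm, mul_inv_cancel_left]⟩

theorem ker_Φ : (Φ Qf).ker = scalars Qf := ker_eq Qf Q D.hQf D.hQ D.h2 D.hp

theorem soSub_le_chi : soSub Qf ⊔ scalars Qf = D.chi.ker := by
  apply le_antisymm
  · rw [sup_le_iff]
    constructor
    · intro g hg
      obtain ⟨h, hh, rfl⟩ := (mem_soSub_iff Qf Q D.hQf g).1 hg
      rw [MonoidHom.mem_ker]
      refine Multiplicative.toAdd.injective (Prod.ext ((D.chi_fst _).2 ?_) ((D.chi_snd _).2 ?_))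
      · exact (D.mult_iso h).symm ▸ IsSquare.one
      · exact (D.eps_iso h).trans hh
    · rintro g ⟨c, hc⟩
      rw [MonoidHom.mem_ker]
      obtain ⟨h1, h2⟩ := D.scalar_eq g hc
      exact Multiplicative.toAdd.injective (Prod.ext ((D.chi_fst _).2 ⟨c, h1⟩) ((D.chi_snd _).2 h2))
  · intro g hg
    rw [MonoidHom.mem_ker] at hg
    have h1 : IsSquare (D.mult g) := (D.chi_fst g).1 (by rw [hg]; rfl)
    have h2 : D.eps g = 1 := (D.chi_snd g).1 (by rw [hg]; rfl)
    obtain ⟨z, hz, h, rfl⟩ := D.exists_decomp g h1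
    obtain ⟨c, hc⟩ := hz
    rw [map_mul, (D.scalar_eq z hc).2, one_mul, D.eps_iso] at h2
    exact Subgroup.mul_mem_sup_rev (⟨c, hc⟩ : z ∈ scalars Qf) ((mem_soSub_iff Qf Q D.hQf _).2 ⟨h, h2, rfl⟩)
where
  Subgroup.mul_mem_sup_rev {x y : GS Qf} (hx : x ∈ scalars Qf) (hy : y ∈ soSub Qf) :
      x * y ∈ soSub Qf ⊔ scalars Qf := mul_mem (Subgroup.mem_sup_right hx) (Subgroup.mem_sup_left hy)

theorem exists_orth_det : ∃ r : orthGroup Q, LinearMap.det (r.1 : (ι → F) →ₗ[F] (ι → F)) = -1 :=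
  ⟨refl Q D.a, det_refl Q (by rw [D.ha]; exact one_ne_zero)⟩

theorem chi_surjective : Function.Surjective D.chi := by
  intro x
  obtain ⟨r, hr⟩ := D.exists_orth_det
  have h1 : (Multiplicative.toAdd (D.chi D.s)).1 ≠ 0 := fun h => D.hν ((D.chi_fst _).1 h)
  have h2 : (Multiplicative.toAdd (D.chi (D.iso r))).1 = 0 := (D.chi_fst _).2 (by rw [D.mult_iso]; exact IsSquare.one)
  have h3 : (Multiplicative.toAdd (D.chi (D.iso r))).2 ≠ 0 := fun h => by
    have := (D.chi_snd _).1 h
    rw [D.eps_iso, hr] at this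
    exact D.neg_one_ne this
  have key : ∀ u v y : ZMod 2 × ZMod 2, u.1 ≠ 0 → v.1 = 0 → v.2 ≠ 0 → y = 0 ∨ y = u ∨ y = v ∨ y = u + v := by
    show ∀ u v y : Fin 2 × Fin 2, u.1 ≠ 0 → v.1 = 0 → v.2 ≠ 0 → y = 0 ∨ y = u ∨ y = v ∨ y = u + v
    decide
  rcases key _ _ (Multiplicative.toAdd x) h1 h2 h3 with h | h | h | h
  · exact ⟨1, by rw [map_one]; exact Multiplicative.toAdd.injective h.symm⟩
  · exact ⟨D.s, Multiplicative.toAdd.injective h.symm⟩
  · exact ⟨D.iso r, Multiplicative.toAdd.injective h.symm⟩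
  · exact ⟨D.s * D.iso r, by rw [map_mul]; exact Multiplicative.toAdd.injective h.symm⟩

/-- `PGO/PSO` is a four group. -/
theorem pgo_pso : ∃ φ : ↥(Cfsg.pgoAut F Qf) →* Multiplicative (ZMod 2 × ZMod 2),
    Function.Surjective φ ∧ φ.ker = (Cfsg.psoAut F Qf).subgroupOf (Cfsg.pgoAut F Qf) := by
  rw [pgoAut_eq, psoAut_eq]
  refine descend (Φ Qf) (soSub Qf) ⊤ (D.chi.comp (Subgroup.subtype _))
    (fun x => ⟨⟨(D.chi_surjective x).choose, trivial⟩, (D.chi_surjective x).choose_spec⟩) fun t => ?_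
  rw [D.ker_Φ, D.soSub_le_chi]
  rfl

/-- `Ω` and the scalars. -/
def N (D : Setup Qf Q n) : Subgroup (GS Qf) := omegaSub Qf ⊔ scalars Qf

theorem N_eq : D.N = (Cfsg.Inn (Cfsg.POmega F Qf)).comap (Φ Qf) := by
  rw [inn_eq, Subgroup.comap_map_eq, D.ker_Φ]
  rfl

theorem N_normal : D.N.Normal := by
  rw [D.N_eq]
  exact (inn_normal _).comap _

/-- Minus the identity. -/
def negOne (D : Setup Qf Q n) : orthGroup Q := ⟨LinearEquiv.neg F, fun v => QuadraticMap.map_neg Q v⟩

theorem det_negOne : LinearMap.det ((D.negOne).1 : (ι → F) →ₗ[F] (ι → F)) = 1 := by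
  have : ((D.negOne).1 : (ι → F) →ₗ[F] (ι → F)) = (-1 : F) • LinearMap.id := LinearMap.ext fun v => by
    simp [negOne]
  rw [this, LinearMap.det_smul, LinearMap.det_id, mul_one, Module.finrank_fintype_fun_eq_card, D.hcard, pow_mul,
    neg_one_sq, one_pow]

theorem iso_negOne_mem : D.iso D.negOne ∈ scalars Qf :=
  ⟨-1, Matrix.ext_of_mulVec_single fun i => by
    rw [← lin_apply, D.lin_iso, Matrix.smul_mulVec, Matrix.one_mulVec, neg_one_smul]; rfl⟩

theorem iso_mem_N {h : orthGroup Q} :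
    D.iso h ∈ D.N ↔ h ∈ commutator (orthGroup Q) ∨ D.negOne * h ∈ commutator (orthGroup Q) := by
  constructor
  · intro hh
    haveI : (scalars Qf).Normal := D.ker_Φ ▸ inferInstance
    obtain ⟨w, hw, z, hz, e⟩ := Subgroup.mem_sup_of_normal_right.1 hh
    obtain ⟨c, hc, rfl⟩ := (mem_omegaSub_iff Qf Q D.hQf w).1 hw
    obtain ⟨k, hk⟩ := hz
    have hz' : z = D.iso (c⁻¹ * h) := by
      rw [map_mul, map_inv, ← e, ← mul_assoc]
      simp [iso]
    have hkk : k * k = 1 := by
      rw [← (D.scalar_eq z hk).1, hz', D.mult_iso]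
    have hval : ∀ v, (c⁻¹ * h).1 v = k • v := fun v => by
      rw [← D.lin_iso, ← hz', lin_apply, hk, Matrix.smul_mulVec, Matrix.one_mulVec]
    rcases mul_self_eq_one_iff.1 hkk with rfl | rfl
    · left
      have : c⁻¹ * h = 1 := Subtype.ext (LinearEquiv.ext fun v => by rw [hval, one_smul]; rfl)
      rwa [inv_mul_eq_one.1 this] at hc
    · right
      have : c⁻¹ * h = D.negOne := Subtype.ext (LinearEquiv.ext fun v => by rw [hval, neg_one_smul]; rfl)
      rw [inv_mul_eq_iff_eq_mul] at this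
      rw [this, ← mul_assoc]
      have hcomm : D.negOne * c = c * D.negOne := Subtype.ext (LinearEquiv.ext fun v => (map_neg c.1 v).symm)
      rw [hcomm, mul_assoc, show D.negOne * D.negOne = 1 from Subtype.ext (LinearEquiv.ext fun v => neg_neg v), mul_one]
      exact hc
  · rintro (h1 | h1)
    · exact Subgroup.mem_sup_left ((mem_omegaSub_iff Qf Q D.hQf _).2 ⟨h, h1, rfl⟩)
    · have e : D.iso h = D.iso D.negOne * D.iso (D.negOne * h) := by
        rw [← map_mul, ← mul_assoc, show D.negOne * D.negOne = 1 from Subtype.ext (LinearEquiv.ext fun v => neg_neg v),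
          one_mul]
      rw [e]
      exact mul_mem (Subgroup.mem_sup_right D.iso_negOne_mem)
        (Subgroup.mem_sup_left ((mem_omegaSub_iff Qf Q D.hQf _).2 ⟨_, h1, rfl⟩))

/-- The second reflection vector. -/
noncomputable def a' : ι → F := lin Qf D.s D.a

theorem Qa' : Q D.a' = D.mult D.s := rfl

theorem ν_ne : Q D.a' ≠ 0 := D.mult_ne D.s

theorem conj_refl_s : D.s * D.iso (refl Q D.a) * D.s⁻¹ = D.iso (refl Q D.a') := by
  apply lin_injective Qf
  rw [map_mul, map_mul, map_inv, D.lin_iso, D.lin_iso]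
  have h := conjSim_refl (D.isSimil D.s) (D.mult_ne D.s) D.a
  exact congrArg Subtype.val h

/-- The product of the two reflections. -/
noncomputable def p : orthGroup Q := refl Q D.a * refl Q D.a'

theorem det_p : LinearMap.det ((D.p).1 : (ι → F) →ₗ[F] (ι → F)) = 1 := by
  show LinearMap.det (((refl Q D.a).1 : (ι → F) →ₗ[F] (ι → F)) * ((refl Q D.a').1 : (ι → F) →ₗ[F] (ι → F))) = 1
  rw [map_mul, det_refl Q (by rw [D.ha]; exact one_ne_zero), det_refl Q D.ν_ne]
  ring

theorem p_not_mem : D.p ∉ commutator (orthGroup Q) := by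
  intro h
  have := (prod_refl_mem_commutator_iff D.hQ D.h2 [D.a, D.a'] (by simp [D.ha, D.ν_ne])).1
    (by simpa [p] using h)
  apply D.hν
  simpa [D.ha, a'] using this.2

theorem p_mem_N_iff : D.iso D.p ∈ D.N ↔ D.negOne ∉ commutator (orthGroup Q) := by
  classical
  rw [D.iso_mem_N, or_iff_right D.p_not_mem]
  constructor
  · intro h hn
    exact D.p_not_mem (by simpa using mul_mem (inv_mem hn) h)
  · intro hn
    rw [mem_commutator_odd D.hQ D.h2] at hn ⊢
    have hp := D.p_not_mem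
    rw [mem_commutator_odd D.hQ D.h2] at hp
    push Not at hn hp
    refine ⟨?_, ?_⟩
    · show LinearMap.det (((D.negOne).1 : (ι → F) →ₗ[F] (ι → F)) * ((D.p).1 : (ι → F) →ₗ[F] (ι → F))) = 1
      rw [map_mul, D.det_negOne, D.det_p, one_mul]
    · rw [map_mul, (Int.units_eq_one_or _).resolve_left (hn D.det_negOne),
        (Int.units_eq_one_or _).resolve_left (hp D.det_p)]
      rfl

/-- Every isometry is, modulo `N`, a word in the two reflections. -/
theorem iso_reduce (h : orthGroup Q) :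
    ∃ w ∈ Subgroup.closure ({D.iso (refl Q D.a), D.iso (refl Q D.a')} : Set (GS Qf)), w⁻¹ * D.iso h ∈ D.N := by
  classical
  obtain ⟨σ, hσ, e⟩ := exists_mem_ab_eq D.hQ D.good (Subgroup.closure {refl Q D.a, refl Q D.a'}) (fun b hb => by
    by_cases hbs : IsSquare (Q b)
    · exact ⟨_, Subgroup.subset_closure (Set.mem_insert _ _),
        ab_refl_eq D.hQ D.good (by rw [D.ha]; exact one_ne_zero) hb (by rw [D.ha, one_mul]; exact hbs)⟩
    · refine ⟨_, Subgroup.subset_closure (Set.mem_insert_of_mem _ rfl), ab_refl_eq D.hQ D.good D.ν_ne hb ?_⟩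
      rw [← quadraticChar_one_iff_isSquare (mul_ne_zero D.ν_ne hb), map_mul,
        quadraticChar_neg_one_iff_not_isSquare.2 hbs,
        (show quadraticChar F (Q D.a') = -1 from quadraticChar_neg_one_iff_not_isSquare.2 D.hν)]
      rfl) h
  refine ⟨D.iso σ, ?_, ?_⟩
  · have := Subgroup.mem_map_of_mem D.iso hσ
    rwa [MonoidHom.map_closure, Set.image_pair] at this
  · rw [← map_inv, ← map_mul]
    refine D.iso_mem_N.2 (Or.inl ?_)
    rw [mem_commutator_iff, map_mul, map_inv, e, inv_mul_cancel]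

theorem chi_p : D.iso D.p ∈ soSub Qf := (mem_soSub_iff Qf Q D.hQf _).2 ⟨_, D.det_p, rfl⟩

theorem relIndex_so : (Cfsg.Inn (Cfsg.POmega F Qf)).relIndex (Cfsg.psoAut F Qf) = 1 ↔
    D.negOne ∉ commutator (orthGroup Q) := by
  rw [inn_eq, psoAut_eq, relIndex_map_ker, D.ker_Φ, Subgroup.relIndex_eq_one]
  show soSub Qf ⊔ scalars Qf ≤ D.N ↔ _
  constructor
  · intro h
    exact D.p_mem_N_iff.1 (h (Subgroup.mem_sup_left D.chi_p))
  · intro h
    refine sup_le ?_ le_sup_right
    intro g hg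
    obtain ⟨x, hx, rfl⟩ := (mem_soSub_iff Qf Q D.hQf g).1 hg
    classical
    refine D.iso_mem_N.2 ?_
    rcases Int.units_eq_one_or (levelSign Q 1 x) with h1 | h1
    · exact Or.inl ((mem_commutator_odd D.hQ D.h2 x).2 ⟨hx, h1⟩)
    · refine Or.inr ((mem_commutator_odd D.hQ D.h2 _).2 ⟨?_, ?_⟩)
      · show LinearMap.det (((D.negOne).1 : (ι → F) →ₗ[F] (ι → F)) * (x.1 : (ι → F) →ₗ[F] (ι → F))) = 1
        rw [map_mul, D.det_negOne, hx, one_mul]
      · rw [mem_commutator_odd D.hQ D.h2] at h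
        push Not at h
        rw [map_mul, h1, (Int.units_eq_one_or _).resolve_left (h D.det_negOne)]
        rfl

theorem relIndex_so_two (h : D.negOne ∈ commutator (orthGroup Q)) :
    (Cfsg.Inn (Cfsg.POmega F Qf)).relIndex (Cfsg.psoAut F Qf) = 2 := by
  classical
  rw [inn_eq, psoAut_eq, relIndex_map_ker, D.ker_Φ]
  show D.N.relIndex (soSub Qf ⊔ scalars Qf) = 2
  rw [Subgroup.relIndex, Subgroup.index_eq_two_iff]
  refine ⟨⟨D.iso D.p, Subgroup.mem_sup_left D.chi_p⟩, fun b => ?_⟩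
  simp only [Subgroup.mem_subgroupOf, Subgroup.coe_mul]
  have hp : D.iso D.p ∉ D.N := fun h' => D.p_mem_N_iff.1 h' h
  haveI := D.N_normal
  haveI : (scalars Qf).Normal := D.ker_Φ ▸ inferInstance
  obtain ⟨w, hw, z, hz, hb⟩ := Subgroup.mem_sup_of_normal_right.1 b.2
  obtain ⟨x, hx, rfl⟩ := (mem_soSub_iff Qf Q D.hQf w).1 hw
  rcases Int.units_eq_one_or (levelSign Q 1 x) with h1 | h1
  · have hbN : b.1 ∈ D.N := hb ▸ mul_mem (D.iso_mem_N.2 (Or.inl ((mem_commutator_odd D.hQ D.h2 x).2 ⟨hx, h1⟩)))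
      (Subgroup.mem_sup_right hz)
    exact Or.inr ⟨hbN, fun h' => hp (by simpa using mul_mem (inv_mem hbN) h')⟩
  · have hxp : D.iso (x * D.p) ∈ D.N := D.iso_mem_N.2 (Or.inl ((mem_commutator_odd D.hQ D.h2 _).2 ⟨by
        show LinearMap.det ((x.1 : (ι → F) →ₗ[F] (ι → F)) * ((D.p).1 : (ι → F) →ₗ[F] (ι → F))) = 1
        rw [map_mul, hx, D.det_p, one_mul], by
        have hp' := D.p_not_mem
        rw [mem_commutator_odd D.hQ D.h2] at hp'
        push Not at hp'
        rw [map_mul, h1, (Int.units_eq_one_or _).resolve_left (hp' D.det_p)]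
        rfl⟩))
    have hzN : z ∈ D.N := Subgroup.mem_sup_right hz
    have e : b.1 * D.iso D.p = D.iso (x * D.p) * ((D.iso D.p)⁻¹ * z * D.iso D.p) := by
      rw [← hb, map_mul]; simp only [iso]; group
    have hbp : b.1 * D.iso D.p ∈ D.N := e ▸ mul_mem hxp (D.N_normal.conj_mem' z hzN _)
    refine Or.inl ⟨hbp, fun hbN => hp ?_⟩
    simpa using mul_mem (inv_mem hbN) hbp

end Setup

end CfsgLib.KnownC.POmegaAut
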