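import Cfsg.Agent.Lib.KnownC.A5InSixSixty
import Cfsg.Agent.Lib.Classical.Dickson.PSL
import Cfsg.Agent.Lib.Classical.Dickson.Big
import Cfsg.Agent.Lib.Classical.Dickson.Rational
import Cfsg.Agent.Lib.Classical.SLBasic

set_option autoImplicit false
set_option linter.unusedSectionVars false

/-! Icosahedral subgroups of `PSL₂` over a field with eleven elements. -/

namespace CfsgLib.KnownC.PSLEleven

open Matrix OnePoint CfsgLib.Classical CfsgLib.Classical.Dickson CfsgLib.KnownC.A5InSixSixty
open scoped MatrixGroups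

variable {F : Type*} [Field F] [Fintype F] [DecidableEq F]

local notation "G11" => ProjectiveSpecialLinearGroup (Fin 2) F
local notation "P11" => ProjGenLinGroup (Fin 2) F

theorem charP_eleven (hF : Fintype.card F = 11) : CharP F 11 := by
  obtain ⟨p, hp⟩ := CharP.exists F
  obtain ⟨n, hpr, hn⟩ := FiniteField.card F p
  rw [hF] at hn
  have hd : p ∣ 11 := hn ▸ dvd_pow_self p n.ne_zero
  rcases (Nat.dvd_prime (by norm_num)).1 hd with h | h
  · exact absurd h hpr.ne_one
  · exact h ▸ hp

theorem card_psl11 (hF : Fintype.card F = 11) : Nat.card G11 = 660 := by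
  have h := card_psl_mul (F := F) hF 2 (by norm_num)
  have hc := card_range_toPGL F
  rw [Nat.card_eq_fintype_card, hF] at hc
  have e : Nat.card (SpecialLinearGroup.toPGL (n := Fin 2) (R := F)).range = Nat.card G11 := by
    have h2 : (SpecialLinearGroup.toPGL (n := Fin 2) (R := F)).range =
        (ProjectiveSpecialLinearGroup.toPGL (n := Fin 2) (R := F)).range := by
      apply le_antisymm
      · rintro _ ⟨g, rfl⟩; exact ⟨(g : G11), rfl⟩
      · rintro _ ⟨g, rfl⟩
        induction g using QuotientGroup.induction_on with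
        | H g => exact ⟨g, rfl⟩
    rw [h2]
    exact (Nat.card_congr (MonoidHom.ofInjective ProjectiveSpecialLinearGroup.toPGL_injective).toEquiv).symm
  rw [e] at hc
  norm_num [-Nat.card_eq_fintype_card] at hc
  omega

theorem range_toPGL_eq : (ProjectiveSpecialLinearGroup.toPGL (n := Fin 2) (R := F)).range = sln F := by
  apply le_antisymm
  · rintro _ ⟨g, rfl⟩
    induction g using QuotientGroup.induction_on with
    | H g => exact ⟨g, rfl⟩
  · rintro _ ⟨g, rfl⟩; exact ⟨(g : G11), rfl⟩

theorem setup11 (hF : Fintype.card F = 11) : Setup G11 := by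
  have := charP_eleven hF
  haveI : Fact (Nat.Prime 11) := ⟨by norm_num⟩
  refine ⟨psl_fin_isSimpleGroup le_rfl (fun _ => by omega), card_psl11 hF, fun g hg => ?_, fun g hg => ?_⟩ <;>
    rcases psl_order_dvd 11 (c := g) (by rw [hg]; norm_num) with h | h <;>
    rw [hg, hF] at h <;> norm_num at h

theorem lift_hom (h : A5 →* P11) (hh : h.range ≤ sln (F := F)) :
    ∃ f : A5 →* G11, ProjectiveSpecialLinearGroup.toPGL.comp f = h := by
  let e := MonoidHom.ofInjective (ProjectiveSpecialLinearGroup.toPGL_injective (n := Fin 2) (R := F))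
  refine ⟨e.symm.toMonoidHom.comp (h.codRestrict _ fun a => (range_toPGL_eq (F := F)).symm ▸ hh ⟨a, rfl⟩), ?_⟩
  refine MonoidHom.ext fun a => ?_
  exact congrArg Subtype.val (e.apply_symm_apply _)

theorem exists_a5 (hF : Fintype.card F = 11) : ∃ f : A5 →* G11, Function.Injective f := by
  have := charP_eleven hF
  haveI : Fact (Nat.Prime 11) := ⟨by norm_num⟩
  have h11 : (11 : F) = 0 := by exact_mod_cast CharP.cast_eq_zero F 11
  have h2 : (2 : F) ≠ 0 := by
    intro h
    have : (1 : F) = 0 := by linear_combination h11 - 5 * h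
    exact one_ne_zero this
  obtain ⟨Φ⟩ := exists_frame h2
  have hφ : (4 : F) * 4 = 4 + 1 := by linear_combination h11
  obtain ⟨-, ⟨e⟩⟩ := Φ.g60_iso 11 4 hφ (by norm_num)
  let h : A5 →* P11 := (Φ.g60 4 hφ).subtype.comp e.symm.toMonoidHom
  have hh : h.range ≤ sln F := by
    rintro _ ⟨a, rfl⟩; exact Φ.g60_le_sln 4 hφ (e.symm a).2
  obtain ⟨f, hf⟩ := lift_hom h hh
  refine ⟨f, fun a b hab => e.symm.injective (Subtype.ext ?_)⟩
  have ha := DFunLike.congr_fun hf a
  have hb := DFunLike.congr_fun hf b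
  simp only [MonoidHom.comp_apply] at ha hb
  rw [hab] at ha
  exact ha.symm.trans hb

/-- A three cycle not commuting with `c0`. -/
def d0 : A5 := ⟨Equiv.swap 2 3 * Equiv.swap 3 4, Equiv.Perm.mem_alternatingGroup.2 (by decide +kernel)⟩

theorem d0_facts : orderOf d0 = 3 ∧ c0 * d0 ≠ d0 * c0 := by
  refine ⟨?_, by decide +kernel⟩
  rw [orderOf_eq_iff (by norm_num)]
  refine ⟨by decide +kernel, fun m hm hm0 => ?_⟩
  interval_cases m <;> decide +kernel

theorem card_stabilizer_pgl (hF : Fintype.card F = 11) (x : OnePoint F) :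
    Nat.card (MulAction.stabilizer P11 x) = 110 := by
  have hrb : MulAction.orbit P11 (∞ : OnePoint F) = Set.univ := Set.eq_univ_of_forall fun y => by
    obtain ⟨h, -, e⟩ := exists_sln_to_infty y
    exact ⟨h, e⟩
  have hx : MulAction.orbit P11 x = Set.univ := by
    rw [MulAction.orbit_eq_iff.2 (hrb ▸ Set.mem_univ x), hrb]
  have h := MulAction.index_stabilizer P11 x
  rw [hx, Set.ncard_univ] at h
  have hc : Nat.card (OnePoint F) = 12 := by
    show Nat.card (Option F) = 12
    rw [Finite.card_option, Nat.card_eq_fintype_card, hF]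
  have hm := (MulAction.stabilizer P11 x).card_mul_index
  rw [h, hc, card_pgl_eq, hF] at hm
  omega

theorem dihedral_commute {n : ℕ} (a b : DihedralGroup n) (ha : a ^ 3 = 1) (hb : b ^ 3 = 1) : a * b = b * a := by
  have key : ∀ z : DihedralGroup n, z ^ 3 = 1 → ∃ i, z = DihedralGroup.r i := by
    intro z hz
    cases z with
    | r i => exact ⟨i, rfl⟩
    | sr i =>
      exfalso
      rw [pow_succ, pow_two, DihedralGroup.sr_mul_self, one_mul] at hz
      rw [DihedralGroup.one_def] at hz
      cases hz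
  obtain ⟨i, rfl⟩ := key a ha
  obtain ⟨j, rfl⟩ := key b hb
  rw [DihedralGroup.r_mul_r, DihedralGroup.r_mul_r, add_comm]

theorem prime_field_top (hF : Fintype.card F = 11) (A : Subfield F) (a : F) : a ∈ A := by
  have := charP_eleven hF
  haveI : Fact (Nat.Prime 11) := ⟨by norm_num⟩
  have hb : Function.Bijective (ZMod.castHom (dvd_refl 11) F) := by
    rw [Fintype.bijective_iff_injective_and_card]
    exact ⟨(ZMod.castHom (dvd_refl 11) F).injective, by rw [hF, ZMod.card]⟩
  obtain ⟨z, rfl⟩ := hb.2 a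
  rw [← ZMod.natCast_zmod_val z, map_natCast]
  exact natCast_mem A _

/-- An element of `PGL₂` normalising an icosahedral subgroup of `PSL₂` lies in `PSL₂`. -/
theorem normalizer_le_sln (hF : Fintype.card F = 11) (f : A5 →* G11) (hf : Function.Injective f) :
    Subgroup.normalizer (((ProjectiveSpecialLinearGroup.toPGL.comp f).range : Subgroup P11) : Set P11) ≤ sln F := by
  classical
  have := charP_eleven hF
  haveI : Fact (Nat.Prime 11) := ⟨by norm_num⟩
  set h := ProjectiveSpecialLinearGroup.toPGL.comp f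
  have hinj : Function.Injective h :=
    (ProjectiveSpecialLinearGroup.toPGL_injective (n := Fin 2) (R := F)).comp hf
  set M := Subgroup.normalizer ((h.range : Subgroup P11) : Set P11)
  have hle : h.range ≤ M := Subgroup.le_normalizer
  have h60 : 60 ∣ Nat.card M := card_range h hinj ▸ Subgroup.card_dvd_of_le hle
  have hcd : ∀ a, h a ∈ M := fun a => hle ⟨a, rfl⟩
  rcases Dickson.kind 11 M with ⟨x, hx⟩ | ⟨c, hc, -⟩ | ⟨c, -, -, -, ⟨e⟩⟩ | ⟨⟨e⟩⟩ | ⟨⟨e⟩⟩ | ⟨⟨e⟩⟩ |
    ⟨A, g, hG⟩ | ⟨A, -, g, hG⟩
  · exfalso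
    have h1 : Nat.card M ∣ 110 :=
      card_stabilizer_pgl hF x ▸ Subgroup.card_dvd_of_le (fun g hg => MulAction.mem_stabilizer_iff.2 (hx g hg))
    have := h60.trans h1
    norm_num at this
  · exfalso
    obtain ⟨i, hi⟩ := Subgroup.mem_zpowers_iff.1 (hc ▸ hcd c0)
    obtain ⟨j, hj⟩ := Subgroup.mem_zpowers_iff.1 (hc ▸ hcd d0)
    refine d0_facts.2 (hinj ?_)
    rw [map_mul, map_mul, ← hi, ← hj]
    exact zpow_mul_comm c i j
  · exfalso
    refine d0_facts.2 (hinj ?_)
    have hp : ∀ a : A5, orderOf a = 3 → (e ⟨h a, hcd a⟩) ^ 3 = 1 := fun a ha => by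
      rw [← map_pow]
      refine (congrArg e (Subtype.ext ?_)).trans (map_one e)
      show h a ^ 3 = 1
      rw [← map_pow, ← ha, pow_orderOf_eq_one, map_one]
    have := dihedral_commute _ _ (hp c0 small_facts.2.2.2.2.1) (hp d0 d0_facts.1)
    rw [← map_mul, ← map_mul] at this
    rw [map_mul, map_mul]
    exact congrArg Subtype.val (e.injective this)
  · exfalso
    have h12 : Nat.card M = 12 := by
      rw [Nat.card_congr e.toEquiv, Nat.card_eq_fintype_card]; decide +kernel
    rw [h12] at h60; norm_num at h60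
  · exfalso
    have h24 : Nat.card M = 24 := by
      rw [Nat.card_congr e.toEquiv, Nat.card_perm, Nat.card_eq_fintype_card, Fintype.card_fin]; rfl
    rw [h24] at h60; norm_num at h60
  · have h60' : Nat.card M = 60 := by rw [Nat.card_congr e.toEquiv]; exact card_a5
    rw [← Subgroup.eq_of_le_of_card_ge hle (by rw [card_range h hinj, h60'])]
    rintro _ ⟨a, rfl⟩
    exact range_toPGL_eq (F := F) ▸ ⟨f a, rfl⟩
  · exfalso
    have hAeq : ∀ a : F, a ∈ A := prime_field_top hF A
    have hcA : Nat.card A = 11 := by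
      rw [Nat.card_congr (Equiv.subtypeUnivEquiv hAeq : A ≃ F), Nat.card_eq_fintype_card, hF]
    have hM : Nat.card M = 1320 := by
      have e1 : Nat.card (M.map (MulAut.conj g).toMonoidHom) = Nat.card M :=
        Subgroup.card_map_of_injective (MulEquiv.injective _)
      rw [hG, MonoidHom.range_eq_map, Subgroup.card_map_of_injective (map_injective_subfield A),
        Subgroup.card_top, card_pgl2, hcA] at e1
      exact e1.symm
    have hMtop : M = ⊤ := Subgroup.eq_top_of_card_eq _ (by rw [hM, card_pgl_eq, hF])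
    refine range_ne_top (setup11 hF) f hf ?_
    rw [← normalizer_range (setup11 hF) f hf, Subgroup.normalizer_eq_top_iff]
    have hn : (h.range).Normal := Subgroup.normalizer_eq_top_iff.1 hMtop
    have hcomap : (h.range).comap ProjectiveSpecialLinearGroup.toPGL = f.range := by
      rw [MonoidHom.range_comp, Subgroup.comap_map_eq_self_of_injective ProjectiveSpecialLinearGroup.toPGL_injective]
    rw [← hcomap]
    exact hn.comap _
  · intro z hz
    have hmem : (MulAut.conj g) z ∈ M.map (MulAut.conj g).toMonoidHom := ⟨z, hz, rfl⟩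
    rw [hG] at hmem
    obtain ⟨s, hs⟩ := hmem
    have hs' : (MulAut.conj g) z ∈ sln F := by
      refine ⟨SpecialLinearGroup.map A.subtype s, ?_⟩
      rw [← hs]
      show ProjGenLinGroup.mk (SpecialLinearGroup.toGL _) = ProjGenLinGroup.map A.subtype (ProjGenLinGroup.mk (SpecialLinearGroup.toGL s))
      rw [ProjGenLinGroup.map_mk]
      apply congrArg ProjGenLinGroup.mk
      apply Units.ext
      ext i j
      simp
    have := (sln_normal (F := F)).conj_mem _ hs' g⁻¹
    simpa [mul_assoc] using this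

/-- A second icosahedral subgroup, not conjugate to the first. -/
theorem exists_twin (hF : Fintype.card F = 11) (f : A5 →* G11) (hf : Function.Injective f) :
    ∃ f' : A5 →* G11, Function.Injective f' ∧ ∀ g : G11, f.range.map (MulAut.conj g).toMonoidHom ≠ f'.range := by
  classical
  have := charP_eleven hF
  haveI : Fact (Nat.Prime 11) := ⟨by norm_num⟩
  obtain ⟨δ, hδ⟩ : ∃ δ : P11, δ ∉ sln F := by
    by_contra hall
    push Not at hall
    have : sln F = ⊤ := top_le_iff.1 fun z _ => hall z
    have h2 := index_sln (F := F)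
    rw [this, Subgroup.index_top] at h2
    unfold dd at h2
    rw [hF] at h2
    norm_num at h2
  set ι := ProjectiveSpecialLinearGroup.toPGL (n := Fin 2) (R := F)
  set h := ι.comp f
  let h' : A5 →* P11 := (MulAut.conj δ).toMonoidHom.comp h
  have hh' : h'.range ≤ sln F := by
    rintro _ ⟨a, rfl⟩
    exact sln_normal.conj_mem _ (range_toPGL_eq (F := F) ▸ ⟨f a, rfl⟩) δ
  obtain ⟨f', hf'⟩ := lift_hom h' hh'
  have hinj : Function.Injective h' :=
    (MulEquiv.injective (MulAut.conj δ)).comp
      ((ProjectiveSpecialLinearGroup.toPGL_injective (n := Fin 2) (R := F)).comp hf)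
  refine ⟨f', fun a b hab => hinj ?_, fun g hg => hδ ?_⟩
  · rw [← hf']; exact congrArg ι hab
  · have hR : h.range.map (MulAut.conj (ι g)).toMonoidHom = h.range.map (MulAut.conj δ).toMonoidHom := by
      have h1 := congrArg (Subgroup.map ι) hg
      rw [← MonoidHom.range_comp ι f', hf', MonoidHom.range_comp, Subgroup.map_map] at h1
      have e : ι.comp (MulAut.conj g).toMonoidHom = (MulAut.conj (ι g)).toMonoidHom.comp ι := by
        ext z; simp
      rw [e, ← Subgroup.map_map, ← MonoidHom.range_comp ι f] at h1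
      exact h1
    have hn : δ⁻¹ * ι g ∈ Subgroup.normalizer ((h.range : Subgroup P11) : Set P11) := by
      rw [Subgroup.mem_normalizer_iff]
      intro n
      constructor
      · intro hn
        obtain ⟨n', hn', e⟩ := hR.le ⟨n, hn, rfl⟩
        replace e : δ * n' * δ⁻¹ = ι g * n * (ι g)⁻¹ := e
        rw [show δ⁻¹ * ι g * n * (δ⁻¹ * ι g)⁻¹ = δ⁻¹ * (ι g * n * (ι g)⁻¹) * δ by group, ← e]
        simpa [mul_assoc] using hn'
      · intro hn
        obtain ⟨n', hn', e⟩ := hR.ge ⟨_, hn, rfl⟩
        replace e : ι g * n' * (ι g)⁻¹ = δ * (δ⁻¹ * ι g * n * (δ⁻¹ * ι g)⁻¹) * δ⁻¹ := e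
        have : n' = n := by
          have e' : ι g * n' * (ι g)⁻¹ = ι g * n * (ι g)⁻¹ := by rw [e]; group
          simpa using e'
        rwa [← this]
    have h1 := normalizer_le_sln hF f hf hn
    have h2 : ι g ∈ sln F := range_toPGL_eq (F := F) ▸ ⟨g, rfl⟩
    have h3 := mul_mem h2 (inv_mem h1)
    rwa [show ι g * (δ⁻¹ * ι g)⁻¹ = δ by group] at h3

end CfsgLib.KnownC.PSLEleven
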