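import Cfsg.Agent.Lib.KnownC.PSUThreeSpectrum
import Cfsg.Agent.Lib.Classical.PSU32
import Cfsg.Agent.Lib.KGroups.TripleAlt
import Cfsg.Agent.S0283

set_option autoImplicit false
set_option linter.unusedSectionVars false

/-! The smallest index of a proper subgroup of `PSU_3(5)`. -/

namespace CfsgLib.KnownC.PSUThreeFive

open Module CfsgLib.Classical CfsgLib.Classical.PSUSpectrum

section Counting

variable {G : Type*} [Group G] [Finite G] {p : ℕ} [Fact p.Prime]

/-- Sylow numbers of subgroups of a group with trivially intersecting Sylow subgroups. -/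
theorem sylow_number_modEq (hTI : ∀ P P' : Sylow p G, (P : Subgroup G) ⊓ P' ≠ ⊥ → P = P') (H : Subgroup G)
    (Q : Sylow p H) : Nat.card (Sylow p H) % Nat.card Q = 1 % Nat.card Q := by
  classical
  haveI : Fintype (Sylow p H) := Fintype.ofFinite _
  have hpp := (Fact.out : p.Prime)
  -- the other orbits of `Q` are regular
  have key : ∀ Q' : Sylow p H, Q' ≠ Q → MulAction.stabilizer ↥(Q : Subgroup H) Q' = ⊥ := by
    intro Q' hne
    refine (Subgroup.eq_bot_iff_forall _).2 fun g hg => ?_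
    have hgQ' : (g : H) ∈ (Q' : Subgroup H) := by
      have h1 : (g : H) ∈ Subgroup.normalizer ((Q' : Subgroup H) : Set H) :=
        Sylow.smul_eq_iff_mem_normalizer.1 hg
      have h2 : (g : H) ∈ (Q : Subgroup H) ⊓ Subgroup.normalizer ((Q' : Subgroup H) : Set H) := ⟨g.2, h1⟩
      have h3 : (g : H) ∈ (Q : Subgroup H) ⊓ (Q' : Subgroup H) := by
        rw [← Q.isPGroup'.inf_normalizer_sylow Q']
        exact h2
      exact h3.2
    by_contra hg1
    obtain ⟨P, hP⟩ := (Q.isPGroup'.map H.subtype).exists_le_sylow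
    obtain ⟨P', hP'⟩ := (Q'.isPGroup'.map H.subtype).exists_le_sylow
    have hPP : P = P' := hTI P P' (by
      rw [Subgroup.ne_bot_iff_exists_ne_one]
      refine ⟨⟨((g : H) : G), hP ⟨g, g.2, rfl⟩, hP' ⟨g, hgQ', rfl⟩⟩, fun e => hg1 ?_⟩
      have e' : ((g : H) : G) = 1 := congrArg Subtype.val e
      exact Subtype.ext (Subtype.ext e'))
    subst hPP
    have hle : ∀ R : Sylow p H, (R : Subgroup H).map H.subtype ≤ (P : Subgroup G) →
        (R : Subgroup H) = (P : Subgroup G).subgroupOf H := fun R hR =>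
      (R.is_maximal' (P.isPGroup'.comap_of_injective _ H.subtype_injective)
        (fun x hx => hR ⟨x, hx, rfl⟩)).symm
    exact hne (Sylow.ext ((hle Q' hP').trans (hle Q hP).symm))
  have hQfix : MulAction.fixedPoints ↥(Q : Subgroup H) (Sylow p H) = {Q} := by
    ext Q'
    constructor
    · intro h
      by_contra hne
      obtain ⟨g, hg⟩ : ∃ g : ↥(Q : Subgroup H), g ≠ 1 := by
        by_contra! hall
        have hQ : (Q : Subgroup H) = ⊥ := (Subgroup.eq_bot_iff_forall _).2 fun x hx =>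
          congrArg Subtype.val (hall ⟨x, hx⟩)
        exact hne (Sylow.ext (by
          have := Q.is_maximal' Q'.isPGroup' (by rw [hQ]; exact bot_le)
          rw [this]))
      have h1 : g ∈ MulAction.stabilizer ↥(Q : Subgroup H) Q' := h g
      rw [key Q' hne, Subgroup.mem_bot] at h1
      exact hg h1
    · rintro rfl g
      exact Sylow.smul_eq_iff_mem_normalizer.2 (Subgroup.le_normalizer g.2)
  -- count the orbits
  have hcard := MulAction.selfEquivSigmaOrbits' ↥(Q : Subgroup H) (Sylow p H)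
  haveI : Fintype (MulAction.orbitRel.Quotient ↥(Q : Subgroup H) (Sylow p H)) := Fintype.ofFinite _
  rw [Nat.card_congr hcard, Nat.card_sigma]
  set o : MulAction.orbitRel.Quotient ↥(Q : Subgroup H) (Sylow p H) := Quotient.mk'' Q
  rw [← Finset.add_sum_erase _ _ (Finset.mem_univ o)]
  have h1 : Nat.card ↥o.orbit = 1 := by
    rw [MulAction.orbitRel.Quotient.orbit_mk, Nat.card_eq_one_iff_unique]
    have hQ : Q ∈ MulAction.fixedPoints ↥(Q : Subgroup H) (Sylow p H) := by rw [hQfix]; rfl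
    refine ⟨⟨fun a b => Subtype.ext ?_⟩, ⟨⟨Q, MulAction.mem_orbit_self _⟩⟩⟩
    rw [MulAction.mem_fixedPoints'.1 hQ _ a.2, MulAction.mem_fixedPoints'.1 hQ _ b.2]
  have h2 : Nat.card Q ∣ ∑ x ∈ Finset.univ.erase o, Nat.card ↥(MulAction.orbitRel.Quotient.orbit x) := by
    refine Finset.dvd_sum fun x hx => ?_
    induction x using Quotient.inductionOn' with
    | h Q' =>
      have hne : Q' ≠ Q := fun e => (Finset.mem_erase.1 hx).1 (by rw [e])
      rw [MulAction.orbitRel.Quotient.orbit_mk]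
      have h := MulAction.index_stabilizer ↥(Q : Subgroup H) Q'
      rw [key Q' hne, Subgroup.index_bot, ← Nat.card_coe_set_eq] at h
      rw [← h]
  obtain ⟨c, hc⟩ := h2
  rw [h1, hc, Nat.add_mul_mod_self_left]

/-- A subgroup with a single non-trivial Sylow subgroup normalises a Sylow subgroup of the group. -/
theorem exists_normalizer_le (hTI : ∀ P P' : Sylow p G, (P : Subgroup G) ⊓ P' ≠ ⊥ → P = P') (H : Subgroup G)
    (hp : p ∣ Nat.card H) (h1 : Nat.card (Sylow p H) = 1) :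
    ∃ P : Sylow p G, Subgroup.normalizer (H : Set G) ≤ Subgroup.normalizer ((P : Subgroup G) : Set G) := by
  obtain ⟨Q⟩ : Nonempty (Sylow p H) := inferInstance
  haveI : Subsingleton (Sylow p H) := (Nat.card_eq_one_iff_unique.1 h1).1
  obtain ⟨P, hP⟩ := (Q.isPGroup'.map H.subtype).exists_le_sylow
  refine ⟨P, fun g hg => ?_⟩
  obtain ⟨⟨x, hxQ⟩, hx⟩ := Subgroup.ne_bot_iff_exists_ne_one.1 (Q.ne_bot_of_dvd_card hp)
  have hgx : g * (x : G) * g⁻¹ ∈ H := (Subgroup.mem_normalizer_iff.1 hg _).1 x.2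
  let y : H := ⟨g * (x : G) * g⁻¹, hgx⟩
  obtain ⟨k, hk⟩ := Q.isPGroup' ⟨x, hxQ⟩
  have hy : IsPGroup p ↥(Subgroup.zpowers y) := IsPGroup.of_card_dvd_pow (n := k) (by
    rw [Nat.card_zpowers]
    refine orderOf_dvd_of_pow_eq_one (Subtype.ext ?_)
    show (g * (x : G) * g⁻¹) ^ p ^ k = 1
    have hxk : (x : G) ^ p ^ k = 1 := by
      have := congrArg (fun z : ↥(Q : Subgroup H) => ((z : H) : G)) hk
      simpa using this
    rw [conj_pow, hxk, mul_one, mul_inv_cancel])
  obtain ⟨Q', hQ'⟩ := hy.exists_le_sylow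
  have hyQ : y ∈ (Q : Subgroup H) := by
    rw [Subsingleton.elim Q Q']
    exact hQ' (Subgroup.mem_zpowers y)
  have h := hTI (g • P) P (by
    rw [Subgroup.ne_bot_iff_exists_ne_one]
    refine ⟨⟨(y : G), ⟨(x : G), hP ⟨x, hxQ, rfl⟩, rfl⟩, hP ⟨y, hyQ, rfl⟩⟩, fun e => hx ?_⟩
    have e' : g * (x : G) * g⁻¹ = 1 := congrArg Subtype.val e
    exact Subtype.ext (Subtype.ext (conj_eq_one_iff.1 e')))
  exact Sylow.smul_eq_iff_mem_normalizer.1 h

end Counting

section Point

variable {F : Type*} [Field F] [Fintype F] {σ : F →+* F}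

local notation "V3" => (Fin 3 → F)

/-- A unipotent endomorphism fixes every eigenvector. -/
theorem eigen_one {V : Type*} [AddCommGroup V] [Module F V] {f : Module.End F V} {N : ℕ}
    (hn : (f - 1) ^ N = 0) {u : V} (hu : u ≠ 0) {c : F} (hc : f u = c • u) : c = 1 := by
  have h : ∀ j : ℕ, ((f - 1) ^ j) u = (c - 1) ^ j • u := by
    intro j
    induction j with
    | zero => simp
    | succ j ih =>
      rw [pow_succ', Module.End.mul_apply, ih, map_smul, LinearMap.sub_apply, hc, Module.End.one_apply, smul_sub,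
        smul_smul, pow_succ, mul_sub, mul_one, sub_smul]
  have h' := h N
  rw [hn, LinearMap.zero_apply, eq_comm, smul_eq_zero] at h'
  exact sub_eq_zero.1 (pow_eq_zero_iff'.1 (h'.resolve_right hu)).1

variable (hc : IsConjugation σ)
include hc

/-- A non-trivial unipotent isometry fixes an isotropic vector. -/
theorem exists_fixed {f : Module.End F V3} (hf : ∀ x y, stdHerm σ 3 (f x) (f y) = stdHerm σ 3 x y) {N : ℕ}
    (hn : (f - 1) ^ N = 0) (h1 : f ≠ 1) : ∃ v, v ≠ 0 ∧ f v = v ∧ stdHerm σ 3 v v = 0 := by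
  classical
  have hex : ∃ j, (f - 1) ^ (j + 1) = 0 := ⟨N, by rw [pow_succ, hn, zero_mul]⟩
  set j := Nat.find hex with hj
  have hj0 : j ≠ 0 := fun e => by
    have := Nat.find_spec hex
    rw [← hj, e, zero_add, pow_one, sub_eq_zero] at this
    exact h1 this
  obtain ⟨i, hi⟩ := Nat.exists_eq_succ_of_ne_zero hj0
  obtain ⟨y, hy⟩ : ∃ y, ((f - 1) ^ (i + 1)) y ≠ 0 := by
    by_contra! hall
    exact Nat.find_min hex (show i < j by omega) (LinearMap.ext hall)
  have hfix : f (((f - 1) ^ (i + 1)) y) = ((f - 1) ^ (i + 1)) y := by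
    have := LinearMap.congr_fun (Nat.find_spec hex) y
    rw [← hj, hi, pow_succ', Module.End.mul_apply, LinearMap.sub_apply, Module.End.one_apply,
      LinearMap.zero_apply, sub_eq_zero] at this
    exact this
  refine ⟨_, hy, hfix, ?_⟩
  set v := ((f - 1) ^ (i + 1)) y with hv
  obtain ⟨z, hz⟩ : ∃ z, v = f z - z := ⟨((f - 1) ^ i) y, by
    rw [hv, pow_succ', Module.End.mul_apply, LinearMap.sub_apply, Module.End.one_apply]⟩
  have h := hf v z
  rw [hfix] at h
  calc stdHerm σ 3 v v = stdHerm σ 3 v (f z - z) := by rw [← hz]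
    _ = 0 := by rw [map_sub, h, sub_self]

theorem exists_coords {r : V3} (hr0 : r ≠ 0) (hr : stdHerm σ 3 r r = 0) :
    ∃ s z, stdHerm σ 3 r s = 1 ∧ stdHerm σ 3 r z = 0 ∧
      ∀ x, ∃ a b c : F, x = a • r + b • s + c • z := by
  have hB := stdHerm_isHermitian hc 3
  obtain ⟨s, -, -, hrs⟩ := hB.exists_partner (W := ⊤) (nondegOn_iff.2 fun x _ hx => stdHerm_sepRight 3 x fun w => hx w trivial) Submodule.mem_top hr0 hr
  obtain ⟨z, hz, -, -, hsp⟩ := hB.exists_perp_line (stdHerm_sepRight 3) (Module.finrank_fin_fun F) hr hrs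
  exact ⟨s, z, hrs, hz, hsp⟩

/-- A non-trivial unipotent isometry fixes only one isotropic line. -/
theorem fixed_unique {f : Module.End F V3} (hf : ∀ x y, stdHerm σ 3 (f x) (f y) = stdHerm σ 3 x y) {N : ℕ}
    (hn : (f - 1) ^ N = 0) (h1 : f ≠ 1) {u w : V3} (hu0 : u ≠ 0) (hu : stdHerm σ 3 u u = 0) (hfu : f u = u)
    (hw0 : w ≠ 0) (hw : stdHerm σ 3 w w = 0) (hfw : f w = w) : ∃ c : F, w = c • u := by
  by_contra hcon
  have hB := stdHerm_isHermitian hc 3
  have hmem : w ∉ Submodule.span F {u} := fun h => by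
    obtain ⟨c, rfl⟩ := Submodule.mem_span_singleton.1 h
    exact hcon ⟨c, rfl⟩
  have hwu := hB.not_orth (stdHerm_sepRight 3) (Module.finrank_fin_fun F) hw hu hu0 hmem
  obtain ⟨u', rfl'⟩ : ∃ u', u' = (stdHerm σ 3 w u)⁻¹ • u := ⟨_, rfl⟩
  have hwu' : stdHerm σ 3 w u' = 1 := by rw [rfl', map_smul, smul_eq_mul, inv_mul_cancel₀ hwu]
  have hu' : stdHerm σ 3 u' u' = 0 := by rw [rfl', hB.smul_self, hu, mul_zero]
  have hfu' : f u' = u' := by rw [rfl', map_smul, hfu]
  obtain ⟨z, hwz, huz, -, hsp⟩ := hB.exists_perp_line (stdHerm_sepRight 3) (Module.finrank_fin_fun F) hw hwu'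
  obtain ⟨a, b, c, e⟩ := hsp (f z)
  have hu'w : stdHerm σ 3 u' w = 1 := by rw [← hB.symm, hwu', map_one]
  have hb : b = 0 := by
    have h := hf w z
    rw [hfw, e, map_add, map_add, map_smul, map_smul, map_smul, hw, hwu', hwz, smul_zero, smul_zero, zero_add,
      add_zero, smul_eq_mul, mul_one] at h
    exact h
  have ha : a = 0 := by
    have h := hf u' z
    rw [hfu', e, map_add, map_add, map_smul, map_smul, map_smul, hu'w, hu', huz, smul_zero, smul_zero, add_zero,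
      add_zero, smul_eq_mul, mul_one] at h
    exact h
  rw [ha, hb, zero_smul, zero_smul, zero_add, zero_add] at e
  apply h1
  refine LinearMap.ext fun x => ?_
  obtain ⟨a', b', c', rfl⟩ := hsp x
  by_cases hz : z = 0
  · simp [map_add, map_smul, hfw, hfu', hz]
  · rw [eigen_one hn hz e, one_smul] at e
    simp [map_add, map_smul, hfw, hfu', e]

/-- A unipotent isometry fixing the isotropic `v` acts trivially on `v^⊥` modulo `v`. -/
theorem flag {f : Module.End F V3} (hf : ∀ x y, stdHerm σ 3 (f x) (f y) = stdHerm σ 3 x y) {N : ℕ}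
    (hn : (f - 1) ^ N = 0) {v : V3} (hv0 : v ≠ 0) (hv : stdHerm σ 3 v v = 0) (hfv : f v = v) :
    ∀ w, stdHerm σ 3 v w = 0 → ∃ c : F, f w - w = c • v := by
  obtain ⟨s, z, hvs, hvz, hsp⟩ := exists_coords hc hv0 hv
  intro w hw
  have hperp : ∀ x, stdHerm σ 3 v x = 0 → ∃ a c : F, x = a • v + c • z := fun x hx => by
    obtain ⟨a, b, c, rfl⟩ := hsp x
    simp [hv, hvs, hvz] at hx
    exact ⟨a, c, by rw [hx, zero_smul, add_zero]⟩
  obtain ⟨a, c, rfl⟩ := hperp w hw
  obtain ⟨a', c', e⟩ := hperp (f z) (by rw [← hvz, ← hf v z, hfv])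
  have hj : ∀ j : ℕ, ∃ d : F, ((f - 1) ^ j) z = d • v + (c' - 1) ^ j • z := by
    intro j
    induction j with
    | zero => exact ⟨0, by simp⟩
    | succ j ih =>
      obtain ⟨d, hd⟩ := ih
      refine ⟨(c' - 1) ^ j * a', ?_⟩
      rw [pow_succ', Module.End.mul_apply, hd, LinearMap.sub_apply, map_add, map_smul, map_smul, hfv, e,
        Module.End.one_apply]
      module
  obtain ⟨d, hd⟩ := hj N
  rw [hn, LinearMap.zero_apply] at hd
  rcases eq_or_ne c' 1 with rfl | hne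
  · exact ⟨c * a', by rw [map_add, map_smul, map_smul, hfv, e]; module⟩
  · have hz : z = (-(((c' - 1) ^ N)⁻¹ * d)) • v := by
      have h := congrArg (fun t => ((c' - 1) ^ N)⁻¹ • t) hd
      simp only [smul_zero, smul_add, smul_smul, inv_mul_cancel₀ (pow_ne_zero _ (sub_ne_zero.2 hne)),
        one_smul] at h
      rw [neg_smul, eq_neg_iff_add_eq_zero, add_comm]
      exact h.symm
    refine ⟨0, ?_⟩
    rw [hz]
    simp [map_add, map_smul, hfv]

end Point

section Lifts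

variable {F : Type*} [Field F] [Fintype F] {σ : F →+* F}

/-- The natural representation. -/
noncomputable def nat3 (hσ : ∀ x, σ x = x ^ 5) : Cfsg.SU 3 F 5 →* Module.End F (Fin 3 → F) :=
  toEndU.comp (suIsom hσ)

theorem nat3_isom (hσ : ∀ x, σ x = x ^ 5) (a : Cfsg.SU 3 F 5) (x y : Fin 3 → F) :
    stdHerm σ 3 (nat3 hσ a x) (nat3 hσ a y) = stdHerm σ 3 x y :=
  (suIsom hσ a).2 x y

theorem nat3_injective (hσ : ∀ x, σ x = x ^ 5) : Function.Injective (nat3 (F := F) hσ) := fun a b h =>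
  Subtype.ext (Subtype.ext (Matrix.toLin'.injective h))

variable [CharP F 5] [Fact (Nat.Prime 5)]

theorem sub_one_pow_char (f : Module.End F (Fin 3 → F)) (k : ℕ) : (f - 1) ^ 5 ^ k = f ^ 5 ^ k - 1 := by
  haveI : CharP (Module.End F (Fin 3 → F)) 5 :=
    charP_of_injective_algebraMap (algebraMap F (Module.End F (Fin 3 → F))).injective 5
  rw [sub_pow_char_pow_of_commute 5 k (Commute.one_right f), one_pow]

theorem exists_unipotent_lift (hF : Fintype.card F = 25) (hσ : ∀ x, σ x = x ^ 5) {x : Cfsg.PSU 3 F 5} {k : ℕ}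
    (hx : x ^ 5 ^ k = 1) : ∃ a, QuotientGroup.mk a = x ∧ (nat3 hσ a - 1) ^ 5 ^ k = 0 := by
  obtain ⟨a₀, rfl⟩ := QuotientGroup.mk_surjective x
  rw [← QuotientGroup.mk_pow, QuotientGroup.eq_one_iff] at hx
  set z := a₀ ^ 5 ^ k
  have hz3 : z ^ 3 = 1 := by
    have h : (⟨z, hx⟩ : Subgroup.center (Cfsg.SU 3 F 5)) ^ Nat.card (Subgroup.center (Cfsg.SU 3 F 5)) = 1 :=
      pow_card_eq_one'
    rw [card_center_SU (q := 5) (by rw [hF]; norm_num) (by norm_num)] at h
    exact congrArg Subtype.val h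
  obtain ⟨j, hj⟩ : ∃ j : ℕ, 3 ∣ 1 + j * 5 ^ k := by
    have h : 5 ^ k % 3 ≠ 0 := fun e =>
      absurd (Nat.Prime.dvd_of_dvd_pow Nat.prime_three (Nat.dvd_of_mod_eq_zero e)) (by decide)
    by_cases h1 : 5 ^ k % 3 = 1
    · exact ⟨2, by omega⟩
    · exact ⟨1, by omega⟩
  refine ⟨a₀ * z ^ j, ?_, ?_⟩
  · rw [QuotientGroup.mk_mul, (QuotientGroup.eq_one_iff _).2 (pow_mem hx j), mul_one]
  · have hcomm : Commute a₀ (z ^ j) := ((Commute.refl a₀).pow_right _).pow_right j
    rw [sub_one_pow_char, ← map_pow, hcomm.mul_pow, ← pow_mul]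
    obtain ⟨e, he⟩ := hj
    rw [show z * z ^ (j * 5 ^ k) = z ^ (1 + j * 5 ^ k) by rw [pow_add, pow_one], he, pow_mul, hz3, one_pow,
      map_one, sub_self]

/-- The unipotent radical of the stabiliser of an isotropic vector. -/
noncomputable def radical (hσ : ∀ x, σ x = x ^ 5) (v : Fin 3 → F) : Subgroup (Cfsg.SU 3 F 5) where
  carrier := {a | nat3 hσ a v = v ∧ ∀ w, stdHerm σ 3 v w = 0 → ∃ c : F, nat3 hσ a w - w = c • v}
  one_mem' := ⟨by simp, fun w _ => ⟨0, by simp⟩⟩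
  mul_mem' := by
    intro a b ha hb
    refine ⟨by rw [map_mul, Module.End.mul_apply, hb.1, ha.1], fun w hw => ?_⟩
    obtain ⟨c, hc⟩ := ha.2 w hw
    obtain ⟨d, hd⟩ := hb.2 w hw
    refine ⟨c + d, ?_⟩
    rw [map_mul, Module.End.mul_apply, sub_eq_iff_eq_add.1 hd, map_add, map_smul, ha.1,
      sub_eq_iff_eq_add.1 hc]
    module
  inv_mem' := by
    intro a ha
    have hinv : ∀ y, nat3 hσ a⁻¹ (nat3 hσ a y) = y := fun y => by
      rw [← Module.End.mul_apply, ← map_mul, inv_mul_cancel, map_one, Module.End.one_apply]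
    have hinv' : ∀ y, nat3 hσ a (nat3 hσ a⁻¹ y) = y := fun y => by
      rw [← Module.End.mul_apply, ← map_mul, mul_inv_cancel, map_one, Module.End.one_apply]
    refine ⟨by conv_lhs => rw [← ha.1]
               exact hinv v, fun w hw => ?_⟩
    obtain ⟨c, hc⟩ := ha.2 (nat3 hσ a⁻¹ w) (by rw [← hw, ← nat3_isom hσ a, ha.1, hinv'])
    rw [hinv'] at hc
    exact ⟨-c, by rw [neg_smul, ← hc, neg_sub]⟩

theorem radical_image_pgroup (hσ : ∀ x, σ x = x ^ 5) {v : Fin 3 → F} :
    IsPGroup 5 ↥((radical hσ v).map (QuotientGroup.mk' (Subgroup.center (Cfsg.SU 3 F 5)))) := by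
  rintro ⟨_, a, ha, rfl⟩
  refine ⟨1, Subtype.ext ?_⟩
  show (QuotientGroup.mk' _ a) ^ 5 ^ 1 = 1
  have h3 : (nat3 hσ a - 1) ^ 3 = 0 := by
    refine LinearMap.ext fun y => ?_
    have hy : stdHerm σ 3 v (nat3 hσ a y - y) = 0 := by
      rw [map_sub, sub_eq_zero]
      conv_lhs => rw [← ha.1]
      exact nat3_isom hσ a v y
    obtain ⟨c, hc⟩ := ha.2 _ hy
    simp only [pow_succ, pow_zero, one_mul, Module.End.mul_apply, LinearMap.sub_apply, Module.End.one_apply]
    rw [hc, map_smul, ha.1, sub_self, LinearMap.zero_apply]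
  have h5 : nat3 hσ (a ^ 5 ^ 1) = nat3 hσ 1 := by
    rw [map_pow, map_one, ← sub_eq_zero, ← sub_one_pow_char, pow_one]
    exact pow_eq_zero_of_le (by norm_num) h3
  rw [← map_pow, nat3_injective hσ h5, map_one]

theorem sylow_ti (hF : Fintype.card F = 25) (P P' : Sylow 5 (Cfsg.PSU 3 F 5))
    (h : (P : Subgroup (Cfsg.PSU 3 F 5)) ⊓ P' ≠ ⊥) : P = P' := by
  classical
  obtain ⟨σ, hσ, hc⟩ := exists_frob (q := 5) (by rw [hF]; norm_num : Fintype.card F = 5 ^ 2)
  haveI : Finite (Cfsg.PSU 3 F 5) := inferInstance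
  have hlift : ∀ (S : Sylow 5 (Cfsg.PSU 3 F 5)) {y}, y ∈ (S : Subgroup (Cfsg.PSU 3 F 5)) →
      ∃ b N, QuotientGroup.mk b = y ∧ (nat3 hσ b - 1) ^ N = 0 := by
    intro S y hy
    obtain ⟨k, hk⟩ := S.isPGroup' ⟨y, hy⟩
    obtain ⟨b, hb, hn⟩ := exists_unipotent_lift hF hσ (k := k) (by simpa using congrArg Subtype.val hk)
    exact ⟨b, _, hb, hn⟩
  have hne1 : ∀ {b : Cfsg.SU 3 F 5}, (QuotientGroup.mk b : Cfsg.PSU 3 F 5) ≠ 1 → nat3 hσ b ≠ 1 := fun {b} hb e =>
    hb (by rw [nat3_injective hσ (e.trans (map_one _).symm)]; rfl)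
  -- commuting elements share their fixed line
  have hshare : ∀ {a b : Cfsg.SU 3 F 5} {N M : ℕ}, (nat3 hσ a - 1) ^ N = 0 → (nat3 hσ b - 1) ^ M = 0 →
      Commute (QuotientGroup.mk a : Cfsg.PSU 3 F 5) (QuotientGroup.mk b) → nat3 hσ b ≠ 1 →
      ∀ {u : Fin 3 → F}, u ≠ 0 → stdHerm σ 3 u u = 0 → nat3 hσ b u = u → nat3 hσ a u = u := by
    intro a b N M ha hb hab hb1 u hu0 hu hbu
    obtain ⟨t, ht, e⟩ : ∃ t : F, t ≠ 0 ∧ nat3 hσ (b * a) = t • nat3 hσ (a * b) := by
      have h1 : (a * b)⁻¹ * (b * a) ∈ Subgroup.center (Cfsg.SU 3 F 5) := by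
        rw [← QuotientGroup.eq]
        exact hab
      obtain ⟨t, ht⟩ := (mem_center_iff (q := 5) (by rw [hF]; norm_num) (by norm_num) hσ _).1 h1
      refine ⟨t, ?_, ?_⟩
      · rintro rfl
        have h2 : nat3 hσ ((a * b)⁻¹ * (b * a)) (Pi.single 0 1) = 0 := by
          rw [show nat3 hσ ((a * b)⁻¹ * (b * a)) = (0 : F) • 1 from ht, zero_smul, LinearMap.zero_apply]
        have h3 := nat3_isom hσ ((a * b)⁻¹ * (b * a)) (Pi.single 0 1) (Pi.single 0 1)
        rw [h2, map_zero] at h3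
        rw [stdHerm_single, Pi.single_eq_same] at h3
        exact zero_ne_one h3
      · conv_lhs => rw [← mul_inv_cancel_left (a * b) (b * a), map_mul,
          show nat3 hσ ((a * b)⁻¹ * (b * a)) = t • 1 from ht, mul_smul_comm, mul_one]
    set w := nat3 hσ a u
    have hw0 : w ≠ 0 := fun e' => by
      have h1 : nat3 hσ (a⁻¹ * a) u = u := by rw [inv_mul_cancel, map_one, Module.End.one_apply]
      rw [map_mul, Module.End.mul_apply, show nat3 hσ a u = 0 from e', map_zero] at h1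
      exact hu0 h1.symm
    have hbw : nat3 hσ b w = t • w := by
      have h1 := LinearMap.congr_fun e u
      rw [map_mul, map_mul, Module.End.mul_apply, LinearMap.smul_apply, Module.End.mul_apply, hbu] at h1
      exact h1
    rw [eigen_one hb hw0 hbw, one_smul] at hbw
    obtain ⟨c, hcu⟩ := fixed_unique hc (nat3_isom hσ b) hb hb1 hu0 hu hbu hw0
      (by rw [show stdHerm σ 3 w w = stdHerm σ 3 u u from nat3_isom hσ a u u, hu]) hbw
    show w = u
    rw [hcu, eigen_one ha hu0 hcu, one_smul]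
  obtain ⟨⟨x, hxP, hxP'⟩, hx1⟩ := Subgroup.ne_bot_iff_exists_ne_one.1 h
  have hx1' : x ≠ 1 := fun e => hx1 (Subtype.ext e)
  obtain ⟨a, N, ha, han⟩ := hlift P hxP
  subst ha
  obtain ⟨v, hv0, hav, hv⟩ := exists_fixed hc (nat3_isom hσ a) han (hne1 hx1')
  suffices hkey : ∀ S : Sylow 5 (Cfsg.PSU 3 F 5), QuotientGroup.mk a ∈ (S : Subgroup (Cfsg.PSU 3 F 5)) →
      (S : Subgroup (Cfsg.PSU 3 F 5)) = (radical hσ v).map (QuotientGroup.mk' _) from
    Sylow.ext ((hkey P hxP).trans (hkey P' hxP').symm)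
  intro S hS
  refine (S.is_maximal' (radical_image_pgroup hσ) fun y hy => ?_).symm
  haveI : Nontrivial ↥(S : Subgroup (Cfsg.PSU 3 F 5)) := ⟨⟨⟨_, hS⟩, 1, fun e => hx1' (congrArg Subtype.val e)⟩⟩
  obtain ⟨⟨⟨z, hzS⟩, hzc⟩, hz1⟩ := Subgroup.ne_bot_iff_exists_ne_one.1
    (Subgroup.nontrivial_iff_ne_bot _ |>.1 S.isPGroup'.center_nontrivial)
  have hz1' : z ≠ 1 := fun e => hz1 (Subtype.ext (Subtype.ext e))
  have hcomm : ∀ {w}, w ∈ (S : Subgroup (Cfsg.PSU 3 F 5)) → Commute z w := fun {w} hw =>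
    (congrArg Subtype.val (Subgroup.mem_center_iff.1 hzc ⟨w, hw⟩)).symm
  obtain ⟨c, M, hcz, hcn⟩ := hlift S hzS
  subst hcz
  have hcv : nat3 hσ c v = v := hshare hcn han (hcomm hS) (hne1 hx1') hv0 hv hav
  obtain ⟨b, K, hby, hbn⟩ := hlift S hy
  have hbv : nat3 hσ b v = v := hshare hbn hcn (by rw [hby]; exact (hcomm hy).symm) (hne1 hz1') hv0 hv hcv
  exact ⟨b, ⟨hbv, flag hc (nat3_isom hσ b) hbn hv0 hv hbv⟩, hby⟩

end Lifts

section Group

variable {F : Type*} [Field F] [Fintype F]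

theorem card_G (hF : Fintype.card F = 25) : Nat.card (Cfsg.PSU 3 F 5) = 126000 := by
  have hF' : Fintype.card F = 5 ^ 2 := hF
  have h := card_SU_mul (n := 3) hF' (by norm_num)
  rw [card_GU hF' 3] at h
  norm_num [Finset.prod_range_succ, Nat.even_iff, -Nat.card_eq_fintype_card] at h
  have hZ : Nat.card (Subgroup.center (Cfsg.SU 3 F 5)) = 3 := by
    rw [card_center_SU hF' (by norm_num)]; norm_num
  have h' := Subgroup.card_eq_card_quotient_mul_card_subgroup (Subgroup.center (Cfsg.SU 3 F 5))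
  rw [hZ] at h'
  show Nat.card (↥(Cfsg.SU 3 F 5) ⧸ Subgroup.center ↥(Cfsg.SU 3 F 5)) = 126000
  omega

theorem isSimple_G (hF : Fintype.card F = 25) : IsSimpleGroup (Cfsg.PSU 3 F 5) :=
  Cfsg.Agent.S0283.result (q := 5) hF 3 le_rfl (by norm_num)

theorem ten_le_index (hF : Fintype.card F = 25) (H : Subgroup (Cfsg.PSU 3 F 5)) (hH : H ≠ ⊤) :
    10 ≤ H.index := by
  haveI := isSimple_G hF
  haveI : Fintype (Cfsg.PSU 3 F 5 ⧸ H) := Fintype.ofFinite _
  have hcore : H.normalCore = ⊥ := (Subgroup.normalCore_normal H).eq_bot_or_eq_top.resolve_right fun e =>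
    hH (top_unique (e.ge.trans (Subgroup.normalCore_le H)))
  rw [Subgroup.normalCore_eq_ker] at hcore
  have h := Subgroup.card_dvd_of_injective _ ((MonoidHom.ker_eq_bot_iff _).1 hcore)
  rw [card_G hF, Nat.card_perm, show Nat.card (Cfsg.PSU 3 F 5 ⧸ H) = H.index from rfl] at h
  by_contra hlt
  push Not at hlt
  have := H.index_ne_zero_of_finite
  interval_cases H.index <;> norm_num [Nat.factorial] at h

theorem no_order_seven_mul (hF : Fintype.card F = 25) {r : ℕ} (hr : r.Prime) (hr7 : r ≠ 7) (y : Cfsg.PSU 3 F 5) :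
    orderOf y ≠ 7 * r := by
  haveI : Fact (Nat.Prime 5) := ⟨by norm_num⟩
  haveI : CharP F 5 := charP_of_card_eq_prime_pow (f := 2) (by rw [hF]; norm_num)
  intro hy
  have h : orderOf y ∈ Set.range (orderOf : Cfsg.PSU 3 F 5 → ℕ) := ⟨y, rfl⟩
  rw [PSUThree.range_orderOf 5 (by norm_num) (q := 5) hF, hy] at h
  norm_num [Nat.gcd] at h
  rcases h with ((h | h) | h) | h
  all_goals have h' := Nat.le_of_dvd (by norm_num) h
  all_goals have := hr.two_le
  all_goals omega

theorem card_normalizer_seven [Fact (Nat.Prime 7)] (hF : Fintype.card F = 25) (R : Sylow 7 (Cfsg.PSU 3 F 5)) :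
    Nat.card R = 7 ∧ Nat.card ↥(Subgroup.normalizer ((R : Subgroup (Cfsg.PSU 3 F 5)) : Set (Cfsg.PSU 3 F 5))) = 21 := by
  have h7 : (Nat.card (Cfsg.PSU 3 F 5)).factorization 7 = 1 := by
    rw [card_G hF, show 126000 = 7 * 18000 by norm_num, Nat.factorization_mul (by norm_num) (by norm_num),
      Finsupp.add_apply, Nat.Prime.factorization_self (by norm_num), Nat.factorization_eq_zero_of_not_dvd (by norm_num)]
  have hR : Nat.card R = 7 := by rw [R.card_eq_multiplicity, h7, pow_one]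
  refine ⟨hR, ?_⟩
  set N := Subgroup.normalizer ((R : Subgroup (Cfsg.PSU 3 F 5)) : Set (Cfsg.PSU 3 F 5))
  haveI : IsCyclic ↥(R : Subgroup (Cfsg.PSU 3 F 5)) := isCyclic_of_prime_card hR
  obtain ⟨g, hg⟩ := IsCyclic.exists_ofOrder_eq_natCard (α := ↥(R : Subgroup (Cfsg.PSU 3 F 5)))
  rw [hR, ← Subgroup.orderOf_coe] at hg
  -- the centralizer is a 7-group
  have hC : Nat.card ↥(Subgroup.centralizer ((R : Subgroup (Cfsg.PSU 3 F 5)) : Set (Cfsg.PSU 3 F 5))) ∣ 7 := by
    set C := Subgroup.centralizer ((R : Subgroup (Cfsg.PSU 3 F 5)) : Set (Cfsg.PSU 3 F 5))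
    have hCG := Subgroup.card_subgroup_dvd_card C
    rw [card_G hF] at hCG
    have hcop : (Nat.card C).Coprime 18000 := Nat.coprime_of_dvd fun r hr hrC hr18 => by
      haveI := Fact.mk hr
      have hr7 : r ≠ 7 := fun e => by subst e; norm_num at hr18
      obtain ⟨y, hy⟩ := exists_prime_orderOf_dvd_card' r hrC
      rw [← Subgroup.orderOf_coe] at hy
      have hcomm : Commute (g : Cfsg.PSU 3 F 5) (y : Cfsg.PSU 3 F 5) := Subgroup.mem_centralizer_iff.1 y.2 _ g.2
      refine no_order_seven_mul hF hr hr7 ((g : Cfsg.PSU 3 F 5) * (y : Cfsg.PSU 3 F 5)) ?_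
      rw [hcomm.orderOf_mul_eq_mul_orderOf_of_coprime (by rw [hg, hy]; exact (Nat.coprime_primes (by norm_num) hr).2 hr7.symm),
        hg, hy]
    exact hcop.dvd_of_dvd_mul_right (show Nat.card C ∣ 7 * 18000 by norm_num; exact hCG)
  have hker := (R : Subgroup (Cfsg.PSU 3 F 5)).normalizerMonoidHom_ker
  have hN : Nat.card N ∣ 7 * 6 := by
    rw [← Subgroup.card_mul_index (R : Subgroup (Cfsg.PSU 3 F 5)).normalizerMonoidHom.ker, Subgroup.index_ker, hker]
    refine mul_dvd_mul ?_ ?_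
    · refine (Nat.dvd_trans ?_ hC)
      exact Subgroup.card_comap_dvd_of_injective _ N.subtype N.subtype_injective
    · have h := Subgroup.card_subgroup_dvd_card (R : Subgroup (Cfsg.PSU 3 F 5)).normalizerMonoidHom.range
      rwa [IsCyclic.card_mulAut, hR, Nat.totient_prime (by norm_num)] at h
  have hn := card_sylow_modEq_one 7 (Cfsg.PSU 3 F 5)
  rw [Sylow.card_eq_index_normalizer R, Nat.ModEq] at hn
  have hmul := N.index_mul_card
  rw [card_G hF] at hmul
  have h7d : 7 ∣ Nat.card N := hR ▸ Subgroup.card_dvd_of_le Subgroup.le_normalizer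
  obtain ⟨m, hm⟩ := h7d
  rw [hm] at hN hmul ⊢
  have hm6 : m ∣ 6 := Nat.dvd_of_mul_dvd_mul_left (by norm_num) hN
  have := Nat.le_of_dvd (by norm_num) hm6
  change N.index % 7 = 1 % 7 at hn
  interval_cases m <;> omega

end Group

end CfsgLib.KnownC.PSUThreeFive
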