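import Cfsg.Agent.Lib.KnownC.PSUThreeFive

set_option autoImplicit false
set_option linter.unusedSectionVars false
set_option maxRecDepth 20000

/-! The minimal index of a proper subgroup of `PSU_3(5)` is fifty. -/

namespace CfsgLib.KnownC.PSUThreeFive

open CfsgLib.Classical CfsgLib.KGroups.TripleAlt

section Bound

variable {F : Type*} [Field F] [Fintype F]

theorem card_sylow_five [Fact (Nat.Prime 5)] [CharP F 5] (hF : Fintype.card F = 25) :
    126 ≤ Nat.card (Sylow 5 (Cfsg.PSU 3 F 5)) := by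
  haveI := isSimple_G hF
  set G := Cfsg.PSU 3 F 5
  have hs : Function.Surjective (⊤ : Subgroup G).subtype := fun g => ⟨⟨g, trivial⟩, rfl⟩
  have hcong : Nat.card (Sylow 5 ↥(⊤ : Subgroup G)) = Nat.card (Sylow 5 G) := by
    refine Nat.card_eq_of_bijective (fun Q => Q.mapSurjective hs) ⟨fun Q Q' e => Sylow.ext ?_, fun P =>
      ⟨P.subtype le_top, Sylow.ext ?_⟩⟩
    · exact Subgroup.map_injective (Subgroup.subtype_injective _) (congrArg Sylow.toSubgroup e)
    · exact Subgroup.map_subgroupOf_eq_of_le le_top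
  obtain ⟨Q⟩ : Nonempty (Sylow 5 ↥(⊤ : Subgroup G)) := inferInstance
  have hQ : Nat.card Q = 125 := by
    rw [Q.card_eq_multiplicity, Subgroup.card_top, card_G hF, show 126000 = 5 ^ 3 * 1008 by norm_num,
      Nat.factorization_mul (by norm_num) (by norm_num), Finsupp.add_apply, Nat.factorization_pow,
      Finsupp.smul_apply, Nat.Prime.factorization_self (by norm_num), Nat.factorization_eq_zero_of_not_dvd (by norm_num)]
    norm_num
  have h := sylow_number_modEq (sylow_ti hF) ⊤ Q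
  rw [hQ, hcong] at h
  obtain ⟨P⟩ : Nonempty (Sylow 5 G) := inferInstance
  have hne : (P : Subgroup G) ≠ ⊥ := P.ne_bot_of_dvd_card (by rw [card_G hF]; norm_num)
  have htop : Subgroup.normalizer ((P : Subgroup G) : Set G) ≠ ⊤ := fun e => by
    rcases (Subgroup.normalizer_eq_top_iff.1 e).eq_bot_or_eq_top with h | h
    · exact hne h
    · have h1 := P.card_eq_multiplicity
      rw [h, Subgroup.card_top, card_G hF, show 126000 = 5 ^ 3 * 1008 by norm_num,
        Nat.factorization_mul (by norm_num) (by norm_num), Finsupp.add_apply, Nat.factorization_pow,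
        Finsupp.smul_apply, Nat.Prime.factorization_self (by norm_num),
        Nat.factorization_eq_zero_of_not_dvd (by norm_num)] at h1
      norm_num at h1
  have h10 := ten_le_index hF _ htop
  have h10' : 10 ≤ Nat.card (Sylow 5 G) := by rw [Sylow.card_eq_index_normalizer P]; exact h10
  show 126 ≤ Nat.card (Sylow 5 G)
  omega

theorem sylow_facts [Fact (Nat.Prime 5)] [CharP F 5] (hF : Fintype.card F = 25) (K : Subgroup (Cfsg.PSU 3 F 5)) :
    ∃ e r : ℕ, Nat.card K = 5 ^ e * r ∧ ¬ 5 ∣ r ∧ Nat.card (Sylow 5 K) ∣ r ∧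
      Nat.card (Sylow 5 K) % 5 ^ e = 1 % 5 ^ e := by
  obtain ⟨Q⟩ : Nonempty (Sylow 5 K) := inferInstance
  have hQ := Q.card_eq_multiplicity
  refine ⟨(Nat.card K).factorization 5, (Q : Subgroup K).index, ?_, Q.not_dvd_index, Q.card_dvd_index, ?_⟩
  · rw [← hQ, Subgroup.card_mul_index]
  · rw [← hQ]
    exact sylow_number_modEq (sylow_ti hF) K Q

theorem index_normalizer_of_single [Fact (Nat.Prime 5)] [CharP F 5] (hF : Fintype.card F = 25)
    (K : Subgroup (Cfsg.PSU 3 F 5)) (h5 : 5 ∣ Nat.card K) (h1 : Nat.card (Sylow 5 K) = 1) :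
    126 ≤ (Subgroup.normalizer (K : Set (Cfsg.PSU 3 F 5))).index := by
  obtain ⟨P, hP⟩ := exists_normalizer_le (sylow_ti hF) K h5 h1
  refine (card_sylow_five hF).trans ?_
  rw [Sylow.card_eq_index_normalizer P]
  exact Nat.le_of_dvd (Nat.pos_of_ne_zero Subgroup.index_ne_zero_of_finite) (Subgroup.index_dvd_of_le hP)

theorem small_cases : ∀ k : Fin 21, ∀ n : Fin 50, 5 ∣ n.val → n.val * (1 + 25 * k.val) ∣ 5040 →
    k.val = 0 ∨ n.val = 10 ∨ n.val = 20 ∨ n.val = 40 ∨ n.val < 10 := by decide +kernel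

theorem fifty_le_index (hF : Fintype.card F = 25) (H : Subgroup (Cfsg.PSU 3 F 5)) (hH : H ≠ ⊤) :
    50 ≤ H.index := by
  haveI : Fact (Nat.Prime 5) := ⟨by norm_num⟩
  haveI : Fact (Nat.Prime 7) := ⟨by norm_num⟩
  haveI : CharP F 5 := charP_of_card_eq_prime_pow (f := 2) (by rw [hF]; norm_num)
  set G := Cfsg.PSU 3 F 5
  by_contra hlt
  push Not at hlt
  have h10 := ten_le_index hF H hH
  have hmul := H.card_mul_index
  rw [card_G hF] at hmul
  set n := H.index with hn
  -- a single Sylow subgroup is impossible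
  have hsingle : 5 ∣ Nat.card H → Nat.card (Sylow 5 H) ≠ 1 := fun h5 h1 => by
    have h := index_normalizer_of_single hF H h5 h1
    have := Nat.le_of_dvd (by omega) (Subgroup.index_dvd_of_le (H := H) Subgroup.le_normalizer)
    omega
  obtain ⟨e, r, hHe, hr5, hdr, hde⟩ := sylow_facts hF H
  have he3 : e ≤ 3 := by
    by_contra h
    have h1 : 5 ^ 4 ∣ 126000 := hmul ▸ (((pow_dvd_pow 5 (by omega)).trans (Dvd.intro r hHe.symm)).mul_right _)
    norm_num at h1
  have he0 : e ≠ 0 := fun h => by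
    rw [h, pow_zero, one_mul] at hHe
    rw [hHe] at hmul
    have h1 : 125 ∣ r * n := by rw [hmul]; norm_num
    have h2 := (Nat.Coprime.pow_left 3 ((Nat.Prime.coprime_iff_not_dvd (by norm_num : Nat.Prime 5)).2 hr5)).dvd_of_dvd_mul_left
      (show 5 ^ 3 ∣ r * n by norm_num; exact h1)
    have := Nat.le_of_dvd (by omega) h2
    norm_num at this
    omega
  have hd1 := hsingle ⟨5 ^ (e - 1) * r, by rw [hHe, ← mul_assoc, ← pow_succ', Nat.sub_add_cancel (by omega)]⟩
  rw [hHe] at hmul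
  have hn4 : n = 10 ∨ n = 20 ∨ n = 25 ∨ n = 40 := by
    interval_cases e
    · omega
    · have h1 : r * n = 25200 := by norm_num at hmul ⊢; linarith
      have h2 : 25 ∣ n := by
        refine (Nat.Coprime.pow_left 2 ((Nat.Prime.coprime_iff_not_dvd (by norm_num : Nat.Prime 5)).2 hr5)).dvd_of_dvd_mul_left ?_
        rw [h1]; norm_num
      obtain ⟨c, hc⟩ := h2
      omega
    · have h1 : r * n = 5040 := by norm_num at hmul ⊢; linarith
      set d := Nat.card (Sylow 5 H)
      have h5n : 5 ∣ n := by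
        refine ((Nat.Prime.coprime_iff_not_dvd (by norm_num : Nat.Prime 5)).2 hr5).dvd_of_dvd_mul_left ?_
        rw [h1]; norm_num
      have hdn : n * d ∣ 5040 := by rw [← h1, mul_comm r]; exact mul_dvd_mul_left n hdr
      have hd : d ≤ 504 := by
        have := Nat.le_of_dvd (by norm_num) hdn
        nlinarith
      norm_num at hde
      have := small_cases ⟨d / 25, by omega⟩ ⟨n, hlt⟩ h5n (by show n * (1 + 25 * (d / 25)) ∣ 5040; rwa [show 1 + 25 * (d / 25) = d by omega])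
      simp only at this
      omega
    · have h1 : r * n = 1008 := by norm_num at hmul ⊢; linarith
      have hr : r ≤ 100 := by nlinarith
      have := Nat.le_of_dvd (Nat.pos_of_ne_zero (fun h => by simp [h] at h1)) hdr
      norm_num at hde
      omega
  -- the prime seven
  obtain ⟨R'⟩ : Nonempty (Sylow 7 H) := inferInstance
  have h7H : 7 ∣ Nat.card H := by
    refine (Nat.Coprime.dvd_of_dvd_mul_right ((Nat.Prime.coprime_iff_not_dvd (by norm_num : Nat.Prime 7)).2
      (show ¬ 7 ∣ n by rcases hn4 with h | h | h | h <;> rw [h] <;> norm_num)) ?_)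
    rw [hHe, hmul]; norm_num
  obtain ⟨R, hR⟩ := (R'.isPGroup'.map H.subtype).exists_le_sylow
  obtain ⟨hR7, hN21⟩ := card_normalizer_seven hF R
  have hR'7 : Nat.card ↥((R' : Subgroup H).map H.subtype) = 7 := by
    have h1 := Subgroup.card_dvd_of_le hR
    rw [hR7] at h1
    rcases (Nat.dvd_prime (by norm_num)).1 h1 with h2 | h2
    · rw [Subgroup.card_map_of_injective H.subtype_injective] at h2
      exact absurd (Subgroup.eq_bot_of_card_eq _ h2) (R'.ne_bot_of_dvd_card h7H)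
    · exact h2
  have hReq : (R' : Subgroup H).map H.subtype = R := Subgroup.eq_of_le_of_card_ge hR (by rw [hR7, hR'7])
  set NH := Subgroup.normalizer ((R' : Subgroup H) : Set H) with hNH
  have hm21 : Nat.card NH ∣ 21 := by
    rw [← Subgroup.card_map_of_injective H.subtype_injective, ← hN21, ← hReq]
    exact Subgroup.card_dvd_of_le (Subgroup.le_normalizer_map _)
  have hR'c : Nat.card R' = 7 := by
    rwa [Subgroup.card_map_of_injective H.subtype_injective] at hR'7
  have hm7 : 7 ∣ Nat.card NH := hR'c ▸ Subgroup.card_dvd_of_le Subgroup.le_normalizer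
  have hn7 := card_sylow_modEq_one 7 H
  rw [Sylow.card_eq_index_normalizer R', Nat.ModEq] at hn7
  change NH.index % 7 = 1 % 7 at hn7
  have hNmul := NH.index_mul_card
  rw [hHe] at hNmul
  have hm : Nat.card NH = 7 ∨ Nat.card NH = 21 := by
    obtain ⟨c, hc⟩ := hm7
    rw [hc] at hm21 ⊢
    rcases (Nat.dvd_prime (by norm_num : Nat.Prime 3)).1 (Nat.dvd_of_mul_dvd_mul_left (by norm_num) (show 7 * c ∣ 7 * 3 from hm21)) with h | h <;> omega
  rw [← hNmul] at hmul
  have h10m : n = 10 ∧ Nat.card NH = 7 := by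
    rcases hn4 with h | h | h | h <;> rcases hm with h' | h' <;> rw [h, h'] at hmul <;> omega
  obtain ⟨hn10, hNH7⟩ := h10m
  -- a normal complement
  haveI : IsCyclic ↥(R' : Subgroup H) := isCyclic_of_prime_card hR'c
  have hNR : NH = (R' : Subgroup H) := (Subgroup.eq_of_le_of_card_ge Subgroup.le_normalizer (by rw [hNH7, hR'c])).symm
  have hNC : Subgroup.normalizer ((R' : Subgroup H) : Set H) ≤ Subgroup.centralizer ((R' : Subgroup H) : Set H) := by
    rw [← hNH, hNR]
    intro x hx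
    rw [Subgroup.mem_centralizer_iff]
    intro y hy
    letI := IsCyclic.commGroup (α := ↥(R' : Subgroup H))
    exact congrArg Subtype.val (mul_comm (⟨y, hy⟩ : ↥(R' : Subgroup H)) ⟨x, hx⟩)
  set K := (MonoidHom.transferSylow R' hNC).ker
  have hK := (MonoidHom.ker_transferSylow_isComplement' R' hNC).card_mul
  rw [hR'c] at hK
  set K' := K.map H.subtype
  have hK' : Nat.card K' = 1800 := by
    rw [Subgroup.card_map_of_injective H.subtype_injective]
    rw [hn10, hNH7] at hmul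
    have hH : Nat.card H = 12600 := by rw [hHe, ← hNmul, hNH7]; omega
    rw [hH] at hK
    change Nat.card K * 7 = 12600 at hK
    omega
  obtain ⟨e', r', hK'e, hr'5, hdr', hde'⟩ := sylow_facts hF K'
  rw [hK'] at hK'e
  have he' : e' = 2 ∧ r' = 72 := by
    have : e' ≤ 2 := by
      by_contra h
      have h1 : 5 ^ 3 ∣ 1800 := (pow_dvd_pow 5 (by omega : 3 ≤ e')).trans (Dvd.intro r' hK'e.symm)
      norm_num at h1
    interval_cases e'
    · exact absurd (show 5 ∣ r' from ⟨360, by omega⟩) hr'5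
    · exact absurd (show 5 ∣ r' from ⟨72, by omega⟩) hr'5
    · exact ⟨rfl, by omega⟩
  obtain ⟨rfl, rfl⟩ := he'
  have hone : Nat.card (Sylow 5 K') = 1 := by
    have := Nat.le_of_dvd (by norm_num) hdr'
    have h26 : Nat.card (Sylow 5 K') ≠ 26 := fun h => by rw [h] at hdr'; norm_num at hdr'
    have h51 : Nat.card (Sylow 5 K') ≠ 51 := fun h => by rw [h] at hdr'; norm_num at hdr'
    norm_num at hde'
    omega
  have hidx := index_normalizer_of_single hF K' (by rw [hK']; norm_num) hone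
  have hle : H ≤ Subgroup.normalizer (K' : Set G) := by
    have h1 := Subgroup.le_normalizer_map H.subtype (H := K)
    rw [Subgroup.normalizer_eq_top, ← MonoidHom.range_eq_map, Subgroup.range_subtype] at h1
    exact h1
  have := Nat.le_of_dvd (by omega) (Subgroup.index_dvd_of_le hle)
  omega

end Bound

section Attained

/-- The field with twenty-five elements. -/
abbrev K25 : Type := QuadraticAlgebra (ZMod 5) 3 0

/-- Generators of `3.A₇` inside `SU₃(5)`. -/
def umat : Fin 5 → Matrix (Fin 3) (Fin 3) K25 := fun i => Matrix.of (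
  ![![![⟨1, 1⟩, ⟨4, 1⟩, ⟨0, 0⟩], ![⟨4, 2⟩, ⟨3, 0⟩, ⟨1, 1⟩], ![⟨2, 0⟩, ⟨1, 2⟩, ⟨1, 4⟩]],
    ![![⟨3, 4⟩, ⟨4, 1⟩, ⟨3, 3⟩], ![⟨2, 4⟩, ⟨3, 0⟩, ⟨3, 1⟩], ![⟨1, 2⟩, ⟨1, 2⟩, ⟨4, 1⟩]],
    ![![⟨0, 0⟩, ⟨4, 1⟩, ⟨4, 4⟩], ![⟨1, 1⟩, ⟨2, 0⟩, ⟨4, 2⟩], ![⟨4, 1⟩, ⟨1, 2⟩, ⟨3, 0⟩]],
    ![![⟨1, 4⟩, ⟨1, 3⟩, ⟨4, 3⟩], ![⟨2, 2⟩, ⟨3, 4⟩, ⟨1, 1⟩], ![⟨2, 1⟩, ⟨3, 1⟩, ⟨1, 2⟩]],
    ![![⟨1, 3⟩, ⟨1, 1⟩, ⟨1, 3⟩], ![⟨4, 0⟩, ⟨4, 0⟩, ⟨4, 3⟩], ![⟨4, 0⟩, ⟨3, 3⟩, ⟨0, 2⟩]]] i)

theorem umat_unitary : ∀ i, (umat i).transpose * (umat i).map (fun x => x ^ 5) = 1 := by decide +kernel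

theorem umat_det : ∀ i, (umat i).det = 1 := by decide +kernel

theorem umat_cube : ∀ i, umat i * umat i * umat i = 1 := by decide +kernel

theorem umat_rel : ∀ i j, i ≠ j → ∃ k : Fin 3, umat i * umat j * (umat i * umat j) =
    Matrix.diagonal (fun _ => (![1, ⟨2, 1⟩, ⟨2, 4⟩] : Fin 3 → K25) k) := by decide +kernel

theorem umat_zero_one : umat 0 0 1 = ⟨4, 1⟩ := by decide +kernel

variable {F : Type*} [Field F] [Fintype F]

theorem exists_index_fifty (hF : Fintype.card F = 25) : ∃ H : Subgroup (Cfsg.PSU 3 F 5), H.index = 50 := by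
  classical
  haveI : Fact (Nat.Prime 5) := ⟨by norm_num⟩
  haveI : CharP F 5 := charP_of_card_eq_prime_pow (f := 2) (by rw [hF]; norm_num)
  haveI : ExpChar F 5 := ExpChar.prime Fact.out
  have hF' : Fintype.card F = 5 ^ 2 := by rw [hF]; norm_num
  have h50 : (5 : F) = 0 := CharP.cast_eq_zero F 5
  letI : Algebra (ZMod 5) F := ZMod.algebra F 5
  obtain ⟨s, hs⟩ : IsSquare (3 : F) := by
    rw [FiniteField.isSquare_iff (by rw [ringChar.eq F 5]; norm_num)
      (fun h => absurd ((CharP.cast_eq_zero_iff F 5 3).1 (by exact_mod_cast h)) (by norm_num)), hF]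
    norm_num
    linear_combination 106288 * h50
  let ψ : K25 →+* F := (QuadraticAlgebra.lift ⟨s, by rw [Algebra.smul_def, Algebra.smul_def]; simp [map_ofNat]; exact hs.symm⟩).toRingHom
  let A : Fin 5 → Matrix (Fin 3) (Fin 3) F := fun i => ψ.mapMatrix (umat i)
  have hdet : ∀ i, (A i).det = 1 := fun i => by rw [← RingHom.map_det, umat_det, map_one]
  have hE : ∀ i a b, A i 0 a * A i 0 b ^ 5 + A i 1 a * A i 1 b ^ 5 + A i 2 a * A i 2 b ^ 5 =
      (1 : Matrix (Fin 3) (Fin 3) F) a b := fun i a b => by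
    have h := congrArg ψ.mapMatrix (umat_unitary i)
    rw [map_mul, map_one] at h
    rw [← h]
    simp [A, Matrix.mul_apply, Fin.sum_univ_three]
  have hmem : ∀ i, (⟨A i, hdet i⟩ : Matrix.SpecialLinearGroup (Fin 3) F) ∈ Cfsg.SU 3 F 5 := fun i u v => by
    show ∑ k, ((A i).mulVec u) k * ((A i).mulVec v) k ^ 5 = ∑ k, u k * v k ^ 5
    simp only [Matrix.mulVec, dotProduct, Fin.sum_univ_three, add_pow_char, mul_pow]
    have e00 := hE i 0 0; have e01 := hE i 0 1; have e02 := hE i 0 2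
    have e10 := hE i 1 0; have e11 := hE i 1 1; have e12 := hE i 1 2
    have e20 := hE i 2 0; have e21 := hE i 2 1; have e22 := hE i 2 2
    simp at e00 e01 e02 e10 e11 e12 e20 e21 e22
    linear_combination (u 0 * v 0 ^ 5) * e00 + (u 0 * v 1 ^ 5) * e01 + (u 0 * v 2 ^ 5) * e02 +
      (u 1 * v 0 ^ 5) * e10 + (u 1 * v 1 ^ 5) * e11 + (u 1 * v 2 ^ 5) * e12 +
      (u 2 * v 0 ^ 5) * e20 + (u 2 * v 1 ^ 5) * e21 + (u 2 * v 2 ^ 5) * e22
  let a : Fin 5 → Cfsg.SU 3 F 5 := fun i => ⟨⟨A i, hdet i⟩, hmem i⟩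
  let y : Fin 5 → Cfsg.PSU 3 F 5 := fun i => QuotientGroup.mk (a i)
  have hy3 : ∀ i, y i ^ 3 = 1 := fun i => by
    rw [PSUThree.mk_pow_eq_one hF' (by norm_num)]
    refine ⟨1, ?_⟩
    show A i ^ 3 = _
    rw [one_smul, pow_succ, sq, ← map_mul, ← map_mul, umat_cube, map_one]
  have hy2 : ∀ i j, i ≠ j → (y i * y j) ^ 2 = 1 := fun i j hij => by
    rw [← QuotientGroup.mk_mul, PSUThree.mk_pow_eq_one hF' (by norm_num)]
    obtain ⟨k, hk⟩ := umat_rel i j hij
    refine ⟨ψ ((![1, ⟨2, 1⟩, ⟨2, 4⟩] : Fin 3 → K25) k), ?_⟩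
    show (A i * A j) ^ 2 = _
    rw [sq, ← map_mul, ← map_mul, hk]
    ext p q
    rcases eq_or_ne p q with rfl | hpq
    · simp
    · simp [hpq]
  -- the graph of the homomorphism from the alternating group
  set Γ := Subgroup.closure (Set.range fun i => (cyc7 i, y i))
  have hbound : 2 * Nat.card Γ ≤ 5040 := by
    refine le_trans (card_le 5 _ (fun i => Prod.ext ((show ∀ i, cyc7 i ^ 3 = 1 by decide +kernel) i) (hy3 i))
      (fun i j hij => Prod.ext ((show ∀ i j, i ≠ j → (cyc7 i * cyc7 j) ^ 2 = 1 by decide +kernel) i j hij)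
        (hy2 i j hij))) ?_
    norm_num [Nat.factorial]
  have hfst : Γ.map (MonoidHom.fst _ _) = alternatingGroup (Fin 7) := by
    rw [MonoidHom.map_closure, ← Set.range_comp]
    exact cyc7_closure
  have hA7 : Nat.card (alternatingGroup (Fin 7)) = 2520 := by
    have h := two_mul_card_alternatingGroup (α := Fin 7)
    rw [Fintype.card_perm, Fintype.card_fin, show Nat.factorial 7 = 5040 from rfl] at h
    rw [Nat.card_eq_fintype_card]
    omega
  let f : ↥Γ →* alternatingGroup (Fin 7) := ((MonoidHom.fst _ _).comp Γ.subtype).codRestrict _ fun g =>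
    hfst ▸ Subgroup.mem_map_of_mem _ g.2
  have hfs : Function.Surjective f := fun x => by
    obtain ⟨g, hg, e⟩ := hfst.ge x.2
    exact ⟨⟨g, hg⟩, Subtype.ext e⟩
  have hf : Function.Bijective f := (Nat.bijective_iff_surjective_and_card f).2 ⟨hfs, le_antisymm
    (by omega) (Nat.card_le_card_of_surjective f hfs)⟩
  let ρ : alternatingGroup (Fin 7) →* Cfsg.PSU 3 F 5 :=
    ((MonoidHom.snd _ _).comp Γ.subtype).comp (MulEquiv.ofBijective f hf).symm.toMonoidHom
  haveI : IsSimpleGroup (alternatingGroup (Fin 7)) := alternatingGroup.isSimpleGroup (by simp)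
  have hρ : ρ.ker = ⊥ := (ρ.normal_ker.eq_bot_or_eq_top).resolve_right fun e => by
    have h0 : (cyc7 0, y 0) ∈ Γ := Subgroup.subset_closure ⟨0, rfl⟩
    have h1 : f ⟨_, h0⟩ ∈ ρ.ker := e ▸ Subgroup.mem_top _
    have h2 : (MulEquiv.ofBijective f hf).symm (f ⟨_, h0⟩) = ⟨_, h0⟩ := (MulEquiv.ofBijective f hf).symm_apply_apply _
    have h3 : y 0 = 1 := by
      have h4 := MonoidHom.mem_ker.1 h1
      simp only [ρ, MonoidHom.comp_apply, MulEquiv.coe_toMonoidHom, h2] at h4
      exact h4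
    obtain ⟨t, ht⟩ := (PSUThree.mk_pow_eq_one hF' (by norm_num) (a 0) 1).1 (by rw [pow_one]; exact h3)
    have h5 := congr_fun (congr_fun ht 0) 1
    rw [pow_one] at h5
    change A 0 0 1 = _ at h5
    simp only [A, RingHom.mapMatrix_apply, Matrix.map_apply, umat_zero_one, Matrix.smul_apply,
      Matrix.one_apply_ne (show (0 : Fin 3) ≠ 1 by decide), smul_zero] at h5
    have h6 : (4 : F) + s = 0 := by simpa [ψ, Algebra.smul_def, map_ofNat] using h5
    have h13 : (13 : F) = 0 := by linear_combination (4 - s) * h6 + hs.symm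
    exact absurd ((CharP.cast_eq_zero_iff F 5 13).1 (by exact_mod_cast h13)) (by norm_num)
  refine ⟨ρ.range, ?_⟩
  have hcard : Nat.card ρ.range = 2520 := by
    rw [← hA7]
    exact (Nat.card_congr (MonoidHom.ofInjective ((MonoidHom.ker_eq_bot_iff _).1 hρ)).toEquiv).symm
  have h := ρ.range.card_mul_index
  rw [hcard, card_G hF] at h
  omega

end Attained

end CfsgLib.KnownC.PSUThreeFive
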