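import Cfsg.Agent.Lib.Classical.PSUSpectrum.HalfTorus

set_option autoImplicit false
set_option linter.unusedSectionVars false

/-! The element orders of `PSU_3(q)`, `q` odd. -/

namespace CfsgLib.KnownC.PSUThree

open Matrix Polynomial CfsgLib.Classical CfsgLib.Classical.PSUSpectrum

section Arith

variable {q : ℕ}

theorem gcd_mul_div (q : ℕ) : Nat.gcd 3 (q + 1) * ((q + 1) / Nat.gcd 3 (q + 1)) = q + 1 :=
  Nat.mul_div_cancel' (Nat.gcd_dvd_right _ _)

theorem dvd_three_mul (q : ℕ) : q + 1 ∣ 3 * ((q + 1) / Nat.gcd 3 (q + 1)) := by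
  obtain ⟨c, hc⟩ := Nat.gcd_dvd_left 3 (q + 1)
  refine ⟨c, ?_⟩
  calc 3 * ((q + 1) / Nat.gcd 3 (q + 1))
      = Nat.gcd 3 (q + 1) * c * ((q + 1) / Nat.gcd 3 (q + 1)) := by rw [← hc]
    _ = (q + 1) * c := by rw [mul_right_comm, gcd_mul_div]

theorem gcd_dvd_sub_two (hq : 2 ≤ q) : Nat.gcd 3 (q + 1) ∣ q - 2 :=
  (Nat.dvd_add_left (Nat.gcd_dvd_left 3 (q + 1))).1
    (by rw [show q - 2 + 3 = q + 1 by omega]; exact Nat.gcd_dvd_right _ _)

theorem sq_sub_one (q : ℕ) : q ^ 2 - 1 = (q + 1) * (q - 1) := by rw [← Nat.sq_sub_sq, one_pow]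

theorem gcd_dvd_sq_sub_one (q : ℕ) : Nat.gcd 3 (q + 1) ∣ q ^ 2 - 1 := by
  rw [sq_sub_one]; exact (Nat.gcd_dvd_right _ _).mul_right _

theorem torus_three (hq : 2 ≤ q) : torusM q 3 = q ^ 2 - q + 1 := by
  have h : zsum q 3 = ((q ^ 2 - q + 1 : ℕ) : ℤ) := by
    rw [Nat.cast_add, Nat.cast_sub (by nlinarith)]
    simp [zsum, Finset.sum_range_succ]
    ring
  rw [torusM, h, Int.natAbs_natCast]

theorem gcd_dvd_torus (hq : 2 ≤ q) : Nat.gcd 3 (q + 1) ∣ q ^ 2 - q + 1 := by
  rw [← torus_three hq]; exact gcd_dvd_torusM q 3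

theorem dvd_mul_div {a d b : ℕ} (ha : d ∣ a) (hb : d ∣ b) : a ∣ b * (a / d) := by
  obtain ⟨c, rfl⟩ := hb
  exact ⟨c, by rw [mul_right_comm, Nat.mul_div_cancel' ha]⟩

end Arith

section Lift

variable {F : Type*} [Field F] [Fintype F] {q n : ℕ}

theorem mk_pow_eq_one (hF : Fintype.card F = q ^ 2) (hn : 2 ≤ n) (a : Cfsg.SU n F q) (i : ℕ) :
    (QuotientGroup.mk a : Cfsg.PSU n F q) ^ i = 1 ↔
      ∃ t : F, (a.1 : Matrix (Fin n) (Fin n) F) ^ i = t • 1 := by
  obtain ⟨σ, hσ, -⟩ := exists_frob hF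
  rw [← QuotientGroup.mk_pow, QuotientGroup.eq_one_iff, mem_center_iff hF hn hσ]
  refine exists_congr fun t => ⟨fun ht => Matrix.toLin'.injective ?_, fun ht => ?_⟩
  · rw [map_smul, Matrix.toLin'_one]
    refine Eq.trans ?_ ht
    rw [suIsom_apply hσ]
    simp
  · rw [suIsom_apply hσ]
    have h := congrArg Matrix.toLin' ht
    rw [map_smul, Matrix.toLin'_one] at h
    refine Eq.trans ?_ h
    simp

/-- A monic binomial multiple of the characteristic polynomial bounds the order in the quotient. -/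
theorem orderOf_dvd_of_binomial (hF : Fintype.card F = q ^ 2) {L : Type*} [Field L] [Algebra F L]
    (a : Cfsg.SU 3 F q) {N : ℕ} {c : L}
    (hP : ((a.1 : Matrix (Fin 3) (Fin 3) F).map (algebraMap F L)).charpoly ∣ X ^ N - C c) :
    orderOf (QuotientGroup.mk a : Cfsg.PSU 3 F q) ∣ N := by
  set A : Matrix (Fin 3) (Fin 3) F := (a.1 : Matrix (Fin 3) (Fin 3) F)
  obtain ⟨u, hu⟩ := hP
  have h := congrArg (aeval (A.map (algebraMap F L))) hu
  rw [map_mul, aeval_self_charpoly, zero_mul, map_sub, map_pow, aeval_X, aeval_C, sub_eq_zero,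
    Matrix.algebraMap_eq_diagonal, ← RingHom.mapMatrix_apply, ← map_pow, RingHom.mapMatrix_apply] at h
  have h0 : algebraMap F L ((A ^ N) 0 0) = c := by simpa using congr_fun (congr_fun h 0) 0
  refine orderOf_dvd_of_pow_eq_one ((mk_pow_eq_one hF (by norm_num) a N).2 ⟨(A ^ N) 0 0, ?_⟩)
  apply Matrix.map_injective (algebraMap F L).injective
  show (A ^ N).map _ = _
  rw [h]
  ext i j
  rcases eq_or_ne i j with rfl | hij
  · simp [h0]
  · simp [hij]

end Lift

section Upper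

variable {L : Type*} [Field L]

theorem eq_prod_three {P : L[X]} (hm : P.Monic) (hd : P.natDegree = 3) [IsAlgClosed L] :
    ∃ x y z : L, P.roots = {x, y, z} ∧ P = (X - C x) * (X - C y) * (X - C z) := by
  have hs := (IsAlgClosed.splits P).eq_prod_roots_of_monic hm
  have hc : Multiset.card P.roots = 3 := by
    rw [← hd]
    conv_rhs => rw [hs, natDegree_multiset_prod_X_sub_C_eq_card]
  obtain ⟨x, y, z, h⟩ := Multiset.card_eq_three.1 hc
  exact ⟨x, y, z, h, by rw [hs, h]; simp [mul_assoc]⟩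

theorem prod_three_dvd {x y z : L} {Q : L[X]} (hxy : x ≠ y) (hxz : x ≠ z) (hyz : y ≠ z)
    (hx : Q.eval x = 0) (hy : Q.eval y = 0) (hz : Q.eval z = 0) :
    (X - C x) * (X - C y) * (X - C z) ∣ Q := by
  have hc : ∀ u v : L, u ≠ v → IsCoprime (X - C u) (X - C v) := fun u v h =>
    Polynomial.isCoprime_X_sub_C_of_isUnit_sub (sub_ne_zero.2 h).isUnit
  exact ((hc x z hxz).mul_left (hc y z hyz)).mul_dvd
    ((hc x y hxy).mul_dvd (dvd_iff_isRoot.2 hx) (dvd_iff_isRoot.2 hy)) (dvd_iff_isRoot.2 hz)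

theorem pow_eq_pow_of_mul {x y : L} {N : ℕ} (hy : y ≠ 0) (h : x * y⁻¹ ≠ 0 → (x * y⁻¹) ^ N = 1) (hx : x ≠ 0) :
    x ^ N = y ^ N := by
  have := h (mul_ne_zero hx (inv_ne_zero hy))
  rwa [mul_pow, inv_pow, mul_inv_eq_one₀ (pow_ne_zero _ hy)] at this

theorem fixed_of_repeat {q : ℕ} {x : L} (hx0 : x ≠ 0) (hfix : ((((x ^ q)⁻¹) ^ q))⁻¹ = x)
    (h : x * x * (x ^ q)⁻¹ = 1) : (x ^ q)⁻¹ = x := by
  have h2 : x ^ q = x ^ 2 := by
    rw [mul_inv_eq_one₀ (pow_ne_zero _ hx0)] at h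
    rw [sq, h]
  rw [inv_pow, inv_inv, h2, pow_right_comm, h2, ← pow_mul] at hfix
  rw [h2]
  exact inv_eq_of_mul_eq_one_right (mul_left_cancel₀ hx0 (by rw [mul_one]; linear_combination hfix))

variable {p : ℕ} [Fact p.Prime] [CharP L p] {q k : ℕ}

/-- The possible root systems of a unimodular polynomial of degree three stable under `x ↦ (x ^ q)⁻¹`. -/
theorem binomial_multiple [IsAlgClosed L] (hp : p ≠ 2) (hqk : q = p ^ k) (hq : 2 ≤ q) {P : L[X]}
    (hm : P.Monic) (hd : P.natDegree = 3) (h0 : P.eval 0 = -1)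
    (hψ : ∀ r : L, r ≠ 0 → P.eval r = 0 → P.eval (r ^ q)⁻¹ = 0) :
    ∃ c : L, P ∣ X ^ (q + 1) - C c ∨ P ∣ X ^ (p * (q + 1) / Nat.gcd 3 (q + 1)) - C c ∨
      P ∣ X ^ ((q ^ 2 - 1) / Nat.gcd 3 (q + 1)) - C c ∨
      P ∣ X ^ ((q ^ 2 - q + 1) / Nat.gcd 3 (q + 1)) - C c := by
  haveI : ExpChar L p := ExpChar.prime Fact.out
  set d := Nat.gcd 3 (q + 1) with hddef
  obtain ⟨x, y, z, hR, hP⟩ := eq_prod_three hm hd
  have hprod : x * y * z = 1 := by
    have h := h0
    rw [hP] at h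
    simp only [eval_mul, eval_sub, eval_X, eval_C] at h
    linear_combination -h
  have hiff : ∀ r : L, P.eval r = 0 ↔ r = x ∨ r = y ∨ r = z := fun r => by
    rw [hP]; simp [sub_eq_zero, or_assoc]
  have hroot0 : ∀ r : L, P.eval r = 0 → r ≠ 0 := fun r hr e => by
    rw [e, h0] at hr; exact neg_ne_zero.2 one_ne_zero hr
  set ψ : L → L := fun r => (r ^ q)⁻¹ with hψdef
  have hψr : ∀ r : L, P.eval r = 0 → P.eval (ψ r) = 0 := fun r hr => hψ r (hroot0 r hr) hr
  have hinj : Function.Injective ψ := fun a b h => by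
    have h1 : iterateFrobenius L p k a = iterateFrobenius L p k b := by
      simp only [iterateFrobenius_def, ← hqk]
      exact inv_injective h
    exact (iterateFrobenius L p k).injective h1
  by_cases hfix : ∀ r : L, P.eval r = 0 → ψ r = r
  · have hn : ∀ r : L, P.eval r = 0 → r ^ (q + 1) = 1 := fun r hr => by
      have h := hfix r hr
      rw [hψdef] at h
      simp only at h
      have h2 := congrArg (fun t => r ^ q * t) h
      simp only [mul_inv_cancel₀ (pow_ne_zero q (hroot0 r hr))] at h2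
      rw [pow_succ, ← h2]
    have hx := hn x ((hiff x).2 (Or.inl rfl))
    have hy := hn y ((hiff y).2 (Or.inr (Or.inl rfl)))
    have hz := hn z ((hiff z).2 (Or.inr (Or.inr rfl)))
    by_cases hdist : x ≠ y ∧ x ≠ z ∧ y ≠ z
    · refine ⟨1, Or.inl ?_⟩
      rw [hP]
      apply prod_three_dvd hdist.1 hdist.2.1 hdist.2.2 <;> simp [hx, hy, hz]
    · -- a repeated root
      have key : ∀ u v : L, u ^ (q + 1) = 1 → u * u * v = 1 →
          ∃ c : L, (X - C u) * (X - C u) * (X - C v) ∣ X ^ (p * (q + 1) / d) - C c := by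
        intro u v hu huv
        set M := (q + 1) / d
        refine ⟨(u ^ M) ^ p, ?_⟩
        rw [Nat.mul_div_assoc p (Nat.gcd_dvd_right _ _), mul_comm p, pow_mul, C_pow, ← sub_pow_char]
        have hu3 : u ^ (3 * M) = 1 := by
          obtain ⟨e, he⟩ := dvd_three_mul q
          rw [he, pow_mul, hu, one_pow]
        have hu0 : u ≠ 0 := fun e => by rw [e] at huv; simp at huv
        have hv : v ^ M = u ^ M := by
          have h1 : (u * u * v) ^ M = 1 := by rw [huv, one_pow]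
          have h2 : u ^ M * u ^ M * v ^ M = u ^ M * u ^ M * u ^ M := by
            rw [← mul_pow, ← mul_pow, h1]
            rw [← mul_pow, ← hu3, pow_mul]
            ring
          exact mul_left_cancel₀ (mul_ne_zero (pow_ne_zero _ hu0) (pow_ne_zero _ hu0)) h2
        have hU : X - C u ∣ X ^ M - C (u ^ M) := dvd_iff_isRoot.2 (by simp)
        have hV : X - C v ∣ X ^ M - C (u ^ M) := dvd_iff_isRoot.2 (by simp [hv])
        refine dvd_trans (mul_dvd_mul (mul_dvd_mul hU hU) hV) ?_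
        rw [← pow_two, ← pow_succ]
        exact pow_dvd_pow _ (by have := (Fact.out : p.Prime).two_le; omega)
      push Not at hdist
      by_cases hxy : x = y
      · subst hxy
        obtain ⟨c, hc⟩ := key x z hx hprod
        exact ⟨c, Or.inr (Or.inl (by rwa [hP]))⟩
      by_cases hxz : x = z
      · subst hxz
        obtain ⟨c, hc⟩ := key x y hx (by linear_combination hprod)
        exact ⟨c, Or.inr (Or.inl (by rwa [hP, mul_right_comm]))⟩
      · have hyz := hdist hxy hxz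
        subst hyz
        obtain ⟨c, hc⟩ := key y x hy (by linear_combination hprod)
        exact ⟨c, Or.inr (Or.inl (by rwa [hP, mul_comm (X - C x), mul_right_comm]))⟩
  push Not at hfix
  obtain ⟨u, hu, hu1⟩ := hfix
  have hv := hψr u hu
  have hw := hψr _ hv
  have hu0 := hroot0 u hu
  -- the cofactor of two distinct roots
  obtain ⟨w, hw', hPw⟩ : ∃ w, u * ψ u * w = 1 ∧ P = (X - C u) * (X - C (ψ u)) * (X - C w) := by
    have hd2 : (X - C u) * (X - C (ψ u)) ∣ P :=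
      (Polynomial.isCoprime_X_sub_C_of_isUnit_sub (sub_ne_zero.2 hu1.symm).isUnit).mul_dvd
        (dvd_iff_isRoot.2 hu) (dvd_iff_isRoot.2 hv)
    obtain ⟨Q, hQ⟩ := hd2
    have hm2 : ((X - C u) * (X - C (ψ u))).Monic := (monic_X_sub_C _).mul (monic_X_sub_C _)
    have hQm : Q.Monic := hm2.of_mul_monic_left (hQ ▸ hm)
    have hQd : Q.natDegree = 1 := by
      have := hm2.natDegree_mul hQm
      rw [← hQ, hd, (monic_X_sub_C _).natDegree_mul (monic_X_sub_C _), natDegree_X_sub_C, natDegree_X_sub_C] at this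
      omega
    refine ⟨-Q.coeff 0, ?_, by rw [hQ, map_neg, sub_neg_eq_add, ← hQm.eq_X_add_C hQd]⟩
    have h := h0
    rw [hQ, hQm.eq_X_add_C hQd] at h
    simp only [eval_mul, eval_sub, eval_add, eval_X, eval_C] at h
    linear_combination -h
  have hwr : P.eval w = 0 := by rw [hPw]; simp
  by_cases h2 : ψ (ψ u) = u
  · -- an orbit of length two
    have hwu : w ≠ u := fun e => hu1 (fixed_of_repeat hu0 h2 (by rw [← hw', e]; simp only [hψdef]; ring))
    have hwv : w ≠ ψ u := fun e => by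
      have h := fixed_of_repeat (hroot0 _ hv) (congrArg ψ h2) (show ψ u * ψ u * ψ (ψ u) = 1 by
        rw [h2, ← hw', e]; ring)
      exact hu1 (hinj h)
    refine ⟨u ^ ((q ^ 2 - 1) / d), Or.inr (Or.inr (Or.inl ?_))⟩
    rw [hPw]
    set N := (q ^ 2 - 1) / d
    have hq2 : u ^ (q ^ 2 - 1) = 1 := by
      have h := h2
      simp only [hψdef, inv_pow, inv_inv, ← pow_mul, ← pow_two] at h
      refine mul_left_cancel₀ hu0 ?_
      rw [← pow_succ', Nat.sub_add_cancel (Nat.one_le_pow _ _ (by omega)), h, mul_one]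
    have hN : ∀ b, d ∣ b → u ^ (b * N) = 1 := fun b hb => by
      obtain ⟨c, hc⟩ := dvd_mul_div (gcd_dvd_sq_sub_one q) hb
      rw [hc, pow_mul, hq2, one_pow]
    have hvN : ψ u ^ N = u ^ N := by
      have h := hN (q + 1) (Nat.gcd_dvd_right _ _)
      rw [mul_comm, pow_mul, pow_succ] at h
      simp only [hψdef, inv_pow, ← pow_mul, mul_comm q]
      rw [pow_mul]
      exact inv_eq_of_mul_eq_one_right h
    have hwN : w ^ N = u ^ N := by
      have h := hN (q - 2) (gcd_dvd_sub_two hq)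
      have h' : u ^ (q * N) = u ^ (2 * N) := by
        rw [show q = q - 2 + 2 by omega, add_mul, pow_add, h, one_mul]
      have hw2 : u * w = u ^ q := by
        have hz := hw'
        simp only [hψdef] at hz
        have hq0 := pow_ne_zero q hu0
        field_simp at hz
        linear_combination hz
      refine mul_left_cancel₀ (pow_ne_zero N hu0) ?_
      rw [← mul_pow, hw2, ← pow_mul, h', ← pow_add, two_mul]
    apply prod_three_dvd hu1.symm hwu.symm hwv.symm <;> simp [hvN, hwN]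
  · -- an orbit of length three
    have hwe : w = ψ (ψ u) := by
      have h := hw
      rw [hPw] at h
      simp only [eval_mul, eval_sub, eval_X, eval_C, mul_eq_zero, sub_eq_zero] at h
      rcases h with (h | h) | h
      · exact absurd h h2
      · exact absurd (hinj h) hu1
      · exact h.symm
    have hw3 : u ^ (q ^ 2 - q + 1) = 1 := by
      have hz := hw'
      rw [hwe] at hz
      simp only [hψdef, inv_pow, inv_inv, ← pow_mul, ← pow_two] at hz
      have hq0 := pow_ne_zero q hu0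
      field_simp at hz
      have e : q + (q ^ 2 - q + 1) = q ^ 2 + 1 := by
        have : q ≤ q ^ 2 := Nat.le_self_pow two_ne_zero q
        omega
      refine mul_left_cancel₀ hq0 ?_
      rw [← pow_add, e, mul_one, pow_succ]
      linear_combination hz
    refine ⟨u ^ ((q ^ 2 - q + 1) / d), Or.inr (Or.inr (Or.inr ?_))⟩
    rw [hPw, hwe]
    set N := (q ^ 2 - q + 1) / d
    have hvN : ψ u ^ N = u ^ N := by
      obtain ⟨c, hc⟩ := dvd_mul_div (gcd_dvd_torus hq) (Nat.gcd_dvd_right 3 (q + 1))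
      have h : u ^ ((q + 1) * N) = 1 := by rw [hc, pow_mul, hw3, one_pow]
      rw [mul_comm, pow_mul, pow_succ] at h
      simp only [hψdef, inv_pow, ← pow_mul, mul_comm q]
      rw [pow_mul]
      exact inv_eq_of_mul_eq_one_right h
    have hwN : ψ (ψ u) ^ N = u ^ N := by
      have hc : ∀ r : L, ψ r ^ N = ψ (r ^ N) := fun r => by
        simp only [hψdef, inv_pow, ← pow_mul, mul_comm q]
      rw [hc, hvN, ← hc, hvN]
    apply prod_three_dvd hu1.symm (Ne.symm h2) (fun e => hu1 (hinj e).symm) <;> simp [hvN, hwN]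

end Upper

section Exists

variable {F : Type*} [Field F] [Fintype F] {q : ℕ} {σ : F →+* F}

theorem exists_orderOf_of_dvd {G : Type*} [Group G] [Finite G] (y : G) {s N : ℕ} (hs : s ∣ N)
    (hN : N ∣ orderOf y) : s ∈ Set.range (orderOf : G → ℕ) :=
  ⟨y ^ (orderOf y / s), orderOf_pow_orderOf_div (orderOf_pos y).ne' (hs.trans hN)⟩

/-- The form `x̄₀y₁ + x̄₁y₀ + x̄₂y₂`. -/
def pairForm (σ : F →+* F) : (Fin 3 → F) →ₛₗ[σ] (Fin 3 → F) →ₗ[F] F :=
  LinearMap.mk₂'ₛₗ σ (RingHom.id F) (fun u v => σ (u 0) * v 1 + σ (u 1) * v 0 + σ (u 2) * v 2)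
    (fun u u' v => by simp only [Pi.add_apply, map_add]; ring)
    (fun c u v => by simp only [Pi.smul_apply, smul_eq_mul, map_mul]; ring)
    (fun u v v' => by simp only [Pi.add_apply]; ring)
    (fun c u v => by simp only [Pi.smul_apply, smul_eq_mul, RingHom.id_apply]; ring)

theorem pairForm_apply (u v : Fin 3 → F) :
    pairForm σ u v = σ (u 0) * v 1 + σ (u 1) * v 0 + σ (u 2) * v 2 := rfl

theorem psu_of_matrix (hF : Fintype.card F = q ^ 2) (hσ : ∀ x, σ x = x ^ q) (hc : IsConjugation σ)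
    (M : Matrix (Fin 3) (Fin 3) F) (hdet : M.det = 1)
    (hM : ∀ u v, pairForm σ (M *ᵥ u) (M *ᵥ v) = pairForm σ u v) :
    ∃ y : Cfsg.PSU 3 F q, ∃ t : F, M ^ orderOf y = t • 1 ∧ t ^ (q + 1) = 1 ∧ t ^ 3 = 1 := by
  have hB : IsHermitian (pairForm σ) := ⟨hc, fun u v => by
    simp only [pairForm_apply, map_add, map_mul, hc.invol]; ring⟩
  have hN : (pairForm σ).SeparatingRight := fun v hv => by
    have h0 := hv (Pi.single 1 1)
    have h1 := hv (Pi.single 0 1)
    have h2 := hv (Pi.single 2 1)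
    simp [pairForm_apply] at h0 h1 h2
    ext i
    fin_cases i <;> assumption
  have hinj : Function.Injective (Matrix.toLin' M) :=
    Matrix.mulVec_injective_iff_isUnit.2 ((Matrix.isUnit_iff_isUnit_det M).2 (by rw [hdet]; exact isUnit_one))
  let g : isomGroup (pairForm σ) := ⟨LinearEquiv.ofInjectiveEndo (Matrix.toLin' M) hinj, fun u v => hM u v⟩
  have hg : toEndU g = Matrix.toLin' M := LinearMap.ext fun x => rfl
  obtain ⟨y, hy⟩ := psu_of_isom (n := 3) hF (by norm_num) hσ hc hB hN (Module.finrank_fin_fun F) g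
    (by rw [hg, LinearMap.det_toLin', hdet])
  obtain ⟨t, ht, ht1, ht2⟩ := hy _ dvd_rfl
  refine ⟨y, t, Matrix.toLin'.injective ?_, ht1, ht2⟩
  rw [map_smul, Matrix.toLin'_one, Matrix.toLin'_pow, ← hg, ht]
  rfl

theorem exists_unit_order (hF : Fintype.card F = q ^ 2) :
    ∃ b : F, b ≠ 0 ∧ orderOf b = q ^ 2 - 1 ∧ orderOf (b ^ (q - 1)) = q + 1 := by
  have hq := two_le_of_card_sq hF
  obtain ⟨γ, hγ⟩ := IsCyclic.exists_ofOrder_eq_natCard (α := Fˣ)
  rw [Nat.card_units, Nat.card_eq_fintype_card, hF] at hγ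
  have hb : orderOf (γ : F) = q ^ 2 - 1 := by rw [orderOf_units, hγ]
  refine ⟨(γ : F), γ.ne_zero, hb, ?_⟩
  rw [orderOf_pow_of_dvd (by omega) (by rw [hb, sq_sub_one]; exact dvd_mul_left _ _), hb, sq_sub_one,
    Nat.mul_div_cancel _ (by omega)]

theorem exists_order_succ (hF : Fintype.card F = q ^ 2) :
    ∃ y : Cfsg.PSU 3 F q, q + 1 ∣ orderOf y := by
  obtain ⟨b, hb0, -, hω⟩ := exists_unit_order hF
  set ω := b ^ (q - 1)
  have hω1 : ω ^ (q + 1) = 1 := hω ▸ pow_orderOf_eq_one ω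
  have hω0 : ω ≠ 0 := pow_ne_zero _ hb0
  let l : Fin 3 → F := ![ω, 1, ω⁻¹]
  have hl : ∀ i, l i * l i ^ q = 1 := fun i => by
    rw [← pow_succ']
    fin_cases i <;> simp [l, hω1]
  let S : Matrix.SpecialLinearGroup (Fin 3) F :=
    ⟨Matrix.diagonal l, by simp [Matrix.det_diagonal, Fin.prod_univ_three, l, hω0]⟩
  have hS : S ∈ Cfsg.SU 3 F q := fun u v => by
    show ∑ i, (Matrix.diagonal l *ᵥ u) i * ((Matrix.diagonal l *ᵥ v) i) ^ q = ∑ i, u i * v i ^ q
    refine Finset.sum_congr rfl fun i _ => ?_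
    rw [mulVec_diagonal, mulVec_diagonal, mul_pow]
    linear_combination (u i * v i ^ q) * hl i
  refine ⟨QuotientGroup.mk ⟨S, hS⟩, ?_⟩
  obtain ⟨t, ht⟩ := (mk_pow_eq_one hF (by norm_num) ⟨S, hS⟩ _).1 (pow_orderOf_eq_one _)
  rw [← hω]
  refine orderOf_dvd_of_pow_eq_one ?_
  change Matrix.diagonal l ^ _ = t • 1 at ht
  rw [Matrix.diagonal_pow] at ht
  have h1 := congr_fun (congr_fun ht 1) 1
  have h0 := congr_fun (congr_fun ht 0) 0
  simp [l] at h0 h1
  rw [h0, h1]

theorem exists_order_unip (p : ℕ) [Fact p.Prime] [CharP F p] (hF : Fintype.card F = q ^ 2) :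
    ∃ y : Cfsg.PSU 3 F q, p * (q + 1) / Nat.gcd 3 (q + 1) ∣ orderOf y := by
  have hp := (Fact.out : p.Prime)
  obtain ⟨σ, hσ, hc⟩ := exists_frob hF
  obtain ⟨c, hc0, hct⟩ := hc.exists_trace_zero
  obtain ⟨b, hb0, -, hω⟩ := exists_unit_order hF
  set ω := b ^ (q - 1)
  have hω1 : ω ^ (q + 1) = 1 := hω ▸ pow_orderOf_eq_one ω
  have hω0 : ω ≠ 0 := pow_ne_zero _ hb0
  have hωσ : σ ω * ω = 1 := by rw [hσ, ← pow_succ, hω1]
  have hωσ' : σ (ω⁻¹ * ω⁻¹) * (ω⁻¹ * ω⁻¹) = 1 := by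
    rw [map_mul, map_inv₀, ← mul_inv, ← mul_inv, ← mul_inv, inv_eq_one]
    linear_combination (σ ω * ω + 1) * hωσ
  let M : Matrix (Fin 3) (Fin 3) F := !![ω, 0, 0; ω * c, ω, 0; 0, 0, ω⁻¹ * ω⁻¹]
  have hdet : M.det = 1 := by
    simp [M, Matrix.det_fin_three]
    field_simp
  have hM : ∀ u v, pairForm σ (M *ᵥ u) (M *ᵥ v) = pairForm σ u v := by
    intro u v
    simp only [pairForm_apply, M, mulVec, dotProduct, Fin.sum_univ_three]
    simp only [Matrix.of_apply, Matrix.cons_val', Matrix.cons_val_zero, Matrix.cons_val_one,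
      Matrix.cons_val_fin_one, Matrix.cons_val, map_add, map_mul, map_zero, zero_mul, add_zero, zero_add]
    rw [map_mul] at hωσ'
    linear_combination (σ (u 0) * v 1 + σ (u 1) * v 0) * hωσ + (σ (u 2) * v 2) * hωσ' +
      (σ ω * ω * (σ (u 0) * v 0)) * hct
  obtain ⟨y, t, ht, -, -⟩ := psu_of_matrix hF hσ hc M hdet hM
  refine ⟨y, ?_⟩
  set i := orderOf y
  have hpow : ∀ j : ℕ, M ^ j =
      !![ω ^ j, 0, 0; (j : F) * c * ω ^ j, ω ^ j, 0; 0, 0, (ω⁻¹ * ω⁻¹) ^ j] := by
    intro j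
    induction j with
    | zero => ext a b; fin_cases a <;> fin_cases b <;> simp
    | succ j ih =>
      rw [pow_succ, ih]
      ext a b
      fin_cases a <;> fin_cases b <;> simp [M, Matrix.mul_apply, Fin.sum_univ_three, pow_succ] <;> ring
  rw [hpow] at ht
  have e0 := congr_fun (congr_fun ht 0) 0
  have e1 := congr_fun (congr_fun ht 1) 0
  have e2 := congr_fun (congr_fun ht 2) 2
  simp at e0 e1 e2
  have hpi : p ∣ i := (CharP.cast_eq_zero_iff F p i).1 (by
    rcases e1 with (h | h) | h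
    · exact h
    · exact absurd h hc0
    · exact absurd h.1 hω0)
  have h3 : ω ^ (3 * i) = 1 := by
    have h := e2.trans e0.symm
    rw [← mul_inv, inv_pow] at h
    have h2 := mul_inv_cancel₀ (pow_ne_zero i (mul_ne_zero hω0 hω0))
    rw [h] at h2
    rw [← h2, mul_comm 3 i, pow_mul]
    ring
  have hMi : (q + 1) / Nat.gcd 3 (q + 1) ∣ i := by
    have hd : q + 1 ∣ Nat.gcd 3 (q + 1) * i := by
      rw [← Nat.gcd_mul_right]
      exact Nat.dvd_gcd (hω ▸ orderOf_dvd_of_pow_eq_one h3) (dvd_mul_right _ _)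
    conv at hd => lhs; rw [← gcd_mul_div q]
    exact Nat.dvd_of_mul_dvd_mul_left (Nat.gcd_pos_of_pos_left _ (by norm_num)) hd
  rw [Nat.mul_div_assoc p (Nat.gcd_dvd_right _ _)]
  refine Nat.Coprime.mul_dvd_of_dvd_of_dvd ((hp.coprime_iff_not_dvd).2 fun h => ?_) hpi hMi
  have hpq : p ∣ q := by
    obtain ⟨f, hpp, hf⟩ := FiniteField.card F p
    exact hp.dvd_of_dvd_pow (by rw [← hF, hf]; exact dvd_pow_self p f.ne_zero)
  exact hp.not_dvd_one ((Nat.dvd_add_right hpq).1 (h.trans (Nat.div_dvd_of_dvd (Nat.gcd_dvd_right _ _))))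

theorem exists_order_split (hF : Fintype.card F = q ^ 2) :
    ∃ y : Cfsg.PSU 3 F q, (q ^ 2 - 1) / Nat.gcd 3 (q + 1) ∣ orderOf y := by
  have hq := two_le_of_card_sq hF
  obtain ⟨σ, hσ, hc⟩ := exists_frob hF
  obtain ⟨b, hb0, hb, -⟩ := exists_unit_order hF
  have hbq : σ b ≠ 0 := (map_ne_zero σ).2 hb0
  let l : Fin 3 → F := ![b, (σ b)⁻¹, σ b * b⁻¹]
  have hdet : (Matrix.diagonal l).det = 1 := by
    simp [Matrix.det_diagonal, Fin.prod_univ_three, l]
    field_simp
  have hM : ∀ u v, pairForm σ (Matrix.diagonal l *ᵥ u) (Matrix.diagonal l *ᵥ v) = pairForm σ u v := by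
    intro u v
    simp only [pairForm_apply, mulVec_diagonal, map_mul]
    simp [l, map_mul, map_inv₀, hc.invol]
    field_simp
  obtain ⟨y, t, ht, -, -⟩ := psu_of_matrix hF hσ hc (Matrix.diagonal l) hdet hM
  refine ⟨y, ?_⟩
  set i := orderOf y
  rw [Matrix.diagonal_pow] at ht
  have e0 := congr_fun (congr_fun ht 0) 0
  have e1 := congr_fun (congr_fun ht 1) 1
  have e2 := congr_fun (congr_fun ht 2) 2
  simp [l] at e0 e1 e2
  have hb1 : b ^ ((q + 1) * i) = 1 := by
    have h := e1.trans e0.symm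
    have h2 := mul_inv_cancel₀ (pow_ne_zero i hbq)
    rw [h, hσ, ← mul_pow, ← pow_succ] at h2
    rw [pow_mul, h2]
  have hb2 : b ^ (3 * i) = 1 := by
    have h := e2.trans e0.symm
    rw [mul_pow, inv_pow, mul_inv_eq_iff_eq_mul₀ (pow_ne_zero _ hb0), hσ, ← pow_mul, ← pow_add] at h
    have h' : b ^ ((q + 1) * i) = b ^ (3 * i) := by
      rw [show (q + 1) * i = q * i + i by ring, pow_add, h, ← pow_add]
      ring_nf
    rw [← h', hb1]
  have hd : q ^ 2 - 1 ∣ Nat.gcd 3 (q + 1) * i := by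
    rw [← Nat.gcd_mul_right]
    exact Nat.dvd_gcd (hb ▸ orderOf_dvd_of_pow_eq_one hb2) (hb ▸ orderOf_dvd_of_pow_eq_one hb1)
  conv at hd => lhs; rw [← Nat.mul_div_cancel' (gcd_dvd_sq_sub_one q)]
  exact Nat.dvd_of_mul_dvd_mul_left (Nat.gcd_pos_of_pos_left _ (by norm_num)) hd

theorem exists_order_coxeter (p : ℕ) [Fact p.Prime] [CharP F p] (hF : Fintype.card F = q ^ 2) :
    ∃ y : Cfsg.PSU 3 F q, (q ^ 2 - q + 1) / Nat.gcd 3 (q + 1) ∣ orderOf y := by
  obtain ⟨σ, hσ, hc⟩ := exists_frob hF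
  obtain ⟨y, hy⟩ := exists_psu_torus (n := 3) p hF (by norm_num) hσ hc
  rw [torusT, torus_three (two_le_of_card_sq hF)] at hy
  exact ⟨y, hy⟩

end Exists

section Main

variable {F : Type*} [Field F] [Fintype F]

theorem range_orderOf (p : ℕ) [Fact p.Prime] [CharP F p] (hp : p ≠ 2) {q : ℕ}
    (hF : Fintype.card F = q ^ 2) :
    Set.range (orderOf : Cfsg.PSU 3 F q → ℕ) =
      {s : ℕ | s ∣ q + 1} ∪ {s : ℕ | s ∣ p * (q + 1) / Nat.gcd 3 (q + 1)} ∪
        {s : ℕ | s ∣ (q ^ 2 - 1) / Nat.gcd 3 (q + 1)} ∪ {s : ℕ | s ∣ (q ^ 2 - q + 1) / Nat.gcd 3 (q + 1)} := by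
  haveI : Finite (Cfsg.PSU 3 F q) :=
    inferInstanceAs (Finite (Cfsg.SU 3 F q ⧸ Subgroup.center (Cfsg.SU 3 F q)))
  obtain ⟨f, hpp, hf⟩ := FiniteField.card F p
  obtain ⟨k, -, hqk⟩ := (Nat.dvd_prime_pow hpp).1
    (show q ∣ p ^ (f : ℕ) by rw [← hf, hF]; exact dvd_pow_self q two_ne_zero)
  ext s
  simp only [Set.mem_union, Set.mem_ofPred_eq]
  constructor
  · rintro ⟨y, rfl⟩
    obtain ⟨a, rfl⟩ := QuotientGroup.mk_surjective y
    let L := AlgebraicClosure F
    haveI : CharP L p := charP_of_injective_algebraMap (algebraMap F L).injective p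
    set A : Matrix (Fin 3) (Fin 3) F := (a.1 : Matrix (Fin 3) (Fin 3) F)
    obtain ⟨c, hcases⟩ := binomial_multiple (L := L) hp hqk (two_le_of_card_sq hF)
      (charpoly_monic (A.map (algebraMap F L))) (by rw [charpoly_natDegree_eq_dim, Fintype.card_fin])
      (by rw [eval_charpoly, map_zero, zero_sub, det_neg, ← RingHom.mapMatrix_apply, ← RingHom.map_det,
            show A.det = 1 from a.1.2, map_one, Fintype.card_fin]; norm_num)
      (fun r hr0 hr => Half.root_closed hqk (Half.transpose_mul_map hF a) hr0 hr)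
    rcases hcases with h | h | h | h <;> have h' := orderOf_dvd_of_binomial hF a h <;> simp [h']
  · rintro (((h | h) | h) | h)
    · obtain ⟨y, hy⟩ := exists_order_succ hF
      exact exists_orderOf_of_dvd y h hy
    · obtain ⟨y, hy⟩ := exists_order_unip p hF
      exact exists_orderOf_of_dvd y h hy
    · obtain ⟨y, hy⟩ := exists_order_split hF
      exact exists_orderOf_of_dvd y h hy
    · obtain ⟨y, hy⟩ := exists_order_coxeter p hF
      exact exists_orderOf_of_dvd y h hy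

end Main

end CfsgLib.KnownC.PSUThree
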