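import Cfsg.Agent.Lib.Classical.SympAdjacencyExist

/-!
The prime graph of `PSp(6, 3)`: the primes are 2, 3, 5, 7, 13 and the edges are 2-3, 2-5, 2-7, 3-5.
-/

set_option autoImplicit false
set_option linter.unusedSectionVars false

namespace CfsgLib.KnownC.PSpSixGraph

open Module Polynomial CfsgLib.Classical CfsgLib.Classical.SympOrders CfsgLib.Classical.SympAdjacency
open CfsgLib.Classical.PrimeGraphBC CfsgLib.Classical.PrimeGraphTransfer

/-- The edges. -/
def Edge (p q : ℕ) : Prop :=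
  (p, q) ∈ [(2, 3), (3, 2), (2, 5), (5, 2), (2, 7), (7, 2), (3, 5), (5, 3)]

theorem edge_symm {p q : ℕ} (h : Edge p q) : Edge q p := by
  simp only [Edge, List.mem_cons, Prod.mk.injEq, List.not_mem_nil, or_false] at h ⊢
  omega

variable {F : Type*} [Field F] [Fintype F]

/-- An element of order 13 commutes with no symplectic square root of `-1`. -/
theorem no_sqrt_neg_one [CharP F 3] (hF : Fintype.card F = 3) (S T : isomGroup (sympBil F 3)) (hS : S ^ 13 = 1) (hS1 : S ≠ 1)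
    (hT : ∀ x, T.1 (T.1 x) = -x) (hc : Commute S T) : False := by
  classical
  haveI : Fact (Nat.Prime 3) := ⟨Nat.prime_three⟩
  have h3 : (3 : F) = 0 := by exact_mod_cast CharP.cast_eq_zero F 3
  have h13 : Nat.Prime 13 := by norm_num
  have hrF := prime_ne_cast (F := F) (p := 3) h13 (by norm_num)
  have hk : orderOf (Fintype.card F : ZMod 13) = 3 := by
    rw [hF]
    refine (orderOf_eq_iff (by norm_num)).2 ⟨by decide, fun m hm hm0 => ?_⟩
    interval_cases m <;> decide
  obtain ⟨W₀, K, hWK, hK, -, -, hW0, hkW, hWe⟩ := moved_facts h13 hrF S hS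
  have hV : finrank F (Fin 3 ⊕ Fin 3 → F) = 6 := by rw [Module.finrank_fintype_fun_eq_card]; simp
  have hsum := Submodule.finrank_add_eq_of_isCompl hWK
  have hfix : ∀ x, S.1 x = x → x = 0 := by
    intro x hx
    have h1 : 0 < finrank F W₀ := Nat.pos_of_ne_zero fun h => hW0 hS1 (Submodule.finrank_eq_zero.1 h)
    obtain ⟨j, hj⟩ := hWe
    rw [hk] at hkW
    have h2 : finrank F K = 0 := by omega
    have := (hK x).2 hx
    rwa [Submodule.finrank_eq_zero.1 h2, Submodule.mem_bot] at this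
  have hSf : S.1 ^ 13 = 1 := congrArg Subtype.val hS
  have hdvd : ∀ Y : Submodule F (Fin 3 ⊕ Fin 3 → F), (∀ x ∈ Y, S.1 x ∈ Y) → 3 ∣ finrank F Y := fun Y hY => by
    have := free_dvd_sub h13 S.1 hSf Y hY fun x _ => hfix x
    rwa [hk] at this
  -- an invariant subspace of dimension three
  set s : Module.End F (Fin 3 ⊕ Fin 3 → F) := (S.1 : (Fin 3 ⊕ Fin 3 → F) →ₗ[F] (Fin 3 ⊕ Fin 3 → F)) with hs
  obtain ⟨x, hx0, a, b, c, hx⟩ : ∃ x, x ≠ 0 ∧ ∃ a b c : F, s (s (s x)) = a • s (s x) + b • s x + c • x := by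
    by_contra hno
    push Not at hno
    have hinj : ∀ a b c : F, Function.Injective
        (aeval s (X ^ 3 - C a * X ^ 2 - C b * X - C c) : Module.End F (Fin 3 ⊕ Fin 3 → F)) := fun a b c => by
      rw [← LinearMap.ker_eq_bot, LinearMap.ker_eq_bot']
      intro x hx
      by_contra hx0
      refine hno x hx0 a b c ?_
      simp [pow_succ, Module.End.mul_apply, sub_eq_zero] at hx
      linear_combination (norm := module) hx
    have h0 : (X - 1 : F[X]) * (X ^ 3 - C 0 * X ^ 2 - C 1 * X - C 1) * (X ^ 3 - C (-1) * X ^ 2 - C 0 * X - C 1) *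
        (X ^ 3 - C (-1) * X ^ 2 - C (-1) * X - C 1) * (X ^ 3 - C 1 * X ^ 2 - C 1 * X - C 1) = X ^ 13 - 1 := by
      have h3' : (3 : F[X]) = 0 := by rw [← Polynomial.C_ofNat, h3, map_zero]
      simp only [map_zero, map_one, map_neg]
      linear_combination (X ^ 2 + 2 * X ^ 3 - X ^ 4 - 4 * X ^ 5 - 3 * X ^ 6 + 3 * X ^ 7 + 4 * X ^ 8 + X ^ 9
        - 2 * X ^ 10 - X ^ 11 : F[X]) * h3'
    have hs13 : s ^ 13 = 1 := by
      rw [hs]
      exact LinearMap.ext fun x => by
        have := congrArg (fun f : (Fin 3 ⊕ Fin 3 → F) ≃ₗ[F] _ => f x) hSf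
        simp only [LinearEquiv.coe_pow] at this
        rw [Module.End.pow_apply]
        exact this
    have h1 : Function.Injective ((aeval s (X - 1 : F[X])) : Module.End F (Fin 3 ⊕ Fin 3 → F)) := by
      rw [← LinearMap.ker_eq_bot, LinearMap.ker_eq_bot']
      intro x hx
      simp [sub_eq_zero] at hx
      exact hfix x hx
    have := ((((h1.comp (hinj 0 1 1)).comp (hinj (-1) 0 1)).comp (hinj (-1) (-1) 1)).comp (hinj 1 1 1))
    obtain ⟨x₀, hx₀⟩ := exists_ne (0 : Fin 3 ⊕ Fin 3 → F)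
    refine hx₀ (this (a₁ := x₀) (a₂ := 0) ?_)
    have hz : aeval s (X ^ 13 - 1 : F[X]) x₀ = 0 := by simp [hs13]
    rw [← h0] at hz
    simp only [map_mul, Module.End.mul_apply] at hz
    simp only [Function.comp_apply, map_zero] at hz ⊢
    exact hz
  set W := Submodule.span F (Set.range ![x, s x, s (s x)]) with hW
  have hWinv : ∀ y ∈ W, S.1 y ∈ W := by
    intro y hy
    have : W ≤ W.comap s := by
      refine Submodule.span_le.2 ?_
      rintro _ ⟨i, rfl⟩
      fin_cases i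
      · exact Submodule.subset_span ⟨1, rfl⟩
      · exact Submodule.subset_span ⟨2, rfl⟩
      · show s (s (s x)) ∈ W
        rw [hx]
        exact add_mem (add_mem (Submodule.smul_mem _ _ (Submodule.subset_span ⟨2, rfl⟩))
          (Submodule.smul_mem _ _ (Submodule.subset_span ⟨1, rfl⟩))) (Submodule.smul_mem _ _ (Submodule.subset_span ⟨0, rfl⟩))
    exact this hy
  have hWd : finrank F W = 3 := by
    have h1 : finrank F W ≤ 3 := (finrank_range_le_card ![x, s x, s (s x)]).trans (by simp)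
    have h2 : finrank F W ≠ 0 := fun h => hx0 (by
      have h4 : x ∈ W := Submodule.subset_span ⟨0, rfl⟩
      rwa [Submodule.finrank_eq_zero.1 h, Submodule.mem_bot] at h4)
    have := hdvd W hWinv
    omega
  have hall : ∀ Y : Submodule F (Fin 3 ⊕ Fin 3 → F), (∀ y ∈ Y, S.1 y ∈ Y) → Y ≤ W → Y ≠ ⊥ → Y = W := by
    intro Y hY hle hne
    refine Submodule.eq_of_le_of_finrank_le hle ?_
    have h1 := hdvd Y hY
    have h2 : finrank F Y ≠ 0 := fun h => hne (Submodule.finrank_eq_zero.1 h)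
    have h4 := Submodule.finrank_mono hle
    omega
  -- `W` is totally isotropic
  obtain ⟨f, hf⟩ := exists_res S.1 W hWinv
  have hfv : ∀ y : W, (f y : Fin 3 ⊕ Fin 3 → F) = S.1 y := fun y => by simpa using hf 1 y
  have hf13 : f ^ 13 = 1 := LinearEquiv.ext fun y => Subtype.ext (by rw [hf, hSf]; rfl)
  have hffix : ∀ y, f y = y → y = 0 := fun y hy =>
    Subtype.ext (hfix y (by rw [← hfv, hy]))
  have hiso : ∀ u v, sympBil F 3 (S.1 u) (S.1 v) = sympBil F 3 u v := S.2
  have htot : ∀ u ∈ W, ∀ v ∈ W, sympBil F 3 u v = 0 := by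
    by_contra hcon
    refine false_of_form h13 (by norm_num) hk (by decide) hWd f hf13 hffix
      ((sympBil F 3).compl₁₂ W.subtype W.subtype) (fun u hu => ?_) (fun u v => ?_)
    · by_contra hu0
      refine hcon fun y hy z hz => ?_
      set R : Submodule F (Fin 3 ⊕ Fin 3 → F) := W ⊓ LinearMap.BilinForm.orthogonal (sympBil F 3) W with hR
      have hmemR : ∀ y, y ∈ R ↔ y ∈ W ∧ ∀ z ∈ W, sympBil F 3 z y = 0 := fun y => Iff.rfl
      have hRW : R = W := by
        refine hall R (fun y hy => ?_) inf_le_left (fun h => hu0 (Subtype.ext ?_))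
        · obtain ⟨hyW, hy'⟩ := (hmemR y).1 hy
          refine (hmemR _).2 ⟨hWinv y hyW, fun z hz => ?_⟩
          obtain ⟨z', hz'W, rfl⟩ : ∃ z' ∈ W, S.1 z' = z := by
            obtain ⟨w, hw⟩ := f.surjective ⟨z, hz⟩
            exact ⟨w, w.2, by rw [← hfv, hw]⟩
          rw [hiso]
          exact hy' _ hz'W
        · have : (u : Fin 3 ⊕ Fin 3 → F) ∈ R := (hmemR _).2 ⟨u.2, fun z hz => by
            rw [← (sympBil_isAlt 3).neg]
            exact neg_eq_zero.2 (hu ⟨z, hz⟩)⟩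
          rwa [h, Submodule.mem_bot] at this
      exact ((hmemR z).1 (hRW ▸ hz)).2 y hy
    · simp [hfv, hiso]
  -- the translate `T W`
  set TW := W.map (T.1 : (Fin 3 ⊕ Fin 3 → F) →ₗ[F] (Fin 3 ⊕ Fin 3 → F)) with hTW
  have hcomm : ∀ y, S.1 (T.1 y) = T.1 (S.1 y) := fun y =>
    LinearEquiv.congr_fun (congrArg Subtype.val hc.eq) y
  have hTWd : finrank F TW = 3 := (LinearEquiv.finrank_map_eq T.1 W).trans hWd
  have hdisj : W ⊓ TW = ⊥ := by
    by_contra hne
    have hY := hall (W ⊓ TW) (fun y hy => ⟨hWinv y hy.1, by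
      obtain ⟨z, hz, rfl⟩ := hy.2
      exact ⟨S.1 z, hWinv z hz, (hcomm z).symm⟩⟩) inf_le_left hne
    have hTWW : TW = W := (Submodule.eq_of_le_of_finrank_le (inf_eq_left.1 hY) (by omega)).symm
    have hTinv : ∀ y ∈ W, T.1 y ∈ W := fun y hy => hTWW ▸ Submodule.mem_map_of_mem hy
    set t : Module.End F W := (T.1 : (Fin 3 ⊕ Fin 3 → F) →ₗ[F] (Fin 3 ⊕ Fin 3 → F)).restrict hTinv with ht
    have ht2 : t * t = (-1 : F) • (1 : Module.End F W) := LinearMap.ext fun y => Subtype.ext (by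
      show T.1 (T.1 y) = _
      rw [hT]; simp)
    have hd := congrArg LinearMap.det ht2
    rw [map_mul, LinearMap.det_smul, map_one, hWd, mul_one] at hd
    have hcube := FiniteField.pow_card (LinearMap.det t)
    rw [hF] at hcube
    set d := LinearMap.det t
    have h1 : d * d * d = -d := by linear_combination d * hd
    have h2 : (2 : F) * d = 0 := by linear_combination h1 - hcube
    have h4 : d = 0 := by linear_combination d * h3 - h2
    rw [h4] at hd
    norm_num at hd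
  have hsup : W ⊔ TW = ⊤ := by
    refine Submodule.eq_top_of_finrank_eq ?_
    have := Submodule.finrank_sup_add_finrank_inf_eq W TW
    rw [hdisj, finrank_bot] at this
    omega
  refine false_of_form h13 (by norm_num) hk (by decide) hWd f hf13 hffix
    ((sympBil F 3).compl₁₂ W.subtype ((T.1 : (Fin 3 ⊕ Fin 3 → F) →ₗ[F] (Fin 3 ⊕ Fin 3 → F)) ∘ₗ W.subtype))
    (fun u hu => Subtype.ext ((sympBil_nondegenerate (F := F) 3).1 u fun z => ?_)) (fun u v => ?_)
  · obtain ⟨y, hy, z', hz', rfl⟩ := Submodule.mem_sup.1 (hsup ▸ Submodule.mem_top : z ∈ W ⊔ TW)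
    obtain ⟨w, hw, rfl⟩ := hz'
    rw [map_add, htot _ u.2 _ hy, zero_add]
    exact hu ⟨w, hw⟩
  · simp [hfv, ← hcomm, hiso]

theorem no_twentysix [CharP F 3] (hF : Fintype.card F = 3) (y : Cfsg.PSp 3 F) (hy : orderOf y = 2 * 13) : False := by
  classical
  haveI : Fact (Nat.Prime 3) := ⟨Nat.prime_three⟩
  obtain ⟨A, hA⟩ := psp_lift y
  have h52 : A ^ 52 = 1 := by simpa [hy] using order_lift hA
  have hne : ∀ i, ¬ 26 ∣ i → A ^ i ≠ 1 := fun i hi h => hi (by
    have := (hA i).2 (Or.inl h); rwa [hy] at this)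
  have hc : Commute (A ^ 4) (A ^ 13) := (Commute.refl A).pow_pow _ _
  have hS : (A ^ 4) ^ 13 = 1 := by rw [← pow_mul]; exact h52
  rcases (hA 26).1 (by rw [hy]) with h | h
  swap
  · refine no_sqrt_neg_one hF (A ^ 4) (A ^ 13) hS (hne 4 (by norm_num)) (fun x => ?_) hc
    have := h x
    rwa [show A ^ 26 = A ^ 13 * A ^ 13 by rw [← pow_add]] at this
  -- an involution commuting with `A ^ 4`
  have h13 : Nat.Prime 13 := by norm_num
  have hrF := prime_ne_cast (F := F) (p := 3) h13 (by norm_num)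
  have hk : orderOf (Fintype.card F : ZMod 13) = 3 := by
    rw [hF]
    refine (orderOf_eq_iff (by norm_num)).2 ⟨by decide, fun m hm hm0 => ?_⟩
    interval_cases m <;> decide
  obtain ⟨W, K, hWK, hK, -, -, hW0, hkW, hWe⟩ := moved_facts h13 hrF (A ^ 4) hS
  have hV : finrank F (Fin 3 ⊕ Fin 3 → F) = 6 := by rw [Module.finrank_fintype_fun_eq_card]; simp
  have hsum := Submodule.finrank_add_eq_of_isCompl hWK
  have h0 : 0 < finrank F W := Nat.pos_of_ne_zero fun h => hW0 (hne 4 (by norm_num)) (Submodule.finrank_eq_zero.1 h)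
  obtain ⟨j, hj⟩ := hWe
  rw [hk] at hkW
  have hKd : finrank F K = 0 := by omega
  have hfix : ∀ x, (A ^ 4).1 x = x → x = 0 := fun x hx => by
    have := (hK x).2 hx
    rwa [Submodule.finrank_eq_zero.1 hKd, Submodule.mem_bot] at this
  have h2F : (2 : F) ≠ 0 := by
    have := prime_ne_cast (F := F) (p := 3) Nat.prime_two (by norm_num)
    exact_mod_cast this
  have hT2 : A ^ 13 * A ^ 13 = 1 := by rw [← pow_add]; exact h
  obtain ⟨W', K', hWK', hK', hpres, hfix', hW0', -, hWe'⟩ :=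
    moved_facts Nat.prime_two (by exact_mod_cast h2F) (A ^ 13) (by rw [pow_two]; exact hT2)
  have hsum' := Submodule.finrank_add_eq_of_isCompl hWK'
  have hSf : ((A ^ 4 : isomGroup (sympBil F 3)).1) ^ 13 = 1 := congrArg Subtype.val hS
  have hKinv : ∀ x ∈ K', (A ^ 4).1 x ∈ K' := fun x hx => by
    rw [hK'] at hx ⊢
    have := LinearEquiv.congr_fun (congrArg Subtype.val hc.eq) x
    change (A ^ 4).1 ((A ^ 13).1 x) = (A ^ 13).1 ((A ^ 4).1 x) at this
    exact this.symm.trans (congrArg _ hx)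
  have d1 := free_dvd_sub h13 (A ^ 4).1 hSf K' hKinv fun x _ => hfix x
  rw [hk] at d1
  obtain ⟨j', hj'⟩ := hWe'
  have h0' : 0 < finrank F W' :=
    Nat.pos_of_ne_zero fun h => hW0' (hne 13 (by norm_num)) (Submodule.finrank_eq_zero.1 h)
  have hK0 : finrank F K' = 0 := by omega
  have hneg : ∀ x, (A ^ 13).1 x = -x := fun x => by
    have h1 : x + (A ^ 13).1 x ∈ K' := by
      rw [hK', map_add, add_comm]
      congr 1
      exact LinearEquiv.congr_fun (congrArg Subtype.val hT2) x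
    rw [Submodule.finrank_eq_zero.1 hK0, Submodule.mem_bot] at h1
    exact eq_neg_of_add_eq_zero_right h1
  have := (hA 13).2 (Or.inr hneg)
  rw [hy] at this
  norm_num at this

/-- The prime divisors of the order. -/
theorem prime_dvd_iff (hF : Fintype.card F = 3) (p : ℕ) (hp : p.Prime) :
    p ∣ Nat.card (Cfsg.PSp 3 F) ↔ p ∈ [2, 3, 5, 7, 13] := by
  classical
  haveI : CharP F 3 := by
    obtain ⟨c, hc⟩ := CharP.exists F
    obtain ⟨n, hcp, hn⟩ := FiniteField.card F c
    rw [hF] at hn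
    have : c = 3 := (Nat.prime_dvd_prime_iff_eq hcp Nat.prime_three).1 (hn ▸ dvd_pow_self c n.2.ne')
    rwa [this] at hc
  haveI : Fact (Nat.Prime 3) := ⟨Nat.prime_three⟩
  have h2F : (2 : F) ≠ 0 := by
    have := prime_ne_cast (F := F) (p := 3) Nat.prime_two (by norm_num)
    exact_mod_cast this
  constructor
  · intro h
    have h1 : p ∣ Nat.card (isomGroup (sympBil F 3)) := by
      rw [← Nat.card_congr (spEquiv (F := F) 3).toEquiv]
      exact h.trans (Subgroup.card_quotient_dvd_card _)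
    rw [card_isom_alt (sympBil_isAlt 3) (sympBil_nondegenerate 3) 3 (by simp), hF,
      show (3 : ℕ) ^ (3 ^ 2) * ∏ i ∈ Finset.range 3, ((3 : ℕ) ^ (2 * (i + 1)) - 1) =
        2 ^ 10 * (3 ^ 9 * (5 * (7 * 13))) by norm_num [Finset.prod_range_succ]] at h1
    simp only [List.mem_cons, List.not_mem_nil, or_false]
    rcases hp.dvd_mul.1 h1 with h1 | h1
    · exact Or.inl ((Nat.prime_dvd_prime_iff_eq hp Nat.prime_two).1 (hp.dvd_of_dvd_pow h1))
    rcases hp.dvd_mul.1 h1 with h1 | h1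
    · exact Or.inr (Or.inl ((Nat.prime_dvd_prime_iff_eq hp Nat.prime_three).1 (hp.dvd_of_dvd_pow h1)))
    rcases hp.dvd_mul.1 h1 with h1 | h1
    · exact Or.inr (Or.inr (Or.inl ((Nat.prime_dvd_prime_iff_eq hp Nat.prime_five).1 h1)))
    rcases hp.dvd_mul.1 h1 with h1 | h1
    · exact Or.inr (Or.inr (Or.inr (Or.inl ((Nat.prime_dvd_prime_iff_eq hp (by norm_num)).1 h1))))
    · exact Or.inr (Or.inr (Or.inr (Or.inr ((Nat.prime_dvd_prime_iff_eq hp (by norm_num)).1 h1))))
  · intro h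
    have hclog : Nat.clog 3 (2 * 1) = 1 := by decide
    obtain ⟨y, hy⟩ := (SympSpectrum.exists_mixed (F := F) 3 h2F (d := 2) (m := 1) (by norm_num) le_rfl).1
    obtain ⟨⟨z₁, hz₁⟩, z₂, hz₂⟩ := SympSpectrum.exists_half (F := F) 3 h2F (n := 3) (by norm_num)
    rw [hF, hclog] at hy
    rw [hF] at hz₁ hz₂
    simp only [List.mem_cons, List.not_mem_nil, or_false] at h
    rcases h with rfl | rfl | rfl | rfl | rfl
    · exact ((show 2 ∣ (3 ^ 2 + 1) * 3 ^ 1 by norm_num).trans hy).trans (orderOf_dvd_natCard _)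
    · exact ((show 3 ∣ (3 ^ 2 + 1) * 3 ^ 1 by norm_num).trans hy).trans (orderOf_dvd_natCard _)
    · exact ((show 5 ∣ (3 ^ 2 + 1) * 3 ^ 1 by norm_num).trans hy).trans (orderOf_dvd_natCard _)
    · exact ((show 7 ∣ (3 ^ 3 + 1) / 2 by norm_num).trans hz₁).trans (orderOf_dvd_natCard _)
    · exact ((show 13 ∣ (3 ^ 3 - 1) / 2 by norm_num).trans hz₂).trans (orderOf_dvd_natCard _)

/-- The edges of the prime graph. -/
theorem edge_iff (hF : Fintype.card F = 3) (p q : ℕ) (hp : p.Prime) (hq : q.Prime) (hpq : p ≠ q) :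
    (∃ g : Cfsg.PSp 3 F, orderOf g = p * q) ↔ Edge p q := by
  classical
  haveI : CharP F 3 := by
    obtain ⟨c, hc⟩ := CharP.exists F
    obtain ⟨n, hcp, hn⟩ := FiniteField.card F c
    rw [hF] at hn
    have : c = 3 := (Nat.prime_dvd_prime_iff_eq hcp Nat.prime_three).1 (hn ▸ dvd_pow_self c n.2.ne')
    rwa [this] at hc
  haveI : Fact (Nat.Prime 3) := ⟨Nat.prime_three⟩
  have h2F : (2 : F) ≠ 0 := by
    have := prime_ne_cast (F := F) (p := 3) Nat.prime_two (by norm_num)
    exact_mod_cast this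
  have hk5 : orderOf (Fintype.card F : ZMod 5) = 4 := by
    rw [hF]
    refine (orderOf_eq_iff (by norm_num)).2 ⟨by decide, fun m hm hm0 => ?_⟩
    interval_cases m <;> decide
  have hk7 : orderOf (Fintype.card F : ZMod 7) = 6 := by
    rw [hF]
    refine (orderOf_eq_iff (by norm_num)).2 ⟨by decide, fun m hm hm0 => ?_⟩
    interval_cases m <;> decide
  have hk13 : orderOf (Fintype.card F : ZMod 13) = 3 := by
    rw [hF]
    refine (orderOf_eq_iff (by norm_num)).2 ⟨by decide, fun m hm hm0 => ?_⟩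
    interval_cases m <;> decide
  constructor
  · rintro ⟨g, hg⟩
    have hd := (orderOf_dvd_natCard g)
    rw [hg] at hd
    have hp' := (prime_dvd_iff hF p hp).1 ((dvd_mul_right p q).trans hd)
    have hq' := (prime_dvd_iff hF q hq).1 ((dvd_mul_left q p).trans hd)
    wlog hle : p < q generalizing p q
    · exact edge_symm (this q p hq hp hpq.symm (by rw [hg, mul_comm]) (by rwa [mul_comm]) hq' hp' (by omega))
    have hmem : p * q ∈ Set.range (orderOf : Cfsg.PSp 3 F → ℕ) := ⟨g, hg⟩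
    simp only [List.mem_cons, List.not_mem_nil, or_false] at hp' hq'
    rcases hp' with rfl | rfl | rfl | rfl | rfl <;> rcases hq' with rfl | rfl | rfl | rfl | rfl <;>
      (try omega) <;> (try (simp [Edge]; done))
    all_goals exfalso
    · exact no_twentysix hF g hg
    · rw [mul_comm, adjacent_char_iff 3 (k := 6) (η := 3) (by norm_num) hq (by norm_num) (by norm_num) hk7
        (Or.inr ⟨⟨3, rfl⟩, rfl⟩)] at hmem
      omega
    · rw [mul_comm, adjacent_char_iff 3 (k := 3) (η := 3) (by norm_num) hq (by norm_num) (by norm_num) hk13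
        (Or.inl ⟨⟨1, rfl⟩, rfl⟩)] at hmem
      omega
    · rw [adjacent_odd_iff 3 (k := 4) (l := 6) (ηk := 2) (ηl := 3) hp hq (by norm_num) (by norm_num) (by norm_num)
        (by norm_num) (by norm_num) hk5 hk7 (Or.inr ⟨⟨2, rfl⟩, rfl⟩) (Or.inr ⟨⟨3, rfl⟩, rfl⟩) (by norm_num)
        ((dvd_mul_left _ _).trans hd)] at hmem
      rcases hmem with h | ⟨t, -, h⟩ <;> omega
    · rw [adjacent_odd_iff 3 (k := 4) (l := 3) (ηk := 2) (ηl := 3) hp hq (by norm_num) (by norm_num) (by norm_num)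
        (by norm_num) (by norm_num) hk5 hk13 (Or.inr ⟨⟨2, rfl⟩, rfl⟩) (Or.inl ⟨⟨1, rfl⟩, rfl⟩) (by norm_num)
        ((dvd_mul_left _ _).trans hd)] at hmem
      rcases hmem with h | ⟨t, -, h⟩ <;> omega
    · rw [mul_comm, adjacent_odd_iff 3 (k := 3) (l := 6) (ηk := 3) (ηl := 3) hq hp (by norm_num) (by norm_num)
        (by norm_num) (by norm_num) (by norm_num) hk13 hk7 (Or.inl ⟨⟨1, rfl⟩, rfl⟩) (Or.inr ⟨⟨3, rfl⟩, rfl⟩) le_rfl
        ((dvd_mul_right _ _).trans hd)] at hmem
      rcases hmem with h | ⟨t, ⟨c, hc⟩, h⟩ <;> omega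
  · intro he
    have hclog : Nat.clog 3 (2 * 1) = 1 := by decide
    obtain ⟨y, hy⟩ := (SympSpectrum.exists_mixed (F := F) 3 h2F (d := 2) (m := 1) (by norm_num) le_rfl).1
    obtain ⟨⟨z₁, hz₁⟩, -⟩ := SympSpectrum.exists_half (F := F) 3 h2F (n := 3) (by norm_num)
    rw [hF, hclog] at hy
    rw [hF] at hz₁
    simp only [Edge, List.mem_cons, Prod.mk.injEq, List.not_mem_nil, or_false] at he
    rcases he with ⟨rfl, rfl⟩ | ⟨rfl, rfl⟩ | ⟨rfl, rfl⟩ | ⟨rfl, rfl⟩ | ⟨rfl, rfl⟩ | ⟨rfl, rfl⟩ | ⟨rfl, rfl⟩ | ⟨rfl, rfl⟩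
    all_goals first
      | (refine mem_range_of_dvd y (dvd_trans ?_ hy); norm_num; done)
      | (refine mem_range_of_dvd z₁ (dvd_trans ?_ hz₁); norm_num; done)

end CfsgLib.KnownC.PSpSixGraph
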