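import Mathlib

set_option autoImplicit false
set_option linter.unusedSectionVars false

/-! Semisimple matrices up to conjugation: multiplicities of irreducible factors. -/

namespace CfsgLib.KnownC.SemisimpleClasses

open Polynomial Module

variable {F : Type*} [Field F]

section One

variable {V W : Type*} [AddCommGroup V] [Module F V] [FiniteDimensional F V] [AddCommGroup W] [Module F W]
  [FiniteDimensional F W]

/-- An endomorphism killed by `p` makes the space a module over the quotient by `p`. -/
noncomputable def act (p : F[X]) (T : Module.End F V) (h : aeval T p = 0) : AdjoinRoot p →+* Module.End F V :=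
  Ideal.Quotient.lift (Ideal.span {p}) (aeval T).toRingHom fun a ha => by
    obtain ⟨c, rfl⟩ := Ideal.mem_span_singleton'.1 ha
    simp [h]

theorem act_mk (p : F[X]) (T : Module.End F V) (h : aeval T p = 0) (g : F[X]) :
    act p T h (AdjoinRoot.mk p g) = aeval T g := rfl

theorem act_algebraMap (p : F[X]) (T : Module.End F V) (h : aeval T p = 0) (c : F) :
    act p T h (algebraMap F (AdjoinRoot p) c) = algebraMap F (Module.End F V) c := by
  rw [show algebraMap F (AdjoinRoot p) c = AdjoinRoot.mk p (C c) from rfl, act_mk, aeval_C]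

theorem dvd_and_exists_equiv (p : F[X]) [Fact (Irreducible p)] (T : Module.End F V) (T' : Module.End F W)
    (h : aeval T p = 0) (h' : aeval T' p = 0) :
    p.natDegree ∣ finrank F V ∧
      (finrank F V = finrank F W → ∃ φ : V ≃ₗ[F] W, ∀ x, φ (T x) = T' (φ x)) := by
  have hp : p ≠ 0 := (Fact.out : Irreducible p).ne_zero
  letI : Module (AdjoinRoot p) V := Module.compHom V (act p T h)
  letI : Module (AdjoinRoot p) W := Module.compHom W (act p T' h')
  haveI : IsScalarTower F (AdjoinRoot p) V := IsScalarTower.of_algebraMap_smul fun c x => by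
    show act p T h (algebraMap F _ c) x = _
    rw [act_algebraMap]; rfl
  haveI : IsScalarTower F (AdjoinRoot p) W := IsScalarTower.of_algebraMap_smul fun c x => by
    show act p T' h' (algebraMap F _ c) x = _
    rw [act_algebraMap]; rfl
  haveI : FiniteDimensional (AdjoinRoot p) V := Module.Finite.of_restrictScalars_finite F _ _
  haveI : FiniteDimensional (AdjoinRoot p) W := Module.Finite.of_restrictScalars_finite F _ _
  have hV := Module.finrank_mul_finrank F (AdjoinRoot p) V
  have hW := Module.finrank_mul_finrank F (AdjoinRoot p) W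
  have hE : finrank F (AdjoinRoot p) = p.natDegree := by
    rw [(AdjoinRoot.powerBasis hp).finrank, AdjoinRoot.powerBasis_dim]
  rw [hE] at hV hW
  refine ⟨⟨_, hV.symm⟩, fun he => ?_⟩
  have hd : 0 < p.natDegree := (Fact.out : Irreducible p).natDegree_pos
  let φ : V ≃ₗ[AdjoinRoot p] W := LinearEquiv.ofFinrankEq V W (Nat.eq_of_mul_eq_mul_left hd (by rw [hV, hW, he]))
  refine ⟨φ.restrictScalars F, fun x => ?_⟩
  have e := φ.map_smul (AdjoinRoot.mk p X) x
  change φ (act p T h (AdjoinRoot.mk p X) x) = act p T' h' (AdjoinRoot.mk p X) (φ x) at e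
  rw [act_mk, act_mk, aeval_X, aeval_X] at e
  exact e

end One

section Many

variable {ι : Type*} [Fintype ι] {f : ι → F[X]} {V W : Type*} [AddCommGroup V] [Module F V]
  [FiniteDimensional F V] [AddCommGroup W] [Module F W] [FiniteDimensional F W]

/-- The component of one factor. -/
noncomputable def comp (T : Module.End F V) (p : F[X]) : Submodule F V := LinearMap.ker (aeval T p)

theorem comp_invariant (T : Module.End F V) (p : F[X]) : ∀ x ∈ comp T p, T x ∈ comp T p := by
  intro x hx
  rw [comp, LinearMap.mem_ker] at hx ⊢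
  have : aeval T p (aeval T (X : F[X]) x) = aeval T (X : F[X]) (aeval T p x) := by
    rw [← Module.End.mul_apply, ← map_mul, mul_comm, map_mul, Module.End.mul_apply]
  rw [aeval_X, hx, map_zero] at this
  exact this

/-- The sum of the components. -/
noncomputable def sumMap (T : Module.End F V) (f : ι → F[X]) : (∀ i, comp T (f i)) →ₗ[F] V :=
  ∑ i, (comp T (f i)).subtype.comp (LinearMap.proj i)

theorem sumMap_apply (T : Module.End F V) (x : ∀ i, comp T (f i)) : sumMap T f x = ∑ i, (x i : V) := by
  simp [sumMap, LinearMap.sum_apply]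

theorem sumMap_bijective (hco : Pairwise fun i j => IsCoprime (f i) (f j)) (T : Module.End F V)
    (hT : aeval T (∏ i, f i) = 0) : Function.Bijective (sumMap T f) := by
  classical
  let c : ι → F[X] := fun i => ∏ j ∈ Finset.univ.erase i, f j
  have hkill : ∀ i j, i ≠ j → ∀ x ∈ comp T (f j), aeval T (c i) x = 0 := by
    intro i j hij x hx
    rw [show c i = (∏ k ∈ (Finset.univ.erase i).erase j, f k) * f j from
      (Finset.prod_erase_mul _ _ (Finset.mem_erase.2 ⟨hij.symm, Finset.mem_univ j⟩)).symm, map_mul,
      Module.End.mul_apply, LinearMap.mem_ker.1 hx, map_zero]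
  refine ⟨?_, ?_⟩
  · rw [← LinearMap.ker_eq_bot, LinearMap.ker_eq_bot']
    intro x hx
    funext i
    have h1 : aeval T (c i) (x i : V) = 0 := by
      have h2 := congrArg (aeval T (c i)) hx
      rw [sumMap_apply, map_sum, map_zero, Finset.sum_eq_single i] at h2
      · exact h2
      · exact fun j _ hji => hkill i j hji.symm _ (x j).2
      · exact fun h => absurd (Finset.mem_univ i) h
    have hcop : IsCoprime (c i) (f i) := IsCoprime.prod_left fun j hj => hco (Finset.mem_erase.1 hj).1
    obtain ⟨u, v, huv⟩ := hcop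
    refine Subtype.ext ?_
    have e := LinearMap.congr_fun (congrArg (aeval T) huv) (x i : V)
    rw [map_add, map_mul, map_mul, map_one, LinearMap.add_apply, Module.End.mul_apply, Module.End.mul_apply,
      LinearMap.mem_ker.1 (x i).2, h1, map_zero, map_zero, add_zero, Module.End.one_apply] at e
    exact e.symm
  · intro y
    rcases isEmpty_or_nonempty ι with hι | hι
    · rw [Finset.univ_eq_empty, Finset.prod_empty, map_one] at hT
      refine ⟨0, ?_⟩
      rw [map_zero]
      exact (LinearMap.congr_fun hT y).symm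
    obtain ⟨μ, hμ⟩ := exists_sum_eq_one_iff_pairwise_coprime'.2 hco
    refine ⟨fun i => ⟨aeval T (μ i * c i) y, LinearMap.mem_ker.2 ?_⟩, ?_⟩
    · rw [← Module.End.mul_apply, ← map_mul, show f i * (μ i * c i) = μ i * ∏ j, f j by
        rw [← Finset.prod_erase_mul _ _ (Finset.mem_univ i)]; ring, map_mul, hT, mul_zero, LinearMap.zero_apply]
    · rw [sumMap_apply]
      show ∑ i, aeval T (μ i * c i) y = y
      rw [← LinearMap.sum_apply, ← map_sum, show ∑ i, μ i * c i = 1 from by
        rw [← hμ]; exact Finset.sum_congr rfl fun i _ => by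
          congr 1
          exact Finset.prod_congr (by ext; simp) fun _ _ => rfl,
        map_one, Module.End.one_apply]

theorem sum_finrank (hco : Pairwise fun i j => IsCoprime (f i) (f j)) (T : Module.End F V)
    (hT : aeval T (∏ i, f i) = 0) : ∑ i, finrank F (comp T (f i)) = finrank F V := by
  rw [← (LinearEquiv.ofBijective _ (sumMap_bijective hco T hT)).finrank_eq, Module.finrank_pi_fintype]

theorem restrict_aeval (T : Module.End F V) (p : F[X]) :
    aeval (LinearMap.restrict T (comp_invariant T p)) p = 0 := by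
  have key : ∀ (g : F[X]) (x : comp T p),
      ((aeval (LinearMap.restrict T (comp_invariant T p)) g) x : V) = aeval T g x := by
    intro g x
    induction g using Polynomial.induction_on' generalizing x with
    | add a b ha hb => simp [ha, hb]
    | monomial k c =>
      simp only [aeval_monomial, Module.End.mul_apply, Module.algebraMap_end_apply, SetLike.val_smul]
      congr 1
      induction k generalizing x with
      | zero => simp
      | succ k ih => rw [pow_succ, Module.End.mul_apply, ih, pow_succ, Module.End.mul_apply]; rfl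
  refine LinearMap.ext fun x => Subtype.ext ?_
  rw [key]
  exact LinearMap.mem_ker.1 x.2

theorem natDegree_dvd (T : Module.End F V) (p : F[X]) (hp : Irreducible p) :
    p.natDegree ∣ finrank F (comp T p) := by
  haveI := Fact.mk hp
  exact (dvd_and_exists_equiv p (LinearMap.restrict T (comp_invariant T p))
    (LinearMap.restrict T (comp_invariant T p)) (restrict_aeval T p) (restrict_aeval T p)).1

theorem exists_equiv (hirr : ∀ i, Irreducible (f i)) (hco : Pairwise fun i j => IsCoprime (f i) (f j))
    (T : Module.End F V) (T' : Module.End F W) (hT : aeval T (∏ i, f i) = 0) (hT' : aeval T' (∏ i, f i) = 0)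
    (he : ∀ i, finrank F (comp T (f i)) = finrank F (comp T' (f i))) :
    ∃ φ : V ≃ₗ[F] W, ∀ x, φ (T x) = T' (φ x) := by
  have hex : ∀ i, ∃ φ : comp T (f i) ≃ₗ[F] comp T' (f i),
      ∀ x, φ (LinearMap.restrict T (comp_invariant T (f i)) x) =
        LinearMap.restrict T' (comp_invariant T' (f i)) (φ x) := fun i => by
    haveI := Fact.mk (hirr i)
    exact (dvd_and_exists_equiv (f i) _ _ (restrict_aeval T _) (restrict_aeval T' _)).2 (he i)
  choose φ hφ using hex
  let e := LinearEquiv.ofBijective _ (sumMap_bijective hco T hT)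
  let e' := LinearEquiv.ofBijective _ (sumMap_bijective hco T' hT')
  refine ⟨e.symm.trans ((LinearEquiv.piCongrRight φ).trans e'), fun x => ?_⟩
  obtain ⟨y, rfl⟩ := e.surjective x
  have hTe : T (e y) = e fun i => LinearMap.restrict T (comp_invariant T (f i)) (y i) := by
    show T (sumMap T f y) = sumMap T f _
    rw [sumMap_apply, sumMap_apply, map_sum]
    rfl
  rw [hTe]
  simp only [LinearEquiv.trans_apply, LinearEquiv.symm_apply_apply]
  show sumMap T' f _ = T' (sumMap T' f _)
  rw [sumMap_apply, sumMap_apply, map_sum]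
  exact Finset.sum_congr rfl fun i _ => congrArg Subtype.val (hφ i (y i))

end Many

section Model

variable {ι : Type*} [Fintype ι] (f : ι → F[X]) (a : ι → ℕ)

/-- The model space with given multiplicities. -/
abbrev Space : Type _ := ∀ i, Fin (a i) → AdjoinRoot (f i)

/-- The element acting on the model space. -/
noncomputable def gen : Space f a := fun i _ => AdjoinRoot.root (f i)

theorem aeval_gen (g : F[X]) (i : ι) (j : Fin (a i)) : aeval (gen f a) g i j = AdjoinRoot.mk (f i) g := by
  rw [show aeval (gen f a) g i j =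
    ((Pi.evalAlgHom F (fun _ : Fin (a i) => AdjoinRoot (f i)) j).comp
      (Pi.evalAlgHom F (fun i => Fin (a i) → AdjoinRoot (f i)) i)) (aeval (gen f a) g) from rfl,
    ← aeval_algHom_apply, ← AdjoinRoot.aeval_eq]
  rfl

theorem aeval_lmul (g : F[X]) (x : Space f a) :
    aeval (Algebra.lmul F (Space f a) (gen f a)) g x = aeval (gen f a) g * x := by
  rw [aeval_algHom_apply]
  rfl

theorem finrank_comp_model (hirr : ∀ i, Irreducible (f i)) (hco : Pairwise fun i j => IsCoprime (f i) (f j))
    (i : ι) : finrank F (comp (Algebra.lmul F (Space f a) (gen f a)) (f i)) = a i * (f i).natDegree := by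
  classical
  haveI : ∀ i, Fact (Irreducible (f i)) := fun i => Fact.mk (hirr i)
  have h : comp (Algebra.lmul F (Space f a) (gen f a)) (f i) =
      LinearMap.range (LinearMap.single F (fun i => Fin (a i) → AdjoinRoot (f i)) i) := by
    ext x
    rw [comp, LinearMap.mem_ker, aeval_lmul, LinearMap.mem_range]
    constructor
    · intro hx
      refine ⟨x i, funext fun k => ?_⟩
      rcases eq_or_ne k i with rfl | hk
      · rw [LinearMap.coe_single, Pi.single_eq_same]
      rw [LinearMap.coe_single, Pi.single_eq_of_ne hk]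
      funext j
      have e := congrFun (congrFun hx k) j
      rw [Pi.mul_apply, Pi.mul_apply, aeval_gen] at e
      rcases mul_eq_zero.1 e with h0 | h0
      · obtain ⟨u, v, huv⟩ := hco hk
        have := congrArg (AdjoinRoot.mk (f k)) huv
        rw [map_add, map_mul, map_mul, AdjoinRoot.mk_self, h0, mul_zero, mul_zero, add_zero, map_one] at this
        exact absurd this zero_ne_one
      · exact h0.symm
    · rintro ⟨y, rfl⟩
      funext k j
      rw [Pi.mul_apply, Pi.mul_apply, aeval_gen]
      rcases eq_or_ne k i with rfl | hk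
      · rw [AdjoinRoot.mk_self, zero_mul]; rfl
      · rw [LinearMap.coe_single, Pi.single_eq_of_ne hk, Pi.zero_apply, mul_zero]; rfl
  haveI : FiniteDimensional F (AdjoinRoot (f i)) := (AdjoinRoot.powerBasis (hirr i).ne_zero).finite
  rw [h, LinearMap.finrank_range_of_inj (by rw [LinearMap.coe_single]; exact Pi.single_injective i), Module.finrank_pi_fintype]
  simp [(AdjoinRoot.powerBasis (hirr i).ne_zero).finrank]

theorem finrank_space (hirr : ∀ i, Irreducible (f i)) : finrank F (Space f a) = ∑ i, a i * (f i).natDegree := by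
  haveI : ∀ i, FiniteDimensional F (AdjoinRoot (f i)) := fun i => (AdjoinRoot.powerBasis (hirr i).ne_zero).finite
  rw [Module.finrank_pi_fintype]
  refine Finset.sum_congr rfl fun i _ => ?_
  rw [Module.finrank_pi_fintype]
  simp [(AdjoinRoot.powerBasis (hirr i).ne_zero).finrank]

theorem aeval_prod_model : aeval (Algebra.lmul F (Space f a) (gen f a)) (∏ i, f i) = 0 := by
  refine LinearMap.ext fun x => ?_
  rw [aeval_lmul]
  funext i j
  rw [Pi.mul_apply, Pi.mul_apply, aeval_gen, map_prod, Finset.prod_eq_zero (Finset.mem_univ i) AdjoinRoot.mk_self,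
    zero_mul]
  rfl

end Model

section Mat

open Matrix

variable {ι : Type*} [Fintype ι] {f : ι → F[X]} {n : ℕ}

/-- The multiplicity of a factor in an invertible matrix. -/
noncomputable def mult (f : ι → F[X]) (g : GL (Fin n) F) (i : ι) : ℕ :=
  finrank F (comp (Matrix.toLin' g.val) (f i)) / (f i).natDegree

theorem toLin_aeval (M : Matrix (Fin n) (Fin n) F) (p : F[X]) :
    aeval (Matrix.toLin' M) p = Matrix.toLin' (aeval M p) := by
  have h := aeval_algHom_apply (Matrix.toLinAlgEquiv' (R := F) (n := Fin n)).toAlgHom M p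
  exact h

theorem aeval_toLin_eq_zero {g : GL (Fin n) F} (hg : aeval g.val (∏ i, f i) = 0) :
    aeval (Matrix.toLin' g.val) (∏ i, f i) = 0 := by
  rw [toLin_aeval, hg, map_zero]

theorem mult_mul (hirr : ∀ i, Irreducible (f i)) (g : GL (Fin n) F) (i : ι) :
    mult f g i * (f i).natDegree = finrank F (comp (Matrix.toLin' g.val) (f i)) :=
  Nat.div_mul_cancel (natDegree_dvd _ _ (hirr i))

theorem sum_mult (hirr : ∀ i, Irreducible (f i)) (hco : Pairwise fun i j => IsCoprime (f i) (f j))
    {g : GL (Fin n) F} (hg : aeval g.val (∏ i, f i) = 0) : ∑ i, mult f g i * (f i).natDegree = n := by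
  simp only [mult_mul hirr]
  rw [sum_finrank hco _ (aeval_toLin_eq_zero hg), Module.finrank_fin_fun]

theorem isConj_of_mult_eq (hirr : ∀ i, Irreducible (f i)) (hco : Pairwise fun i j => IsCoprime (f i) (f j))
    {g h : GL (Fin n) F} (hg : aeval g.val (∏ i, f i) = 0) (hh : aeval h.val (∏ i, f i) = 0)
    (he : ∀ i, mult f g i = mult f h i) : IsConj g h := by
  obtain ⟨φ, hφ⟩ := exists_equiv hirr hco _ _ (aeval_toLin_eq_zero hg) (aeval_toLin_eq_zero hh)
    (fun i => by rw [← mult_mul hirr, ← mult_mul hirr, he])
  let c : GL (Fin n) F :=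
    { val := LinearMap.toMatrix' φ.toLinearMap
      inv := LinearMap.toMatrix' φ.symm.toLinearMap
      val_inv := by rw [← LinearMap.toMatrix'_comp]; simp
      inv_val := by rw [← LinearMap.toMatrix'_comp]; simp }
  refine isConj_iff.2 ⟨c, ?_⟩
  rw [mul_inv_eq_iff_eq_mul]
  refine Units.ext (Matrix.toLin'.injective (LinearMap.ext fun x => ?_))
  simp only [Units.val_mul, Matrix.toLin'_mul, LinearMap.comp_apply, c, Matrix.toLin'_toMatrix', LinearEquiv.coe_coe]
  exact hφ x

theorem finrank_comp_conj {g h : GL (Fin n) F} (hc : IsConj g h) (p : F[X]) :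
    finrank F (comp (Matrix.toLin' h.val) p) = finrank F (comp (Matrix.toLin' g.val) p) := by
  obtain ⟨c, rfl⟩ := isConj_iff.1 hc
  have e : aeval (c * g * c⁻¹).val p = c.val * aeval g.val p * (c⁻¹).val := by
    induction p using Polynomial.induction_on' with
    | add a b ha hb => simp only [map_add, ha, hb, Matrix.mul_add, Matrix.add_mul]
    | monomial k r =>
      rw [aeval_monomial, aeval_monomial, ← Units.val_pow_eq_pow_val, conj_pow, Units.val_mul, Units.val_mul,
        Units.val_pow_eq_pow_val]
      simp only [← Algebra.smul_def, Matrix.mul_smul, Matrix.smul_mul]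
  have hrk : (aeval (c * g * c⁻¹).val p).rank = (aeval g.val p).rank := by
    rw [e, Matrix.rank_mul_eq_left_of_isUnit_det _ _ (Matrix.isUnits_det_units _),
      Matrix.rank_mul_eq_right_of_isUnit_det _ _ (Matrix.isUnits_det_units _)]
  have h1 := LinearMap.finrank_range_add_finrank_ker (Matrix.toLin' (aeval (c * g * c⁻¹).val p))
  have h2 := LinearMap.finrank_range_add_finrank_ker (Matrix.toLin' (aeval g.val p))
  rw [comp, comp, toLin_aeval, toLin_aeval]
  change Matrix.rank _ + _ = _ at h1 h2
  omega

theorem exists_of_mult (hirr : ∀ i, Irreducible (f i)) (hco : Pairwise fun i j => IsCoprime (f i) (f j))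
    (h0 : ∀ i, ¬ X ∣ f i) (a : ι → ℕ) (ha : ∑ i, a i * (f i).natDegree = n) :
    ∃ g : GL (Fin n) F, aeval g.val (∏ i, f i) = 0 ∧ ∀ i, mult f g i = a i := by
  classical
  haveI : ∀ i, Fact (Irreducible (f i)) := fun i => Fact.mk (hirr i)
  haveI : ∀ i, FiniteDimensional F (AdjoinRoot (f i)) := fun i => (AdjoinRoot.powerBasis (hirr i).ne_zero).finite
  let e : Space f a ≃ₗ[F] (Fin n → F) := LinearEquiv.ofFinrankEq _ _
    (by rw [finrank_space f a hirr, ha, Module.finrank_fin_fun])
  set L := Algebra.lmul F (Space f a) (gen f a)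
  let L' : Module.End F (Fin n → F) := e.conjAlgEquiv F L
  have hL' : ∀ p, aeval L' p = e.conjAlgEquiv F (aeval L p) := fun p =>
    aeval_algHom_apply (e.conjAlgEquiv F).toAlgHom L p
  let M := LinearMap.toMatrix' L'
  have hM : Matrix.toLin' M = L' := Matrix.toLin'_toMatrix' _
  have hu : IsUnit L' := by
    refine (IsUnit.map (Algebra.lmul F (Space f a)) ?_).map (e.conjAlgEquiv F)
    refine Pi.isUnit_iff.2 fun i => Pi.isUnit_iff.2 fun j => isUnit_iff_ne_zero.2 ?_
    show AdjoinRoot.root (f i) ≠ 0
    intro h
    rw [← AdjoinRoot.mk_X] at h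
    exact h0 i ((hirr i).dvd_symm Polynomial.irreducible_X (AdjoinRoot.mk_eq_zero.1 h))
  have huM : IsUnit M := hu.map (LinearMap.toMatrixAlgEquiv' (R := F) (n := Fin n))
  refine ⟨huM.unit, ?_, fun i => ?_⟩
  · refine Matrix.toLin'.injective ?_
    rw [← toLin_aeval, map_zero, show huM.unit.val = M from rfl, hM, hL', aeval_prod_model, map_zero]
  · rw [mult, show huM.unit.val = M from rfl, hM]
    have : finrank F (comp L' (f i)) = finrank F (comp L (f i)) := by
      refine (LinearEquiv.finrank_eq (e.submoduleMap (comp L (f i)) |>.trans (LinearEquiv.ofEq _ _ ?_))).symm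
      ext x
      rw [Submodule.mem_map_equiv, comp, comp, LinearMap.mem_ker, LinearMap.mem_ker, hL']
      show _ ↔ e (aeval L (f i) (e.symm x)) = 0
      rw [LinearEquiv.map_eq_zero_iff]
    rw [this, finrank_comp_model f a hirr hco, Nat.mul_div_cancel _ (hirr i).natDegree_pos]

/-- Classes of matrices killed by a product of distinct irreducibles, with a property of the multiplicities. -/
theorem card_classes (hirr : ∀ i, Irreducible (f i)) (hco : Pairwise fun i j => IsCoprime (f i) (f j))
    (h0 : ∀ i, ¬ X ∣ f i) (P : GL (Fin n) F → Prop) (Q : (ι → ℕ) → Prop)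
    (hP : ∀ g, P g → aeval g.val (∏ i, f i) = 0)
    (hPQ : ∀ g : GL (Fin n) F, aeval g.val (∏ i, f i) = 0 → (P g ↔ Q (mult f g))) :
    Nat.card {C : ConjClasses (GL (Fin n) F) // ∃ g, ConjClasses.mk g = C ∧ P g} =
      Nat.card {a : ι → ℕ // ∑ i, a i * (f i).natDegree = n ∧ Q a} := by
  classical
  have hs : ∀ a : {a : ι → ℕ // ∑ i, a i * (f i).natDegree = n ∧ Q a}, ∃ g : GL (Fin n) F,
      aeval g.val (∏ i, f i) = 0 ∧ ∀ i, mult f g i = a.1 i := fun a => exists_of_mult hirr hco h0 a.1 a.2.1
  choose g hg hga using hs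
  symm
  refine Nat.card_eq_of_bijective (fun a => ⟨ConjClasses.mk (g a), g a, rfl, (hPQ _ (hg a)).2 (by
    rw [show mult f (g a) = a.1 from funext (hga a)]; exact a.2.2)⟩) ⟨?_, ?_⟩
  · intro a b hab
    have h := ConjClasses.mk_eq_mk_iff_isConj.1 (congrArg Subtype.val hab)
    refine Subtype.ext (funext fun i => ?_)
    rw [← hga a, ← hga b, mult, mult, finrank_comp_conj h]
  · rintro ⟨C, h, rfl, hh⟩
    refine ⟨⟨mult f h, sum_mult hirr hco (hP h hh), (hPQ h (hP h hh)).1 hh⟩, Subtype.ext ?_⟩
    exact ConjClasses.mk_eq_mk_iff_isConj.2 (isConj_of_mult_eq hirr hco (hg _) (hP h hh) (hga _))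

end Mat

section Cyclo

variable [Fintype F]

/-- Counting tuples of bounded sum. -/
theorem card_sum_le (α : Type*) [Fintype α] (N : ℕ) :
    Nat.card {b : α → ℕ // ∑ x, b x ≤ N} = (N + Fintype.card α).choose (Fintype.card α) := by
  classical
  let e : {b : α → ℕ // ∑ x, b x ≤ N} ≃ {c : Option α → ℕ // ∑ x, c x = N} :=
    { toFun := fun b => ⟨fun x => x.elim (N - ∑ y, b.1 y) b.1, by
        rw [Fintype.sum_option]
        show (N - ∑ y, b.1 y) + ∑ y, b.1 y = N
        have := b.2; omega⟩
      invFun := fun c => ⟨fun x => c.1 (some x), by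
        have := c.2
        rw [Fintype.sum_option] at this
        show ∑ x, c.1 (some x) ≤ N
        omega⟩
      left_inv := fun b => rfl
      right_inv := fun c => Subtype.ext (funext fun x => by
        have := c.2
        rw [Fintype.sum_option] at this
        cases x with
        | none => show N - ∑ y, c.1 (some y) = c.1 none; omega
        | some y => rfl) }
  rw [Nat.card_congr (e.trans (Sym.equivNatSumOfFintype (Option α) N).symm), Nat.card_eq_fintype_card,
    Sym.card_sym_eq_choose, Fintype.card_option, show Fintype.card α + 1 + N - 1 = N + Fintype.card α by omega,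
    Nat.choose_symm_add]

end Cyclo

end CfsgLib.KnownC.SemisimpleClasses
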