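import Mathlib

set_option autoImplicit false

namespace CfsgLib.KnownC.Shintani

variable {X : Type*} [Group X]

theorem mem_eqLocus_iff (σ : MulAut X) (x : X) :
    x ∈ (MulEquiv.toMonoidHom σ).eqLocus (MonoidHom.id X) ↔ σ x = x := by
  rfl

theorem pow_apply_fixed (σ : MulAut X) {x : X} (hx : σ x = x) (n : ℕ) : (σ ^ n) x = x := by
  induction n with
  | zero => simp
  | succ n ih => rw [pow_succ, MulAut.mul_apply, hx, ih]

theorem pow_apply_comm (σ : MulAut X) (n : ℕ) (x : X) : (σ ^ n) (σ x) = σ ((σ ^ n) x) := by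
  rw [← MulAut.mul_apply, ← MulAut.mul_apply, ← pow_succ, ← pow_succ']

theorem prod_telescope (σ : MulAut X) (a g : X) (ha : g = a * (σ a)⁻¹) (n : ℕ) :
    ((List.range n).map (fun i => (σ ^ i) g)).prod = a * ((σ ^ n) a)⁻¹ := by
  induction n with
  | zero => simp
  | succ n ih =>
    rw [List.range_succ, List.map_append, List.prod_append, ih, List.map_singleton,
      List.prod_singleton, ha, map_mul, map_inv, pow_succ, MulAut.mul_apply]
    group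

theorem descent_fixed (σ : MulAut X) (e : ℕ) (g a : X) (hg : (σ ^ e) g = g)
    (ha : g = a * (σ a)⁻¹) : σ (((σ ^ e) a)⁻¹ * a) = ((σ ^ e) a)⁻¹ * a := by
  rw [ha, map_mul, map_inv, pow_apply_comm] at hg
  rw [map_mul, map_inv]
  have h2 : (σ ((σ ^ e) a))⁻¹ = ((σ ^ e) a)⁻¹ * (a * (σ a)⁻¹) := by
    rw [← hg]; group
  rw [h2]; group

theorem conj_iff (σ : MulAut X) (e : ℕ) (g g' a b : X) (ha : g = a * (σ a)⁻¹)
    (hb : g' = b * (σ b)⁻¹) (k : X) :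
    ((σ ^ e) k = k ∧ g' = k * g * (σ k)⁻¹) ↔
      (σ (b⁻¹ * k * a) = b⁻¹ * k * a ∧
        ((σ ^ e) b)⁻¹ * b = (b⁻¹ * k * a) * (((σ ^ e) a)⁻¹ * a) * (b⁻¹ * k * a)⁻¹) := by
  set h := b⁻¹ * k * a with hh
  have hk : k = b * h * a⁻¹ := by rw [hh]; group
  constructor
  · rintro ⟨hk1, hk2⟩
    have hfix : σ h = h := by
      rw [hh, map_mul, map_mul, map_inv]
      rw [hb, ha] at hk2
      have h2 : (σ b)⁻¹ = b⁻¹ * (k * (a * (σ a)⁻¹) * (σ k)⁻¹) := by rw [← hk2]; group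
      rw [h2]; group
    refine ⟨hfix, ?_⟩
    have hτ := pow_apply_fixed σ hfix e
    rw [hk, map_mul, map_mul, map_inv, hτ] at hk1
    have h2 : ((σ ^ e) a)⁻¹ = h⁻¹ * ((σ ^ e) b)⁻¹ * (b * h * a⁻¹) := by
      conv_rhs => rw [← hk1]
      group
    rw [h2]; group
  · rintro ⟨hfix, hx⟩
    have hτ := pow_apply_fixed σ hfix e
    constructor
    · rw [hk, map_mul, map_mul, map_inv, hτ]
      have h2 : b * h * a⁻¹ = (σ ^ e) b * (((σ ^ e) b)⁻¹ * b) * h * a⁻¹ := by group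
      rw [h2, hx]; group
    · rw [hk, map_mul, map_mul, map_inv, hfix, ha, hb]; group

theorem descent_surj (σ : MulAut X) (e : ℕ) (hLe : ∀ g : X, ∃ a : X, g = a * ((σ ^ e) a)⁻¹)
    (x : X) (hx : σ x = x) :
    ∃ a : X, (σ ^ e) (a * (σ a)⁻¹) = a * (σ a)⁻¹ ∧ ((σ ^ e) a)⁻¹ * a = x := by
  obtain ⟨c, hc⟩ := hLe x⁻¹
  have hxa : ((σ ^ e) c⁻¹)⁻¹ * c⁻¹ = x := by
    rw [map_inv, inv_inv, ← inv_inv x, hc]; group
  have hτ : (σ ^ e) c⁻¹ = c⁻¹ * x⁻¹ := by rw [← hxa]; group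
  refine ⟨c⁻¹, ?_, hxa⟩
  rw [map_mul, map_inv (σ ^ e) (σ c⁻¹), pow_apply_comm, hτ, map_mul, map_inv σ x, hx]
  group

theorem pow_pow_descent (σ : MulAut X) (e d : ℕ) (g a : X) (hg : (σ ^ e) g = g)
    (ha : g = a * (σ a)⁻¹) :
    (((σ ^ d) ^ e) a)⁻¹ * a = (((σ ^ e) a)⁻¹ * a) ^ d := by
  have hx := descent_fixed σ e g a hg ha
  set x := ((σ ^ e) a)⁻¹ * a with hx'
  have hτ : (σ ^ e) a = a * x⁻¹ := by rw [hx']; group
  have key : ∀ n : ℕ, ((σ ^ e) ^ n) a = a * (x ^ n)⁻¹ := by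
    intro n
    induction n with
    | zero => simp
    | succ n ih =>
      rw [pow_succ', MulAut.mul_apply, ih, map_mul, map_inv, map_pow,
        pow_apply_fixed σ hx e, hτ, mul_assoc, ← mul_inv_rev, ← pow_succ]
  rw [← pow_mul, mul_comm, pow_mul, key]
  group

theorem mem_pow_pow (σ : MulAut X) (e d : ℕ) {x : X} (hx : (σ ^ e) x = x) :
    ((σ ^ d) ^ e) x = x := by
  rw [← pow_mul, mul_comm, pow_mul]
  exact pow_apply_fixed _ hx d

theorem pow_mem_of_stable (σ : MulAut X) (Y : Subgroup X) (hY : ∀ y : X, y ∈ Y ↔ σ y ∈ Y) (n : ℕ)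
    {y : X} (hy : y ∈ Y) : (σ ^ n) y ∈ Y := by
  induction n with
  | zero => simpa
  | succ n ih => rw [pow_succ', MulAut.mul_apply]; exact (hY _).1 ih

end CfsgLib.KnownC.Shintani
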