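import Cfsg.Agent.Lib.KnownB.SuzukiStructure
import Cfsg.Agent.Lib.KnownB.SuzukiAut
import Cfsg.Agent.Lib.Derangements.SuzukiFixed
import Cfsg.Agent.Lib.Derangements.PrimeGraph
import Cfsg.Agent.Lib.KnownC.PSpSixGraph

/-!
`Sz(8):3` acting on a module of dimension sixteen over eight elements, the natural one tensor its Frobenius
twist: the extensions by copies of this module have the prime graph of `PSp(6, 3)`.
-/

set_option autoImplicit false
set_option linter.unusedSectionVars false
set_option linter.style.haveILetI false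

namespace CfsgLib.KnownC.SuzukiEightExt

open Matrix Polynomial Cfsg.Lie CfsgLib.KnownB.Suzuki CfsgLib.KnownB.SzElem CfsgLib.KnownC.PSpSixGraph

noncomputable section

variable {F : Type} [Field F] [Fintype F] (hF : Fintype.card F = 8)

theorem tw (hF : Fintype.card F = 8) : Twist F 4 := by
  simpa using twist_of_card (F := F) (m := 1) (by rw [hF]; norm_num)

theorem par (hF : Fintype.card F = 8) : Params F 4 := by
  simpa using params_of_card (F := F) (m := 1) le_rfl (by rw [hF]; norm_num)

theorem charTwo (hF : Fintype.card F = 8) : CharP F 2 :=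
  CharTwo.of_one_ne_zero_of_two_eq_zero one_ne_zero (tw hF).two

/-- The squaring map. -/
def sqHom (hF : Fintype.card F = 8) : F →+* F where
  toFun x := x ^ 2
  map_one' := one_pow 2
  map_mul' x y := mul_pow x y 2
  map_zero' := zero_pow two_ne_zero
  map_add' x y := by linear_combination (x * y) * (tw hF).two

/-- The Frobenius automorphism. -/
noncomputable def frob (hF : Fintype.card F = 8) : F ≃+* F :=
  RingEquiv.ofBijective (sqHom hF) (Finite.injective_iff_bijective.1 (sqHom hF).injective)

theorem frob_apply (x : F) : frob hF x = x ^ 2 := rfl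

theorem frob_cube : frob hF ^ 3 = 1 := by
  refine RingEquiv.ext fun x => ?_
  show frob hF (frob hF (frob hF x)) = x
  simp only [frob_apply, ← pow_mul]
  have := FiniteField.pow_card x
  rwa [hF] at this

theorem frob_ne_one : frob hF ≠ 1 := fun h => by
  classical
  have hall : ∀ x : F, x = 0 ∨ x = 1 := fun x => by
    have h1 : x ^ 2 = x := RingEquiv.congr_fun h x
    rcases mul_eq_zero.1 (show x * (x - 1) = 0 by linear_combination h1) with h2 | h2
    exacts [Or.inl h2, Or.inr (sub_eq_zero.1 h2)]
  have hle : Fintype.card F ≤ ({0, 1} : Finset F).card := Finset.card_le_card fun x _ => by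
    rcases hall x with rfl | rfl <;> simp
  rw [hF] at hle
  exact absurd (hle.trans Finset.card_le_two) (by norm_num)

theorem orderOf_frob : orderOf (frob hF) = 3 := by
  haveI : Fact (Nat.Prime 3) := ⟨Nat.prime_three⟩
  exact orderOf_eq_prime (frob_cube hF) (frob_ne_one hF)

/-- The group of field automorphisms. -/
abbrev C : Subgroup (F ≃+* F) := Subgroup.zpowers (frob hF)

/-- Its action on the Suzuki group. -/
def θ : C hF →* MulAut (Sz F 4) := (fieldHom (tw hF)).comp (C hF).subtype

/-- `Sz(8):3`. -/
abbrev G1 : Type := Sz F 4 ⋊[θ hF] C hF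

theorem mat_θ (τ : C hF) (x : Sz F 4) : mat (θ hF τ x) = (mat x).map (τ : F ≃+* F) :=
  mat_fieldHom (tw hF) _ x

theorem comm_frob (τ : C hF) (x : F) : (τ : F ≃+* F) (frob hF x) = frob hF ((τ : F ≃+* F) x) := by
  simp only [frob_apply, map_pow]

/-- The matrices of the module. -/
abbrev M (F : Type) : Type := Matrix (Fin 4) (Fin 4) F

/-- The action on the module. -/
def f (g : G1 hF) (X : M F) : M F :=
  mat g.left * X.map (g.right : F ≃+* F) * ((mat g.left).map (frob hF))ᵀ

theorem f_add (g : G1 hF) (X Y : M F) : f hF g (X + Y) = f hF g X + f hF g Y := by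
  simp only [f, Matrix.map_add _ (fun a b => map_add _ a b), Matrix.mul_add, Matrix.add_mul]

theorem f_one (X : M F) : f hF 1 X = X := by
  have h1 : mat (1 : Sz F 4) = 1 := rfl
  simp only [f, SemidirectProduct.one_left, SemidirectProduct.one_right, h1]
  rw [Matrix.map_one (frob hF) (map_zero _) (map_one _), Matrix.transpose_one, Matrix.one_mul, Matrix.mul_one]
  exact Matrix.ext fun i j => rfl

theorem f_mul (g h : G1 hF) (X : M F) : f hF (g * h) X = f hF g (f hF h X) := by
  simp only [f, SemidirectProduct.mul_left, SemidirectProduct.mul_right, mat_mul, mat_θ]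
  rw [Matrix.map_mul, Matrix.map_mul, Matrix.map_mul, Matrix.transpose_mul, Matrix.transpose_map]
  have h1 : ((mat h.left).map (g.right : F ≃+* F)).map (frob hF) =
      ((mat h.left).map (frob hF)).map (g.right : F ≃+* F) := by
    ext i j
    simp [comm_frob]
  have h2 : (X.map (h.right : F ≃+* F)).map (g.right : F ≃+* F) = X.map ((g.right * h.right : C hF) : F ≃+* F) :=
    Matrix.ext fun i j => rfl
  rw [h1, h2]
  simp only [Matrix.mul_assoc]

/-- Diagonal action on copies of the module. -/
def act (N : ℕ) : G1 hF →* MulAut (Multiplicative (Fin N → M F)) :=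
  MonoidHom.mk' (fun g => AddEquiv.toMultiplicative
    { toFun := fun v i => f hF g (v i)
      invFun := fun v i => f hF g⁻¹ (v i)
      left_inv := fun v => funext fun i => by
        show f hF g⁻¹ (f hF g (v i)) = v i
        rw [← f_mul, inv_mul_cancel, f_one]
      right_inv := fun v => funext fun i => by
        show f hF g (f hF g⁻¹ (v i)) = v i
        rw [← f_mul, mul_inv_cancel, f_one]
      map_add' := fun v w => funext fun i => f_add hF g _ _ })
    (fun g h => by
      refine MulEquiv.ext fun v => ?_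
      apply Multiplicative.toAdd.injective
      funext i
      exact f_mul hF g h (Multiplicative.toAdd v i))

theorem card_sz (hF : Fintype.card F = 8) : Nat.card (Sz F 4) = 29120 := by
  rw [card_Sz (tw hF), hF]; norm_num

theorem card_G1 : Nat.card (G1 hF) = 29120 * 3 := by
  rw [SemidirectProduct.card, card_sz hF, Nat.card_zpowers, orderOf_frob]

/-! ### Eigenvalues -/

section Eig

local notation "K" => AlgebraicClosure F

variable {r : ℕ} (hr : r.Prime) (hr2 : r ≠ 2) {x : Sz F 4}

include hF

theorem eigen {α : K} (hα : aeval α (mat x).charpoly = 0) :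
    ∃ v, v ≠ 0 ∧ (mat x).map (algebraMap F K) *ᵥ v = α • v := by
  have h : ((mat x).map (algebraMap F K)).charpoly.eval α = 0 := by
    rw [Matrix.charpoly_map, Polynomial.eval_map_algebraMap]; exact hα
  rw [Matrix.eval_charpoly] at h
  obtain ⟨v, hv, hv'⟩ := Matrix.exists_mulVec_eq_zero_iff.2 h
  refine ⟨v, hv, ?_⟩
  rw [Matrix.sub_mulVec, sub_eq_zero, Matrix.scalar_apply, ← Matrix.smul_one_eq_diagonal, Matrix.smul_mulVec,
    Matrix.one_mulVec] at hv'
  exact hv'.symm

include hr hr2 in
theorem root_pow (hx : orderOf x = r) {α : K} (hα : aeval α (mat x).charpoly = 0) :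
    orderOf α = r ∧ aeval (α ^ 8) (mat x).charpoly = 0 ∧ aeval α⁻¹ (mat x).charpoly = 0 := by
  haveI := Fact.mk hr
  have he := tw hF
  obtain ⟨v, hv, hA⟩ := eigen hF hα
  set A := (mat x).map (algebraMap F K) with hAdef
  have hAr : A ^ r = 1 := by
    have h1 : mat x ^ r = 1 := by
      rw [show mat x ^ r = mat (x ^ r) from (map_pow (matHom F 4) x r).symm, ← hx, pow_orderOf_eq_one]
      rfl
    have h2 := congrArg (algebraMap F K).mapMatrix h1
    rwa [map_pow, map_one] at h2
  have hpow : ∀ n : ℕ, A ^ n *ᵥ v = α ^ n • v := by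
    intro n
    induction n with
    | zero => simp
    | succ n ih => rw [pow_succ, ← Matrix.mulVec_mulVec, hA, Matrix.mulVec_smul, ih, smul_smul, pow_succ']
  have har : α ^ r = 1 := by
    have := hpow r
    rw [hAr, Matrix.one_mulVec] at this
    have h0 : (α ^ r - 1) • v = 0 := by rw [sub_smul, one_smul, ← this, sub_self]
    exact sub_eq_zero.1 ((smul_eq_zero.1 h0).resolve_right hv)
  refine ⟨orderOf_eq_prime har fun h1 => ?_, ?_, ?_⟩
  · subst h1
    rw [← map_one (algebraMap F K), Polynomial.aeval_algebraMap_apply_eq_algebraMap_eval,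
      map_eq_zero_iff _ (algebraMap F K).injective, Matrix.eval_charpoly, map_one] at hα
    obtain ⟨w, hw, hw'⟩ := Matrix.exists_mulVec_eq_zero_iff.2 hα
    rw [Matrix.sub_mulVec, Matrix.one_mulVec, sub_eq_zero] at hw'
    have h4 := orderOf_dvd_of_pow_eq_one
      (CfsgLib.Derangements.SuzukiFixed.pow_four_of_fixed he x w hw hw'.symm)
    rw [hx] at h4
    exact hr2 ((Nat.prime_dvd_prime_iff_eq hr Nat.prime_two).1 (hr.dvd_of_dvd_pow (show r ∣ 2 ^ 2 from h4)))
  · haveI := charTwo hF
    haveI : CharP K 2 := charP_of_injective_algebraMap (algebraMap F K).injective 2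
    have h := congrArg (iterateFrobenius K 2 3) hα
    rw [map_zero, Polynomial.aeval_def, Polynomial.hom_eval₂] at h
    have hc : (iterateFrobenius K 2 3).comp (algebraMap F K) = algebraMap F K := RingHom.ext fun c => by
      rw [RingHom.comp_apply, iterateFrobenius_def, ← map_pow]
      have := FiniteField.pow_card c
      rw [hF] at this
      norm_num [this]
    rw [hc, iterateFrobenius_def] at h
    norm_num at h
    exact h
  · obtain ⟨hS, -⟩ := (mem_Sz_iff he).1 x.2
    have hJ : Aᵀ * Jmat * A = (Jmat : Matrix (Fin 4) (Fin 4) K) := by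
      have h1 : (Jmat : Matrix (Fin 4) (Fin 4) F).map (algebraMap F K) = Jmat := by
        ext i j; fin_cases i <;> fin_cases j <;> simp [Jmat]
      have h2 := congrArg (fun Y => Y.map (algebraMap F K)) (transpose_mul_J hS)
      simp only [Matrix.map_mul, h1] at h2
      rwa [Matrix.transpose_map] at h2
    have ha0 : α ≠ 0 := fun h => by
      rw [h, zero_pow hr.ne_zero] at har
      exact zero_ne_one har
    have hw : Aᵀ *ᵥ ((Jmat : Matrix (Fin 4) (Fin 4) K) *ᵥ v) = α⁻¹ • ((Jmat : Matrix (Fin 4) (Fin 4) K) *ᵥ v) := by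
      have h1 := congrArg (fun Y => Y *ᵥ v) hJ
      simp only [← Matrix.mulVec_mulVec, hA, Matrix.mulVec_smul] at h1
      conv_rhs => rw [← h1]
      rw [smul_smul, inv_mul_cancel₀ ha0, one_smul]
    have hne : (Jmat : Matrix (Fin 4) (Fin 4) K) *ᵥ v ≠ 0 := fun h => hv (by
      have := congrArg ((Jmat : Matrix (Fin 4) (Fin 4) K) *ᵥ ·) h
      simpa [Matrix.mulVec_mulVec, Jmat_sq] using this)
    have h : Aᵀ.charpoly.eval α⁻¹ = 0 := by
      rw [Matrix.eval_charpoly]
      refine Matrix.exists_mulVec_eq_zero_iff.1 ⟨_, hne, ?_⟩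
      rw [Matrix.sub_mulVec, sub_eq_zero, Matrix.scalar_apply, ← Matrix.smul_one_eq_diagonal, Matrix.smul_mulVec,
        Matrix.one_mulVec, hw]
    rw [Matrix.charpoly_transpose, hAdef, Matrix.charpoly_map, Polynomial.eval_map_algebraMap] at h
    exact h

theorem count_roots {α : K} (hα : orderOf α = r) (S : Finset ℕ) (hS : ∀ i ∈ S, i < r)
    (h : ∀ i ∈ S, aeval (α ^ i) (mat x).charpoly = 0) : S.card ≤ 4 := by
  classical
  have hinj : Set.InjOn (fun i => α ^ i) (S : Set ℕ) := fun i hi j hj hij =>
    pow_injOn_Iio_orderOf (hα.symm ▸ hS i hi) (hα.symm ▸ hS j hj) hij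
  calc S.card = (S.image fun i => α ^ i).card := (Finset.card_image_of_injOn hinj).symm
    _ ≤ ((mat x).charpoly.map (algebraMap F K)).natDegree := Polynomial.card_le_degree_of_subset_roots (by
        intro y hy
        obtain ⟨i, hi, rfl⟩ := Finset.mem_image.1 hy
        rw [Polynomial.mem_roots ((Matrix.charpoly_monic _).map _).ne_zero, Polynomial.IsRoot.def,
          Polynomial.eval_map_algebraMap]
        exact h i hi)
    _ = 4 := by rw [Polynomial.natDegree_map, Matrix.charpoly_natDegree_eq_dim, Fintype.card_fin]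

theorem exists_root (A : M F) : ∃ α : K, aeval α A.charpoly = 0 :=
  IsAlgClosed.exists_aeval_eq_zero _ _ (by
    rw [Polynomial.degree_eq_natDegree (Matrix.charpoly_monic A).ne_zero, Matrix.charpoly_natDegree_eq_dim,
      Fintype.card_fin]
    decide)

theorem frob_root {α : K} (p : F[X]) :
    aeval (α ^ 2) (p.map (frob hF : F →+* F)) = (aeval α p) ^ 2 := by
  haveI := charTwo hF
  haveI : CharP K 2 := charP_of_injective_algebraMap (algebraMap F K).injective 2
  rw [Polynomial.aeval_def, Polynomial.aeval_def, ← frobenius_def 2 α, Polynomial.eval₂_map,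
    ← frobenius_def 2 (Polynomial.eval₂ _ _ _), Polynomial.hom_eval₂]
  congr 1
  refine RingHom.ext fun c => ?_
  rw [RingHom.comp_apply, RingHom.comp_apply, frobenius_def]
  exact map_pow _ _ _

/-- Elements of order thirteen fix nothing in the module. -/
theorem fpf (hx : orderOf x = 13) (X : M F) (h : mat x * X * ((mat x).map (frob hF))ᵀ = X) : X = 0 := by
  have he := tw hF
  set A := mat x with hA
  set A' := A.map (frob hF) with hA'
  have hJA' : A'ᵀ * Jmat * A' = (Jmat : M F) := by
    obtain ⟨hS, -⟩ := (mem_Sz_iff he).1 x.2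
    have h1 : (Jmat : M F).map (frob hF) = Jmat := by
      ext i j; fin_cases i <;> fin_cases j <;> simp [Jmat]
    have h2 := congrArg (fun Y => Y.map (frob hF)) (transpose_mul_J hS)
    simp only [Matrix.map_mul, h1] at h2
    rwa [Matrix.transpose_map] at h2
  set Y := X * Jmat with hY
  have hsemi : SemiconjBy Y A' A := by
    show X * Jmat * A' = A * (X * Jmat)
    calc X * Jmat * A' = A * X * A'ᵀ * Jmat * A' := by rw [h]
      _ = A * X * (A'ᵀ * Jmat * A') := by simp only [Matrix.mul_assoc]
      _ = A * (X * Jmat) := by rw [hJA', Matrix.mul_assoc]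
  have hp : ∀ P : F[X], Y * aeval A' P = aeval A P * Y := fun P => by
    induction P using Polynomial.induction_on' with
    | add p q hp hq => rw [map_add, map_add, mul_add, add_mul, hp, hq]
    | monomial n c =>
      rw [Polynomial.aeval_monomial, Polynomial.aeval_monomial, ← Algebra.smul_def, ← Algebra.smul_def,
        mul_smul_comm, smul_mul_assoc, (hsemi.pow_right n).eq]
  have hcop : IsCoprime A.charpoly A'.charpoly := by
    rw [Polynomial.isCoprime_iff_aeval_ne_zero_of_isAlgClosed F K]
    intro α
    by_contra hcon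
    push Not at hcon
    obtain ⟨h1, h2⟩ := hcon
    rw [show A'.charpoly = A.charpoly.map (frob hF : F →+* F) from Matrix.charpoly_map A _] at h2
    obtain ⟨γ, hγ⟩ := IsAlgClosed.exists_pow_nat_eq α two_pos
    rw [← hγ, frob_root hF] at h2
    obtain ⟨ho, h8, -⟩ := root_pow hF (by norm_num) (by norm_num) hx h1
    have hgo := (root_pow hF (by norm_num) (by norm_num) hx (pow_eq_zero_iff two_ne_zero |>.1 h2)).1
    have h13 : α ^ 13 = 1 := ho ▸ pow_orderOf_eq_one α
    have hg13 : γ ^ 13 = 1 := hgo ▸ pow_orderOf_eq_one γ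
    have hγα : γ = α ^ 7 := by
      rw [← hγ, ← pow_mul, show 2 * 7 = 13 + 1 by norm_num, pow_succ, hg13, one_mul]
    obtain ⟨-, h64, -⟩ := root_pow hF (by norm_num) (by norm_num) hx h8
    obtain ⟨-, h512, -⟩ := root_pow hF (by norm_num) (by norm_num) hx h64
    have red : ∀ n, α ^ n = α ^ (n % 13) := fun n => by rw [← ho]; exact (pow_mod_orderOf α n).symm
    rw [← pow_mul, red] at h64
    rw [← pow_mul, ← pow_mul, red] at h512
    have := count_roots hF ho ({1, 8, 12, 5, 7} : Finset ℕ) (by simp) (fun i hi => by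
      simp only [Finset.mem_insert, Finset.mem_singleton] at hi
      rcases hi with rfl | rfl | rfl | rfl | rfl
      · rw [pow_one]; exact h1
      · exact h8
      · exact h64
      · exact h512
      · rw [← hγα]; exact pow_eq_zero_iff two_ne_zero |>.1 h2)
    simp at this
  obtain ⟨a, b, hab⟩ := hcop
  have hY0 : Y * aeval A' A.charpoly = 0 := by rw [hp, Matrix.aeval_self_charpoly, zero_mul]
  have := congrArg (aeval A') hab
  rw [map_add, map_mul, map_mul, map_one, Matrix.aeval_self_charpoly, mul_zero, add_zero] at this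
  have hY1 : Y = 0 := by
    calc Y = Y * (aeval A' a * aeval A' A.charpoly) := by rw [this, mul_one]
      _ = Y * aeval A' A.charpoly * aeval A' a := by
        rw [← map_mul, mul_comm, map_mul, ← Matrix.mul_assoc]
      _ = 0 := by rw [hY0, zero_mul]
  calc X = X * Jmat * Jmat := by rw [Matrix.mul_assoc, Jmat_sq, Matrix.mul_one]
    _ = 0 := by rw [← hY, hY1, Matrix.zero_mul]

end Eig

/-- Elements of order seven or thirteen commute with nothing outside the Suzuki group. -/
theorem no_commute {r : ℕ} (hr : r = 7 ∨ r = 13) {x : Sz F 4} (hx : orderOf x = r) (y : G1 hF)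
    (hy : y.right ≠ 1) (hc : Commute y (SemidirectProduct.inl x)) : False := by
  have hrp : r.Prime := by rcases hr with rfl | rfl <;> norm_num
  have hr2 : r ≠ 2 := by rcases hr with rfl | rfl <;> norm_num
  have hl : y.left * θ hF y.right x = x * y.left := by
    simpa using congrArg SemidirectProduct.left hc.eq
  have hm := congrArg mat hl
  rw [mat_mul, mat_mul, mat_θ] at hm
  have hp : (mat x).charpoly.map ((y.right : F ≃+* F) : F →+* F) = (mat x).charpoly := by
    rw [← Matrix.charpoly_map]
    have hconj : (mat x).map (y.right : F ≃+* F) = mat y.left⁻¹ * mat x * mat y.left := by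
      rw [Matrix.mul_assoc, ← hm, ← Matrix.mul_assoc, ← mat_mul, inv_mul_cancel]
      exact (Matrix.one_mul _).symm
    show ((mat x).map ⇑(y.right : F ≃+* F)).charpoly = _
    rw [hconj, Matrix.charpoly_mul_comm, ← Matrix.mul_assoc, ← mat_mul, mul_inv_cancel]
    exact congrArg Matrix.charpoly (Matrix.one_mul _)
  -- the generator fixes the characteristic polynomial
  haveI : Finite (F ≃+* F) := Finite.of_injective (fun σ x => σ x) fun σ τ h => RingEquiv.ext (congrFun h)
  obtain ⟨τ, hτ⟩ := y
  obtain ⟨τ', hτ'⟩ := hτ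
  obtain ⟨k, rfl⟩ := mem_powers_iff_mem_zpowers.2 hτ'
  have hfix : ∀ j : ℕ, (mat x).charpoly.map ((frob hF ^ (k * j) : F ≃+* F) : F →+* F) = (mat x).charpoly := by
    intro j
    induction j with
    | zero => exact Polynomial.map_id
    | succ j ih =>
      rw [Nat.mul_succ, pow_add]
      rw [show ((frob hF ^ (k * j) * frob hF ^ k : F ≃+* F) : F →+* F) =
          ((frob hF ^ (k * j) : F ≃+* F) : F →+* F).comp ((frob hF ^ k : F ≃+* F) : F →+* F) from rfl,
        ← Polynomial.map_map]
      exact (congrArg _ hp).trans ih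
  obtain ⟨j, hj⟩ : ∃ j, k * j % 3 = 1 := by
    have hk : k % 3 ≠ 0 := fun h => hy (Subtype.ext (by
      show frob hF ^ k = 1
      rw [pow_eq_pow_mod k (frob_cube hF), h, pow_zero]))
    exact ⟨k, by rw [Nat.mul_mod]; rcases (show k % 3 = 1 ∨ k % 3 = 2 by omega) with h | h <;> rw [h]⟩
  have hp1 : (mat x).charpoly.map (frob hF : F →+* F) = (mat x).charpoly := by
    have := hfix j
    rwa [pow_eq_pow_mod (k * j) (frob_cube hF), hj, pow_one] at this
  obtain ⟨α, hα⟩ := exists_root hF (mat x)
  have hsq : ∀ β : AlgebraicClosure F, aeval β (mat x).charpoly = 0 → aeval (β ^ 2) (mat x).charpoly = 0 :=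
    fun β hβ => by rw [← hp1, frob_root hF, hβ, zero_pow two_ne_zero]
  obtain ⟨ho, -, hinv⟩ := root_pow hF hrp hr2 hx hα
  have h2 := hsq α hα
  have h4 := hsq _ h2
  have red : ∀ n, α ^ n = α ^ (n % r) := fun n => by rw [← ho]; exact (pow_mod_orderOf α n).symm
  rw [← pow_mul] at h4
  rcases hr with rfl | rfl
  · have h5 := (root_pow hF hrp hr2 hx h2).2.2
    have hi : ∀ n, n ≤ 7 → (α ^ n)⁻¹ = α ^ (7 - n) := fun n hn => inv_eq_of_mul_eq_one_left (by
      rw [← pow_add, Nat.sub_add_cancel hn, ← ho, pow_orderOf_eq_one])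
    rw [hi 2 (by norm_num)] at h5
    rw [← pow_one α, hi 1 (by norm_num)] at hinv
    have := count_roots hF ho ({1, 2, 4, 5, 6} : Finset ℕ) (by simp) (fun i hi => by
      simp only [Finset.mem_insert, Finset.mem_singleton] at hi
      rcases hi with rfl | rfl | rfl | rfl | rfl
      · rwa [pow_one]
      all_goals assumption)
    simp at this
  · have h8 := hsq _ h4
    have h16 := hsq _ h8
    rw [← pow_mul] at h8
    rw [← pow_mul, ← pow_mul, red] at h16
    have := count_roots hF ho ({1, 2, 4, 8, 3} : Finset ℕ) (by simp) (fun i hi => by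
      simp only [Finset.mem_insert, Finset.mem_singleton] at hi
      rcases hi with rfl | rfl | rfl | rfl | rfl
      · rwa [pow_one]
      all_goals assumption)
    simp at this

/-- The Suzuki group has no element of order a product of two primes. -/
theorem no_two_primes (z : Sz F 4) {p q : ℕ} (hp : p.Prime) (hq : q.Prime) (hpq : p ≠ q)
    (hz : orderOf z = p * q) (hF' : Fintype.card F = 8) : False := by
  have hz1 : z ≠ 1 := fun h => by
    rw [h, orderOf_one] at hz
    exact hp.ne_one (Nat.eq_one_of_mul_eq_one_right hz.symm)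
  set Z := Subgroup.centralizer ({z} : Set (Sz F 4))
  have hzmem : z ∈ Z := Subgroup.mem_centralizer_singleton_iff.2 rfl
  rcases (szPartition (par hF')).cases z hz1 with h | ⟨-, hk, -⟩
  · obtain ⟨n, hn⟩ := h ⟨z, hzmem⟩
    have hn' : z ^ 2 ^ n = 1 := congrArg Subtype.val hn
    have hd := orderOf_dvd_of_pow_eq_one hn'
    rw [hz] at hd
    exact hpq (((Nat.prime_dvd_prime_iff_eq hp Nat.prime_two).1 (hp.dvd_of_dvd_pow ((dvd_mul_right p q).trans hd))).trans
      ((Nat.prime_dvd_prime_iff_eq hq Nat.prime_two).1 (hq.dvd_of_dvd_pow ((dvd_mul_left q p).trans hd))).symm)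
  · have hd : orderOf z ∣ Nat.card Z := by
      rw [← Subgroup.orderOf_mk z hzmem]
      exact orderOf_dvd_natCard _
    rw [hz, hF'] at *
    have : ∀ k, k.Prime → p * q ∣ k → False := fun k hk' h => by
      rcases (Nat.dvd_prime hk').1 h with h | h
      · exact hp.ne_one (Nat.eq_one_of_mul_eq_one_right h)
      · exact Nat.not_prime_mul hp.ne_one hq.ne_one (h ▸ hk')
    rcases hk with hk | hk | hk <;> rw [hk] at hd <;> exact this _ (by norm_num) hd

include hF in
theorem prime_cases {p : ℕ} (hp : p.Prime) (h : p ∣ 29120 * 3) : p ∈ [2, 3, 5, 7, 13] := by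
  rw [show 29120 * 3 = 2 ^ 6 * (5 * (7 * (13 * 3))) by norm_num] at h
  simp only [List.mem_cons, List.not_mem_nil, or_false]
  rcases hp.dvd_mul.1 h with h | h
  · exact Or.inl ((Nat.prime_dvd_prime_iff_eq hp Nat.prime_two).1 (hp.dvd_of_dvd_pow h))
  rcases hp.dvd_mul.1 h with h | h
  · exact Or.inr (Or.inr (Or.inl ((Nat.prime_dvd_prime_iff_eq hp Nat.prime_five).1 h)))
  rcases hp.dvd_mul.1 h with h | h
  · exact Or.inr (Or.inr (Or.inr (Or.inl ((Nat.prime_dvd_prime_iff_eq hp (by norm_num)).1 h))))
  rcases hp.dvd_mul.1 h with h | h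
  · exact Or.inr (Or.inr (Or.inr (Or.inr ((Nat.prime_dvd_prime_iff_eq hp (by norm_num)).1 h))))
  · exact Or.inr (Or.inl ((Nat.prime_dvd_prime_iff_eq hp Nat.prime_three).1 h))

/-- The edges of `Sz(8):3` lie among those of the target. -/
theorem edge_G1 (g : G1 hF) {p q : ℕ} (hp : p.Prime) (hq : q.Prime) (hpq : p ≠ q) (hg : orderOf g = p * q) :
    Edge p q := by
  have hd := orderOf_dvd_natCard g
  rw [hg, card_G1] at hd
  have hp' := prime_cases hF hp ((dvd_mul_right p q).trans hd)
  have hq' := prime_cases hF hq ((dvd_mul_left q p).trans hd)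
  by_cases h1 : g.right = 1
  · exfalso
    have hgl : g = SemidirectProduct.inl g.left := by ext <;> simp [h1]
    rw [hgl, orderOf_injective _ SemidirectProduct.inl_injective] at hg
    exact no_two_primes g.left hp hq hpq hg hF
  have h3 : g.right ^ 3 = 1 := Subtype.ext (by
    show (g.right : F ≃+* F) ^ 3 = 1
    obtain ⟨k, hk⟩ := g.right.2
    rw [show (g.right : F ≃+* F) = frob hF ^ k from hk.symm, ← zpow_natCast, ← _root_.zpow_mul, mul_comm,
      _root_.zpow_mul, zpow_natCast, frob_cube, _root_.one_zpow])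
  haveI : Fact (Nat.Prime 3) := ⟨Nat.prime_three⟩
  have ho : orderOf g.right = 3 := orderOf_eq_prime h3 h1
  have h3pq : 3 ∣ p * q := by
    rw [← ho, ← hg]
    exact orderOf_map_dvd (SemidirectProduct.rightHom (φ := θ hF)) g
  wlog hp3 : p = 3 generalizing p q
  · refine edge_symm (this hq hp hpq.symm (by rw [hg, mul_comm]) (by rwa [mul_comm]) hq' hp' (by rwa [mul_comm]) ?_)
    rcases Nat.prime_three.dvd_mul.1 h3pq with h | h
    · exact absurd ((Nat.prime_dvd_prime_iff_eq Nat.prime_three hp).1 h).symm hp3
    · exact ((Nat.prime_dvd_prime_iff_eq Nat.prime_three hq).1 h).symm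
  subst hp3
  simp only [List.mem_cons, List.not_mem_nil, or_false] at hq'
  have key : q = 7 ∨ q = 13 → False := fun hq7 => by
    have hxo : orderOf (g ^ 3) = q := by
      rw [orderOf_pow' g (by norm_num), hg, Nat.gcd_mul_right_left, Nat.mul_div_cancel_left _ (by norm_num)]
    have hxr : (g ^ 3).right = 1 := (map_pow SemidirectProduct.rightHom g 3).trans h3
    have hxl : g ^ 3 = SemidirectProduct.inl (g ^ 3).left := by ext <;> simp [hxr]
    refine no_commute hF hq7 (x := (g ^ 3).left) ?_ g h1 (hxl ▸ Commute.self_pow g 3)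
    rw [← orderOf_injective (SemidirectProduct.inl (φ := θ hF)) SemidirectProduct.inl_injective, ← hxl, hxo]
  rcases hq' with rfl | rfl | rfl | rfl | rfl
  · simp [Edge]
  · exact absurd rfl hpq
  · simp [Edge]
  · exact absurd (Or.inl rfl) key
  · exact absurd (Or.inr rfl) key

/-- An element of order five with entries zero and one. -/
def five : Sz F 4 := W (tw hF) * P (tw hF) 0 1

theorem five_facts : orderOf (five hF) = 5 ∧ ∀ σ : F ≃+* F, (mat (five hF)).map σ = mat (five hF) := by
  haveI := charTwo hF
  set M₂ : Matrix (Fin 4) (Fin 4) (ZMod 2) := !![0, 0, 0, 1; 0, 0, 1, 0; 0, 1, 0, 1; 1, 0, 1, 1] with hM₂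
  set φ := (ZMod.castHom (dvd_refl 2) F).mapMatrix (m := Fin 4) with hφ
  have hm : mat (five hF) = φ M₂ := by
    rw [five, mat_mul, mat_W, mat_P]
    ext i j
    fin_cases i <;> fin_cases j <;> simp [hφ, hM₂, Jmat, Pmat, nrm, Matrix.mul_apply, Fin.sum_univ_four]
  haveI : Fact (Nat.Prime 5) := ⟨Nat.prime_five⟩
  refine ⟨orderOf_eq_prime (mat_injective ?_) fun h => ?_, fun σ => ?_⟩
  · have h5 : M₂ ^ 5 = 1 := by decide +kernel
    show matHom F 4 (five hF ^ 5) = 1
    rw [map_pow]
    show mat (five hF) ^ 5 = 1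
    rw [hm, ← map_pow, h5, map_one]
  · have h00 := congrFun (congrFun (congrArg mat h) 0) 0
    rw [hm] at h00
    simp [hφ, hM₂, mat] at h00
  · rw [hm]
    refine Matrix.ext fun i j => ?_
    fin_cases i <;> fin_cases j <;> simp [hφ, hM₂]

theorem exists_five_three : ∃ g : G1 hF, orderOf g = 5 * 3 := by
  obtain ⟨h5, hfix⟩ := five_facts hF
  refine CfsgLib.Derangements.PrimeGraph.exists_orderOf_mul (a := SemidirectProduct.inl (five hF))
    (b := SemidirectProduct.inr ⟨frob hF, Subgroup.mem_zpowers _⟩) Nat.prime_five Nat.prime_three (by norm_num) ?_ ?_ ?_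
  · rw [orderOf_injective _ SemidirectProduct.inl_injective, h5]
  · rw [orderOf_injective _ SemidirectProduct.inr_injective, Subgroup.orderOf_mk, orderOf_frob]
  · refine SemidirectProduct.ext ?_ (by simp)
    simp only [SemidirectProduct.mul_left, SemidirectProduct.left_inl, SemidirectProduct.left_inr,
      SemidirectProduct.right_inl, SemidirectProduct.right_inr, map_one, mul_one, one_mul]
    exact mat_injective (by rw [mat_θ]; exact (hfix _).symm)

/-- Elements of orders 3, 5 and 7 fixing a nonzero matrix. -/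
theorem exists_fixed {q : ℕ} (hq : q = 3 ∨ q = 5 ∨ q = 7) :
    ∃ (s : G1 hF) (X : M F), orderOf s = q ∧ X ≠ 0 ∧ f hF s X = X := by
  have he := tw hF
  have hJ0 : (Jmat : M F) ≠ 0 := fun h => by simpa [Jmat] using congrFun (congrFun h 0) 3
  rcases hq with rfl | rfl | rfl
  · refine ⟨SemidirectProduct.inr ⟨frob hF, Subgroup.mem_zpowers _⟩, Jmat, ?_, hJ0, ?_⟩
    · rw [orderOf_injective _ SemidirectProduct.inr_injective, Subgroup.orderOf_mk, orderOf_frob]
    · simp only [f, SemidirectProduct.left_inr, SemidirectProduct.right_inr]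
      rw [show mat (1 : Sz F 4) = 1 from rfl, Matrix.map_one (frob hF) (map_zero _) (map_one _),
        Matrix.transpose_one, Matrix.one_mul, Matrix.mul_one]
      ext i j; fin_cases i <;> fin_cases j <;> simp [Jmat]
  · obtain ⟨h5, hfix⟩ := five_facts hF
    refine ⟨SemidirectProduct.inl (five hF), Jmat, by rw [orderOf_injective _ SemidirectProduct.inl_injective, h5],
      hJ0, ?_⟩
    simp only [f, SemidirectProduct.left_inl, SemidirectProduct.right_inl, hfix]
    exact mul_J_transpose ((mem_Sz_iff he).1 (five hF).2).1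
  · classical
    obtain ⟨t, ht⟩ := Fintype.exists_ne_of_one_lt_card (α := Fˣ) (by rw [Fintype.card_units, hF]; norm_num) 1
    have ht7 : t ^ 7 = 1 := by
      have := pow_card_eq_one (x := t)
      rwa [Fintype.card_units, hF] at this
    haveI : Fact (Nat.Prime 7) := ⟨by norm_num⟩
    refine ⟨SemidirectProduct.inl (hHom he t), Matrix.single 0 1 (1 : F), ?_, ?_, ?_⟩
    · rw [orderOf_injective _ SemidirectProduct.inl_injective, orderOf_injective (hHom he) (H_injective he),
        orderOf_eq_prime ht7 ht]
    · intro h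
      simpa using congrFun (congrFun h 0) 1
    · simp only [f, SemidirectProduct.left_inl, SemidirectProduct.right_inl]
      have hm : mat (hHom he t) = Hmat 4 (t : F) := rfl
      rw [hm, Hmat]
      have h7 : (t : F) ^ 7 = 1 := by rw [← Units.val_pow_eq_pow_val, ht7, Units.val_one]
      ext i j
      fin_cases i <;> fin_cases j <;>
        simp [Matrix.mul_apply, Fin.sum_univ_four, Matrix.single, Matrix.diagonal, frob_apply]
      linear_combination h7

include hF in
theorem sixteen_two (X : M F) : 2 • X = 0 := by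
  ext i j
  rw [Matrix.smul_apply, Matrix.zero_apply, two_nsmul, ← two_mul, (tw hF).two, zero_mul]

include hF in
/-- Groups of unbounded order with the prime graph of `PSp(6, 3)`. -/
theorem exists_graph (N : ℕ) : ∃ (H : Type) (_ : Group H) (_ : Finite H), N < Nat.card H ∧
    (∀ p : ℕ, p.Prime → (p ∣ Nat.card H ↔ p ∈ [2, 3, 5, 7, 13])) ∧
    (∀ p q : ℕ, p.Prime → q.Prime → p ≠ q → ((∃ g : H, orderOf g = p * q) ↔ Edge p q)) := by
  classical
  haveI : Fact (Nat.Prime 2) := ⟨Nat.prime_two⟩
  let Wm := Multiplicative (Fin (N + 1) → M F)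
  let H₀ := Wm ⋊[act hF (N + 1)] G1 hF
  haveI : Finite (G1 hF) := Nat.finite_of_card_ne_zero (by rw [card_G1]; norm_num)
  haveI : Finite H₀ := Finite.of_equiv _ SemidirectProduct.equivProd.symm
  obtain ⟨H, hH, hfin, ⟨e⟩⟩ := Finite.exists_type_univ_nonempty_mulEquiv.{_, 0} H₀
  have hW : ∀ w : Wm, w ^ 2 = 1 := fun w => by
    apply Multiplicative.toAdd.injective
    funext i
    exact sixteen_two hF _
  have hcard : Nat.card H₀ = Nat.card Wm * (29120 * 3) := by
    rw [SemidirectProduct.card, card_G1]
  obtain ⟨d, hd⟩ := IsPGroup.iff_card.1 (show IsPGroup 2 Wm from fun w => ⟨1, by rw [pow_one]; exact hW w⟩)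
  refine ⟨H, hH, Finite.of_equiv _ e.toEquiv, ?_, fun p hp => ?_, fun p q hp hq hpq => ?_⟩
  · rw [← Nat.card_congr e.toEquiv, hcard]
    have h1 : 2 ^ (N + 1) ≤ Nat.card Wm := by
      rw [show Nat.card Wm = Nat.card (Fin (N + 1) → M F) from rfl, Nat.card_fun]
      simp only [Nat.card_eq_fintype_card, Fintype.card_fin]
      exact Nat.pow_le_pow_left (Fintype.one_lt_card (α := M F)) _
    calc N < 2 ^ N := Nat.lt_two_pow_self
      _ ≤ 2 ^ (N + 1) := Nat.pow_le_pow_right two_pos (Nat.le_succ N)
      _ ≤ Nat.card Wm := h1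
      _ ≤ _ := Nat.le_mul_of_pos_right _ (by norm_num)
  · rw [← Nat.card_congr e.toEquiv, hcard, hd]
    constructor
    · intro h
      rcases hp.dvd_mul.1 h with h | h
      · rw [(Nat.prime_dvd_prime_iff_eq hp Nat.prime_two).1 (hp.dvd_of_dvd_pow h)]
        simp
      · exact prime_cases hF hp h
    · intro h
      refine Dvd.dvd.mul_left ?_ _
      simp only [List.mem_cons, List.not_mem_nil, or_false] at h
      rcases h with rfl | rfl | rfl | rfl | rfl <;> norm_num
  suffices hmain : (∃ g : H₀, orderOf g = p * q) ↔ Edge p q by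
    rw [← hmain]
    constructor
    · rintro ⟨g, hg⟩; exact ⟨e.symm g, by rw [e.symm.orderOf_eq, hg]⟩
    · rintro ⟨g, hg⟩; exact ⟨e g, by rw [e.orderOf_eq, hg]⟩
  constructor
  · rintro ⟨h, hh⟩
    set s := SemidirectProduct.rightHom h with hs
    set d' := orderOf s with hd'
    have hdpq : d' ∣ p * q := hh ▸ orderOf_map_dvd _ h
    obtain ⟨w, hw⟩ : ∃ w : Wm, h ^ d' = SemidirectProduct.inl w := by
      have h1 : (h ^ d').right = 1 := by
        show SemidirectProduct.rightHom (h ^ d') = 1
        rw [map_pow]; exact pow_orderOf_eq_one s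
      exact ⟨(h ^ d').left, SemidirectProduct.ext (by simp) (by simp [h1])⟩
    have hord : p * q ∣ d' * 2 := by
      rw [← hh]
      apply orderOf_dvd_of_pow_eq_one
      rw [pow_mul, hw, ← map_pow, hW, map_one]
    by_cases hall : d' = p * q
    · exact edge_G1 hF s hp hq hpq hall
    have hdd : d' = 1 ∨ d' = p ∨ d' = q ∨ d' = p * q := by
      obtain ⟨a, b, ha, hb, hab⟩ := Nat.dvd_mul.1 hdpq
      rcases (Nat.dvd_prime hp).1 ha with rfl | rfl <;> rcases (Nat.dvd_prime hq).1 hb with rfl | rfl <;>
        simp [← hab]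
    suffices main : ∀ p q : ℕ, p.Prime → q.Prime → p ≠ q → orderOf h = p * q → p * q ∣ d' * 2 → d' = q → Edge p q by
      rcases hdd with h0 | h0 | h0 | h0
      · rw [h0, one_mul] at hord
        have := Nat.le_of_dvd two_pos hord
        have := Nat.mul_le_mul hp.two_le hq.two_le
        omega
      · exact edge_symm (main q p hq hp hpq.symm (by rw [hh, mul_comm]) (by rwa [mul_comm q p]) h0)
      · exact main p q hp hq hpq hh hord h0
      · exact absurd h0 hall
    clear hall hdd hord hdpq hh hp hq hpq p q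
    intro p q hp hq hpq hh hord hlast
    rw [hlast, mul_comm q 2] at hord
    have hp2 : p = 2 := (Nat.prime_dvd_prime_iff_eq hp Nat.prime_two).1
      ((Nat.mul_dvd_mul_iff_right hq.pos).1 hord)
    have hqd : q ∣ 29120 * 3 := by
      rw [← card_G1 hF, ← hlast]
      exact orderOf_dvd_natCard s
    have hq' := prime_cases hF hq hqd
    simp only [List.mem_cons, List.not_mem_nil, or_false] at hq'
    rcases hq' with rfl | rfl | rfl | rfl | rfl
    · exact absurd hp2 hpq
    all_goals (subst hp2; try (simp [Edge]; done))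
    exfalso
    have hfix : act hF (N + 1) s w = w := by
      have hc : h * SemidirectProduct.inl w = SemidirectProduct.inl w * h := by
        rw [← hw]; exact (Commute.self_pow h d')
      have := congrArg SemidirectProduct.left hc
      change h.left * act hF (N + 1) h.right w = w * act hF (N + 1) 1 h.left at this
      rw [map_one, MulAut.one_apply, mul_comm w] at this
      exact mul_left_cancel this
    have hsr : s.right = 1 := by
      have h1 : s.right ^ 13 = 1 := by
        rw [show s.right ^ 13 = (s ^ 13).right from (map_pow SemidirectProduct.rightHom s 13).symm, ← hlast, hd',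
          pow_orderOf_eq_one]
        rfl
      have h2 := orderOf_dvd_of_pow_eq_one h1
      have h3 : orderOf s.right ∣ 3 := by
        have := orderOf_dvd_natCard s.right
        rwa [Nat.card_zpowers, orderOf_frob] at this
      exact orderOf_eq_one_iff.1 (Nat.eq_one_of_dvd_coprimes (by norm_num) h2 h3)
    have hsl : orderOf s.left = 13 := by
      rw [← orderOf_injective (SemidirectProduct.inl (φ := θ hF)) SemidirectProduct.inl_injective,
        show SemidirectProduct.inl s.left = s by ext <;> simp [hsr], ← hd', hlast]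
    have hw1 : w = 1 := by
      apply Multiplicative.toAdd.injective
      funext i
      have hi : f hF s (Multiplicative.toAdd w i) = Multiplicative.toAdd w i :=
        congrFun (congrArg Multiplicative.toAdd hfix) i
      simp only [f, hsr] at hi
      exact fpf hF hsl _ hi
    rw [hw1, map_one] at hw
    have h5 := orderOf_dvd_of_pow_eq_one hw
    rw [hh, hlast] at h5
    exact absurd (Nat.le_of_dvd (by norm_num) h5) (by norm_num)
  · intro he
    have e35 : ∃ g : H₀, orderOf g = 5 * 3 := by
      obtain ⟨g, hg⟩ := exists_five_three hF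
      exact ⟨SemidirectProduct.inr g, by rw [orderOf_injective _ SemidirectProduct.inr_injective, hg]⟩
    have e2 : ∀ r, r = 3 ∨ r = 5 ∨ r = 7 → ∃ g : H₀, orderOf g = 2 * r := fun r hr => by
      obtain ⟨s, X, hs, hX, hsX⟩ := exists_fixed hF hr
      have hr' : r.Prime := by rcases hr with rfl | rfl | rfl <;> norm_num
      refine CfsgLib.Derangements.PrimeGraph.exists_orderOf_mul
        (a := SemidirectProduct.inl (Multiplicative.ofAdd (fun _ => X) : Wm)) (b := SemidirectProduct.inr s)
        Nat.prime_two hr' (by rcases hr with rfl | rfl | rfl <;> norm_num) ?_ ?_ ?_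
      · rw [orderOf_injective _ SemidirectProduct.inl_injective]
        refine orderOf_eq_prime (hW _) fun h => hX ?_
        exact congrFun (congrArg Multiplicative.toAdd h) 0
      · rw [orderOf_injective _ SemidirectProduct.inr_injective, hs]
      · refine SemidirectProduct.ext ?_ (by simp)
        simp only [SemidirectProduct.mul_left, SemidirectProduct.left_inl, SemidirectProduct.left_inr,
          SemidirectProduct.right_inl, SemidirectProduct.right_inr, map_one, mul_one, one_mul]
        exact Multiplicative.toAdd.injective (funext fun _ => hsX.symm)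
    simp only [Edge, List.mem_cons, Prod.mk.injEq, List.not_mem_nil, or_false] at he
    rcases he with ⟨rfl, rfl⟩ | ⟨rfl, rfl⟩ | ⟨rfl, rfl⟩ | ⟨rfl, rfl⟩ | ⟨rfl, rfl⟩ | ⟨rfl, rfl⟩ | ⟨rfl, rfl⟩ | ⟨rfl, rfl⟩
    · exact e2 3 (Or.inl rfl)
    · exact e2 3 (Or.inl rfl)
    · exact e2 5 (Or.inr (Or.inl rfl))
    · exact e2 5 (Or.inr (Or.inl rfl))
    · exact e2 7 (Or.inr (Or.inr rfl))
    · exact e2 7 (Or.inr (Or.inr rfl))
    · exact e35
    · exact e35

end

end CfsgLib.KnownC.SuzukiEightExt
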