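import Cfsg.Agent.Lib.KnownC.FormConj
import Cfsg.Agent.Lib.Classical.SympMatrix
import Cfsg.Agent.Lib.Classical.SympBasic

set_option autoImplicit false
set_option linter.unusedSectionVars false

/-! Conjugacy of semisimple elements of symplectic groups. -/

namespace CfsgLib.KnownC.SympConj

open Module CfsgLib.Classical CfsgLib.KnownC.FormConj

variable {F V : Type*} [Field F] [Finite F] [AddCommGroup V] [Module F V] [FiniteDimensional F V]
  {B : V →ₗ[F] V →ₗ[F] F}

/-- The vectors negated by an endomorphism. -/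
def negPart (A : Module.End F V) : Submodule F V := LinearMap.range (A - 1) ⊓ LinearMap.ker (A ^ 2 - 1)

theorem sq_sub_one (A : Module.End F V) : A ^ 2 - 1 = (A - 1) * (A + 1) := by
  rw [sub_mul, mul_add, mul_one, one_mul, sq]; abel

theorem range_sq_le (A : Module.End F V) : LinearMap.range (A ^ 2 - 1) ≤ LinearMap.range (A - 1) := by
  rw [sq_sub_one]
  exact LinearMap.range_comp_le_range _ _

theorem negPart_apply {A : Module.End F V} {r : ℕ} (hA : A ^ r = 1) (hr : (r : F) ≠ 0) {x : V}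
    (hx : x ∈ negPart A) : A x = -x := by
  obtain ⟨⟨y, hy⟩, hx2⟩ := Submodule.mem_inf.1 hx
  have h1 : (A + 1) x ∈ LinearMap.ker (A - 1) := by
    rw [LinearMap.mem_ker, ← Module.End.mul_apply, ← sq_sub_one]; exact LinearMap.mem_ker.1 hx2
  have h2 : (A + 1) x ∈ LinearMap.range (A - 1) :=
    ⟨(A + 1) y, by rw [← hy, ← Module.End.mul_apply, ← Module.End.mul_apply,
      show (A - 1) * (A + 1) = (A + 1) * (A - 1) by simp only [sub_mul, mul_add, mul_sub, add_mul, mul_one, one_mul]; abel]⟩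
  exact eq_neg_of_add_eq_zero_left (Submodule.disjoint_def.1 (isCompl_ker_range hA hr).disjoint _ h1 h2)

/-- The three parts of a semisimple endomorphism. -/
noncomputable def parts (A : Module.End F V) :
    (LinearMap.ker (A - 1) × negPart A × LinearMap.range (A ^ 2 - 1)) →ₗ[F] V :=
  (LinearMap.ker (A - 1)).subtype.coprod ((negPart A).subtype.coprod (LinearMap.range (A ^ 2 - 1)).subtype)

theorem parts_bijective {A : Module.End F V} {r : ℕ} (hA : A ^ r = 1) (hr : (r : F) ≠ 0) :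
    Function.Bijective (parts A) := by
  have hA2 : (A ^ 2) ^ r = 1 := by rw [← pow_mul, mul_comm, pow_mul, hA, one_pow]
  have hk : ∀ x ∈ LinearMap.ker (A - 1), (A ^ 2 - 1 : Module.End F V) x = 0 := fun x hx => by
    rw [sq_sub_one, show (A - 1) * (A + 1) = (A + 1) * (A - 1) by
      simp only [sub_mul, mul_add, mul_sub, add_mul, mul_one, one_mul]; abel, Module.End.mul_apply,
      LinearMap.mem_ker.1 hx, map_zero]
  refine ⟨?_, ?_⟩
  · rw [← LinearMap.ker_eq_bot, LinearMap.ker_eq_bot']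
    rintro ⟨⟨a, ha⟩, ⟨b, hb⟩, ⟨c, hc⟩⟩ h
    simp only [parts, LinearMap.coprod_apply, Submodule.coe_subtype] at h
    have h2 := congrArg (A ^ 2 - 1 : Module.End F V) h
    rw [map_add, map_add, hk a ha, LinearMap.mem_ker.1 (Submodule.mem_inf.1 hb).2, zero_add, zero_add, map_zero] at h2
    have hc0 : c = 0 := Submodule.disjoint_def.1 (isCompl_ker_range hA2 hr).disjoint c h2 hc
    rw [hc0, add_zero] at h
    have ha0 : a = 0 := Submodule.disjoint_def.1 (isCompl_ker_range hA hr).disjoint a ha (by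
      rw [eq_neg_of_add_eq_zero_left h]; exact neg_mem (Submodule.mem_inf.1 hb).1)
    rw [ha0, zero_add] at h
    simp [ha0, h, hc0]
  · intro x
    have hx : x ∈ LinearMap.ker (A ^ 2 - 1) ⊔ LinearMap.range (A ^ 2 - 1) := by
      rw [(isCompl_ker_range hA2 hr).sup_eq_top]; trivial
    obtain ⟨k, hk', c, hc, rfl⟩ := Submodule.mem_sup.1 hx
    have hk2 : k ∈ LinearMap.ker (A - 1) ⊔ LinearMap.range (A - 1) := by
      rw [(isCompl_ker_range hA hr).sup_eq_top]; trivial
    obtain ⟨a, ha, b, hb, rfl⟩ := Submodule.mem_sup.1 hk2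
    have hb2 : b ∈ LinearMap.ker (A ^ 2 - 1) := by
      have h := LinearMap.mem_ker.1 hk'
      rwa [map_add, hk a ha, zero_add] at h
    exact ⟨⟨⟨a, ha⟩, ⟨b, hb, hb2⟩, ⟨c, hc⟩⟩, by simp [parts, add_assoc]⟩

theorem parts_orth {A : Module.End F V} {r : ℕ} (hA : A ^ r = 1) (hr : (r : F) ≠ 0)
    (hiso : ∀ x y, B (A x) (A y) = B x y) {a b c : V} (ha : a ∈ LinearMap.ker (A - 1)) (hb : b ∈ negPart A)
    (hc : c ∈ LinearMap.range (A ^ 2 - 1)) :
    B a b = 0 ∧ B b a = 0 ∧ B a c = 0 ∧ B c a = 0 ∧ B b c = 0 ∧ B c b = 0 := by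
  obtain ⟨y, rfl⟩ := (Submodule.mem_inf.1 hb).1
  obtain ⟨z, hz⟩ := range_sq_le A hc
  obtain ⟨w, rfl⟩ := hc
  have h2 : ∀ x y, B ((A ^ 2) x) ((A ^ 2) y) = B x y := fun x y => by
    simp only [sq, Module.End.mul_apply, hiso]
  refine ⟨(perp_ker_range hiso ha y).1, (perp_ker_range hiso ha y).2, ?_, ?_,
    (perp_ker_range h2 (Submodule.mem_inf.1 hb).2 w).1, (perp_ker_range h2 (Submodule.mem_inf.1 hb).2 w).2⟩
  · rw [← hz]; exact (perp_ker_range hiso ha z).1
  · rw [← hz]; exact (perp_ker_range hiso ha z).2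

theorem nondeg_fix {A : Module.End F V} {r : ℕ} (hA : A ^ r = 1) (hr : (r : F) ≠ 0) (hN : B.Nondegenerate)
    (hiso : ∀ x y, B (A x) (A y) = B x y) {W : Submodule F V}
    (hW : W = LinearMap.ker (A - 1) ∨ W = negPart A) {x : V} (hx : x ∈ W) (h : ∀ y ∈ W, B x y = 0) : x = 0 := by
  refine hN.1 x fun z => ?_
  obtain ⟨⟨⟨a, ha⟩, ⟨b, hb⟩, ⟨c, hc⟩⟩, rfl⟩ := (parts_bijective hA hr).2 z
  simp only [parts, LinearMap.coprod_apply, Submodule.coe_subtype, map_add]
  rcases hW with rfl | rfl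
  · have o := parts_orth (B := B) hA hr hiso hx hb hc
    rw [h a ha, o.1, o.2.2.1, add_zero, add_zero]
  · have o := parts_orth (B := B) hA hr hiso ha hx hc
    rw [h b hb, o.2.1, o.2.2.2.2.1, add_zero, add_zero]

/-- Two non-degenerate alternating spaces of the same dimension are isometric. -/
theorem exists_alt_iso (hB : B.IsAlt) {W W' : Submodule F V} (hd : finrank F W = finrank F W')
    (h : ∀ x ∈ W, (∀ y ∈ W, B x y = 0) → x = 0) (h' : ∀ x ∈ W', (∀ y ∈ W', B x y = 0) → x = 0) :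
    ∃ e : W ≃ₗ[F] W', ∀ x y : W, B (e x : V) (e y : V) = B (x : V) y := by
  have hN : ∀ U : Submodule F V, (∀ x ∈ U, (∀ y ∈ U, B x y = 0) → x = 0) →
      (restrictForm B U).Nondegenerate := fun U hU => by
    refine ⟨fun x hx => Subtype.ext (hU x x.2 fun y hy => hx ⟨y, hy⟩), fun x hx => Subtype.ext (hU x x.2 fun y hy => ?_)⟩
    exact hB.isRefl _ _ (hx ⟨y, hy⟩)
  obtain ⟨m, b, hb⟩ := exists_sympBasis (restrictForm_isAlt hB W) (hN W h)
  obtain ⟨m', b', hb'⟩ := exists_sympBasis (restrictForm_isAlt hB W') (hN W' h')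
  have hm : m = m' := by
    have h1 := Module.finrank_eq_card_basis b
    have h2 := Module.finrank_eq_card_basis b'
    simp at h1 h2
    omega
  subst hm
  exact ⟨b.equiv b' (Equiv.refl _), fun x y =>
    IsSympFamily.basisEquiv_mem (restrictForm_isAlt hB W) (restrictForm_isAlt hB W') b b' hb hb' x y⟩

theorem map_piece (g : V ≃ₗ[F] V) {A C : Module.End F V} (hg : ∀ x, g (A x) = C (g x)) :
    Submodule.map g.toLinearMap (LinearMap.ker (A - 1)) = LinearMap.ker (C - 1) ∧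
      Submodule.map g.toLinearMap (negPart A) = negPart C ∧
      Submodule.map g.toLinearMap (LinearMap.range (A ^ 2 - 1)) = LinearMap.range (C ^ 2 - 1) := by
  have h1 : ∀ x, (C - 1) (g x) = g ((A - 1) x) := fun x => by simp [map_sub, hg]
  have h2 : ∀ x, (C ^ 2 - 1 : Module.End F V) (g x) = g ((A ^ 2 - 1 : Module.End F V) x) := fun x => by simp [map_sub, sq, hg]
  have hker : ∀ (T U : Module.End F V), (∀ x, U (g x) = g (T x)) →
      Submodule.map g.toLinearMap (LinearMap.ker T) = LinearMap.ker U := fun T U h => by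
    ext y
    obtain ⟨x, rfl⟩ := g.surjective y
    rw [Submodule.mem_map_equiv, LinearEquiv.symm_apply_apply, LinearMap.mem_ker, LinearMap.mem_ker, h,
      LinearEquiv.map_eq_zero_iff]
  have hrange : ∀ (T U : Module.End F V), (∀ x, U (g x) = g (T x)) →
      Submodule.map g.toLinearMap (LinearMap.range T) = LinearMap.range U := fun T U h => by
    ext y
    constructor
    · rintro ⟨_, ⟨x, rfl⟩, rfl⟩; exact ⟨g x, h x⟩
    · rintro ⟨z, rfl⟩
      obtain ⟨x, rfl⟩ := g.surjective z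
      exact ⟨T x, ⟨x, rfl⟩, (h x).symm⟩
  exact ⟨hker _ _ h1, by rw [negPart, negPart, Submodule.map_inf _ g.injective, hker _ _ h2, hrange _ _ h1],
    hrange _ _ h2⟩

theorem exists_conj (hB : B.IsAlt) (hN : B.Nondegenerate) (α γ : isomGroup B) (g : V ≃ₗ[F] V)
    (hg : ∀ x, g (α.1 x) = γ.1 (g x)) {r : ℕ} (hr : (r : F) ≠ 0) (hα : α ^ r = 1) :
    ∃ h : isomGroup B, ∀ x, h.1 (α.1 x) = γ.1 (h.1 x) := by
  classical
  set A : Module.End F V := α.1.toLinearMap with hAdef
  set C : Module.End F V := γ.1.toLinearMap with hCdef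
  have hgA : ∀ x, g (A x) = C (g x) := hg
  have hgpow : ∀ k : ℕ, ∀ x, g ((A ^ k) x) = (C ^ k) (g x) := fun k => by
    induction k with
    | zero => intro x; rfl
    | succ k ih =>
      intro x
      rw [pow_succ, Module.End.mul_apply, ih, pow_succ, Module.End.mul_apply, hgA]
  have hApow : ∀ k : ℕ, ∀ x, (A ^ k) x = (α ^ k).1 x := fun k => by
    induction k with
    | zero => intro x; rfl
    | succ k ih =>
      intro x
      rw [pow_succ, Module.End.mul_apply, ih, pow_succ, Subgroup.coe_mul, LinearEquiv.mul_apply]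
      rfl
  have hA : A ^ r = 1 := LinearMap.ext fun x => by rw [hApow, hα]; rfl
  have hC : C ^ r = 1 := LinearMap.ext fun x => by
    obtain ⟨y, rfl⟩ := g.surjective x
    rw [← hgpow, hA]; rfl
  have hAi : ∀ x y, B (A x) (A y) = B x y := α.2
  have hCi : ∀ x y, B (C x) (C y) = B x y := γ.2
  have hA2 : (A ^ 2) ^ r = 1 := by rw [← pow_mul, mul_comm, pow_mul, hA, one_pow]
  have hC2 : (C ^ 2) ^ r = 1 := by rw [← pow_mul, mul_comm, pow_mul, hC, one_pow]
  have hA2i : ∀ x y, B ((A ^ 2) x) ((A ^ 2) y) = B x y := fun x y => by simp only [sq, Module.End.mul_apply, hAi]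
  have hC2i : ∀ x y, B ((C ^ 2) x) ((C ^ 2) y) = B x y := fun x y => by simp only [sq, Module.End.mul_apply, hCi]
  obtain ⟨hm1, hm2, hm3⟩ := map_piece g hgA
  obtain ⟨e₁, he₁⟩ := exists_alt_iso hB (W := LinearMap.ker (A - 1)) (W' := LinearMap.ker (C - 1))
    (by rw [← hm1, LinearEquiv.finrank_map_eq]) (fun x hx h => nondeg_fix hA hr hN hAi (Or.inl rfl) hx h)
    (fun x hx h => nondeg_fix hC hr hN hCi (Or.inl rfl) hx h)
  obtain ⟨e₂, he₂⟩ := exists_alt_iso hB (W := negPart A) (W' := negPart C)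
    (by rw [← hm2, LinearEquiv.finrank_map_eq]) (fun x hx h => nondeg_fix hA hr hN hAi (Or.inr rfl) hx h)
    (fun x hx h => nondeg_fix hC hr hN hCi (Or.inr rfl) hx h)
  set W := LinearMap.range (A ^ 2 - 1) with hW
  have hinv : ∀ x ∈ W, A x ∈ W := by
    rintro _ ⟨y, rfl⟩
    exact ⟨A y, by simp [sq, map_sub]⟩
  have hAinj : Function.Injective A := α.1.injective
  let a : W ≃ₗ[F] W := LinearEquiv.ofBijective (A.restrict hinv) (by
    have hi : Function.Injective (A.restrict hinv) := fun x y h => Subtype.ext (hAinj (congrArg Subtype.val h))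
    exact ⟨hi, LinearMap.injective_iff_surjective.1 hi⟩)
  have hB₁ : (restrictForm B W).Nondegenerate :=
    ⟨fun x hx => Subtype.ext (nondeg_range hN hA2i hA2 hr x.2 fun z hz => hx ⟨z, hz⟩),
      fun x hx => Subtype.ext (nondeg_range hN hA2i hA2 hr x.2 fun z hz => hB.isRefl _ _ (hx ⟨z, hz⟩))⟩
  have hmem : ∀ x : W, g x ∈ LinearMap.range (C ^ 2 - 1) := fun x => by
    rw [← hm3]; exact Submodule.mem_map_of_mem x.2
  obtain ⟨u, hu, hua, hur⟩ := exists_isom hB₁ (ε := -1) (fun x y => by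
      rw [neg_one_mul]; exact alt_swap hB (x : V) (y : V))
    (C := C) (B' := B) (fun x y => by rw [neg_one_mul]; exact alt_swap hB x y) hCi a
    (fun x y => hAi x y) (fun x hx => Subtype.ext
      (Submodule.disjoint_def.1 (isCompl_ker_range hA2 hr).disjoint (x : V) (by
        rw [LinearMap.mem_ker, LinearMap.sub_apply, sub_eq_zero, sq, Module.End.mul_apply]
        exact congrArg Subtype.val hx) x.2))
    (g.toLinearMap.comp W.subtype) (fun x => hgA x) (fun x hx => by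
      refine Subtype.ext (g.injective ?_)
      rw [ZeroMemClass.coe_zero, map_zero]
      refine nondeg_range hN hC2i hC2 hr (hmem x) fun z hz => ?_
      rw [← hm3] at hz
      obtain ⟨y, hy, rfl⟩ := hz
      exact hx ⟨y, hy⟩)
  have huR : ∀ x : W, u x ∈ LinearMap.range (C ^ 2 - 1) := fun x => by
    have h : u x ∈ LinearMap.range u := LinearMap.mem_range_self _ x
    rw [hur] at h
    obtain ⟨y, hy⟩ := h
    rw [← hy]
    exact hmem y
  let Φ := LinearEquiv.ofBijective (parts A) (parts_bijective hA hr)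
  let Ψ : V →ₗ[F] V := (((LinearMap.ker (C - 1)).subtype.comp e₁.toLinearMap).coprod
    (((negPart C).subtype.comp e₂.toLinearMap).coprod u)).comp Φ.symm.toLinearMap
  have hΨ : ∀ x y, B (Ψ x) (Ψ y) = B x y := by
    intro x y
    obtain ⟨⟨a₁, b₁, c₁⟩, rfl⟩ := Φ.surjective x
    obtain ⟨⟨a₂, b₂, c₂⟩, rfl⟩ := Φ.surjective y
    simp only [Ψ, LinearMap.comp_apply, LinearEquiv.coe_coe, LinearEquiv.symm_apply_apply]
    simp only [LinearMap.coprod_apply, LinearMap.comp_apply, LinearEquiv.coe_coe,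
      Submodule.coe_subtype, Φ, LinearEquiv.ofBijective_apply, parts, map_add, LinearMap.add_apply]
    have o1 := parts_orth (B := B) hC hr hCi (e₁ a₁).2 (e₂ b₂).2 (huR c₂)
    have o2 := parts_orth (B := B) hC hr hCi (e₁ a₂).2 (e₂ b₁).2 (huR c₁)
    have o3 := parts_orth (B := B) hC hr hCi (e₁ a₁).2 (e₂ b₁).2 (huR c₂)
    have o4 := parts_orth (B := B) hC hr hCi (e₁ a₁).2 (e₂ b₂).2 (huR c₁)
    have p1 := parts_orth (B := B) hA hr hAi a₁.2 b₂.2 c₂.2
    have p2 := parts_orth (B := B) hA hr hAi a₂.2 b₁.2 c₁.2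
    have p3 := parts_orth (B := B) hA hr hAi a₁.2 b₁.2 c₂.2
    have p4 := parts_orth (B := B) hA hr hAi a₁.2 b₂.2 c₁.2
    rw [he₁, he₂, hu, o1.1, o1.2.2.1, o2.2.1, o2.2.2.2.1, o3.2.2.2.2.1, o4.2.2.2.2.2,
      p1.1, p1.2.2.1, p2.2.1, p2.2.2.2.1, p3.2.2.2.2.1, p4.2.2.2.2.2]
    rfl
  have hinj : Function.Injective Ψ := by
    rw [← LinearMap.ker_eq_bot, LinearMap.ker_eq_bot']
    exact fun x hx => hN.1 x fun y => by rw [← hΨ, hx, map_zero, LinearMap.zero_apply]
  refine ⟨⟨LinearEquiv.ofBijective Ψ ⟨hinj, LinearMap.injective_iff_surjective.1 hinj⟩, hΨ⟩, fun x => ?_⟩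
  obtain ⟨⟨a₁, b₁, c₁⟩, rfl⟩ := Φ.surjective x
  have hfix : ∀ w : LinearMap.ker (A - 1), A w = w := fun w => sub_eq_zero.1 (LinearMap.mem_ker.1 w.2)
  have e : α.1 (Φ (a₁, b₁, c₁)) = Φ (a₁, -b₁, a c₁) := by
    show A (parts A (a₁, b₁, c₁)) = parts A (a₁, -b₁, a c₁)
    simp only [parts, LinearMap.coprod_apply, Submodule.coe_subtype, map_add, hfix a₁, negPart_apply hA hr b₁.2,
      Submodule.coe_neg]
    rfl
  show Ψ (α.1 (Φ (a₁, b₁, c₁))) = C (Ψ (Φ (a₁, b₁, c₁)))
  rw [e]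
  simp only [Ψ, LinearMap.comp_apply, LinearEquiv.coe_coe, LinearEquiv.symm_apply_apply, LinearMap.coprod_apply,
    Submodule.coe_subtype, map_add, map_neg, Submodule.coe_neg, hua,
    negPart_apply hC hr (e₂ b₁).2, show C (e₁ a₁ : V) = e₁ a₁ from sub_eq_zero.1 (LinearMap.mem_ker.1 (e₁ a₁).2)]

end CfsgLib.KnownC.SympConj
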