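import Cfsg.Agent.Lib.KnownC.InvariantForms
import Cfsg.Agent.Lib.Classical.SympMatrix
import Cfsg.Agent.Lib.Classical.SympBasic

set_option autoImplicit false
set_option linter.unusedSectionVars false

/-! Semisimple matrices similar to symplectic ones. -/

namespace CfsgLib.KnownC.SympExist

open Module Matrix CfsgLib.Classical CfsgLib.KnownC.InvariantForms CfsgLib.KnownC.FormConj

variable {F : Type*} [Field F] [Finite F]

/-- An automorphism of odd order with an invariant form and fixed space of even dimension preserves a symplectic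
form. -/
theorem exists_symp {V : Type*} [AddCommGroup V] [Module F V] [FiniteDimensional F V] {m : ℕ}
    (hV : finrank F V = m + m) {B : V →ₗ[F] V →ₗ[F] F} (hN : B.Nondegenerate) (α : V ≃ₗ[F] V)
    (hiso : ∀ x y, B (α x) (α y) = B x y) {r : ℕ} (hodd : Odd r) (hr : (r : F) ≠ 0)
    (hα : (α.toLinearMap : Module.End F V) ^ r = 1)
    (heven : Even (finrank F (LinearMap.ker ((α.toLinearMap : Module.End F V) - 1)))) :
    ∃ (h : isomGroup (sympBil F m)) (φ : V ≃ₗ[F] (Fin m ⊕ Fin m → F)), ∀ x, φ (α x) = h.1 (φ x) := by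
  classical
  set A : Module.End F V := α.toLinearMap with hAdef
  obtain ⟨a, S, T, ha, -, -, -, hTN, hTA, hTi⟩ := exists_on_range hN A hiso hodd hα hr
  set K := LinearMap.ker (A - 1) with hK
  obtain ⟨k, hk⟩ := heven
  let ψ : K ≃ₗ[F] (Fin k ⊕ Fin k → F) := LinearEquiv.ofFinrankEq _ _ (by simp [hk])
  let B₁ : K →ₗ[F] K →ₗ[F] F := (sympBil F k).compl₁₂ ψ.toLinearMap ψ.toLinearMap
  have hB₁ : B₁.Nondegenerate := by
    refine ⟨fun x hx => ψ.map_eq_zero_iff.1 ((sympBil_nondegenerate k).1 _ fun y => ?_),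
      fun x hx => ψ.map_eq_zero_iff.1 ((sympBil_nondegenerate k).2 _ fun y => ?_)⟩ <;>
    · obtain ⟨y', rfl⟩ := ψ.surjective y
      exact hx y'
  have hc := isCompl_ker_range hα hr
  let G := glue hc B₁ T
  have hGN : G.Nondegenerate := glue_nondeg hc hB₁ hTN
  have hGA : G.IsAlt := fun x => by
    have hz : x ∈ K ⊔ LinearMap.range (A - 1) := by rw [hc.sup_eq_top]; trivial
    obtain ⟨u, hu, w, hw, rfl⟩ := Submodule.mem_sup.1 hz
    show glue hc B₁ T (((⟨u, hu⟩ : K) : V) + ((⟨w, hw⟩ : LinearMap.range (A - 1)) : V))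
      (((⟨u, hu⟩ : K) : V) + ((⟨w, hw⟩ : LinearMap.range (A - 1)) : V)) = 0
    rw [glue_apply, hTA, add_zero]
    exact sympBil_isAlt k _
  obtain ⟨m₁, b, hb⟩ := exists_sympBasis hGA hGN
  obtain ⟨m₂, b', hb'⟩ := exists_sympBasis (sympBil_isAlt (F := F) m) (sympBil_nondegenerate m)
  have h1 := Module.finrank_eq_card_basis b
  have h2 := Module.finrank_eq_card_basis b'
  simp [hV] at h1 h2
  obtain rfl : m₁ = m := by omega
  obtain rfl : m₂ = m₁ := by omega
  let φ := b.equiv b' (Equiv.refl _)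
  refine ⟨⟨φ.symm.trans (α.trans φ), fun x y => ?_⟩, φ, fun x => by simp⟩
  obtain ⟨x', rfl⟩ := φ.surjective x
  obtain ⟨y', rfl⟩ := φ.surjective y
  simp only [LinearEquiv.trans_apply, LinearEquiv.symm_apply_apply]
  rw [IsSympFamily.basisEquiv_mem hGA (sympBil_isAlt _) b b' hb hb',
    IsSympFamily.basisEquiv_mem hGA (sympBil_isAlt _) b b' hb hb']
  exact glue_invariant hα hr a ha B₁ T hTi x' y'

end CfsgLib.KnownC.SympExist
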